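import Groth.Agent.FFLib.Riemann

/-!
# Weil differentials and the Riemann-Roch theorem
-/

open WithZero Module

namespace Groth.Agent.FFLib

open FunFld

variable {k K : Type*} [Field k] [Field K] [Algebra k K]

lemma mem_ADK {D : Divisor k K} {a : adele k K} :
    a ∈ ADK D ↔ (a : Place k K → K) ∈ AD D ⊔ LinearMap.range (diag k K) := Iff.rfl

lemma mem_WD {D : Divisor k K} {ω : Module.Dual k (adele k K)} :
    ω ∈ WD D ↔ ∀ a : adele k K, (a : Place k K → K) ∈ AD D ⊔ LinearMap.range (diag k K) → ω a = 0 :=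
  Submodule.mem_dualAnnihilator ω

lemma ADK_mono {D E : Divisor k K} (h : D ≤ E) : ADK D ≤ ADK E :=
  fun _ ha => sup_le_sup_right (AD_mono h) _ ha

lemma WD_anti {D E : Divisor k K} (h : D ≤ E) : WD E ≤ WD D :=
  Submodule.dualAnnihilator_anti (ADK_mono h)

lemma mulW_apply (x : K) (hx : ∀ a ∈ adele k K, x • a ∈ adele k K)
    (ω : Module.Dual k (adele k K)) (a : adele k K) :
    mulW x hx ω a = ω ⟨x • (a : Place k K → K), hx _ a.2⟩ := rfl

/-- `x ω ∈ WD (C - D)` for `x ∈ L(D)` and `ω ∈ WD C`. -/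
lemma mulW_mem_WD {C D : Divisor k K} {x : K} (hxD : x ∈ L D)
    (hx : ∀ a ∈ adele k K, x • a ∈ adele k K) {ω : Module.Dual k (adele k K)} (hω : ω ∈ WD C) :
    mulW x hx ω ∈ WD (C - D) := by
  rw [mem_WD] at hω ⊢
  intro a ha
  rw [mulW_apply]
  apply hω
  obtain ⟨b, hb, _, ⟨y, rfl⟩, e⟩ := Submodule.mem_sup.1 ha
  show x • (a : Place k K → K) ∈ _
  rw [← e, smul_add]
  refine Submodule.add_mem_sup (fun P => ?_) ⟨x * y, rfl⟩
  rw [Pi.smul_apply, smul_eq_mul, map_mul]
  calc P.1 x * P.1 (b P) ≤ exp (D P) * exp ((C - D) P) := mul_le_mul' (hxD P) (hb P)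
    _ = exp (C P) := by rw [← exp_add, Finsupp.sub_apply]; congr 1; ring

variable (hK : IsFunctionField k K)
include hK

lemma smul_mem_adele (x : K) : ∀ a ∈ adele k K, x • a ∈ adele k K := by
  intro a ha
  rw [mem_adele] at ha ⊢
  have h1 : ∀ᶠ P : Place k K in Filter.cofinite, P.1 x ≤ 1 := range_diag_le_adele hK ⟨x, rfl⟩
  exact (ha.and h1).mono fun P h => by
    rw [Pi.smul_apply, smul_eq_mul, map_mul]; exact mul_le_one' h.2 h.1

/-- Multiplication of forms by functions, as a linear map in the function. -/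
noncomputable def mulWL (ω : Module.Dual k (adele k K)) : K →ₗ[k] Module.Dual k (adele k K) where
  toFun x := mulW x (smul_mem_adele hK x) ω
  map_add' x y := by
    refine LinearMap.ext fun a => ?_
    rw [LinearMap.add_apply, mulW_apply, mulW_apply, mulW_apply, ← map_add]
    exact congrArg ω (Subtype.ext (add_smul x y _))
  map_smul' c x := by
    refine LinearMap.ext fun a => ?_
    rw [RingHom.id_apply, LinearMap.smul_apply, mulW_apply, mulW_apply, ← map_smul]
    exact congrArg ω (Subtype.ext (smul_assoc c x _))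

lemma mulWL_apply (ω : Module.Dual k (adele k K)) (x : K) :
    mulWL hK ω x = mulW x (smul_mem_adele hK x) ω := rfl

lemma mulWL_mulWL (ω : Module.Dual k (adele k K)) (x y : K) :
    mulWL hK (mulWL hK ω x) y = mulWL hK ω (x * y) := by
  refine LinearMap.ext fun a => ?_
  simp only [mulWL_apply, mulW_apply]
  exact congrArg ω (Subtype.ext (mul_smul x y _).symm)

lemma mulWL_one (ω : Module.Dual k (adele k K)) : mulWL hK ω 1 = ω := by
  refine LinearMap.ext fun a => ?_
  rw [mulWL_apply, mulW_apply]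
  exact congrArg ω (Subtype.ext (one_smul K _))

lemma mulWL_injective {ω : Module.Dual k (adele k K)} (h : ω ≠ 0) :
    Function.Injective (mulWL hK ω) := by
  rw [injective_iff_map_eq_zero]
  intro x hx
  by_contra hx0
  apply h
  rw [← mulWL_one hK ω, ← mul_inv_cancel₀ hx0, ← mulWL_mulWL hK, hx]
  simp [mulWL, mulW]

lemma finrank_WD (D : Divisor k K) :
    FiniteDimensional k (WD D) ∧ (finrank k (WD D) : ℤ) = genus k K - delta D := by
  obtain ⟨h1, h2⟩ := finite_adele_quotient hK D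
  let e : Module.Dual k (↥(adele k K) ⧸ ADK D) ≃ₗ[k] WD D := (ADK D).dualQuotEquivDualAnnihilator
  refine ⟨e.finiteDimensional, ?_⟩
  rw [← e.finrank_eq, Subspace.dual_finrank_eq, h2]

lemma exists_isDivOf {ω : Module.Dual k (adele k K)} (hω : IsWeil ω) (h0 : ω ≠ 0) :
    ∃ C, IsDivOf ω C := by
  classical
  obtain ⟨N, hN⟩ := exists_delta_eq_genus hK
  have hbd : ∀ E, ω ∈ WD E → E.deg < N := by
    intro E hE
    by_contra hlt
    rw [not_lt] at hlt
    obtain ⟨h1, h2⟩ := finrank_WD hK E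
    rw [hN E hlt, sub_self] at h2
    have : WD E = ⊥ := Submodule.finrank_eq_zero.1 (by exact_mod_cast h2)
    rw [this, Submodule.mem_bot] at hE
    exact h0 hE
  obtain ⟨D₀, hD₀⟩ := hω
  obtain ⟨d, ⟨C, hC, rfl⟩, hmax⟩ := Int.exists_greatest_of_bdd
    (P := fun z => ∃ E, ω ∈ WD E ∧ E.deg = z) ⟨N, by rintro z ⟨E, hE, rfl⟩; exact (hbd E hE).le⟩
    ⟨_, D₀, hD₀, rfl⟩
  refine ⟨C, fun E => ⟨fun hE => ?_, fun h => WD_anti h hC⟩⟩
  have hsup : ω ∈ WD (C ⊔ E) := by
    rw [mem_WD] at hC hE ⊢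
    intro a ha
    rw [AD_sup, sup_assoc] at ha
    obtain ⟨b, hb, c, hc, e⟩ := Submodule.mem_sup.1 ha
    have hca := sup_le_adele hK E hc
    have hba : b ∈ adele k K := AD_le_adele C hb
    have : a = ⟨b, hba⟩ + ⟨c, hca⟩ := Subtype.ext e.symm
    rw [this, map_add, hC _ (Submodule.mem_sup_left hb), hE _ hc, add_zero]
  by_contra hle
  have hlt : C < C ⊔ E := lt_of_le_of_ne le_sup_left fun e => hle (sup_eq_left.1 e.symm)
  have h1 : 0 < (C ⊔ E - C).deg := by
    obtain ⟨P, hP⟩ : ∃ P, C P < (C ⊔ E) P := by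
      by_contra hh
      push Not at hh
      exact hlt.not_ge fun P => hh P
    have h2 : Finsupp.single P 1 ≤ C ⊔ E - C := fun Q => by
      rcases eq_or_ne Q P with rfl | hQ
      · rw [Finsupp.single_eq_same, Finsupp.sub_apply]; omega
      · rw [Finsupp.single_eq_of_ne hQ, Finsupp.sub_apply]
        have := hlt.le Q
        omega
    have h3 := deg_mono h2
    rw [deg_single, one_mul] at h3
    have := deg_pos hK P
    omega
  have := hmax _ ⟨C ⊔ E, hsup, rfl⟩
  rw [deg_sub] at h1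
  omega

lemma mulWL_mem_WD {ω : Module.Dual k (adele k K)} {C : Divisor k K} (hω : ω ∈ WD C) (x : K) :
    mulWL hK ω x ∈ WD (C + FunFld.div k x) := by
  have h : x ∈ L (-FunFld.div k x) := by
    rcases eq_or_ne x 0 with rfl | hx0
    · exact zero_mem _
    · rw [mem_L_iff hx0]
      intro P
      rw [Finsupp.neg_apply, div_apply hK]
      omega
  have := mulW_mem_WD h (smul_mem_adele hK x) hω
  rwa [sub_neg_eq_add] at this

lemma isDivOf_mulWL {ω : Module.Dual k (adele k K)} {C : Divisor k K} (hω : IsDivOf ω C)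
    {x : K} (hx : x ≠ 0) : IsDivOf (mulWL hK ω x) (C + FunFld.div k x) := by
  intro E
  constructor
  · intro h
    have h2 := mulWL_mem_WD hK h x⁻¹
    rw [mulWL_mulWL, mul_inv_cancel₀ hx, mulWL_one, hω] at h2
    rw [div_inv hK] at h2
    rwa [← sub_eq_add_neg, sub_le_iff_le_add] at h2
  · exact fun h => WD_anti h (mulWL_mem_WD hK ((hω C).2 le_rfl) x)

lemma exists_weil_ne_zero : ∃ ω : Module.Dual k (adele k K), IsWeil ω ∧ ω ≠ 0 := by
  obtain ⟨P⟩ := exists_place hK
  have hd := deg_pos hK P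
  obtain ⟨h1, h2⟩ := finrank_WD hK (-Finsupp.single P 2)
  have hl : ell (-Finsupp.single P 2 : Divisor k K) = 0 :=
    ell_eq_zero_of_deg_neg hK (by rw [deg_neg, deg_single]; omega)
  rw [delta, deg_neg, deg_single, hl] at h2
  obtain ⟨⟨ω, hω⟩, hne⟩ := (Module.finrank_pos_iff_exists_ne_zero (R := k)
    (M := WD (-Finsupp.single P 2 : Divisor k K))).1 (by omega)
  exact ⟨ω, ⟨_, hω⟩, fun e => hne (Subtype.ext e)⟩

/-- Weil differentials form a line over `K`. -/
lemma exists_mulWL_eq {ω₁ ω₂ : Module.Dual k (adele k K)} (h₁ : IsWeil ω₁) (h0 : ω₁ ≠ 0)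
    (h₂ : IsWeil ω₂) : ∃ x : K, mulWL hK ω₁ x = ω₂ := by
  by_cases h02 : ω₂ = 0
  · exact ⟨0, by rw [map_zero, h02]⟩
  obtain ⟨C₁, hC₁⟩ := exists_isDivOf hK h₁ h0
  obtain ⟨C₂, hC₂⟩ := exists_isDivOf hK h₂ h02
  obtain ⟨P⟩ := exists_place hK
  have hd := deg_pos hK P
  obtain ⟨m, hm⟩ : ∃ m : ℕ, 3 * (genus k K : ℤ) - C₁.deg - C₂.deg < m ∧ 0 < m :=
    ⟨(3 * (genus k K : ℤ) - C₁.deg - C₂.deg).toNat + 1, by omega⟩
  set B : Divisor k K := Finsupp.single P (m : ℤ) with hB
  have hBdeg : (m : ℤ) ≤ B.deg := by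
    rw [hB, deg_single]; exact le_mul_of_one_le_right (Int.natCast_nonneg _) (by omega)
  obtain ⟨hfin, hW⟩ := finrank_WD hK (-B)
  rw [delta, deg_neg, ell_eq_zero_of_deg_neg hK (by rw [deg_neg]; omega)] at hW
  have himg : ∀ {ω : Module.Dual k (adele k K)} {C : Divisor k K}, IsDivOf ω C → ω ≠ 0 →
      ((L (C + B)).map (mulWL hK ω) ≤ WD (-B)) ∧
        C.deg + B.deg + 1 - (genus k K : ℤ) ≤ finrank k ((L (C + B)).map (mulWL hK ω)) := by
    intro ω C hC hne
    refine ⟨?_, ?_⟩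
    · rintro _ ⟨x, hx, rfl⟩
      have := mulW_mem_WD hx (smul_mem_adele hK x) ((hC C).2 le_rfl)
      rwa [show C - (C + B) = -B by abel] at this
    · rw [← (Submodule.equivMapOfInjective _ (mulWL_injective hK hne) (L (C + B))).finrank_eq]
      have := riemann_ge hK (C + B)
      rw [deg_add] at this
      exact this
  obtain ⟨hle₁, hd₁⟩ := himg hC₁ h0
  obtain ⟨hle₂, hd₂⟩ := himg hC₂ h02
  have hne : (L (C₁ + B)).map (mulWL hK ω₁) ⊓ (L (C₂ + B)).map (mulWL hK ω₂) ≠ ⊥ := by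
    intro hbot
    have : FiniteDimensional k ((L (C₁ + B)).map (mulWL hK ω₁)) :=
      Submodule.finiteDimensional_of_le hle₁
    have : FiniteDimensional k ((L (C₂ + B)).map (mulWL hK ω₂)) :=
      Submodule.finiteDimensional_of_le hle₂
    have h1 := Submodule.finrank_sup_add_finrank_inf_eq
      ((L (C₁ + B)).map (mulWL hK ω₁)) ((L (C₂ + B)).map (mulWL hK ω₂))
    have h2 := Submodule.finrank_mono (sup_le hle₁ hle₂)
    rw [hbot, finrank_bot, add_zero] at h1
    omega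
  obtain ⟨η, ⟨⟨x, hx, hxη⟩, ⟨y, hy, hyη⟩⟩, hη⟩ := Submodule.exists_mem_ne_zero_of_ne_bot hne
  have hy0 : y ≠ 0 := by rintro rfl; rw [map_zero] at hyη; exact hη hyη.symm
  refine ⟨x * y⁻¹, ?_⟩
  rw [← mulWL_mulWL, hxη, ← hyη, mulWL_mulWL, mul_inv_cancel₀ hy0, mulWL_one]

omit hK in
lemma isDivOf_unique {ω : Module.Dual k (adele k K)} {C C' : Divisor k K} (h : IsDivOf ω C)
    (h' : IsDivOf ω C') : C = C' := by
  exact le_antisymm ((h' C).1 ((h C).2 le_rfl)) ((h C').1 ((h' C').2 le_rfl))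

lemma exists_canonical : ∃ C : Divisor k K, IsCanonical k K C := by
  obtain ⟨ω, hω, h0⟩ := exists_weil_ne_zero hK
  obtain ⟨C, hC⟩ := exists_isDivOf hK hω h0
  exact ⟨C, ω, h0, hC⟩

lemma isCanonical_add_div {C : Divisor k K} (h : IsCanonical k K C) {x : K} (hx : x ≠ 0) :
    IsCanonical k K (C + FunFld.div k x) := by
  obtain ⟨ω, h0, hC⟩ := h
  exact ⟨mulWL hK ω x, fun e => hx (mulWL_injective hK h0 (by rw [e, map_zero])),
    isDivOf_mulWL hK hC hx⟩

lemma exists_unique_mulWL {ω : Module.Dual k (adele k K)} {C : Divisor k K} (hC : IsDivOf ω C)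
    (h0 : ω ≠ 0) {D : Divisor k K} {ω' : Module.Dual k (adele k K)} (hω' : ω' ∈ WD D) :
    ∃! x : K, x ∈ L (C - D) ∧ mulWL hK ω x = ω' := by
  obtain ⟨x, hx⟩ := exists_mulWL_eq hK ⟨C, (hC C).2 le_rfl⟩ h0 ⟨D, hω'⟩
  refine ⟨x, ⟨?_, hx⟩, fun y hy => mulWL_injective hK h0 (hy.2.trans hx.symm)⟩
  rcases eq_or_ne x 0 with rfl | hx0
  · exact zero_mem _
  rw [← hx] at hω'
  have hle := (isDivOf_mulWL hK hC hx0 D).1 hω'
  rw [mem_L_iff hx0]
  intro P
  have := hle P
  rw [Finsupp.add_apply, div_apply hK] at this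
  rw [Finsupp.sub_apply]
  omega

theorem riemann_roch {C : Divisor k K} (hC : IsCanonical k K C) (D : Divisor k K) :
    (ell D : ℤ) = D.deg + 1 - genus k K + ell (C - D) := by
  obtain ⟨ω, h0, hC⟩ := hC
  have hmap : (L (C - D)).map (mulWL hK ω) = WD D := by
    refine le_antisymm ?_ fun ω' hω' => ?_
    · rintro _ ⟨x, hx, rfl⟩
      have := mulW_mem_WD hx (smul_mem_adele hK x) ((hC C).2 le_rfl)
      rwa [sub_sub_cancel] at this
    · obtain ⟨x, ⟨hx, hxe⟩, -⟩ := exists_unique_mulWL hK hC h0 hω'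
      exact ⟨x, hx, hxe⟩
  have h1 := (finrank_WD hK D).2
  rw [← hmap, ← (Submodule.equivMapOfInjective _ (mulWL_injective hK h0) (L (C - D))).finrank_eq]
    at h1
  rw [delta] at h1
  show _ = D.deg + 1 - (genus k K : ℤ) + (finrank k (L (C - D)) : ℤ)
  omega

lemma canonical_ell_deg {C : Divisor k K} (hC : IsCanonical k K C) :
    ell C = genus k K ∧ C.deg = 2 * genus k K - 2 := by
  have h1 := riemann_roch hK hC 0
  have h2 := riemann_roch hK hC C
  rw [sub_zero, ell_zero hK, deg_zero] at h1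
  rw [sub_self, ell_zero hK] at h2
  constructor <;> omega

lemma ell_eq_of_deg_ge {D : Divisor k K} (h : 2 * (genus k K : ℤ) - 1 ≤ D.deg) :
    (ell D : ℤ) = D.deg + 1 - genus k K := by
  obtain ⟨C, hC⟩ := exists_canonical hK
  have := riemann_roch hK hC D
  rw [ell_eq_zero_of_deg_neg hK (D := C - D)
    (by rw [deg_sub, (canonical_ell_deg hK hC).2]; omega)] at this
  push_cast at this
  omega

/-- An effective divisor of degree `0` is zero. -/
lemma eq_zero_of_deg_eq_zero {D : Divisor k K} (h : 0 ≤ D) (hd : D.deg = 0) : D = 0 := by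
  classical
  ext P
  by_contra hP
  have h0 := h P
  simp only [Finsupp.zero_apply] at h0 hP
  have h2 : Finsupp.single P 1 ≤ D := fun Q => by
    rcases eq_or_ne Q P with rfl | hQ
    · rw [Finsupp.single_eq_same]; omega
    · rw [Finsupp.single_eq_of_ne hQ]; exact h Q
  have h3 := deg_mono h2
  rw [deg_single, one_mul, hd] at h3
  have := deg_pos hK P
  omega

lemma exists_eq_div_of_ell_pos {D : Divisor k K} (h : 0 < ell D) (hd : D.deg = 0) :
    ∃ x : K, x ≠ 0 ∧ D = FunFld.div k x := by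
  obtain ⟨z, hz, hzD⟩ := exists_effective_of_ell_pos hK h
  have := eq_zero_of_deg_eq_zero hK hzD (by rw [deg_add, deg_div hK, hd, add_zero])
  exact ⟨z⁻¹, inv_ne_zero hz, by rw [div_inv hK]; exact eq_neg_of_add_eq_zero_left this⟩

lemma isCanonical_iff (C : Divisor k K) :
    IsCanonical k K C ↔ (ell C = genus k K ∧ C.deg = 2 * genus k K - 2) := by
  refine ⟨canonical_ell_deg hK, fun ⟨h1, h2⟩ => ?_⟩
  obtain ⟨W, hW⟩ := exists_canonical hK
  have h3 := riemann_roch hK hW C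
  obtain ⟨x, hx, hxe⟩ := exists_eq_div_of_ell_pos hK (D := W - C) (by omega)
    (by rw [deg_sub, (canonical_ell_deg hK hW).2]; omega)
  have := isCanonical_add_div hK hW (inv_ne_zero hx)
  rwa [div_inv hK, ← hxe, show W + -(W - C) = C by abel] at this

end Groth.Agent.FFLib
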