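import Groth.Agent.FFLib.RR

/-!
# Places of degree one, rational function fields, Clifford's inequality
-/

open WithZero Module
open scoped Pointwise

namespace Groth.Agent.FFLib

open FunFld

variable {k K : Type*} [Field k] [Field K] [Algebra k K]

lemma algebraMap_residue (P : Place k K) (c : k) :
    algebraMap k (IsLocalRing.ResidueField P.O) c = IsLocalRing.residue P.O (algebraMap k P.O c) :=
  rfl

/-- At a place of degree one every integral element is congruent to a constant. -/
lemma exists_const_sub_lt {P : Place k K} (hP : P.deg = 1) {y : K} (hy : P.1 y ≤ 1) :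
    ∃ c : k, P.1 (y - algebraMap k K c) < 1 := by
  have h1 : finrank k (IsLocalRing.ResidueField P.O) = 1 := hP
  obtain ⟨c, hc⟩ := (finrank_eq_one_iff_of_nonzero' (1 : IsLocalRing.ResidueField P.O) one_ne_zero).1 h1
    (IsLocalRing.residue P.O ⟨y, hy⟩)
  refine ⟨c, ?_⟩
  have h2 : IsLocalRing.residue P.O (⟨y, hy⟩ - algebraMap k P.O c) = 0 := by
    rw [map_sub, ← algebraMap_residue, sub_eq_zero, ← hc]
    exact (Algebra.smul_def c (1 : IsLocalRing.ResidueField P.O)).trans (mul_one _)
  exact (residue_eq_zero_iff_lt P _).1 h2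

/-- Elements with distinct orders are linearly independent. -/
lemma linearIndependent_of_ord (P : Place k K) {ι : Type*} (f : ι → K) (h0 : ∀ i, f i ≠ 0)
    (hinj : Function.Injective fun i => P.ord (f i)) : LinearIndependent k f := by
  classical
  rw [linearIndependent_iff']
  intro s g hg i hi
  by_contra hgi
  obtain ⟨j, hj, hmax⟩ := (s.filter fun i => g i ≠ 0).exists_max_image (fun i => P.1 (f i))
    ⟨i, Finset.mem_filter.2 ⟨hi, hgi⟩⟩
  obtain ⟨hjs, hj0⟩ := Finset.mem_filter.1 hj
  have h1 := v_sum_eq P.1 (f := fun i => g i • f i) hjs fun l hl hlj => by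
    by_cases hl0 : g l = 0
    · rw [hl0, zero_smul, map_zero]
      exact zero_lt_iff.2 (v_ne_zero P (smul_ne_zero hj0 (h0 j)))
    · rw [v_smul P hl0, v_smul P hj0]
      refine lt_of_le_of_ne (hmax l (Finset.mem_filter.2 ⟨hl, hl0⟩)) fun e => hlj (hinj ?_)
      show P.ord (f l) = P.ord (f j)
      rw [Place.ord, Place.ord, e]
  rw [hg, map_zero] at h1
  exact v_ne_zero P (smul_ne_zero hj0 (h0 j)) h1.symm

/-- At a place of degree one, the dimension of a space of functions is the number of orders of its
nonzero elements. -/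
lemma exists_ord_finset {P : Place k K} (hP : P.deg = 1) (W : Submodule k K)
    [FiniteDimensional k W] :
    ∃ S : Finset ℤ, (∀ n, n ∈ S ↔ ∃ f ∈ W, f ≠ 0 ∧ P.ord f = n) ∧ S.card = finrank k W := by
  classical
  have hbound : ∀ s : Finset ℤ, (∀ n ∈ s, ∃ f ∈ W, f ≠ 0 ∧ P.ord f = n) → s.card ≤ finrank k W := by
    intro s hs
    choose f hfW hf0 hfn using fun n : s => hs n n.2
    have hli := linearIndependent_of_ord P f hf0 (fun a b e => Subtype.ext (by
      simpa [hfn] using e))
    have : LinearIndependent k (fun n => (⟨f n, hfW n⟩ : W)) :=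
      LinearIndependent.of_comp W.subtype hli
    simpa using this.fintype_card_le_finrank
  have hfin : {n | ∃ f ∈ W, f ≠ 0 ∧ P.ord f = n}.Finite := by
    by_contra hinf
    obtain ⟨s, hs, hc⟩ := (Set.not_finite.1 hinf).exists_subset_card_eq (finrank k W + 1)
    have := hbound s fun n hn => hs hn
    omega
  refine ⟨hfin.toFinset, fun n => hfin.mem_toFinset, le_antisymm
    (hbound _ fun n hn => hfin.mem_toFinset.1 hn) ?_⟩
  have hex : ∀ n : ℤ, ∃ f, n ∈ hfin.toFinset → f ∈ W ∧ f ≠ 0 ∧ P.ord f = n := fun n => by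
    by_cases h : n ∈ hfin.toFinset
    · obtain ⟨f, h1, h2, h3⟩ := hfin.mem_toFinset.1 h
      exact ⟨f, fun _ => ⟨h1, h2, h3⟩⟩
    · exact ⟨0, fun h' => absurd h' h⟩
  choose f hf using hex
  suffices hle : W ≤ Submodule.span k ((hfin.toFinset.image f : Finset K) : Set K) from
    (Submodule.finrank_mono hle).trans ((finrank_span_finset_le_card _).trans Finset.card_image_le)
  intro y hy
  by_contra hys
  -- strong induction on the number of orders above `ord y`
  have key : ∀ (m : ℕ) (y : K), y ∈ W → y ≠ 0 →
      (hfin.toFinset.filter (P.ord y ≤ ·)).card ≤ m →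
        y ∈ Submodule.span k ((hfin.toFinset.image f : Finset K) : Set K) := by
    intro m
    induction m with
    | zero =>
      intro y hy hy0 hm
      rw [Nat.le_zero, Finset.card_eq_zero, Finset.filter_eq_empty_iff] at hm
      exact absurd le_rfl (hm (hfin.mem_toFinset.2 ⟨y, hy, hy0, rfl⟩))
    | succ m ih =>
      intro y hy hy0 hm
      have hn : P.ord y ∈ hfin.toFinset := hfin.mem_toFinset.2 ⟨y, hy, hy0, rfl⟩
      obtain ⟨hfW, hf0, hfn⟩ := hf _ hn
      obtain ⟨c, hc⟩ := exists_const_sub_lt hP (y := y / f (P.ord y)) (by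
        rw [v_le_one_iff, div_eq_mul_inv, ord_mul P hy0 (inv_ne_zero hf0), ord_inv, hfn]; omega)
      have hmem : f (P.ord y) ∈ Submodule.span k ((hfin.toFinset.image f : Finset K) : Set K) :=
        Submodule.subset_span (Finset.mem_coe.2 (Finset.mem_image_of_mem f hn))
      rcases eq_or_ne (y - c • f (P.ord y)) 0 with h0 | h0
      · rw [sub_eq_zero] at h0
        rw [h0]
        exact Submodule.smul_mem _ _ hmem
      have hlt : P.ord y < P.ord (y - c • f (P.ord y)) := by
        have e : y - c • f (P.ord y) = f (P.ord y) * (y / f (P.ord y) - algebraMap k K c) := by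
          rw [mul_sub, mul_div_cancel₀ _ hf0, Algebra.smul_def, mul_comm (algebraMap k K c)]
        have hne : y / f (P.ord y) - algebraMap k K c ≠ 0 := fun e' => h0 (by rw [e, e', mul_zero])
        rw [e, ord_mul P hf0 hne, hfn]
        rw [v_lt_one_iff P hne] at hc
        omega
      have hin := ih _ (W.sub_mem hy (W.smul_mem c hfW)) h0 (by
        have hss : hfin.toFinset.filter (P.ord (y - c • f (P.ord y)) ≤ ·) ⊂
            hfin.toFinset.filter (P.ord y ≤ ·) := by
          rw [Finset.ssubset_iff_of_subset (fun n hn => by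
            simp only [Finset.mem_filter] at hn ⊢; exact ⟨hn.1, hlt.le.trans hn.2⟩)]
          exact ⟨P.ord y, Finset.mem_filter.2 ⟨hn, le_rfl⟩, fun h => by
            have := (Finset.mem_filter.1 h).2; omega⟩
        have := Finset.card_lt_card hss
        omega)
      have := Submodule.add_mem _ hin (Submodule.smul_mem _ c hmem)
      rwa [sub_add_cancel] at this
  exact hys (key _ y hy (fun e => hys (by rw [e]; exact Submodule.zero_mem _)) le_rfl)

variable (hK : IsFunctionField k K)
include hK

lemma deg_eq_one [IsAlgClosed k] (P : Place k K) : P.deg = 1 := by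
  have := finiteDimensional_residue hK P
  have : @Module.Finite k (IsLocalRing.ResidueField P.O) _ _ Algebra.toModule := this
  have hint : Algebra.IsIntegral k (IsLocalRing.ResidueField P.O) := Algebra.IsIntegral.of_finite _ _
  have hb := IsAlgClosed.algebraMap_bijective_of_isIntegral (k := k)
    (K := IsLocalRing.ResidueField P.O)
  show finrank k _ = 1
  exact (finrank_eq_one_iff_of_nonzero' (1 : IsLocalRing.ResidueField P.O) one_ne_zero).2 fun w => by
    obtain ⟨c, rfl⟩ := hb.2 w
    exact ⟨c, (Algebra.smul_def c (1 : IsLocalRing.ResidueField P.O)).trans (mul_one _)⟩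

/-- A divisor of degree one with effective part is a single place of degree one. -/
lemma exists_single_of_deg_one {D : Divisor k K} (h : 0 ≤ D) (hd : D.deg = 1) :
    ∃ P : Place k K, P.deg = 1 ∧ D = Finsupp.single P 1 := by
  classical
  obtain ⟨P, hP⟩ : ∃ P, 0 < D P := by
    by_contra hh
    push Not at hh
    have : D = 0 := Finsupp.ext fun P => le_antisymm (hh P) (h P)
    rw [this, deg_zero] at hd
    omega
  have hle : Finsupp.single P 1 ≤ D := fun Q => by
    rcases eq_or_ne Q P with rfl | hQ
    · rw [Finsupp.single_eq_same]; omega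
    · rw [Finsupp.single_eq_of_ne hQ]; exact h Q
  have h1 := deg_mono hle
  rw [deg_single, one_mul, hd] at h1
  have := deg_pos hK P
  refine ⟨P, by omega, ?_⟩
  have := eq_zero_of_deg_eq_zero hK (sub_nonneg.2 hle) (by rw [deg_sub, deg_single, hd]; omega)
  exact sub_eq_zero.1 this

lemma adjoin_eq_top_of_pole {x : K} {P : Place k K} (hP : P.deg = 1)
    (hx : pole x = Finsupp.single P 1) : IntermediateField.adjoin k ({x} : Set K) = ⊤ := by
  have htr : Transcendental k x := transcendental_of_ord hK P (fun h0 => by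
    have := congrArg (fun D => D P) hx
    simp only [pole_apply hK.1, Finsupp.single_eq_same, h0] at this
    norm_num at this)
  have h1 := deg_pole hK htr
  rw [hx, deg_single, one_mul, hP] at h1
  exact IntermediateField.finrank_eq_one_iff_eq_top.1 (by exact_mod_cast h1.symm)

lemma transcendental_of_top {x : K} (hx : IntermediateField.adjoin k ({x} : Set K) = ⊤) :
    Transcendental k x := by
  refine transcendental_of_notMem hK fun ⟨c, hc⟩ => ?_
  obtain ⟨y, hy⟩ := exists_transcendental hK
  have h1 : IntermediateField.adjoin k ({x} : Set K) = ⊥ :=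
    IntermediateField.adjoin_simple_eq_bot_iff.2 (IntermediateField.mem_bot.2 ⟨c, hc⟩)
  have h2 : y ∈ (⊥ : IntermediateField k K) := h1 ▸ hx ▸ IntermediateField.mem_top
  obtain ⟨d, rfl⟩ := IntermediateField.mem_bot.1 h2
  exact hy (isAlgebraic_algebraMap d)

lemma deg_pole_eq_one {x : K} (hx : IntermediateField.adjoin k ({x} : Set K) = ⊤) :
    (pole (k := k) x).deg = 1 := by
  rw [deg_pole hK (transcendental_of_top hK hx), hx, IntermediateField.finrank_top, Nat.cast_one]

lemma genus_eq_zero_of_top {x : K} (hx : IntermediateField.adjoin k ({x} : Set K) = ⊤) :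
    genus k K = 0 := by
  obtain ⟨N, hN⟩ := exists_delta_eq_genus hK
  have htr := transcendental_of_top hK hx
  have hd := deg_pole_eq_one hK hx
  set l := N.toNat
  have hδ := hN (l • pole x) (by rw [deg_nsmul, hd]; omega)
  have := finiteDimensional_L hK (l • pole (k := k) x)
  have hli : LinearIndependent k (fun i : Fin (l + 1) => x ^ (i : ℕ)) := by
    rw [Fintype.linearIndependent_iff]
    intro g hg i
    let p : Polynomial k := ∑ j : Fin (l + 1), Polynomial.monomial (j : ℕ) (g j)
    have h0 : Polynomial.aeval x p = 0 := by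
      rw [← hg, map_sum]
      simp only [Polynomial.aeval_monomial, Algebra.smul_def]
    have hp : p = 0 := by
      by_contra h
      exact htr ⟨p, h, h0⟩
    simpa [p, Polynomial.coeff_monomial, Fin.val_inj] using congrArg (fun q => q.coeff (i : ℕ)) hp
  have hmem : ∀ i : Fin (l + 1), x ^ (i : ℕ) ∈ L (l • pole (k := k) x) := fun i P => by
    rw [map_pow]
    calc P.1 x ^ (i : ℕ) ≤ exp (pole x P) ^ (i : ℕ) := pow_le_pow_left' (mem_L_pole hK x P) _
      _ ≤ exp ((l • pole (k := k) x) P) := by
        rw [← exp_nsmul, exp_le_exp, Finsupp.smul_apply, nsmul_eq_mul, nsmul_eq_mul]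
        exact mul_le_mul_of_nonneg_right (by exact_mod_cast Nat.lt_succ_iff.1 i.2) (pole_nonneg x P)
  have h2 : LinearIndependent k fun i : Fin (l + 1) => (⟨x ^ (i : ℕ), hmem i⟩ : L (l • pole (k := k) x)) :=
    LinearIndependent.of_comp (Submodule.subtype _) hli
  have h3 := h2.fintype_card_le_finrank
  rw [Fintype.card_fin] at h3
  rw [delta, deg_nsmul, hd] at hδ
  have h4 : (l : ℤ) + 1 ≤ ell (l • pole (k := k) x) := by exact_mod_cast h3
  omega

lemma exists_generator_of_ell {P : Place k K} (hP : P.deg = 1)
    (h : 2 ≤ ell (Finsupp.single P 1 : Divisor k K)) :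
    ∃ x : K, IntermediateField.adjoin k ({x} : Set K) = ⊤ := by
  have := finiteDimensional_L hK (Finsupp.single P 1 : Divisor k K)
  obtain ⟨x, hxL, hx1⟩ : ∃ x ∈ L (Finsupp.single P 1 : Divisor k K), x ∉ L (0 : Divisor k K) := by
    by_contra hh
    push Not at hh
    have := finiteDimensional_L hK (0 : Divisor k K)
    have h1 := Submodule.finrank_mono (show L (Finsupp.single P 1 : Divisor k K) ≤ L 0 from hh)
    have h2 : ell (0 : Divisor k K) = 1 := ell_zero hK
    unfold ell at h h2
    omega
  have hx0 : x ≠ 0 := fun e => hx1 (e ▸ Submodule.zero_mem _)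
  refine ⟨x, adjoin_eq_top_of_pole hK hP (Finsupp.ext fun Q => ?_)⟩
  rw [pole_apply hK]
  have hQ := (mem_L_iff hx0).1 hxL Q
  rcases eq_or_ne Q P with rfl | hne
  · rw [Finsupp.single_eq_same] at hQ ⊢
    have : Q.ord x < 0 := by
      by_contra hh
      push Not at hh
      refine hx1 ((mem_L_iff hx0).2 fun R => ?_)
      rcases eq_or_ne R Q with rfl | hR
      · simpa using hh
      · simpa [Finsupp.single_eq_of_ne hR] using (mem_L_iff hx0).1 hxL R
    omega
  · rw [Finsupp.single_eq_of_ne hne] at hQ ⊢
    omega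

/-- For positive genus, a place of degree one has no nonconstant function with a simple pole
there only. -/
lemma ell_single_one (hg : 0 < genus k K) {P : Place k K} (hP : P.deg = 1) :
    ell (Finsupp.single P 1 : Divisor k K) = 1 := by
  have h1 := ell_mono hK (Finsupp.single_nonneg.2 zero_le_one : (0 : Divisor k K) ≤ Finsupp.single P 1)
  rw [ell_zero hK] at h1
  by_contra h
  obtain ⟨x, hx⟩ := exists_generator_of_ell hK hP (by omega)
  have := genus_eq_zero_of_top hK hx
  omega

lemma eq_of_single_sub_eq_div (hg : 0 < genus k K) {P P' : Place k K} (hP' : P'.deg = 1) {x : K}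
    (h : Finsupp.single P 1 - Finsupp.single P' 1 = FunFld.div k x) : P = P' := by
  by_contra hne
  have hpole : pole x = Finsupp.single P' 1 := by
    ext Q
    have h1 := congrArg (fun D => D Q) h
    simp only [Finsupp.sub_apply, div_apply hK.1] at h1
    rw [pole_apply hK, ← h1]
    rcases eq_or_ne Q P' with rfl | hQ
    · simp [Finsupp.single_eq_of_ne (Ne.symm hne)]
    · rcases eq_or_ne Q P with rfl | hQP
      · simp [Finsupp.single_eq_of_ne hQ]
      · simp [Finsupp.single_eq_of_ne hQ, Finsupp.single_eq_of_ne hQP]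
  have := genus_eq_zero_of_top hK (adjoin_eq_top_of_pole hK hP' hpole)
  omega

/-- Clifford's inequality, in the presence of a place of degree one. -/
lemma clifford {P : Place k K} (hP : P.deg = 1) {D : Divisor k K} (h0 : 0 ≤ D.deg)
    (h2 : D.deg ≤ 2 * (genus k K : ℤ) - 2) : 2 * (ell D : ℤ) ≤ D.deg + 2 := by
  classical
  obtain ⟨C, hC⟩ := exists_canonical hK
  have hrr := riemann_roch hK hC D
  have hCg := (canonical_ell_deg hK hC).1
  rcases Nat.eq_zero_or_pos (ell D) with hA | hA
  · omega
  rcases Nat.eq_zero_or_pos (ell (C - D)) with hB | hB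
  · omega
  have := finiteDimensional_L hK D
  have := finiteDimensional_L hK (C - D)
  have := finiteDimensional_L hK C
  obtain ⟨S, hS, hSc⟩ := exists_ord_finset hP (L D)
  obtain ⟨T, hT, hTc⟩ := exists_ord_finset hP (L (C - D))
  obtain ⟨U, hU, hUc⟩ := exists_ord_finset hP (L C)
  have hsub : S + T ⊆ U := by
    intro n hn
    obtain ⟨a, ha, b, hb, rfl⟩ := Finset.mem_add.1 hn
    obtain ⟨f, hf, hf0, rfl⟩ := (hS a).1 ha
    obtain ⟨g, hg, hg0, rfl⟩ := (hT b).1 hb
    refine (hU _).2 ⟨f * g, fun Q => ?_, mul_ne_zero hf0 hg0, ord_mul P hf0 hg0⟩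
    rw [map_mul]
    calc Q.1 f * Q.1 g ≤ exp (D Q) * exp ((C - D) Q) := mul_le_mul' (hf Q) (hg Q)
      _ = exp (C Q) := by rw [← exp_add, Finsupp.sub_apply, add_sub_cancel]
  unfold ell at hA hB hCg hrr ⊢
  have hcd := cauchy_davenport_add_of_linearOrder_isCancelAdd (s := S) (t := T)
    (Finset.card_pos.1 (by omega)) (Finset.card_pos.1 (by omega))
  have := Finset.card_le_card hsub
  omega

end Groth.Agent.FFLib
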