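import Groth.Agent.FFLib.ConstExt
import Mathlib.FieldTheory.IsAlgClosed.AlgebraicClosure

/-!
# A model of a constant field extension
-/

open Module

namespace Groth.Agent.FFLib

variable {k : Type*} [Field k]

/-- The subfield generated over `K` by the image of `k'` inside a field containing `K`. -/
abbrev constSub (K : Type*) [Field K] [Algebra k K] {Ω : Type*} [Field Ω] [Algebra k Ω] [Algebra K Ω]
    {k' : Type*} [Field k'] [Algebra k k'] (φ : k' →ₐ[k] Ω) : IntermediateField K Ω :=
  IntermediateField.adjoin K (Set.range φ)

variable {K : Type*} [Field K] [Algebra k K] {Ω : Type*} [Field Ω] [Algebra k Ω] [Algebra K Ω]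
  [IsScalarTower k K Ω] {k' : Type*} [Field k'] [Algebra k k'] (φ : k' →ₐ[k] Ω)

/-- The constants inside the model. -/
noncomputable def toConstSub : k' →ₐ[k] constSub K φ where
  toFun c := ⟨φ c, IntermediateField.subset_adjoin K _ ⟨c, rfl⟩⟩
  map_one' := Subtype.ext (map_one φ)
  map_mul' a b := Subtype.ext (map_mul φ a b)
  map_zero' := Subtype.ext (map_zero φ)
  map_add' a b := Subtype.ext (map_add φ a b)
  commutes' c := Subtype.ext (φ.commutes c)

noncomputable instance algConstSub : Algebra k' (constSub K φ) := (toConstSub φ).toRingHom.toAlgebra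

instance towerConstSub : IsScalarTower k k' (constSub K φ) :=
  IsScalarTower.of_algebraMap_eq fun c => ((toConstSub φ).commutes c).symm

lemma constSub_gen [FiniteDimensional k k'] :
    Algebra.adjoin K (Set.range (algebraMap k' (constSub K φ))) = ⊤ := by
  have halg : ∀ y ∈ Set.range φ, IsAlgebraic K y := by
    rintro _ ⟨c, rfl⟩
    exact ((Algebra.IsIntegral.isIntegral (R := k) c).map φ).tower_top.isAlgebraic
  refine Subalgebra.map_injective (f := (constSub K φ).val) Subtype.val_injective ?_
  rw [Algebra.map_top, AlgHom.map_adjoin, IntermediateField.range_val,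
    IntermediateField.adjoin_toSubalgebra_of_isAlgebraic (fun y hy => halg y hy), ← Set.range_comp]
  rfl

lemma finrank_constSub [Finite k] [Finite k']
    (hc : ∀ y : K, IsAlgebraic k y → y ∈ Set.range (algebraMap k K)) :
    finrank K (constSub K φ) = finrank k k' := by
  have := Module.Finite.of_finite (R := k) (M := k')
  obtain ⟨θ, hθ⟩ := Field.exists_primitive_element_of_finite_top k k'
  have hint : IsIntegral k (φ θ) := (Algebra.IsIntegral.isIntegral θ).map φ
  have hrange : IntermediateField.adjoin k ({φ θ} : Set Ω) = φ.fieldRange := by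
    rw [AlgHom.fieldRange_eq_map, ← hθ, IntermediateField.adjoin_map, Set.image_singleton]
  have heq : constSub K φ = IntermediateField.adjoin K ({φ θ} : Set Ω) := by
    refine le_antisymm (IntermediateField.adjoin_le_iff.2 ?_)
      (IntermediateField.adjoin.mono K _ _ (Set.singleton_subset_iff.2 ⟨θ, rfl⟩))
    rintro _ ⟨c, rfl⟩
    have h1 : φ c ∈ IntermediateField.adjoin k ({φ θ} : Set Ω) := hrange ▸ ⟨c, rfl⟩
    exact (IntermediateField.adjoin_le_iff.2 (by
      intro z hz
      exact IntermediateField.subset_adjoin K ({φ θ} : Set Ω) hz) :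
        IntermediateField.adjoin k ({φ θ} : Set Ω) ≤
          (IntermediateField.adjoin K ({φ θ} : Set Ω)).restrictScalars k) h1
  rw [heq, finrank_adjoin_of_const hc hint, hrange]
  exact (AlgEquiv.ofInjectiveField φ).toLinearEquiv.finrank_eq.symm

/-- A constant field extension of each degree exists. -/
theorem exists_constExt_pointCount [Finite k] (hK : FunFld.IsFunctionField k K) {n : ℕ} (hn : 0 < n) :
    ∃ (k' : Type) (_ : Field k') (_ : Finite k') (_ : Algebra k k') (K' : IntermediateField K (AlgebraicClosure K))
      (_ : Algebra k' K') (hK' : FunFld.IsFunctionField k' K'),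
      finrank k k' = n ∧ Nat.card k' = Nat.card k ^ n ∧
        ∀ m, 0 < m → pointCount hK' m = pointCount hK (n * m) := by
  classical
  obtain ⟨p, hp⟩ := CharP.exists k
  have : Fact p.Prime := ⟨CharP.char_is_prime k p⟩
  have : NeZero n := ⟨hn.ne'⟩
  set E := FiniteField.Extension k p n
  let φ : E →ₐ[k] AlgebraicClosure K := IsAlgClosed.lift
  have hrk := finrank_constSub (K := K) φ hK.2
  have hgen := constSub_gen (K := K) φ
  refine ⟨E, inferInstance, inferInstance, inferInstance, constSub K φ, algConstSub φ,
    ConstExt.isFunctionField hK hgen hrk, FiniteField.finrank_extension k p n,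
    FiniteField.natCard_extension k p n, fun m hm => ?_⟩
  rw [ConstExt.pointCount_eq hK hgen hrk _ hm, FiniteField.finrank_extension]

end Groth.Agent.FFLib
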