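import Mathlib.RingTheory.PowerSeries.Derivative
import Mathlib.Algebra.Polynomial.BigOperators
import Mathlib.Tactic.LinearCombination
import Mathlib.Tactic.Ring

/-!
# Power series with a prescribed logarithmic derivative
-/

open PowerSeries Finset

namespace Groth.Agent.FFLib

variable {R : Type*} [CommRing R]

/-- `n a_n = Σ_{m=1}^n f_m a_{n-m}`. -/
def SRec (y : PowerSeries R) (f : ℕ → R) : Prop :=
  ∀ n : ℕ, (n : R) * coeff n y = ∑ m ∈ Icc 1 n, f m * coeff (n - m) y

/-- The generating series of `f`, without constant term. -/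
def tailSeries (f : ℕ → R) : PowerSeries R := mk fun m => if m = 0 then 0 else f m

lemma srec_iff (y : PowerSeries R) (f : ℕ → R) :
    SRec y f ↔ X * derivative R y = tailSeries f * y := by
  rw [PowerSeries.ext_iff]
  refine forall_congr' fun n => ?_
  have hl : coeff n (X * derivative R y) = (n : R) * coeff n y := by
    rcases n with _ | n
    · simp
    · rw [coeff_succ_X_mul, coeff_derivative]; push_cast; ring
  rw [hl, coeff_mul, Finset.Nat.sum_antidiagonal_eq_sum_range_succ
    (fun i j => coeff i (tailSeries f) * coeff j y) n]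
  have hr : ∑ i ∈ range (n + 1), coeff i (tailSeries f) * coeff (n - i) y =
      ∑ m ∈ Icc 1 n, f m * coeff (n - m) y := by
    rw [← Finset.sum_subset (s₁ := Icc 1 n) (s₂ := range (n + 1)) (fun m hm => by
      simp only [mem_Icc] at hm; simp only [mem_range]; omega) (fun m hm hm' => by
      simp only [mem_range] at hm; simp only [mem_Icc] at hm'
      have h0 : m = 0 := by omega
      subst h0; simp [tailSeries])]
    exact Finset.sum_congr rfl fun m hm => by
      simp only [mem_Icc] at hm
      rw [tailSeries, coeff_mk, if_neg (by omega)]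
  rw [hr]

lemma tailSeries_add (f g : ℕ → R) : tailSeries (fun m => f m + g m) = tailSeries f + tailSeries g := by
  ext n; simp only [tailSeries, coeff_mk, map_add]; split_ifs <;> simp

lemma SRec.one : SRec (1 : PowerSeries R) (fun _ => 0) := by
  rw [srec_iff]; ext n; simp [tailSeries, show (mk fun _ => (0 : R)) = 0 from ext fun n => by simp]

lemma SRec.mul {y z : PowerSeries R} {f g : ℕ → R} (hy : SRec y f) (hz : SRec z g) :
    SRec (y * z) (fun m => f m + g m) := by
  rw [srec_iff] at hy hz ⊢
  rw [Derivation.leibniz, tailSeries_add, smul_eq_mul, smul_eq_mul]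
  linear_combination z * hy + y * hz

lemma SRec.prod {ι : Type*} (s : Finset ι) (y : ι → PowerSeries R) (f : ι → ℕ → R)
    (h : ∀ i ∈ s, SRec (y i) (f i)) : SRec (∏ i ∈ s, y i) (fun m => ∑ i ∈ s, f i m) := by
  classical
  induction s using Finset.induction_on with
  | empty => simpa using SRec.one
  | insert a s ha ih =>
    simp only [Finset.prod_insert ha, Finset.sum_insert ha]
    exact (h a (mem_insert_self a s)).mul (ih fun i hi => h i (mem_insert_of_mem hi))

lemma SRec.pow {y : PowerSeries R} {f : ℕ → R} (hy : SRec y f) (m : ℕ) :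
    SRec (y ^ m) (fun j => m * f j) := by
  have := SRec.prod (range m) (fun _ => y) (fun _ => f) fun _ _ => hy
  simpa using this

lemma SRec.linear (a : R) : SRec (1 - C a * X) (fun m => -a ^ m) := by
  rw [srec_iff]
  have h1 : tailSeries (fun m => -a ^ m) * (1 - C a * X) = -(C a * X) := by
    ext n
    rw [mul_sub, mul_one, ← mul_assoc, map_sub, map_neg]
    rcases n with _ | n
    · simp [tailSeries]
    · rw [coeff_succ_mul_X, coeff_mul_C, coeff_succ_mul_X, coeff_C]
      rcases n with _ | n
      · simp [tailSeries]
      · simp [tailSeries]; ring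
  rw [h1, map_sub, Derivation.leibniz, derivative_C, derivative_X, Derivation.map_one_eq_zero]
  simp [mul_comm]

lemma SRec.map {S : Type*} [CommRing S] (φ : R →+* S) {y : PowerSeries R} {f : ℕ → R} (hy : SRec y f) :
    SRec (PowerSeries.map φ y) (fun m => φ (f m)) := fun n => by
  have := congrArg φ (hy n)
  simpa using this

lemma SRec.congr {y : PowerSeries R} {f g : ℕ → R} (hy : SRec y f) (h : ∀ m, 0 < m → f m = g m) :
    SRec y g := fun n => by
  rw [hy n]
  exact Finset.sum_congr rfl fun m hm => by rw [h m (mem_Icc.1 hm).1]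

/-- The logarithmic derivative determines the series up to its constant term. -/
lemma SRec.unique [IsDomain R] [CharZero R] {y z : PowerSeries R} {f : ℕ → R} (hy : SRec y f)
    (hz : SRec z f) (h0 : constantCoeff y = constantCoeff z) : y = z := by
  ext n
  induction n using Nat.strong_induction_on with
  | _ n ih =>
    rcases eq_or_ne n 0 with rfl | hn
    · simpa using h0
    · refine mul_left_cancel₀ (Nat.cast_ne_zero.2 hn : (n : R) ≠ 0) ?_
      rw [hy n, hz n]
      exact Finset.sum_congr rfl fun m hm => by
        rw [ih (n - m) (by have := mem_Icc.1 hm; omega)]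

/-- The series determines the logarithmic derivative. -/
lemma SRec.unique_log {y : PowerSeries R} {f g : ℕ → R} (hy : SRec y f) (hz : SRec y g)
    (h0 : constantCoeff y = 1) {m : ℕ} (hm : 0 < m) : f m = g m := by
  induction m using Nat.strong_induction_on with
  | _ m ih =>
    have h := (hy m).symm.trans (hz m)
    rw [← Finset.sum_erase_add _ _ (mem_Icc.2 ⟨hm, le_rfl⟩ : m ∈ Icc 1 m),
      ← Finset.sum_erase_add _ _ (mem_Icc.2 ⟨hm, le_rfl⟩ : m ∈ Icc 1 m),
      Finset.sum_congr rfl (fun j hj => by
        rw [ih j (by
          have h1 := mem_Icc.1 (Finset.mem_of_mem_erase hj)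
          have h2 := Finset.ne_of_mem_erase hj
          omega) (mem_Icc.1 (Finset.mem_of_mem_erase hj)).1]), add_right_inj] at h
    simpa [h0] using h

end Groth.Agent.FFLib
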