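import Groth.Agent.FFLib.ZetaCount
import Groth.Agent.FFLib.ZetaSeries
import Groth.Agent.FFLib.ConstModel
import Mathlib.RingTheory.PowerSeries.Trunc
import Mathlib.Analysis.Complex.Polynomial.Basic

/-!
# The numerator of the zeta function
-/

set_option linter.unusedSectionVars false

open Finset Module

namespace Groth.Agent.FFLib

open FunFld

section Pole

open PowerSeries

/-- A series with coefficients `c₁ Qⁿ + c₀` on multiples of `e` becomes a polynomial. -/
lemma exists_polynomial_of_eventually {A : PowerSeries ℂ} {e J : ℕ} (he : 0 < e) {Q c₁ c₀ : ℂ}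
    (hA : ∀ n, J ≤ n → coeff n A = if e ∣ n then c₁ * Q ^ n + c₀ else 0) :
    ∃ p : Polynomial ℂ, (p : PowerSeries ℂ) = (1 - X ^ e) * (1 - C (Q ^ e) * X ^ e) * A ∧
      (e = 1 → p.eval 1 = c₀ * (1 - Q)) := by
  set B := (1 - X ^ e) * (1 - C (Q ^ e) * X ^ e) * A with hB
  have hB' : B = A - C (1 + Q ^ e) * (X ^ e * A) + C (Q ^ e) * (X ^ (2 * e) * A) := by
    rw [hB, two_mul, pow_add, map_add, map_one]; ring
  have hzero : ∀ n, J + 2 * e ≤ n → coeff n B = 0 := by
    intro n hn
    rw [hB', map_add, map_sub, coeff_C_mul, coeff_C_mul, coeff_X_pow_mul', coeff_X_pow_mul',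
      if_pos (by omega), if_pos (by omega), hA n (by omega), hA (n - e) (by omega), hA (n - 2 * e) (by omega)]
    by_cases h : e ∣ n
    · have h1 : e ∣ n - e := Nat.dvd_sub h dvd_rfl
      have h2 : e ∣ n - 2 * e := Nat.dvd_sub h (dvd_mul_left e 2)
      rw [if_pos h, if_pos h1, if_pos h2]
      obtain ⟨m, rfl⟩ : ∃ m, n = m + 2 * e := ⟨n - 2 * e, by omega⟩
      rw [show m + 2 * e - e = m + e by omega, Nat.add_sub_cancel, pow_add, pow_add, two_mul, pow_add]
      ring
    · have h1 : ¬ e ∣ n - e := fun h' => h (by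
        have := Nat.dvd_add h' (dvd_refl e); rwa [Nat.sub_add_cancel (by omega)] at this)
      have h2 : ¬ e ∣ n - 2 * e := fun h' => h (by
        have := Nat.dvd_add h' (dvd_mul_left e 2); rwa [Nat.sub_add_cancel (by omega)] at this)
      rw [if_neg h, if_neg h1, if_neg h2]; ring
  refine ⟨trunc (J + 2 * e) B, ?_, fun h1 => ?_⟩
  · ext n
    rw [Polynomial.coeff_coe, coeff_trunc]
    split_ifs with h
    · rfl
    · exact (hzero n (by omega)).symm
  · subst h1
    rw [Polynomial.eval_eq_sum_range' (n := J + 2 * 1)]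
    · have hc : ∀ i ∈ Finset.range (J + 2 * 1), (trunc (J + 2 * 1) B).coeff i * (1 : ℂ) ^ i = coeff i B := by
        intro i hi
        rw [one_pow, mul_one, coeff_trunc, if_pos (Finset.mem_range.1 hi)]
      rw [Finset.sum_congr rfl hc]
      have htel : ∀ N, ∑ i ∈ Finset.range (N + 2), coeff i B = coeff (N + 1) A - Q * coeff N A := by
        intro N
        induction N with
        | zero =>
          rw [Finset.sum_range_succ, Finset.sum_range_one]
          simp only [hB', LinearMap.map_add, LinearMap.map_sub, coeff_C_mul, coeff_X_pow_mul']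
          simp; ring
        | succ N ih =>
          rw [Finset.sum_range_succ, ih]
          simp only [hB', LinearMap.map_add, LinearMap.map_sub, coeff_C_mul, coeff_X_pow_mul']
          rw [if_pos (by omega), if_pos (by omega), show N + 2 - 1 = N + 1 by omega,
            show N + 2 - 2 * 1 = N by omega]
          ring
      rw [show J + 2 * 1 = J + 2 by omega, htel, hA J le_rfl, hA (J + 1) (by omega), if_pos (one_dvd _),
        if_pos (one_dvd _)]
      ring
    · rw [two_mul]; exact natDegree_trunc_lt B (J + 1)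

end Pole

variable {k K : Type*} [Field k] [Field K] [Algebra k K] [Finite k] (hK : IsFunctionField k K)
include hK

/-- Degrees of divisors form the multiples of some positive `e`. -/
lemma exists_minDeg : ∃ (e : ℕ) (D₁ : Divisor k K), 0 < e ∧ D₁.deg = e ∧ ∀ D : Divisor k K, (e : ℤ) ∣ D.deg := by
  obtain ⟨a, ha⟩ := Int.subgroup_cyclic (FunFld.degHom k K).range
  obtain ⟨P⟩ := exists_place hK
  have hmem : ∀ D : Divisor k K, a ∣ D.deg := fun D => by
    have : D.deg ∈ (FunFld.degHom k K).range := ⟨D, degHom_apply D⟩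
    rw [ha, AddSubgroup.mem_closure_singleton] at this
    obtain ⟨m, hm⟩ := this
    exact ⟨m, by rw [← hm, smul_eq_mul, mul_comm]⟩
  have ha0 : a ≠ 0 := by
    rintro rfl
    have := hmem (Finsupp.single P 1)
    rw [deg_single, one_mul, zero_dvd_iff] at this
    exact (deg_pos hK.1 P).ne' (by exact_mod_cast this)
  obtain ⟨D, hD⟩ : a ∈ (FunFld.degHom k K).range := ha ▸ AddSubgroup.subset_closure rfl
  rw [degHom_apply] at hD
  refine ⟨a.natAbs, if 0 < a then D else -D, Int.natAbs_pos.2 ha0, ?_, fun E => ?_⟩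
  · split_ifs with h
    · rw [hD]; omega
    · rw [deg_neg, hD]; omega
  · exact Int.natAbs_dvd.2 (hmem E)

lemma effCount_large [Fintype (Cl0 k K)] (n : ℕ) (hn : 2 * genus k K ≤ n + 1)
    (hex : ∃ D : Divisor k K, D.deg = n) :
    ((Nat.card k : ℤ) - 1) * (effDivCount k K n : ℤ) =
      (classNum k K : ℤ) * ((Nat.card k : ℤ) ^ (n + 1 - genus k K) - 1) := by
  obtain ⟨E, hE⟩ := hex
  rw [effCount_formula hK E n hE, classNum, Nat.card_eq_fintype_card (α := Cl0 k K)]
  rw [Finset.sum_congr rfl fun c _ => ?_, Finset.sum_const, Finset.card_univ, nsmul_eq_mul]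
  have h : (ell (E + clRep c) : ℤ) = (n : ℤ) + 1 - genus k K := by
    rw [ell_eq_of_deg_ge hK (by rw [deg_add, deg_clRep, hE]; omega), deg_add, deg_clRep, hE, add_zero]
  rw [show ell (E + clRep c) = n + 1 - genus k K by omega]

lemma effCount_eq_zero (n : ℕ) (h : ¬ ∃ D : Divisor k K, D.deg = n) : effDivCount k K n = 0 := by
  rw [effDivCount, Nat.card_eq_zero]
  exact Or.inl ⟨fun D => h ⟨D.1, D.2.2⟩⟩

lemma zeta_srec : SRec (zetaZ k K) (pointCount hK) := fun n => by
  simp only [zetaZ, PowerSeries.coeff_mk]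
  exact effDivCount_recurrence hK n

lemma constantCoeff_zeta : PowerSeries.constantCoeff (zetaZ k K) = 1 := by
  rw [← PowerSeries.coeff_zero_eq_constantCoeff_apply, zetaZ, PowerSeries.coeff_mk, effDivCount_zero hK]
  rfl

lemma effCount_pole_form : ∃ (e : ℕ) (c₁ : ℂ) (D₁ : Divisor k K), 0 < e ∧ D₁.deg = e ∧
    (∀ D : Divisor k K, (e : ℤ) ∣ D.deg) ∧
    ∀ n, 2 * genus k K ≤ n → (effDivCount k K n : ℂ) =
      if e ∣ n then c₁ * (Nat.card k : ℂ) ^ n + -(classNum k K : ℂ) / ((Nat.card k : ℂ) - 1) else 0 := by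
  have := finite_Cl0 hK
  have := Fintype.ofFinite (Cl0 k K)
  obtain ⟨e, D₁, he, hD₁, hdvd⟩ := exists_minDeg hK
  set q : ℂ := (Nat.card k : ℂ) with hq
  have hq0 : q ≠ 0 := Nat.cast_ne_zero.2 (by have := one_lt_card (k := k); omega)
  have hq1 : q - 1 ≠ 0 := by
    rw [sub_ne_zero, hq]; exact_mod_cast (one_lt_card (k := k)).ne'
  refine ⟨e, (classNum k K : ℂ) * q / ((q - 1) * q ^ genus k K), D₁, he, hD₁, hdvd, fun n hn => ?_⟩
  split_ifs with h
  · obtain ⟨m, rfl⟩ := h
    have hf := effCount_large hK (e * m) (by omega) ⟨(m : ℤ) • D₁, by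
      show (degHom : Divisor k K →+ ℤ) ((m : ℤ) • D₁) = _
      rw [map_zsmul, smul_eq_mul]
      show (m : ℤ) * D₁.deg = _
      rw [hD₁]; push_cast; ring⟩
    have hf' : (q - 1) * (effDivCount k K (e * m) : ℂ) =
        (classNum k K : ℂ) * (q ^ (e * m + 1 - genus k K) - 1) := by
      rw [hq]; exact_mod_cast hf
    rw [pow_sub₀ q hq0 (by omega)] at hf'
    field_simp at hf' ⊢
    linear_combination hf'
  · rw [effCount_eq_zero hK n fun ⟨D, hD⟩ => h (by
      have := hdvd D; rw [hD] at this; exact_mod_cast this), Nat.cast_zero]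

lemma pointCount_eq_zero_of_not_dvd {e m : ℕ} (hdvd : ∀ D : Divisor k K, (e : ℤ) ∣ D.deg)
    (hm : 0 < m) (h : ¬ e ∣ m) : pointCount hK m = 0 := by
  refine Finset.sum_eq_zero fun P hP => ?_
  exfalso
  rw [mem_placesDvd hK hm] at hP
  refine h (dvd_trans ?_ hP)
  have := hdvd (Finsupp.single P 1)
  rw [deg_single, one_mul] at this
  exact_mod_cast this

lemma classNum_pos : 0 < classNum k K :=
  have := finite_Cl0 hK
  Nat.card_pos

open PowerSeries in
/-- Schmidt: there is a divisor of degree one. -/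
theorem exists_deg_one : ∃ D : Divisor k K, D.deg = 1 := by
  classical
  obtain ⟨e, c₁, D₁, he, hD₁, hdvd, hA⟩ := effCount_pole_form hK
  suffices h : e = 1 by exact ⟨D₁, by rw [hD₁, h, Nat.cast_one]⟩
  by_contra hne
  obtain ⟨l, hl⟩ : ∃ l, e = l + 2 := ⟨e - 2, by omega⟩
  obtain ⟨k', _, _, _, K', _, hK', -, hcard, hN⟩ := exists_constExt_pointCount hK he
  obtain ⟨e', c₁', -, he', -, -, hA'⟩ := effCount_pole_form hK'
  have hec : (e : ℂ) ≠ 0 := Nat.cast_ne_zero.2 he.ne'
  set q : ℂ := (Nat.card k : ℂ) with hq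
  set c₀ : ℂ := -(classNum k K : ℂ) / (q - 1) with hc₀
  set A : PowerSeries ℂ := mk fun j => (effDivCount k K (e * j) : ℂ) with hAdef
  set Z' : PowerSeries ℂ := PowerSeries.map (Int.castRingHom ℂ) (zetaZ k' K') with hZ'
  -- logarithmic derivatives
  have hAr : SRec A (fun i => (pointCount hK (e * i) : ℂ) / e) := by
    intro j
    have h := effDivCount_recurrence hK (e * j)
    have h' := congrArg (fun z : ℤ => (z : ℂ)) h
    push_cast at h'
    rw [← Finset.sum_filter_of_ne (p := fun m => e ∣ m) (fun m hm hne => by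
      by_contra hd
      rw [pointCount_eq_zero_of_not_dvd hK hdvd (Finset.mem_Icc.1 hm).1 hd] at hne
      exact hne (by simp))] at h'
    have hre : ∑ m ∈ (Finset.Icc 1 (e * j)).filter (fun m => e ∣ m),
        (pointCount hK m : ℂ) * (effDivCount k K (e * j - m) : ℂ) =
        ∑ i ∈ Finset.Icc 1 j, (pointCount hK (e * i) : ℂ) * (effDivCount k K (e * (j - i)) : ℂ) := by
      refine Finset.sum_nbij' (fun m => m / e) (fun i => e * i) ?_ ?_ ?_ ?_ ?_
      · intro m hm
        simp only [Finset.mem_filter, Finset.mem_Icc, Finset.coe_filter, Set.mem_ofPred_eq, Finset.coe_Icc, Set.mem_Icc] at hm ⊢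
        refine ⟨Nat.div_pos (Nat.le_of_dvd (by omega) hm.2) he, ?_⟩
        rw [← Nat.mul_div_cancel_left j he]
        exact Nat.div_le_div_right hm.1.2
      · intro i hi
        simp only [Finset.mem_filter, Finset.mem_Icc, Finset.coe_filter, Set.mem_ofPred_eq, Finset.coe_Icc, Set.mem_Icc] at hi ⊢
        exact ⟨⟨Nat.mul_pos he hi.1, Nat.mul_le_mul_left e hi.2⟩, dvd_mul_right e i⟩
      · intro m hm
        simp only [Finset.mem_filter, Finset.mem_Icc, Finset.coe_filter, Set.mem_ofPred_eq] at hm
        exact Nat.mul_div_cancel' hm.2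
      · intro i _; exact Nat.mul_div_cancel_left i he
      · intro m hm
        simp only [Finset.mem_filter, Finset.mem_Icc] at hm
        rw [Nat.mul_sub, Nat.mul_div_cancel' hm.2]
    rw [hre] at h'
    simp only [hAdef, coeff_mk]
    rw [← mul_right_inj' hec, ← mul_assoc, h', Finset.mul_sum]
    exact Finset.sum_congr rfl fun i _ => by field_simp
  have hZA : Z' = A ^ e := by
    refine SRec.unique ((zeta_srec hK').map (Int.castRingHom ℂ)) ((hAr.pow e).congr fun m hm => ?_) ?_
    · rw [mul_div_cancel₀ _ hec, hN m hm]; rfl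
    · rw [hZ', ← coeff_zero_eq_constantCoeff_apply, coeff_map, coeff_zero_eq_constantCoeff_apply,
        constantCoeff_zeta hK', map_one, map_pow, ← coeff_zero_eq_constantCoeff_apply, hAdef, coeff_mk,
        mul_zero, effDivCount_zero hK, Nat.cast_one, one_pow]
  -- pole orders
  obtain ⟨p, hp, hp1⟩ := exists_polynomial_of_eventually (A := A) (J := 2 * genus k K) one_pos
    (Q := q ^ e) (c₁ := c₁) (c₀ := c₀) fun n hn => by
      rw [if_pos (one_dvd n), hAdef, coeff_mk, hA (e * n) (le_trans hn (Nat.le_mul_of_pos_left n he)),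
        if_pos (dvd_mul_right e n), ← pow_mul]
  obtain ⟨p', hp', -⟩ := exists_polynomial_of_eventually (A := Z') (J := 2 * genus k' K') he'
    (Q := (Nat.card k' : ℂ)) (c₁ := c₁') (c₀ := -(classNum k' K' : ℂ) / ((Nat.card k' : ℂ) - 1))
    fun n hn => by
      rw [hZ', coeff_map, zetaZ, coeff_mk, ← hA' n hn]; simp
  set Q' : ℂ := (Nat.card k' : ℂ) ^ e' with hQ'
  have hpoly : p ^ e * ((1 - Polynomial.X ^ e') * (1 - Polynomial.C Q' * Polynomial.X ^ e')) =
      p' * ((1 - Polynomial.X) * (1 - Polynomial.C (q ^ e) * Polynomial.X)) ^ e := by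
    apply Polynomial.coe_injective ℂ
    push_cast
    rw [hp, hp', hZA, pow_one, pow_one, hQ', mul_pow]
    ring
  rw [← geom_sum_mul_neg, hl] at hpoly
  have hcancel : p ^ (l + 2) * ((∑ i ∈ Finset.range e', Polynomial.X ^ i) * (1 - Polynomial.C Q' * Polynomial.X ^ e')) =
      p' * ((1 - Polynomial.X) ^ (l + 1) * (1 - Polynomial.C (q ^ (l + 2)) * Polynomial.X) ^ (l + 2)) := by
    have h1 : (1 - Polynomial.X : Polynomial ℂ) ≠ 0 := fun h => by
      have := congrArg (Polynomial.eval 0) h
      simp at this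
    refine mul_left_cancel₀ h1 ?_
    rw [mul_pow, pow_succ' _ (l + 1)] at hpoly
    linear_combination hpoly
  have hev := congrArg (Polynomial.eval (1 : ℂ)) hcancel
  simp only [Polynomial.eval_mul, Polynomial.eval_pow, Polynomial.eval_sub, Polynomial.eval_one,
    Polynomial.eval_X, Polynomial.eval_finsetSum, Polynomial.eval_C, one_pow, mul_one, sub_self,
    zero_pow (Nat.succ_ne_zero l), zero_mul, mul_zero, Finset.sum_const, Finset.card_range, nsmul_eq_mul] at hev
  have hq1 : q - 1 ≠ 0 := by
    rw [sub_ne_zero, hq]; exact_mod_cast (one_lt_card (k := k)).ne'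
  rcases mul_eq_zero.1 hev with h | h
  · rw [pow_eq_zero_iff (by omega), hp1 rfl, hc₀, mul_eq_zero, div_eq_zero_iff, neg_eq_zero] at h
    rcases h with (h | h) | h
    · exact (classNum_pos hK).ne' (by exact_mod_cast h)
    · exact hq1 h
    · rw [sub_eq_zero, hq, ← Nat.cast_pow] at h
      exact (Nat.one_lt_pow he.ne' (one_lt_card (k := k))).ne (by exact_mod_cast h)
  · rcases mul_eq_zero.1 h with h | h
    · exact he'.ne' (by exact_mod_cast h)
    · rw [sub_eq_zero, hQ', ← Nat.cast_pow] at h
      exact (Nat.one_lt_pow he'.ne' (one_lt_card (k := k'))).ne (by exact_mod_cast h)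

/-- A fixed divisor of degree one. -/
noncomputable def oneDiv : Divisor k K := (exists_deg_one hK).choose

lemma deg_oneDiv : (oneDiv hK).deg = 1 := (exists_deg_one hK).choose_spec

omit hK in
lemma deg_zsmul' (n : ℤ) (D : Divisor k K) : (n • D).deg = n * D.deg :=
  map_zsmul (degHom : Divisor k K →+ ℤ) n D

/-- `Σ q^ℓ` over the classes of degree `n`. -/
noncomputable def classSum [Fintype (Cl0 k K)] (n : ℤ) : ℚ :=
  ∑ c : Cl0 k K, (Nat.card k : ℚ) ^ ell (n • oneDiv hK + clRep c)

/-- `a_n`, extended by zero. -/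
noncomputable def effZ (k K : Type*) [Field k] [Field K] [Algebra k K] (n : ℤ) : ℚ :=
  if n < 0 then 0 else (effDivCount k K n.toNat : ℚ)

/-- The coefficients of the numerator, extended by zero. -/
noncomputable def numC (k K : Type*) [Field k] [Field K] [Algebra k K] (n : ℤ) : ℚ :=
  effZ k K n - ((Nat.card k : ℚ) + 1) * effZ k K (n - 1) + (Nat.card k : ℚ) * effZ k K (n - 2)

omit hK in
lemma coeff_numerZ (n : ℕ) : ((PowerSeries.coeff n (numerZ k K) : ℤ) : ℚ) = numC k K n := by
  have e : numerZ k K = zetaZ k K -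
      PowerSeries.C ((Nat.card k : ℤ) + 1) * (PowerSeries.X ^ 1 * zetaZ k K) +
      PowerSeries.C (Nat.card k : ℤ) * (PowerSeries.X ^ 2 * zetaZ k K) := by
    rw [numerZ, map_add, map_one]; ring
  rw [e, LinearMap.map_add, LinearMap.map_sub, PowerSeries.coeff_C_mul, PowerSeries.coeff_C_mul,
    PowerSeries.coeff_X_pow_mul', PowerSeries.coeff_X_pow_mul']
  simp only [zetaZ, PowerSeries.coeff_mk]
  rcases n with _ | _ | n <;> simp [numC, effZ]
  · rw [if_neg (by omega : ¬ ((n : ℤ) < 0))]
    simp only [show ((n : ℤ) + 1 + 1).toNat = n + 2 by omega, show ((n : ℤ) + 1 + 1 - 2).toNat = n by omega,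
      if_neg (by omega : ¬ ((n : ℤ) + 1 + 1 < 0)), if_neg (by omega : ¬ ((n : ℤ) + 1 < 0))]

lemma effZ_eq [Fintype (Cl0 k K)] (n : ℤ) :
    ((Nat.card k : ℚ) - 1) * effZ k K n = classSum hK n - (classNum k K : ℚ) := by
  have hh : (classNum k K : ℚ) = ∑ _c : Cl0 k K, (1 : ℚ) := by
    rw [classNum, Nat.card_eq_fintype_card (α := Cl0 k K)]; simp
  rw [hh, classSum, ← Finset.sum_sub_distrib, effZ]
  split_ifs with h
  · rw [mul_zero]
    refine (Finset.sum_eq_zero fun c _ => ?_).symm
    rw [ell_eq_zero_of_deg_neg hK.1 (D := n • oneDiv hK + clRep c) (by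
      rw [deg_add, deg_clRep, deg_zsmul', deg_oneDiv]; omega), pow_zero, sub_self]
  · obtain ⟨m, rfl⟩ := Int.eq_ofNat_of_zero_le (not_lt.1 h)
    have h' := effCount_formula hK ((m : ℤ) • oneDiv hK) m (by rw [deg_zsmul', deg_oneDiv, mul_one])
    have h'' := congrArg (fun z : ℤ => (z : ℚ)) h'
    push_cast at h''
    simpa using h''

lemma classSum_reflect [Fintype (Cl0 k K)] (n : ℤ) :
    classSum hK n = (Nat.card k : ℚ) ^ (n + 1 - genus k K) * classSum hK (2 * genus k K - 2 - n) := by
  classical
  obtain ⟨C, hC⟩ := exists_canonical hK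
  have hq0 : (Nat.card k : ℚ) ≠ 0 := Nat.cast_ne_zero.2 (by have := one_lt_card (k := k); omega)
  have hCd : C.deg = 2 * (genus k K : ℤ) - 2 := (canonical_ell_deg hK hC).2
  set m : ℤ := 2 * genus k K - 2 - n with hm
  have hd : ∀ c : Cl0 k K, (C - (n • oneDiv hK + clRep c)).deg = (m • oneDiv hK).deg := fun c => by
    rw [deg_sub, deg_add, deg_clRep, deg_zsmul', deg_zsmul', deg_oneDiv, hCd]; ring
  set τ : Cl0 k K → Cl0 k K := fun c => clMk _ _ (hd c) with hτ
  have hτinj : Function.Injective τ := by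
    intro c c' h
    obtain ⟨x, hx, h1⟩ := (clMk_eq_iff hK (hd c) (τ c')).1 h
    obtain ⟨y, hy, h2⟩ := (clMk_eq_iff hK (hd c') (τ c')).1 rfl
    rw [← QuotientAddGroup.out_eq' c, ← QuotientAddGroup.out_eq' c', mk_eq_iff hK]
    refine ⟨x * y⁻¹, mul_ne_zero hx (inv_ne_zero hy), ?_⟩
    rw [div_mul hK.1 hx (inv_ne_zero hy), div_inv hK.1]
    show clRep c' = clRep c + (FunFld.div k x + -FunFld.div k y)
    have e1 : FunFld.div k x = C - (n • oneDiv hK + clRep c) - (m • oneDiv hK + clRep (τ c')) := by
      rw [h1]; abel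
    have e2 : FunFld.div k y = C - (n • oneDiv hK + clRep c') - (m • oneDiv hK + clRep (τ c')) := by
      rw [h2]; abel
    rw [e1, e2]; abel
  have hell : ∀ c, (ell (n • oneDiv hK + clRep c) : ℤ) =
      n + 1 - genus k K + ell (m • oneDiv hK + clRep (τ c)) := fun c => by
    obtain ⟨x, hx, h1⟩ := (clMk_eq_iff hK (hd c) (τ c)).1 rfl
    rw [riemann_roch hK hC, h1, ell_add_div hK.1 _ hx, deg_add, deg_clRep, deg_zsmul', deg_oneDiv]
    ring
  rw [classSum, classSum, ← (Finite.injective_iff_bijective.1 hτinj).sum_comp (fun c => (Nat.card k : ℚ) ^ ell (m • oneDiv hK + clRep c)),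
    Finset.mul_sum]
  refine Finset.sum_congr rfl fun c _ => ?_
  rw [← zpow_natCast, ← zpow_natCast, ← zpow_add₀ hq0, hell c]

/-- The functional equation of the numerator. -/
theorem numC_reflect (n : ℤ) :
    numC k K (2 * genus k K - n) = (Nat.card k : ℚ) ^ ((genus k K : ℤ) - n) * numC k K n := by
  have := finite_Cl0 hK
  have := Fintype.ofFinite (Cl0 k K)
  set q : ℚ := (Nat.card k : ℚ) with hq
  have hq0 : q ≠ 0 := Nat.cast_ne_zero.2 (by have := one_lt_card (k := k); omega)
  have hq1 : q - 1 ≠ 0 := by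
    rw [sub_ne_zero, hq]; exact_mod_cast (one_lt_card (k := k)).ne'
  set g : ℤ := ((genus k K : ℕ) : ℤ)
  have hc : ∀ i : ℤ, (q - 1) * numC k K i =
      classSum hK i - (q + 1) * classSum hK (i - 1) + q * classSum hK (i - 2) := fun i => by
    rw [numC, mul_add, mul_sub, ← mul_assoc, ← mul_assoc, mul_comm (q - 1) (q + 1), mul_comm (q - 1) q,
      mul_assoc, mul_assoc, effZ_eq hK, effZ_eq hK, effZ_eq hK]
    ring
  refine mul_left_cancel₀ hq1 ?_
  rw [mul_left_comm, hc, hc, classSum_reflect hK (2 * g - n), classSum_reflect hK (2 * g - n - 1),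
    classSum_reflect hK (2 * g - n - 2)]
  rw [show 2 * g - 2 - (2 * g - n) = n - 2 by ring, show 2 * g - 2 - (2 * g - n - 1) = n - 1 by ring,
    show 2 * g - 2 - (2 * g - n - 2) = n by ring, show 2 * g - n + 1 - g = (g - n) + 1 by ring,
    show 2 * g - n - 1 + 1 - g = g - n by ring, show 2 * g - n - 2 + 1 - g = (g - n) + (-1) by ring,
    zpow_add₀ hq0, zpow_add₀ hq0, zpow_one, zpow_neg_one]
  field_simp
  ring

omit hK in
lemma numC_of_neg {n : ℤ} (h : n < 0) : numC k K n = 0 := by
  simp only [numC, effZ]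
  rw [if_pos h, if_pos (by omega), if_pos (by omega)]; ring

lemma numC_zero : numC k K 0 = 1 := by
  simp only [numC, effZ]
  rw [if_neg (by omega), if_pos (by omega), if_pos (by omega), Int.toNat_zero, effDivCount_zero hK]
  simp

lemma coeff_numerZ_eq_zero {n : ℕ} (hn : 2 * genus k K < n) : PowerSeries.coeff n (numerZ k K) = 0 := by
  have h := numC_reflect hK (2 * (genus k K : ℤ) - n)
  rw [sub_sub_cancel, numC_of_neg (n := 2 * (genus k K : ℤ) - n) (by omega), mul_zero] at h
  exact_mod_cast (coeff_numerZ (k := k) (K := K) n).trans h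

lemma coeff_numerZ_top : PowerSeries.coeff (2 * genus k K) (numerZ k K) = (Nat.card k : ℤ) ^ genus k K := by
  have h := numC_reflect hK 0
  rw [numC_zero hK, sub_zero, sub_zero, mul_one, zpow_natCast] at h
  have h' := coeff_numerZ (k := k) (K := K) (2 * genus k K)
  push_cast at h'
  rw [h] at h'
  exact_mod_cast h'

lemma coeff_numerZ_zero : PowerSeries.coeff 0 (numerZ k K) = 1 := by
  exact_mod_cast (coeff_numerZ (k := k) (K := K) 0).trans (numC_zero hK)

lemma coeff_numerZ_reflect {i : ℕ} (hi : i ≤ 2 * genus k K) :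
    (((PowerSeries.coeff (2 * genus k K - i) (numerZ k K) : ℤ)) : ℚ) =
        (Nat.card k : ℚ) ^ ((genus k K : ℤ) - i) * (((PowerSeries.coeff i (numerZ k K) : ℤ)) : ℚ) := by
  rw [coeff_numerZ, coeff_numerZ, Nat.cast_sub hi]
  push_cast
  exact numC_reflect hK i

/-- The numerator as a polynomial. -/
noncomputable def lPoly (k K : Type*) [Field k] [Field K] [Algebra k K] : Polynomial ℤ :=
  PowerSeries.trunc (2 * genus k K + 1) (numerZ k K)

lemma coe_lPoly : (lPoly k K : PowerSeries ℤ) = numerZ k K := by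
  ext n
  rw [lPoly, Polynomial.coeff_coe, PowerSeries.coeff_trunc]
  split_ifs with h
  · rfl
  · exact (coeff_numerZ_eq_zero hK (by omega)).symm

lemma natDegree_lPoly : (lPoly k K).natDegree = 2 * genus k K := by
  refine Polynomial.natDegree_eq_of_le_of_coeff_ne_zero
    (Nat.lt_succ_iff.1 (PowerSeries.natDegree_trunc_lt _ _)) ?_
  rw [lPoly, PowerSeries.coeff_trunc, if_pos (by omega), coeff_numerZ_top hK]
  exact pow_ne_zero _ (by have := one_lt_card (k := k); omega)

/-- `L(1) = h`. -/
theorem eval_one_lPoly (p : Polynomial ℤ) (hp : (p : PowerSeries ℤ) = numerZ k K) :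
    p.eval 1 = (classNum k K : ℤ) := by
  obtain ⟨e, c₁, D₁, he, hD₁, hdvd, hA⟩ := effCount_pole_form hK
  have he1 : e = 1 := by
    have := hdvd (oneDiv hK)
    rw [deg_oneDiv] at this
    exact Nat.dvd_one.1 (by exact_mod_cast this)
  subst he1
  obtain ⟨pc, hpc, hev⟩ := exists_polynomial_of_eventually
    (A := PowerSeries.map (Int.castRingHom ℂ) (zetaZ k K)) (J := 2 * genus k K) one_pos
    (Q := (Nat.card k : ℂ)) (c₁ := c₁) (c₀ := -(classNum k K : ℂ) / ((Nat.card k : ℂ) - 1)) fun n hn => by
      rw [PowerSeries.coeff_map, zetaZ, PowerSeries.coeff_mk, ← hA n hn]; simp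
  have heq : p.map (Int.castRingHom ℂ) = pc := by
    apply Polynomial.coe_injective ℂ
    rw [Polynomial.polynomial_map_coe, hpc, hp, numerZ]
    simp [mul_assoc]
  have hq1 : (Nat.card k : ℂ) - 1 ≠ 0 := by
    rw [sub_ne_zero]; exact_mod_cast (one_lt_card (k := k)).ne'
  have h2 : ((p.eval 1 : ℤ) : ℂ) = (classNum k K : ℂ) := by
    rw [show ((p.eval 1 : ℤ) : ℂ) = (p.map (Int.castRingHom ℂ)).eval 1 by simp, heq, hev rfl,
      div_mul_eq_mul_div, div_eq_iff hq1]
    ring
  exact_mod_cast h2

omit hK in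
/-- A multiset stable under `a ↦ q/a` with the right product pairs up. -/
lemma exists_pairing {q : ℂ} (hq : q ≠ 0) : ∀ (g : ℕ) (M : Multiset ℂ), M.card = 2 * g →
    M.map (fun a => q / a) = M → M.prod = q ^ g →
    ∃ L : List ℂ, L.length = g ∧ M = (L : Multiset ℂ) + (L.map (fun a => q / a) : List ℂ) := by
  classical
  intro g
  induction g with
  | zero =>
    intro M hM _ _
    exact ⟨[], rfl, by simp [Multiset.card_eq_zero.1 hM]⟩
  | succ g ih =>
    intro M hM hmap hprod
    have hM0 : (0 : ℂ) ∉ M := fun h => pow_ne_zero (g + 1) hq (hprod ▸ Multiset.prod_eq_zero h)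
    obtain ⟨a, ha⟩ : ∃ a, a ∈ M ∧ (q / a = a → 2 ≤ M.count a) := by
      by_contra hne
      push Not at hne
      have hall : ∀ a ∈ M, q / a = a ∧ M.count a = 1 := fun a ha =>
        ⟨(hne a ha).1, by have := (hne a ha).2; have := Multiset.one_le_count_iff_mem.2 ha; omega⟩
      have hnd : M.Nodup := Multiset.nodup_iff_count_le_one.2 fun a => by
        by_cases h : a ∈ M
        · exact (hall a h).2.le
        · simp [Multiset.count_eq_zero.2 h]
      obtain ⟨s, hs⟩ := IsAlgClosed.exists_pow_nat_eq q (n := 2) two_pos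
      have hsub : ∀ a ∈ M, a = s ∨ a = -s := fun a ha => by
        have h := (hall a ha).1
        rw [div_eq_iff (fun e : a = 0 => hM0 (e ▸ ha)), ← hs, pow_two] at h
        exact mul_self_eq_mul_self_iff.1 h.symm
      have hle : M.toFinset ⊆ {s, -s} := fun a ha => by simpa using hsub a (Multiset.mem_toFinset.1 ha)
      have hc := Finset.card_le_card hle
      rw [Multiset.toFinset_card_of_nodup hnd, hM] at hc
      have hs2 : ({s, -s} : Finset ℂ).card ≤ 2 := Finset.card_le_two
      have hg : g = 0 := by omega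
      subst hg
      have heq : M.toFinset = {s, -s} := Finset.eq_of_subset_of_card_le hle (by
        rw [Multiset.toFinset_card_of_nodup hnd, hM]; omega)
      have hne' : s ≠ -s := by
        intro e
        have hc2 : M.toFinset.card = 2 := by rw [Multiset.toFinset_card_of_nodup hnd, hM]
        rw [heq, ← e, Finset.pair_eq_singleton, Finset.card_singleton] at hc2
        omega
      have hp : M.prod = s * -s := by
        rw [← hnd.dedup, ← Multiset.toFinset_val, Finset.prod_val, heq, Finset.prod_pair hne']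
        rfl
      rw [hp, pow_one, ← hs] at hprod
      exact hq (by rw [← hs]; linear_combination -(1 / 2 : ℂ) * hprod)
    have haq : q / a ∈ M.erase a := by
      by_cases h : q / a = a
      · rw [h, ← Multiset.count_pos, Multiset.count_erase_self]; have := ha.2 h; omega
      · refine (Multiset.mem_erase_of_ne h).2 ?_
        rw [← hmap]; exact Multiset.mem_map_of_mem _ ha.1
    set M' := (M.erase a).erase (q / a) with hM'
    have hsplit : M = a ::ₘ (q / a) ::ₘ M' := by
      rw [hM', Multiset.cons_erase haq, Multiset.cons_erase ha.1]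
    have ha0 : a ≠ 0 := fun e => hM0 (e ▸ ha.1)
    have hqq : q / (q / a) = a := by field_simp
    obtain ⟨L, hL, hL'⟩ := ih M' (by
        rw [hsplit, Multiset.card_cons, Multiset.card_cons] at hM; omega)
      (by
        rw [hsplit, Multiset.map_cons, Multiset.map_cons, hqq, Multiset.cons_swap, Multiset.cons_inj_right,
          Multiset.cons_inj_right] at hmap
        exact hmap)
      (by
        rw [hsplit, Multiset.prod_cons, Multiset.prod_cons, ← mul_assoc, mul_div_cancel₀ _ ha0, pow_succ'] at hprod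
        exact mul_left_cancel₀ hq hprod)
    refine ⟨a :: L, by simp [hL], ?_⟩
    rw [hsplit, hL']
    simp [List.map_cons, ← Multiset.cons_coe, Multiset.cons_add, Multiset.add_cons, Multiset.cons_swap a]

omit hK in
lemma reflect_prod_linear (M : Multiset ℂ) :
    Polynomial.reflect M.card (M.map fun a => 1 - Polynomial.C a * Polynomial.X).prod =
      (M.map fun a => Polynomial.X - Polynomial.C a).prod ∧
      (M.map fun a => 1 - Polynomial.C a * Polynomial.X).prod.natDegree ≤ M.card := by
  induction M using Multiset.induction_on with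
  | empty => simp [Polynomial.reflect_one]
  | cons a M ih =>
    have hlin : (1 - Polynomial.C a * Polynomial.X).natDegree ≤ 1 := by
      refine (Polynomial.natDegree_sub_le _ _).trans ?_
      simp only [Polynomial.natDegree_one]
      exact max_le zero_le_one ((Polynomial.natDegree_C_mul_le _ _).trans Polynomial.natDegree_X_le)
    refine ⟨?_, ?_⟩
    · rw [Multiset.map_cons, Multiset.prod_cons, Multiset.map_cons, Multiset.prod_cons, Multiset.card_cons,
        add_comm M.card, Polynomial.reflect_mul _ _ hlin ih.2, ih.1]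
      congr 1
      rw [Polynomial.reflect_sub, Polynomial.reflect_C_mul]
      congr 1
      · rw [← Polynomial.C_1, Polynomial.reflect_C, Polynomial.C_1, one_mul, pow_one]
      · rw [← pow_one (Polynomial.X : Polynomial ℂ), Polynomial.reflect_monomial, Polynomial.revAt_le le_rfl]
        simp
    · rw [Multiset.map_cons, Multiset.prod_cons, Multiset.card_cons]
      exact Polynomial.natDegree_mul_le.trans (by omega)

/-- The reciprocal roots. -/
theorem exists_recip_roots : ∃ α : Fin (2 * genus k K) → ℂ, (∀ i, IsIntegral ℤ (α i)) ∧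
    PowerSeries.map (Int.castRingHom ℂ) (numerZ k K) =
      ((∏ i, (1 - Polynomial.C (α i) * Polynomial.X) : Polynomial ℂ) : PowerSeries ℂ) ∧
    ∀ i, α i * α (Fin.rev i) = (Nat.card k : ℂ) := by
  classical
  set g := genus k K with hg
  set q : ℂ := (Nat.card k : ℂ) with hq
  have hq0 : q ≠ 0 := Nat.cast_ne_zero.2 (by have := one_lt_card (k := k); omega)
  set pc := (lPoly k K).map (Int.castRingHom ℂ) with hpc
  set RZ := Polynomial.reflect (2 * g) (lPoly k K) with hRZ
  have hcoef : ∀ i, (lPoly k K).coeff i = PowerSeries.coeff i (numerZ k K) := fun i => by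
    rw [← coe_lPoly hK, Polynomial.coeff_coe]
  have hdegp := natDegree_lPoly hK
  have hRdeg : RZ.natDegree ≤ 2 * g := (Polynomial.natDegree_reflect_le).trans (by rw [max_eq_left hdegp.le])
  have hRmon : RZ.Monic := by
    refine Polynomial.monic_of_natDegree_le_of_coeff_eq_one (2 * g) hRdeg ?_
    rw [hRZ, Polynomial.coeff_reflect, Polynomial.revAt_le le_rfl, Nat.sub_self, hcoef, coeff_numerZ_zero hK]
  set R := RZ.map (Int.castRingHom ℂ) with hR
  have hRmonC : R.Monic := hRmon.map _
  have hRn : R.natDegree = 2 * g := by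
    rw [hR, hRmon.natDegree_map]
    exact le_antisymm hRdeg (Polynomial.le_natDegree_of_ne_zero (by
      rw [hRZ, Polynomial.coeff_reflect, Polynomial.revAt_le le_rfl, Nat.sub_self, hcoef,
        coeff_numerZ_zero hK]; exact one_ne_zero))
  set M := R.roots with hM
  have hsplit : R.Splits := IsAlgClosed.splits R
  have hRM : R = (M.map fun a => Polynomial.X - Polynomial.C a).prod :=
    hsplit.eq_prod_roots_of_monic hRmonC
  have hMc : M.card = 2 * g := by rw [hM, Polynomial.splits_iff_card_roots.1 hsplit, hRn]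
  have hRp : Polynomial.reflect (2 * g) pc = R := by rw [hpc, hR, hRZ, Polynomial.reflect_map]
  have hpR : Polynomial.reflect (2 * g) R = pc := by rw [← hRp, Polynomial.reflect_reflect]
  have hpM : pc = (M.map fun a => 1 - Polynomial.C a * Polynomial.X).prod := by
    rw [← hpR, hRM, ← (reflect_prod_linear M).1, hMc, Polynomial.reflect_reflect]
  have hR0 : M.prod = q ^ g := by
    have h : R.coeff 0 = q ^ g := by
      rw [hR, Polynomial.coeff_map, hRZ, Polynomial.coeff_reflect, Polynomial.revAt_le (Nat.zero_le _),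
        Nat.sub_zero, hcoef, hg, coeff_numerZ_top hK]
      simp [hq]
    rw [← h, Polynomial.coeff_zero_eq_eval_zero, hRM, Polynomial.eval_multiset_prod, Multiset.map_map]
    simp only [Function.comp_def, Polynomial.eval_sub, Polynomial.eval_X, Polynomial.eval_C, zero_sub]
    rw [Multiset.prod_map_neg, hMc, pow_mul]; simp
  have hfe : R = Polynomial.C (q ^ g) * pc.comp (Polynomial.C q⁻¹ * Polynomial.X) := by
    ext i
    rw [Polynomial.coeff_C_mul, Polynomial.comp_C_mul_X_coeff, hR, Polynomial.coeff_map, hRZ,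
      Polynomial.coeff_reflect, hpc, Polynomial.coeff_map, hcoef, hcoef]
    rcases le_or_gt i (2 * g) with hi | hi
    · rw [Polynomial.revAt_le hi]
      have h := coeff_numerZ_reflect hK (hg ▸ hi)
      rw [← hg] at h
      have h' := congrArg (fun z : ℚ => (z : ℂ)) h
      push_cast at h'
      simp only [eq_intCast]
      rw [h', zpow_sub₀ hq0, zpow_natCast, zpow_natCast, inv_pow, hq]
      field_simp
    · rw [Polynomial.revAt_eq_self_of_lt hi, coeff_numerZ_eq_zero hK (hg ▸ hi)]
      simp
  have hMmap : M.map (fun a => q / a) = M := by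
    have h0 : ∀ a ∈ M, a ≠ 0 := fun a ha e => pow_ne_zero g hq0 (hR0 ▸ Multiset.prod_eq_zero (e ▸ ha))
    have hcomp : pc.comp (Polynomial.C q⁻¹ * Polynomial.X) =
        Polynomial.C ((M.map fun a => -(a / q)).prod) * ((M.map fun a => q / a).map fun b => Polynomial.X - Polynomial.C b).prod := by
      rw [hpM, Polynomial.multiset_prod_comp, Multiset.map_map, Multiset.map_map,
        map_multiset_prod Polynomial.C, Multiset.map_map, ← Multiset.prod_map_mul]
      refine congrArg Multiset.prod (Multiset.map_congr rfl fun a ha => ?_)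
      have := h0 a ha
      simp only [Function.comp_apply, Polynomial.sub_comp, Polynomial.one_comp, Polynomial.mul_comp,
        Polynomial.C_comp, Polynomial.X_comp, mul_sub]
      rw [← Polynomial.C_mul, show -(a / q) * (q / a) = -1 by field_simp, ← mul_assoc, ← Polynomial.C_mul,
        show a * q⁻¹ = a / q from (div_eq_mul_inv a q).symm]
      simp only [map_neg, map_one]
      ring
    have hne : q ^ g * (M.map fun a => -(a / q)).prod ≠ 0 := by
      refine mul_ne_zero (pow_ne_zero g hq0) (Multiset.prod_ne_zero fun h => ?_)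
      obtain ⟨a, ha, e⟩ := Multiset.mem_map.1 h
      exact neg_ne_zero.2 (div_ne_zero (h0 a ha) hq0) e
    have h : R.roots = M.map (fun a => q / a) := by
      rw [hfe, hcomp, ← mul_assoc, ← Polynomial.C_mul, Polynomial.roots_C_mul _ hne,
        Polynomial.roots_multiset_prod_X_sub_C]
    exact h.symm
  obtain ⟨L, hL, hML⟩ := exists_pairing hq0 g M hMc hMmap hR0
  set l := L ++ (L.map fun a => q / a).reverse with hl
  have hlen : l.length = 2 * g := by simp [hl, hL]; omega
  refine ⟨fun i => l.get (Fin.cast hlen.symm i), fun i => ?_, ?_, fun i => ?_⟩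
  · have hmem : l.get (Fin.cast hlen.symm i) ∈ M := by
      rw [hML, Multiset.mem_add, Multiset.mem_coe, Multiset.mem_coe]
      have := List.get_mem l (Fin.cast hlen.symm i)
      have h' : l.get (Fin.cast hlen.symm i) ∈ L ++ (L.map fun a => q / a).reverse := this
      rwa [List.mem_append, List.mem_reverse] at h'
    have hroot := (Polynomial.mem_roots (hRmonC.ne_zero)).1 hmem
    refine ⟨RZ, hRmon, ?_⟩
    rw [Polynomial.IsRoot.def, hR, Polynomial.eval_map] at hroot
    exact hroot
  · rw [← coe_lPoly hK, ← Polynomial.polynomial_map_coe, ← hpc, hpM]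
    congr 1
    have hperm : (M : Multiset ℂ) = (l : Multiset ℂ) := by
      rw [hML, hl, ← Multiset.coe_add, Multiset.coe_reverse]
    rw [hperm, Multiset.map_coe, Multiset.prod_coe]
    have : List.ofFn (fun i : Fin (2 * g) => 1 - Polynomial.C (l.get (Fin.cast hlen.symm i)) * Polynomial.X) =
        l.map (fun a => 1 - Polynomial.C a * Polynomial.X) := by
      refine List.ext_getElem (by simp [hlen]) fun n h1 h2 => ?_
      simp
    rw [← this, List.prod_ofFn]
  · have hML0 : ∀ a ∈ L, a ≠ 0 := fun a ha e => pow_ne_zero g hq0 (hR0 ▸ Multiset.prod_eq_zero (by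
      rw [hML, Multiset.mem_add, Multiset.mem_coe]; exact Or.inl (e ▸ ha)))
    have hi := i.2
    simp only [List.get_eq_getElem, Fin.val_cast, Fin.val_rev, hl]
    rcases lt_or_ge (i : ℕ) g with h | h
    · rw [List.getElem_append_left (by omega), List.getElem_append_right (by omega)]
      simp only [List.getElem_reverse, List.getElem_map, List.length_map, hL]
      simp only [show g - 1 - (2 * g - (↑i + 1) - g) = (i : ℕ) by omega]
      rw [mul_div_cancel₀ _ (hML0 _ (List.getElem_mem _))]
    · rw [List.getElem_append_right (by omega), List.getElem_append_left (by omega)]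
      simp only [List.getElem_reverse, List.getElem_map, List.length_map, hL]
      simp only [show g - 1 - (↑i - g) = 2 * g - (↑i + 1) by omega]
      rw [div_mul_cancel₀ _ (hML0 _ (List.getElem_mem _))]

end Groth.Agent.FFLib
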