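import Groth.Agent.FFLib.Degree

/-!
# The spaces `A(D)`, `L(D)`, and the degree of a principal divisor
-/

open Polynomial WithZero Module

namespace Groth.Agent.FFLib

open FunFld

variable {k K : Type*} [Field k] [Field K] [Algebra k K]

lemma mem_L {D : Divisor k K} {x : K} : x ∈ L D ↔ ∀ P : Place k K, P.1 x ≤ exp (D P) := Iff.rfl

lemma mem_AD {D : Divisor k K} {a : Place k K → K} :
    a ∈ AD D ↔ ∀ P : Place k K, P.1 (a P) ≤ exp (D P) := Iff.rfl

lemma mem_adele {a : Place k K → K} :
    a ∈ adele k K ↔ ∀ᶠ P : Place k K in Filter.cofinite, P.1 (a P) ≤ 1 := Iff.rfl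

lemma L_eq_comap (D : Divisor k K) : L D = (AD D).comap (diag k K) := rfl

lemma mem_L_iff {D : Divisor k K} {x : K} (hx : x ≠ 0) :
    x ∈ L D ↔ ∀ P : Place k K, 0 ≤ P.ord x + D P := by
  rw [mem_L]
  exact forall_congr' fun P => by rw [v_le_exp_iff P hx]; omega

lemma L_mono {D E : Divisor k K} (h : D ≤ E) : L D ≤ L E :=
  fun _ hx P => (hx P).trans (exp_le_exp.2 (h P))

lemma AD_mono {D E : Divisor k K} (h : D ≤ E) : AD D ≤ AD E :=
  fun _ hx P => (hx P).trans (exp_le_exp.2 (h P))

lemma AD_le_adele (D : Divisor k K) : AD D ≤ adele k K := fun a ha => by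
  rw [mem_adele, Filter.eventually_cofinite]
  refine D.support.finite_toSet.subset fun P hP => ?_
  simp only [Finset.mem_coe, Finsupp.mem_support_iff]
  intro h0
  apply hP
  have := ha P
  rwa [h0, exp_zero] at this

lemma AD_sup (D E : Divisor k K) : AD (D ⊔ E) = AD D ⊔ AD E := by
  classical
  refine le_antisymm (fun a ha => ?_) (sup_le (AD_mono le_sup_left) (AD_mono le_sup_right))
  refine Submodule.mem_sup.2 ⟨fun P => if E P ≤ D P then a P else 0, fun P => ?_,
    fun P => if E P ≤ D P then 0 else a P, fun P => ?_, ?_⟩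
  · dsimp only
    split_ifs with h
    · simpa [Finsupp.sup_apply, max_eq_left h] using ha P
    · simp
  · dsimp only
    split_ifs with h
    · simp
    · simpa [Finsupp.sup_apply, max_eq_right (le_of_not_ge h)] using ha P
  · funext P
    simp only [Pi.add_apply]
    split_ifs <;> simp

/-- One place at a time: `A(D + P) / A(D)` is the residue field at `P`. -/
lemma AD_step_equiv (D : Divisor k K) (P : Place k K) :
    Nonempty (quo (AD D) (AD (D + Finsupp.single P 1)) ≃ₗ[k] IsLocalRing.ResidueField P.O) := by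
  classical
  obtain ⟨t, ht0, -, htv⟩ := exists_uniformizer P
  set n := D P + 1 with hn
  have hvn : P.1 (t ^ n) = exp (-n) := by rw [map_zpow₀, htv, ← exp_zsmul]; simp
  have hDP : (D + Finsupp.single P 1 : Divisor k K) P = n := by simp [hn]
  let f : AD (D + Finsupp.single P 1) →ₗ[k] P.O :=
    { toFun := fun a => ⟨t ^ n * (a : Place k K → K) P, by
        show P.1 _ ≤ 1
        rw [map_mul, hvn]
        calc exp (-n) * P.1 ((a : Place k K → K) P)
            ≤ exp (-n) * exp n := mul_le_mul' le_rfl ((a.2 P).trans_eq (by rw [hDP]))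
          _ = 1 := by rw [← exp_add]; simp⟩
      map_add' := fun a b => Subtype.ext (mul_add _ _ _)
      map_smul' := fun c a => Subtype.ext (by
        show t ^ n * (c • (a : Place k K → K) P) = _
        rw [RingHom.id_apply, coe_smul_O, mul_smul_comm]) }
  let g := (resL P).comp f
  have hg : Function.Surjective g := by
    intro r
    obtain ⟨y, rfl⟩ := IsLocalRing.residue_surjective r
    refine ⟨⟨Pi.single P ((t ^ n)⁻¹ * y), fun Q => ?_⟩, ?_⟩
    · rcases eq_or_ne Q P with rfl | hQ
      · rw [Pi.single_eq_same, map_mul, map_inv₀, hvn, hDP, ← exp_neg, neg_neg]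
        exact mul_le_of_le_one_right' y.2
      · rw [Pi.single_eq_of_ne hQ, map_zero]; exact zero_le
    · refine congrArg (resL P) (Subtype.ext ?_)
      show t ^ n * Pi.single (M := fun _ : Place k K => K) P ((t ^ n)⁻¹ * (y : K)) P = _
      rw [Pi.single_eq_same, mul_inv_cancel_left₀ (zpow_ne_zero _ ht0)]
  have hker : LinearMap.ker g = (AD D).comap (AD (D + Finsupp.single P 1)).subtype := by
    ext a
    rw [LinearMap.mem_ker, Submodule.mem_comap]
    show IsLocalRing.residue P.O (f a) = 0 ↔ _
    rw [residue_eq_zero_iff_lt]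
    show P.1 (t ^ n * (a : Place k K → K) P) < 1 ↔ (a : Place k K → K) ∈ AD D
    rw [map_mul, hvn]
    constructor
    · intro h Q
      rcases eq_or_ne Q P with rfl | hQ
      · rcases eq_or_ne ((a : Place k K → K) Q) 0 with h0 | h0
        · simp [h0]
        rw [v_eq Q h0, exp_le_exp]
        rw [v_eq Q h0, ← exp_add, ← exp_zero, exp_lt_exp] at h
        omega
      · simpa [Finsupp.single_eq_of_ne hQ] using a.2 Q
    · intro h
      calc exp (-n) * P.1 ((a : Place k K → K) P) ≤ exp (-n) * exp (D P) := mul_le_mul' le_rfl (h P)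
        _ < 1 := by rw [← exp_add, ← exp_zero, exp_lt_exp]; omega
  exact ⟨(Submodule.quotEquivOfEq _ _ hker.symm).trans (g.quotKerEquivOfSurjective hg)⟩

variable (hK : FG1 k K)
include hK

lemma finite_quo_AD (D E : Divisor k K) (h : D ≤ E) :
    FiniteDimensional k (quo (AD D) (AD E)) ∧
      (finrank k (quo (AD D) (AD E)) : ℤ) = E.deg - D.deg := by
  refine divisor_induction (motive := fun D E => FiniteDimensional k (quo (AD D) (AD E)) ∧
      (finrank k (quo (AD D) (AD E)) : ℤ) = E.deg - D.deg) (fun D => ?_) (fun D E P h ih => ?_) D E h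
  · have : Subsingleton (quo (AD D) (AD D)) :=
      Submodule.Quotient.subsingleton_iff.2 (Submodule.comap_subtype_self (AD D))
    refine ⟨inferInstance, ?_⟩
    rw [Module.finrank_zero_of_subsingleton]
    simp
  · obtain ⟨h1, h2⟩ := ih
    obtain ⟨e⟩ := AD_step_equiv E P
    have := finiteDimensional_residue hK P
    have h3 : FiniteDimensional k (quo (AD E) (AD (E + Finsupp.single P 1))) :=
      e.symm.finiteDimensional
    have hle : E ≤ E + Finsupp.single P 1 :=
      le_add_of_nonneg_right (Finsupp.single_nonneg.2 zero_le_one)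
    obtain ⟨h4, h5⟩ := finite_quo_trans (AD D) (AD E) (AD (E + Finsupp.single P 1))
      (AD_mono h) (AD_mono hle)
    refine ⟨h4, ?_⟩
    rw [h5, e.finrank_eq]
    push_cast
    rw [h2, deg_add, deg_single]
    show _ + (P.deg : ℤ) = _
    ring

omit hK in
lemma L_zero (hK : IsFunctionField k K) : L (0 : Divisor k K) = 1 := by
  ext x
  rw [Submodule.mem_one]
  constructor
  · intro hx
    by_contra h
    obtain ⟨P, hP⟩ := exists_pole hK (x := x) fun ⟨c, hc⟩ => h ⟨c, hc⟩
    exact absurd (hx P) (by rw [not_le, Finsupp.zero_apply, exp_zero, one_lt_v_iff]; exact hP)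
  · rintro ⟨c, rfl⟩ P
    simpa using P.2.1 c

lemma finite_quo_L (D E : Divisor k K) (h : D ≤ E) :
    FiniteDimensional k (quo (L D) (L E)) ∧
      (finrank k (quo (L D) (L E)) : ℤ) ≤ E.deg - D.deg := by
  obtain ⟨h1, h2⟩ := finite_quo_AD hK D E h
  obtain ⟨h3, h4⟩ := finite_quo_comap (diag k K) (AD D) (AD E)
  refine ⟨h3, ?_⟩
  rw [← h2]
  exact_mod_cast h4

/-- The functions without poles form a finite-dimensional space. -/
lemma finiteDimensional_L_zero : FiniteDimensional k (L (0 : Divisor k K)) := by
  classical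
  obtain ⟨x, hx, -⟩ := id hK
  have hx0 : x ≠ 0 := fun e => hx (e ▸ isAlgebraic_zero)
  have := finite_adjoin hK hx
  obtain ⟨P, hP⟩ := exists_zero_of_tr hK hx
  have hPx : P.1 x < 1 := (v_lt_one_iff P hx0).2 hP
  refine Module.rank_lt_aleph0_iff.1 (lt_of_le_of_lt (rank_le (n :=
    finrank (IntermediateField.adjoin k ({x} : Set K)) K) fun s hs => ?_) (Cardinal.natCast_lt_aleph0))
  have hli : LinearIndependent (IntermediateField.adjoin k ({x} : Set K))
      (fun i : s => ((i : L (0 : Divisor k K)) : K)) := by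
    refine linearIndependent_of_places hx {P}
      (fun Q hQ => by rw [Finset.mem_singleton.1 hQ]; exact hPx) _
      (fun Q _ i => by simpa using (i : L (0 : Divisor k K)).2 Q) fun c hc => ?_
    set w : L (0 : Divisor k K) := ∑ i : s, c i • (i : L (0 : Divisor k K))
    have hw : w = 0 := by
      by_contra hne
      have hw0 : (w : K) ≠ 0 := fun e => hne (Subtype.ext e)
      have h1 : P.1 (w : K) < 1 := by
        refine lt_of_le_of_lt ?_ hPx
        simpa [w] using hc P (Finset.mem_singleton_self P)
      obtain ⟨Q, hQ⟩ := exists_pole_of_tr hK (transcendental_of_v_lt hK P hw0 h1)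
      have h2 := w.2 Q
      rw [Finsupp.zero_apply, exp_zero, v_le_one_iff] at h2
      omega
    exact funext (Fintype.linearIndependent_iff.1 hs c hw)
  simpa using hli.fintype_card_le_finrank

lemma finiteDimensional_L (D : Divisor k K) : FiniteDimensional k (L D) := by
  have h0 : FiniteDimensional k (L (0 : Divisor k K)) := finiteDimensional_L_zero hK
  have : FiniteDimensional k (L (D ⊔ 0)) := by
    have := (finite_quo_L hK 0 (D ⊔ 0) le_sup_right).1
    exact finite_of_finite_quo (L 0) (L (D ⊔ 0)) (L_mono le_sup_right)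
  exact Submodule.finiteDimensional_of_le (L_mono le_sup_left : L D ≤ L (D ⊔ 0))

lemma finrank_quo_L (D E : Divisor k K) (h : D ≤ E) :
    (finrank k (quo (L D) (L E)) : ℤ) = ell E - ell D := by
  have := finiteDimensional_L hK E
  have h2 : finrank k (quo (L D) (L E)) + ell D = ell E :=
    finrank_quo_add_of_finite (L D) (L E) (L_mono h)
  omega

lemma ell_mono {D E : Divisor k K} (h : D ≤ E) : ell D ≤ ell E := by
  have := finiteDimensional_L hK E
  exact Submodule.finrank_mono (L_mono h)

lemma ell_sub_le (D E : Divisor k K) (h : D ≤ E) :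
    (ell E : ℤ) - ell D ≤ E.deg - D.deg := by
  rw [← finrank_quo_L hK D E h]
  exact (finite_quo_L hK D E h).2

lemma ell_le_deg_add {D : Divisor k K} (h : 0 ≤ D) :
    (ell D : ℤ) ≤ D.deg + ell (0 : Divisor k K) := by
  have := ell_sub_le hK 0 D h
  rw [deg_zero] at this
  omega

omit hK in
lemma ell_zero (hK : IsFunctionField k K) : ell (0 : Divisor k K) = 1 := by
  rw [ell, L_zero hK]
  exact (LinearEquiv.finrank_eq (LinearEquiv.ofInjective (Algebra.linearMap k K)
    (algebraMap k K).injective)).symm.trans (finrank_self k) |> fun h => by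
      rw [Submodule.one_eq_range]; exact h

omit hK in
lemma ell_le_deg_add_one (hK : IsFunctionField k K) {D : Divisor k K} (h : 0 ≤ D) : (ell D : ℤ) ≤ D.deg + 1 := by
  have := ell_sub_le hK 0 D h
  rw [ell_zero hK, deg_zero] at this
  push_cast at this
  omega

/-! ## Degree of principal divisors -/

/-- The divisor of poles of `x`. -/
noncomputable def pole (x : K) : Divisor k K :=
  (FunFld.div k x).mapRange (fun n => max (-n) 0) (by simp)

lemma pole_apply (x : K) (P : Place k K) : pole (k := k) x P = max (-P.ord x) 0 := by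
  rw [pole, Finsupp.mapRange_apply, div_apply hK]

omit hK in
lemma pole_nonneg (x : K) : 0 ≤ pole (k := k) x := fun P => by
  simp [pole, Finsupp.mapRange_apply]

lemma mem_L_pole (x : K) : x ∈ L (pole (k := k) x) := by
  rcases eq_or_ne x 0 with rfl | hx
  · exact zero_mem _
  rw [mem_L_iff hx]
  intro P
  rw [pole_apply hK]
  omega

lemma div_eq_pole_sub (x : K) : FunFld.div k x = pole x⁻¹ - pole x := by
  ext P
  rw [Finsupp.sub_apply, pole_apply hK, pole_apply hK, div_apply hK, ord_inv]
  omega

omit hK in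
lemma adjoin_inv (x : K) :
    IntermediateField.adjoin k ({x⁻¹} : Set K) = IntermediateField.adjoin k ({x} : Set K) := by
  refine le_antisymm ?_ ?_ <;> rw [IntermediateField.adjoin_simple_le_iff]
  · exact inv_mem (IntermediateField.mem_adjoin_simple_self k x)
  · have := inv_mem (IntermediateField.mem_adjoin_simple_self k x⁻¹)
    rwa [inv_inv] at this

lemma finrank_le_deg_pole_aux {x : K} (hx : Transcendental k x) :
    ∃ C : Divisor k K, 0 ≤ C ∧ ∀ l : ℕ,
      (l + 1) * finrank (IntermediateField.adjoin k ({x} : Set K)) K ≤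
        ell (l • pole (k := k) x + C) := by
  classical
  have := finite_adjoin hK hx
  let b := Module.finBasis (IntermediateField.adjoin k ({x} : Set K)) K
  refine ⟨∑ i, pole (b i), Finset.sum_nonneg fun i _ => pole_nonneg _, fun l => ?_⟩
  have := finiteDimensional_L hK (l • pole x + ∑ i, pole (k := k) (b i))
  let w : Fin (l + 1) × Fin (finrank (IntermediateField.adjoin k ({x} : Set K)) K) → K :=
    fun ji => x ^ (ji.1 : ℕ) * b ji.2
  have hw : ∀ ji, w ji ∈ L (l • pole x + ∑ i, pole (k := k) (b i)) := by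
    intro ji P
    simp only [w, map_mul, map_pow, Finsupp.add_apply, exp_add]
    refine mul_le_mul' ?_ ?_
    · calc P.1 x ^ (ji.1 : ℕ) ≤ exp (pole x P) ^ (ji.1 : ℕ) :=
            pow_le_pow_left' (mem_L_pole hK x P) _
        _ ≤ exp ((l • pole (k := k) x) P) := by
            rw [← exp_nsmul, exp_le_exp, Finsupp.smul_apply, nsmul_eq_mul, nsmul_eq_mul]
            exact mul_le_mul_of_nonneg_right (by exact_mod_cast Nat.lt_succ_iff.1 ji.1.2)
              (pole_nonneg x P)
    · refine (mem_L_pole hK (b ji.2) P).trans ?_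
      rw [exp_le_exp, Finsupp.finsetSum_apply]
      exact Finset.single_le_sum (f := fun i => pole (k := k) (b i) P)
        (fun i _ => pole_nonneg (b i) P) (Finset.mem_univ _)
  have hli : LinearIndependent k w := by
    rw [Fintype.linearIndependent_iff]
    intro c hc ji
    let p : Fin (finrank (IntermediateField.adjoin k ({x} : Set K)) K) → k[X] :=
      fun i => ∑ j : Fin (l + 1), monomial (j : ℕ) (c (j, i))
    have hmem : ∀ q : k[X], aeval x q ∈ IntermediateField.adjoin k ({x} : Set K) := fun q =>
      IntermediateField.algebra_adjoin_le_adjoin k {x} (Algebra.adjoin_singleton_eq_range_aeval k x ▸ ⟨q, rfl⟩)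
    have h0 : ∑ i, (⟨_, hmem (p i)⟩ : IntermediateField.adjoin k ({x} : Set K)) • b i = 0 := by
      rw [← hc, Fintype.sum_prod_type, Finset.sum_comm]
      refine Finset.sum_congr rfl fun i _ => ?_
      rw [Algebra.smul_def]
      show aeval x (p i) * b i = _
      simp only [p, map_sum, aeval_monomial, Finset.sum_mul, w, Algebra.smul_def, mul_assoc]
    have h1 := congrArg Subtype.val (Fintype.linearIndependent_iff.1 b.linearIndependent _ h0 ji.2)
    have h2 : p ji.2 = 0 := by
      by_contra h
      exact hx ⟨_, h, h1⟩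
    have h3 := congrArg (fun q => Polynomial.coeff q (ji.1 : ℕ)) h2
    simpa [p, coeff_monomial, Fin.val_inj, Finset.sum_ite_eq'] using h3
  have hli' : LinearIndependent k (fun ji => (⟨w ji, hw ji⟩ : L (l • pole x + ∑ i, pole (k := k) (b i)))) :=
    LinearIndependent.of_comp (Submodule.subtype _) hli
  simpa [ell] using hli'.fintype_card_le_finrank

lemma deg_pole {x : K} (hx : Transcendental k x) :
    (pole (k := k) x).deg = finrank (IntermediateField.adjoin k ({x} : Set K)) K := by
  classical
  refine le_antisymm ?_ ?_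
  · have hx' : Transcendental k x⁻¹ := fun h => hx (inv_inv x ▸ h.inv)
    have h1 := sum_ord_mul_deg_le hK hx' (pole (k := k) x).support (fun P hP => by
      rw [Finsupp.mem_support_iff, pole_apply hK] at hP
      rw [ord_inv]; omega)
    rw [adjoin_inv] at h1
    refine le_trans (le_of_eq ?_) h1
    refine Finset.sum_congr rfl fun P hP => ?_
    rw [Finsupp.mem_support_iff, pole_apply hK] at hP
    rw [pole_apply hK, ord_inv, max_eq_left (by omega)]
  · obtain ⟨C, hC, hCl⟩ := finrank_le_deg_pole_aux hK hx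
    by_contra hlt
    rw [not_le] at hlt
    set n := finrank (IntermediateField.adjoin k ({x} : Set K)) K
    set d := (pole (k := k) x).deg
    have hd : 0 ≤ d := deg_nonneg (pole_nonneg x)
    have hc : 0 ≤ C.deg := deg_nonneg hC
    obtain ⟨l, hl⟩ : ∃ l : ℕ, C.deg + ell (0 : Divisor k K) < (l : ℤ) :=
      ⟨(C.deg + ell (0 : Divisor k K) + 1).toNat, by omega⟩
    have h1 := hCl l
    have h2 := ell_le_deg_add hK (D := l • pole (k := k) x + C)
      (add_nonneg (nsmul_nonneg (pole_nonneg x) l) hC)
    rw [deg_add, deg_nsmul] at h2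
    have h3 : ((l : ℤ) + 1) * n ≤ l * d + C.deg + ell (0 : Divisor k K) :=
      le_trans (by exact_mod_cast h1) h2
    nlinarith

lemma deg_div (x : K) : (FunFld.div k x).deg = 0 := by
  by_cases htr : Transcendental k x
  swap
  · have h0 : FunFld.div k x = 0 := Finsupp.ext fun P => by
      rw [div_apply hK, Finsupp.zero_apply]
      by_contra h
      exact htr (transcendental_of_ord hK P h)
    rw [h0, deg_zero]
  have htr' : Transcendental k x⁻¹ := fun h => htr (inv_inv x ▸ h.inv)
  rw [div_eq_pole_sub hK, deg_sub, deg_pole hK htr, deg_pole hK htr', adjoin_inv, sub_self]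

/-! ## Multiplication by a function -/

lemma mul_mem_L_iff {D : Divisor k K} {x y : K} (hx : x ≠ 0) :
    x * y ∈ L D ↔ y ∈ L (D + FunFld.div k x) := by
  rcases eq_or_ne y 0 with rfl | hy
  · simp
  rw [mem_L_iff hy, mem_L_iff (mul_ne_zero hx hy)]
  refine forall_congr' fun P => ?_
  rw [ord_mul P hx hy, Finsupp.add_apply, div_apply hK]
  omega

lemma ell_add_div (D : Divisor k K) {x : K} (hx : x ≠ 0) :
    ell (D + FunFld.div k x) = ell D := by
  let e : K ≃ₗ[k] K :=
    LinearEquiv.ofLinear (LinearMap.mulLeft k x) (LinearMap.mulLeft k x⁻¹)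
      (by ext y; simp [mul_inv_cancel_left₀ hx]) (by ext y; simp [inv_mul_cancel_left₀ hx])
  have : L (D + FunFld.div k x) = (L D).comap e.toLinearMap := by
    ext y
    exact (mul_mem_L_iff hK hx).symm
  rw [ell, ell, this, LinearEquiv.finrank_eq (e.ofSubmodule' (L D))]

lemma exists_effective_of_ell_pos {D : Divisor k K} (h : 0 < ell D) :
    ∃ z : K, z ≠ 0 ∧ 0 ≤ D + FunFld.div k z := by
  have := finiteDimensional_L hK D
  obtain ⟨⟨z, hz⟩, hz0⟩ := (Module.finrank_pos_iff_exists_ne_zero (R := k) (M := L D)).1 h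
  have hz0' : z ≠ 0 := fun e => hz0 (Subtype.ext e)
  refine ⟨z, hz0', fun P => ?_⟩
  have := (mem_L_iff hz0').1 hz P
  rw [Finsupp.zero_apply, Finsupp.add_apply, div_apply hK]
  omega

lemma L_eq_bot_of_deg_neg {D : Divisor k K} (h : D.deg < 0) : L D = ⊥ := by
  rw [eq_bot_iff]
  intro x hx
  by_contra hx0
  rw [Submodule.mem_bot] at hx0
  have h1 : 0 ≤ D + FunFld.div k x := fun P => by
    have := (mem_L_iff hx0).1 hx P
    rw [Finsupp.zero_apply, Finsupp.add_apply, div_apply hK]
    omega
  have h2 := deg_nonneg h1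
  rw [deg_add, deg_div hK] at h2
  omega

lemma ell_eq_zero_of_deg_neg {D : Divisor k K} (h : D.deg < 0) : ell D = 0 := by
  rw [ell, L_eq_bot_of_deg_neg hK h, finrank_bot]

end Groth.Agent.FFLib
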