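import Groth.Agent.FFLib.ZetaL

/-!
# Point counts and the zeta numerator under constant extensions
-/

open Finset Module

namespace Groth.Agent.FFLib

open FunFld

variable {k K : Type*} [Field k] [Field K] [Algebra k K] [Finite k] (hK : IsFunctionField k K)
include hK

lemma numer_srec : SRec (PowerSeries.map (Int.castRingHom ℂ) (numerZ k K))
    (fun m => (pointCount hK m : ℂ) - 1 - (Nat.card k : ℂ) ^ m) := by
  have h := (((SRec.linear (1 : ℂ)).mul (SRec.linear (Nat.card k : ℂ))).mul
    ((zeta_srec hK).map (Int.castRingHom ℂ)))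
  have e : PowerSeries.map (Int.castRingHom ℂ) (numerZ k K) =
      (1 - PowerSeries.C (1 : ℂ) * PowerSeries.X) * (1 - PowerSeries.C (Nat.card k : ℂ) * PowerSeries.X) *
        PowerSeries.map (Int.castRingHom ℂ) (zetaZ k K) := by
    simp [numerZ]
  rw [e]
  exact h.congr fun m _ => by simp; ring

omit hK [Finite k] [Field k] [Field K] [Algebra k K] in
lemma prod_srec {ι : Type*} (s : Finset ι) (α : ι → ℂ) :
    SRec ((∏ i ∈ s, (1 - Polynomial.C (α i) * Polynomial.X) : Polynomial ℂ) : PowerSeries ℂ)
      (fun m => ∑ i ∈ s, -α i ^ m) := by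
  rw [← Polynomial.coeToPowerSeries.ringHom_apply, map_prod]
  simp only [map_sub, map_one, map_mul, Polynomial.coeToPowerSeries.ringHom_apply, Polynomial.coe_C,
    Polynomial.coe_X]
  exact SRec.prod s _ (fun i m => -α i ^ m) fun i _ => SRec.linear (α i)

lemma constantCoeff_numer : PowerSeries.constantCoeff (PowerSeries.map (Int.castRingHom ℂ) (numerZ k K)) = 1 := by
  rw [← PowerSeries.coeff_zero_eq_constantCoeff_apply, PowerSeries.coeff_map, coeff_numerZ_zero hK, map_one]

/-- `N_m = 1 + q^m - Σ α^m`. -/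
theorem pointCount_eq_sub_sum {ι : Type*} [Fintype ι] (α : ι → ℂ)
    (hα : PowerSeries.map (Int.castRingHom ℂ) (numerZ k K) =
      ((∏ i, (1 - Polynomial.C (α i) * Polynomial.X) : Polynomial ℂ) : PowerSeries ℂ))
    {m : ℕ} (hm : 0 < m) :
    (pointCount hK m : ℂ) = 1 + (Nat.card k : ℂ) ^ m - ∑ i, α i ^ m := by
  have h := SRec.unique_log (numer_srec hK) (hα ▸ prod_srec Finset.univ α) (constantCoeff_numer hK) hm
  rw [Finset.sum_neg_distrib] at h
  linear_combination h

/-- The numerator of a constant extension. -/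
theorem numer_of_pointCount {k' K' : Type*} [Field k'] [Field K'] [Algebra k' K'] [Finite k']
    (hK' : IsFunctionField k' K') {n : ℕ} (hn : 0 < n) (hcard : Nat.card k' = Nat.card k ^ n)
    (hN : ∀ m, 0 < m → pointCount hK' m = pointCount hK (n * m))
    {ι : Type*} [Fintype ι] (α : ι → ℂ)
    (hα : PowerSeries.map (Int.castRingHom ℂ) (numerZ k K) =
      ((∏ i, (1 - Polynomial.C (α i) * Polynomial.X) : Polynomial ℂ) : PowerSeries ℂ)) :
    PowerSeries.map (Int.castRingHom ℂ) (numerZ k' K') =
      ((∏ i, (1 - Polynomial.C (α i ^ n) * Polynomial.X) : Polynomial ℂ) : PowerSeries ℂ) := by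
  refine SRec.unique ((numer_srec hK').congr fun m hm => ?_) (prod_srec Finset.univ fun i => α i ^ n) ?_
  · rw [hN m hm, pointCount_eq_sub_sum hK α hα (Nat.mul_pos hn hm), hcard, Finset.sum_neg_distrib]
    push_cast
    simp only [← pow_mul]
    ring
  · rw [constantCoeff_numer hK', ← Polynomial.coeToPowerSeries.ringHom_apply, map_prod, map_prod]
    simp

/-- The genus does not change in a constant extension. -/
theorem genus_eq_of_pointCount {k' K' : Type*} [Field k'] [Field K'] [Algebra k' K'] [Finite k']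
    (hK' : IsFunctionField k' K') {n : ℕ} (hn : 0 < n) (hcard : Nat.card k' = Nat.card k ^ n)
    (hN : ∀ m, 0 < m → pointCount hK' m = pointCount hK (n * m)) :
    genus k' K' = genus k K := by
  obtain ⟨α, -, hα, hpair⟩ := exists_recip_roots hK
  have hq0 : (Nat.card k : ℂ) ≠ 0 := Nat.cast_ne_zero.2 (by have := one_lt_card (k := k); omega)
  have hα0 : ∀ i, α i ≠ 0 := fun i e => hq0 (by rw [← hpair i, e, zero_mul])
  have h := numer_of_pointCount hK hK' hn hcard hN α hα
  have hp : (lPoly k' K').map (Int.castRingHom ℂ) = ∏ i, (1 - Polynomial.C (α i ^ n) * Polynomial.X) := by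
    apply Polynomial.coe_injective ℂ
    rw [Polynomial.polynomial_map_coe, coe_lPoly hK', h]
  have h1 : ∀ i, (1 - Polynomial.C (α i ^ n) * Polynomial.X).natDegree = 1 := fun i => by
    rw [show (1 : Polynomial ℂ) - Polynomial.C (α i ^ n) * Polynomial.X =
      Polynomial.C (-(α i ^ n)) * Polynomial.X + Polynomial.C 1 by simp; ring]
    exact Polynomial.natDegree_linear (neg_ne_zero.2 (pow_ne_zero _ (hα0 i)))
  have hd := congrArg Polynomial.natDegree hp
  rw [Polynomial.natDegree_map_eq_of_injective (Int.castRingHom ℂ).injective_int, natDegree_lPoly hK',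
    Polynomial.natDegree_prod _ _ (fun i _ e => by have := h1 i; rw [e] at this; simp at this),
    Finset.sum_congr rfl fun i _ => h1 i] at hd
  simp at hd
  omega

lemma pointCount_one : pointCount hK 1 = (Nat.card {P : Place k K // P.deg = 1} : ℤ) := by
  rw [pointCount, Nat.card_congr (Equiv.subtypeEquivRight (p := fun P : Place k K => P.deg = 1)
    (q := fun P => P ∈ placesDvd hK 1) fun P => by rw [mem_placesDvd hK one_pos, Nat.dvd_one]),
    Nat.card_eq_finsetCard, Finset.sum_congr rfl fun P hP => by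
      rw [Nat.dvd_one.1 ((mem_placesDvd hK one_pos).1 hP), Nat.cast_one]]
  simp

end Groth.Agent.FFLib
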