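import Groth.Agent.FFLib.DoubleUnique

/-!
# The Castelnuovo bound for two subfields of index two
-/

open WithZero Module

namespace Groth.Agent.FFLib

open FunFld

variable {k K K' : Type*} [Field k] [Field K] [Field K'] [Algebra k K] [Algebra K K'] [Algebra k K']
  [IsScalarTower k K K'] [FiniteDimensional K K']

/-- A function outside a subfield of index two bounds the genus. -/
theorem genus_le_of_notMem_index_two (hK : IsFunctionField k K) (hK' : IsFunctionField k K')
    (h2 : finrank K K' = 2) {B : Divisor k K'} (hB : 0 ≤ B) {x : K'} (hx : x ∈ L B)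
    (hxF : x ∉ Set.range (algebraMap K K')) : (genus k K' : ℤ) + 1 ≤ 2 * genus k K + B.deg := by
  obtain ⟨P⟩ := exists_place hK
  set n : ℕ := 2 * genus k K' + 2 * genus k K + 1 with hn
  set M : Divisor k K := Finsupp.single P (n : ℤ) with hM
  have hdM : (n : ℤ) ≤ M.deg := by
    have : (1 : ℤ) ≤ P.deg := by exact_mod_cast deg_pos hK P
    rw [hM, deg_single]
    nlinarith
  let ψ : ↥(L M) × ↥(L M) →ₗ[k] K' :=
    { toFun := fun z => algebraMap K K' z.1.1 + algebraMap K K' z.2.1 * x
      map_add' := fun z w => by simp only [Prod.fst_add, Prod.snd_add, Submodule.coe_add, map_add]; ring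
      map_smul' := fun c z => by
        simp only [Prod.smul_fst, Prod.smul_snd, Submodule.coe_smul, Algebra.smul_def, map_mul,
          ← IsScalarTower.algebraMap_apply k K K', RingHom.id_apply]
        ring }
  have hinj : Function.Injective ψ := by
    rw [← LinearMap.ker_eq_bot, LinearMap.ker_eq_bot']
    rintro ⟨⟨a, ha⟩, ⟨b, hb⟩⟩ hz
    change algebraMap K K' a + algebraMap K K' b * x = 0 at hz
    have hb0 : b = 0 := by
      by_contra hb0
      refine hxF ⟨-a / b, ?_⟩
      rw [map_div₀, map_neg, div_eq_iff ((_root_.map_ne_zero _).2 hb0)]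
      linear_combination -hz
    subst hb0
    rw [map_zero, zero_mul, add_zero, map_eq_zero] at hz
    subst hz
    rfl
  have hrange : LinearMap.range ψ ≤ L (conorm K' M + B) := by
    rintro _ ⟨⟨⟨a, ha⟩, ⟨b, hb⟩⟩, rfl⟩
    refine add_mem (L_mono (le_add_of_nonneg_right hB) (algebraMap_mem_conorm hK.1 ha)) ?_
    exact fun P => by
        rw [map_mul, Finsupp.add_apply, exp_add]
        exact mul_le_mul' (algebraMap_mem_conorm (K' := K') hK.1 hb P) (hx P)
  haveI := finiteDimensional_L hK' (conorm K' M + B)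
  haveI := finiteDimensional_L hK M
  have h3 := Submodule.finrank_mono hrange
  rw [LinearMap.finrank_range_of_inj hinj, finrank_prod] at h3
  have h4 := ell_eq_of_deg_ge hK (D := M) (by omega)
  have hdB := deg_nonneg hB
  have h5 := ell_eq_of_deg_ge hK' (D := conorm K' M + B) (by rw [deg_add, deg_conorm hK.1, h2]; push_cast; omega)
  rw [deg_add, deg_conorm hK.1, h2] at h5
  unfold ell at h4 h5
  push_cast at h5
  omega

omit [Algebra K K'] [IsScalarTower k K K'] [FiniteDimensional K K'] in
/-- A function field has infinitely many places over an algebraically closed field. -/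
theorem infinite_places [IsAlgClosed k] (hK : IsFunctionField k K) : Infinite (Place k K) := by
  obtain ⟨x, hx⟩ := exists_transcendental hK
  choose Z hZ using fun a : k => exists_zero hK (x := x - algebraMap k K a) fun ⟨b, hb⟩ => hx (by
    rw [show x = algebraMap k K (b + a) by rw [map_add, hb, sub_add_cancel]]
    exact isAlgebraic_algebraMap _)
  refine Infinite.of_injective Z fun a b e => ?_
  by_contra hab
  have hb := hZ b
  rw [← e] at hb
  have h1 : ∀ y : K, 0 < (Z a).ord y → (Z a).1 y < 1 := fun y hy =>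
    (v_lt_one_iff (Z a) (fun e => by rw [e, ord_zero] at hy; omega)).2 hy
  have h2 : (Z a).1 ((x - algebraMap k K a) - (x - algebraMap k K b)) < 1 :=
    lt_of_le_of_lt ((Z a).1.map_sub _ _) (max_lt (h1 _ (hZ a)) (h1 _ hb))
  rw [sub_sub_sub_cancel_left, ← map_sub, v_const (Z a) (sub_ne_zero.2 (Ne.symm hab))] at h2
  exact lt_irrefl _ h2

omit [Algebra K K'] [IsScalarTower k K K'] [FiniteDimensional K K'] in
/-- A subfield containing all functions of degree at most `g + 1` is the whole field. -/
theorem eq_top_of_small_degree [IsAlgClosed k] (hK : IsFunctionField k K) {G : IntermediateField k K}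
    (hG : ∀ D : Divisor k K, 0 ≤ D → D.deg = (genus k K : ℤ) + 1 → ∀ x ∈ L D, x ∈ G) : G = ⊤ := by
  classical
  have hex : ∀ D : Divisor k K, 0 ≤ D → D.deg = (genus k K : ℤ) + 1 →
      ∃ x ∈ L D, x ∉ Set.range (algebraMap k K) := by
    intro D hD hd
    by_contra hh
    push Not at hh
    haveI := finiteDimensional_L hK (0 : Divisor k K)
    have h1 := Submodule.finrank_mono (show L D ≤ L (0 : Divisor k K) from fun y hy => by
      rw [L_zero hK, Submodule.mem_one]
      exact hh y hy)
    have h2 : ell (0 : Divisor k K) = 1 := ell_zero hK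
    have h3 := riemann_ge hK D
    unfold ell at h2 h3
    omega
  obtain ⟨P₀⟩ := exists_place hK
  obtain ⟨x₀, hx₀, hx₀c⟩ := hex (Finsupp.single P₀ ((genus k K : ℤ) + 1))
    (Finsupp.single_nonneg.2 (by positivity)) (by rw [deg_single, deg_eq_one hK]; simp)
  have htr := transcendental_of_notMem hK hx₀c
  haveI := finite_adjoin hK.1 htr
  have hle : IntermediateField.adjoin k ({x₀} : Set K) ≤ G := IntermediateField.adjoin_le_iff.2
    (Set.singleton_subset_iff.2 (hG _ (Finsupp.single_nonneg.2 (by positivity))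
      (by rw [deg_single, deg_eq_one hK]; simp) x₀ hx₀))
  haveI : FiniteDimensional G K := Module.finite_of_finrank_pos (Nat.pos_of_ne_zero fun h => by
    have hmul := IntermediateField.relfinrank_mul_finrank_top hle
    rw [h, mul_zero] at hmul
    exact (Module.finrank_pos (R := IntermediateField.adjoin k ({x₀} : Set K)) (M := K)).ne hmul)
  by_contra hne
  have hm : 2 ≤ finrank G K := by
    have h1 : finrank G K ≠ 1 := fun h => hne (IntermediateField.finrank_eq_one_iff_eq_top.1 h)
    have h2 : 0 < finrank G K := finrank_pos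
    omega
  have hGF : IsFunctionField k G := isFunctionField_below hK
  haveI := infinite_places hGF
  set n := genus k K + 1 with hn
  let f : Fin n ↪ Place k G := Fin.valEmbedding.trans (Infinite.natEmbedding _)
  choose Q hQ using fun i : Fin n => exists_overs (K' := K) hGF.1 (f i)
  have hQu : ∀ i, underPlace hGF.1 (Q i) = f i := fun i => (under_eq hGF.1 (hQ i)).1
  have hQi : Function.Injective Q := fun i j h => f.injective (by rw [← hQu i, h, hQu j])
  set D : Divisor k K := ∑ i, Finsupp.single (Q i) (1 : ℤ) with hD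
  have hD0 : 0 ≤ D := Finset.sum_nonneg fun i _ => Finsupp.single_nonneg.2 zero_le_one
  have hDd : D.deg = (genus k K : ℤ) + 1 := by
    rw [hD, show Divisor.deg (∑ i, Finsupp.single (Q i) (1 : ℤ)) = ∑ i, Divisor.deg (Finsupp.single (Q i) (1 : ℤ)) from
      map_sum degHom _ _]
    simp [deg_single, deg_eq_one hK, hn]
  obtain ⟨x, hxD, hxc⟩ := hex D hD0 hDd
  let a : G := ⟨x, hG D hD0 hDd x hxD⟩
  have hac : a ∉ Set.range (algebraMap k G) := fun ⟨c, hc⟩ => hxc ⟨c, congrArg Subtype.val hc⟩
  obtain ⟨P, hP⟩ := exists_pole hGF hac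
  have ha0 : a ≠ 0 := fun h => hac ⟨0, by rw [map_zero, h]⟩
  have hx0 : x ≠ 0 := fun h => ha0 (Subtype.ext h)
  have hover : ∀ R : Place k K, IsOver R P → ∃ i, Q i = R ∧ underIdx hGF.1 R = 1 ∧ f i = P := by
    intro R hR
    have hu := (isOver_iff hGF.1 R P).1 hR
    have ho : R.ord x = underIdx hGF.1 R * P.ord a := by
      rw [← hu]
      exact ord_algebraMap hGF.1 R a
    have hp : (1 : ℤ) ≤ underIdx hGF.1 R := by exact_mod_cast underIdx_pos hGF.1 R
    have hle' := (mem_L_iff hx0).1 hxD R
    have hDR : D R = ∑ i, if Q i = R then (1 : ℤ) else 0 := by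
      rw [hD, Finsupp.finsetSum_apply]
      simp [Finsupp.single_apply]
    by_cases hi : ∃ i, Q i = R
    · obtain ⟨i, hi⟩ := hi
      have h1 : D R = 1 := by
        rw [hDR, Finset.sum_eq_single i (fun j _ hj => if_neg fun h => hj (hQi (h.trans hi.symm)))
          (fun h => absurd (Finset.mem_univ i) h), if_pos hi]
      refine ⟨i, hi, ?_, by rw [← hu, ← hi, hQu]⟩
      rw [h1, ho] at hle'
      have : (underIdx hGF.1 R : ℤ) ≤ 1 := by nlinarith
      omega
    · push Not at hi
      have h1 : D R = 0 := by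
        rw [hDR]
        exact Finset.sum_eq_zero fun j _ => if_neg (hi j)
      rw [h1, ho] at hle'
      nlinarith
  obtain ⟨R₀, hR₀⟩ := exists_overs (K' := K) hGF.1 P
  obtain ⟨i, hiQ, hie, hiP⟩ := hover R₀ ⟨_, hR₀⟩
  have hsum := sum_idx_mul_deg hGF.1 P ({R₀} : Finset (Place k K)) fun R => by
    rw [Finset.mem_singleton]
    refine ⟨fun h => h ▸ ⟨_, hR₀⟩, fun h => ?_⟩
    obtain ⟨j, hjQ, -, hjP⟩ := hover R h
    rw [← hjQ, ← hiQ, f.injective (hjP.trans hiP.symm)]
  rw [Finset.sum_singleton, hie, deg_eq_one hK, deg_eq_one hGF] at hsum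
  omega

omit [Algebra K K'] [IsScalarTower k K K'] [FiniteDimensional K K'] in
/-- **Two subfields of index two and small genus coincide.** -/
theorem index_two_unique_bound [IsAlgClosed k] (hK : IsFunctionField k K) {F₁ F₂ : IntermediateField k K}
    (h₁ : finrank F₁ K = 2) (h₂ : finrank F₂ K = 2)
    (hg : 2 * genus k F₁ + 2 * genus k F₂ + 1 < genus k K) : F₁ = F₂ := by
  haveI : FiniteDimensional F₁ K := Module.finite_of_finrank_eq_succ h₁
  haveI : FiniteDimensional F₂ K := Module.finite_of_finrank_eq_succ h₂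
  have hF₁ : IsFunctionField k F₁ := isFunctionField_below hK
  have hF₂ : IsFunctionField k F₂ := isFunctionField_below hK
  suffices hle : F₂ ≤ F₁ from (IntermediateField.eq_of_le_of_finrank_eq' hle (by omega)).symm
  have htop := eq_top_of_small_degree hF₂ (G := F₁.comap F₂.val) fun D hD hd a ha => by
    show (a : K) ∈ F₁
    by_contra haF
    have hA : 0 ≤ conorm K D := fun Q => by
      rw [conorm_apply hF₂.1, Finsupp.zero_apply]
      exact mul_nonneg (hD _) (Int.natCast_nonneg _)
    have := genus_le_of_notMem_index_two hF₁ hK h₁ hA (algebraMap_mem_conorm (K' := K) hF₂.1 ha)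
      fun ⟨b, hb⟩ => haF ((show (b : K) = a from hb) ▸ b.2)
    rw [deg_conorm hF₂.1, h₂, hd] at this
    omega
  intro a ha
  have h : (⟨a, ha⟩ : F₂) ∈ F₁.comap F₂.val := by rw [htop]; trivial
  exact h

omit [Algebra K K'] [IsScalarTower k K K'] [FiniteDimensional K K'] in
/-- The bound for two embedded fields. -/
theorem fieldRange_eq_of_bound [IsAlgClosed k] {L₁ L₂ : Type*} [Field L₁] [Field L₂] [Algebra k L₁] [Algebra k L₂]
    (hK : IsFunctionField k K) (hL₁ : IsFunctionField k L₁) (hL₂ : IsFunctionField k L₂)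
    (hg : 2 * genus k L₁ + 2 * genus k L₂ + 1 < genus k K) (ψ₁ : L₁ →ₐ[k] K) (ψ₂ : L₂ →ₐ[k] K)
    (h₁ : letI := ψ₁.toRingHom.toAlgebra; finrank L₁ K = 2)
    (h₂ : letI := ψ₂.toRingHom.toAlgebra; finrank L₂ K = 2) : ψ₁.fieldRange = ψ₂.fieldRange := by
  have key₁ : finrank ψ₁.fieldRange K = 2 := by
    letI := ψ₁.toRingHom.toAlgebra
    exact (Algebra.finrank_eq_of_equiv_equiv ((AlgEquiv.ofInjectiveField ψ₁).toRingEquiv) (RingEquiv.refl K)
      (RingHom.ext fun _ => rfl)).symm.trans h₁
  have key₂ : finrank ψ₂.fieldRange K = 2 := by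
    letI := ψ₂.toRingHom.toAlgebra
    exact (Algebra.finrank_eq_of_equiv_equiv ((AlgEquiv.ofInjectiveField ψ₂).toRingEquiv) (RingEquiv.refl K)
      (RingHom.ext fun _ => rfl)).symm.trans h₂
  haveI : FiniteDimensional ψ₁.fieldRange K := Module.finite_of_finrank_eq_succ key₁
  haveI : FiniteDimensional ψ₂.fieldRange K := Module.finite_of_finrank_eq_succ key₂
  refine index_two_unique_bound hK key₁ key₂ ?_
  rw [← genus_congr hL₁ (AlgEquiv.ofInjectiveField ψ₁) (isFunctionField_below (K := ψ₁.fieldRange) hK),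
    ← genus_congr hL₂ (AlgEquiv.ofInjectiveField ψ₂) (isFunctionField_below (K := ψ₂.fieldRange) hK)]
  exact hg

end Groth.Agent.FFLib
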