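import Groth.Agent.FFLib.Gaps
import Groth.Agent.FFLib.RR
import Groth.Prelude.Def_W4bk4goldsch23Ext
import Mathlib.FieldTheory.Relrank

/-!
# Places in a finite extension
-/

open WithZero Module

namespace Groth.Agent.FFLib

open FunFld

variable {k K K' : Type*} [Field k] [Field K] [Field K'] [Algebra k K] [Algebra K K'] [Algebra k K']
  [IsScalarTower k K K']

lemma finrank_adjoin_algebraMap (x : K) :
    finrank (IntermediateField.adjoin k ({algebraMap K K' x} : Set K')) K' =
      finrank (IntermediateField.adjoin k ({x} : Set K)) K * finrank K K' := by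
  set τ := IsScalarTower.toAlgHom k K K'
  have h1 : IntermediateField.adjoin k ({algebraMap K K' x} : Set K') =
      (IntermediateField.adjoin k ({x} : Set K)).map τ := by
    rw [IntermediateField.adjoin_map, Set.image_singleton]; rfl
  have h2 : τ.fieldRange = (⊤ : IntermediateField k K).map τ := AlgHom.fieldRange_eq_map τ
  have h3 : finrank τ.fieldRange K' = finrank K K' := by
    refine (Algebra.finrank_eq_of_equiv_equiv ((AlgEquiv.ofInjectiveField τ).toRingEquiv)
      (RingEquiv.refl K') ?_).symm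
    ext a; rfl
  rw [← h3, congrArg (fun F : IntermediateField k K' => finrank F K') h1,
    congrArg (fun F : IntermediateField k K' => finrank F K') h2,
    ← IntermediateField.relfinrank_mul_finrank_top
      (IntermediateField.map_mono τ (le_top : IntermediateField.adjoin k ({x} : Set K) ≤ ⊤)),
    IntermediateField.relfinrank_map_map, IntermediateField.relfinrank_top_right]

lemma transcendental_algebraMap {x : K} (hx : Transcendental k x) :
    Transcendental k (algebraMap K K' x) := fun h =>
  hx ((isAlgebraic_algebraMap_iff (algebraMap K K').injective).1 h)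

variable [FiniteDimensional K K']

lemma fg1_ext (hK : FG1 k K) : FG1 k K' := by
  obtain ⟨x, hx, hfin⟩ := id hK
  have := hfin
  refine ⟨algebraMap K K' x, transcendental_algebraMap hx, Module.finite_of_finrank_pos ?_⟩
  rw [finrank_adjoin_algebraMap]
  exact Nat.mul_pos finrank_pos finrank_pos

omit [IsScalarTower k K K'] [FiniteDimensional K K'] in
lemma isOverWith_pos {Q : Place k K'} {P : Place k K} {e : ℕ} (h : IsOverWith Q P e) : 0 < e := by
  rcases Nat.eq_zero_or_pos e with rfl | he
  · have := h 0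
    rw [map_zero, map_zero, pow_zero] at this
    exact absurd this zero_ne_one
  · exact he

omit [IsScalarTower k K K'] [FiniteDimensional K K'] in
lemma isOverWith_iff_ord {Q : Place k K'} {P : Place k K} {e : ℕ} :
    IsOverWith Q P e ↔ 0 < e ∧ ∀ y : K, y ≠ 0 → Q.ord (algebraMap K K' y) = e * P.ord y := by
  have key : ∀ y : K, y ≠ 0 → (Q.1 (algebraMap K K' y) = P.1 y ^ e ↔
      Q.ord (algebraMap K K' y) = e * P.ord y) := fun y hy => by
    rw [v_eq Q ((map_ne_zero (algebraMap K K')).2 hy), v_eq P hy, ← exp_nsmul, exp_inj, nsmul_eq_mul,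
      mul_neg, neg_inj]
  refine ⟨fun h => ⟨?_, fun y hy => (key y hy).1 (h y)⟩, fun ⟨he, h⟩ y => ?_⟩
  · rcases Nat.eq_zero_or_pos e with rfl | he
    · have := h 0
      rw [map_zero, map_zero, pow_zero] at this
      exact absurd this zero_ne_one
    · exact he
  · rcases eq_or_ne y 0 with rfl | hy
    · rw [map_zero, map_zero, map_zero, zero_pow he.ne']
    · exact (key y hy).2 (h y hy)

omit [IsScalarTower k K K'] [FiniteDimensional K K'] in
lemma isOverWith_le_one_iff {Q : Place k K'} {P : Place k K} {e : ℕ} (h : IsOverWith Q P e) (y : K) :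
    Q.1 (algebraMap K K' y) ≤ 1 ↔ P.1 y ≤ 1 := by
  obtain ⟨he, hord⟩ := isOverWith_iff_ord.1 h
  rcases eq_or_ne y 0 with rfl | hy
  · simp
  rw [v_le_one_iff, v_le_one_iff, hord y hy]
  exact ⟨fun h' => nonneg_of_mul_nonneg_right h' (by exact_mod_cast he),
    fun h' => mul_nonneg (Int.natCast_nonneg _) h'⟩

omit [IsScalarTower k K K'] [FiniteDimensional K K'] in
lemma isOverWith_lt_one_iff {Q : Place k K'} {P : Place k K} {e : ℕ} (h : IsOverWith Q P e) (y : K) :
    Q.1 (algebraMap K K' y) < 1 ↔ P.1 y < 1 := by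
  obtain ⟨he, hord⟩ := isOverWith_iff_ord.1 h
  rcases eq_or_ne y 0 with rfl | hy
  · simp
  rw [v_lt_one_iff Q ((map_ne_zero (algebraMap K K')).2 hy), v_lt_one_iff P hy, hord y hy]
  exact ⟨fun h' => pos_of_mul_pos_right h' (Int.natCast_nonneg _),
    fun h' => mul_pos (by exact_mod_cast he) h'⟩

omit [IsScalarTower k K K'] [FiniteDimensional K K'] in
lemma isOverWith_unique {Q : Place k K'} {P P' : Place k K} {e e' : ℕ} (h : IsOverWith Q P e)
    (h' : IsOverWith Q P' e') : P = P' ∧ e = e' := by
  have hPP : P = P' := place_ext_of_le P P' fun y hy =>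
    (isOverWith_le_one_iff h' y).1 ((isOverWith_le_one_iff h y).2 hy)
  subst hPP
  obtain ⟨t, ht, ht1, -⟩ := exists_uniformizer P
  have h1 := (isOverWith_iff_ord.1 h).2 t ht
  have h2 := (isOverWith_iff_ord.1 h').2 t ht
  rw [ht1, mul_one] at h1 h2
  exact ⟨rfl, by omega⟩

variable (hK : FG1 k K)
include hK

/-- Every place upstairs lies over a place downstairs. -/
lemma exists_over (Q : Place k K') : ∃ (P : Place k K) (e : ℕ), IsOverWith Q P e := by
  have hne : Q.O.comap (algebraMap K K') ≠ ⊤ := by
    intro htop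
    have hint : ∀ y : K, Q.1 (algebraMap K K' y) ≤ 1 := fun y =>
      (show y ∈ Q.O.comap (algebraMap K K') by rw [htop]; trivial)
    have hone : ∀ y : K, y ≠ 0 → Q.1 (algebraMap K K' y) = 1 := fun y hy => by
      refine le_antisymm (hint y) ?_
      have h := hint y⁻¹
      rwa [map_inv₀, map_inv₀, inv_le_one₀ (zero_lt_iff.2 (v_ne_zero Q ((map_ne_zero (algebraMap K K')).2 hy)))] at h
    obtain ⟨t, ht, -, htv⟩ := exists_uniformizer Q
    exact transcendental_of_v_ne_one (k := K) Q.1 hone ht (by rw [htv, ← exp_zero, Ne, exp_inj]; omega)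
      (Algebra.IsAlgebraic.isAlgebraic t)
  obtain ⟨P, hP⟩ := exists_place_of_valuationSubring hK (Q.O.comap (algebraMap K K'))
    (fun c => show Q.1 (algebraMap K K' (algebraMap k K c)) ≤ 1 by
      rw [← IsScalarTower.algebraMap_apply]; exact Q.2.1 c) hne
  have hiff : ∀ y, P.1 y ≤ 1 ↔ Q.1 (algebraMap K K' y) ≤ 1 := fun y =>
    (show y ∈ P.O ↔ y ∈ Q.O.comap (algebraMap K K') by rw [hP])
  have hzero : ∀ u : K, u ≠ 0 → P.ord u = 0 → Q.ord (algebraMap K K' u) = 0 := fun u hu h => by
    have h1 := (v_le_one_iff Q _).1 ((hiff u).1 ((v_le_one_iff P u).2 h.ge))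
    have h2 := (v_le_one_iff Q _).1 ((hiff u⁻¹).1 ((v_le_one_iff P u⁻¹).2 (by rw [ord_inv, h, neg_zero])))
    rw [map_inv₀, ord_inv] at h2
    omega
  obtain ⟨π, hπ0, hπ1, -⟩ := exists_uniformizer P
  have hτπ : algebraMap K K' π ≠ 0 := (map_ne_zero (algebraMap K K')).2 hπ0
  have hpos : 0 < Q.ord (algebraMap K K' π) := by
    have h1 : ¬ Q.1 (algebraMap K K' π⁻¹) ≤ 1 := fun h => by
      have := (v_le_one_iff P _).1 ((hiff _).2 h)
      rw [ord_inv, hπ1] at this
      omega
    have h1' : Q.ord (algebraMap K K' π⁻¹) < 0 := not_le.1 fun h => h1 ((v_le_one_iff Q _).2 h)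
    rw [map_inv₀, ord_inv] at h1'
    omega
  refine ⟨P, (Q.ord (algebraMap K K' π)).toNat, isOverWith_iff_ord.2 ⟨by omega, fun y hy => ?_⟩⟩
  have hu := hzero _ (mul_ne_zero hy (zpow_ne_zero (-P.ord y) hπ0)) (by
    rw [ord_mul P hy (zpow_ne_zero _ hπ0), ord_zpow, hπ1, mul_one, add_neg_cancel])
  rw [map_mul, map_zpow₀, ord_mul Q ((map_ne_zero (algebraMap K K')).2 hy) (zpow_ne_zero _ hτπ),
    ord_zpow] at hu
  rw [Int.toNat_of_nonneg hpos.le, mul_comm]
  linarith

/-- The place under a place. -/
noncomputable def underPlace (Q : Place k K') : Place k K := (exists_over hK Q).choose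

/-- The ramification index over the place under it. -/
noncomputable def underIdx (Q : Place k K') : ℕ := (exists_over hK Q).choose_spec.choose

lemma isOverWith_under (Q : Place k K') : IsOverWith Q (underPlace hK Q) (underIdx hK Q) :=
  (exists_over hK Q).choose_spec.choose_spec

lemma underIdx_pos (Q : Place k K') : 0 < underIdx hK Q := isOverWith_pos (isOverWith_under hK Q)

lemma isOver_iff (Q : Place k K') (P : Place k K) : IsOver Q P ↔ underPlace hK Q = P :=
  ⟨fun ⟨_, h⟩ => (isOverWith_unique (isOverWith_under hK Q) h).1,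
    fun h => h ▸ ⟨_, isOverWith_under hK Q⟩⟩

lemma under_eq {Q : Place k K'} {P : Place k K} {e : ℕ} (h : IsOverWith Q P e) :
    underPlace hK Q = P ∧ underIdx hK Q = e :=
  isOverWith_unique (isOverWith_under hK Q) h

lemma ramIdx_eq {Q : Place k K'} {P : Place k K} (h : underPlace hK Q = P) :
    ramIdx Q P = underIdx hK Q := by
  classical
  have ho : IsOver Q P := (isOver_iff hK Q P).2 h
  rw [ramIdx, dif_pos ho]
  exact ((under_eq hK (Nat.find_spec ho)).2).symm

lemma ord_algebraMap (Q : Place k K') (y : K) :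
    Q.ord (algebraMap K K' y) = underIdx hK Q * (underPlace hK Q).ord y := by
  rcases eq_or_ne y 0 with rfl | hy
  · simp
  · exact (isOverWith_iff_ord.1 (isOverWith_under hK Q)).2 y hy

/-- The fibre over a place is finite. -/
lemma finite_over (P : Place k K) : {Q : Place k K' | IsOver Q P}.Finite := by
  obtain ⟨t, ht, ht1, -⟩ := exists_uniformizer P
  refine (finite_support_ord (fg1_ext hK) (algebraMap K K' t)).subset fun Q hQ => ?_
  have hu := (isOver_iff hK Q P).1 hQ
  rw [Function.mem_support, ord_algebraMap hK, hu, ht1, mul_one]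
  exact_mod_cast (underIdx_pos hK Q).ne'

/-- The coefficients of a conorm. -/
theorem conorm_apply (D : Divisor k K) (Q : Place k K') :
    conorm K' D Q = D (underPlace hK Q) * underIdx hK Q := by
  classical
  rw [conorm, Finsupp.sum, Finsupp.finsetSum_apply]
  rw [Finset.sum_eq_single (underPlace hK Q)]
  · rw [dif_pos (finite_over hK _), Finsupp.smul_apply, Finsupp.finsetSum_apply,
      Finset.sum_eq_single Q]
    · rw [Finsupp.smul_apply, Finsupp.single_eq_same, ramIdx_eq hK rfl, smul_eq_mul, smul_eq_mul, mul_one]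
    · intro R _ hR
      rw [Finsupp.smul_apply, Finsupp.single_eq_of_ne (Ne.symm hR), smul_zero]
    · intro h
      refine absurd ((Set.Finite.mem_toFinset _).2 ?_) h
      exact show IsOver Q _ from ⟨_, isOverWith_under hK Q⟩
  · intro P _ hP
    rw [dif_pos (finite_over hK _), Finsupp.smul_apply, Finsupp.finsetSum_apply,
      Finset.sum_eq_zero, smul_zero]
    intro R hR
    rw [Finsupp.smul_apply, Finsupp.single_eq_of_ne, smul_zero]
    intro e
    subst e
    exact hP ((isOver_iff hK Q P).1 ((Set.Finite.mem_toFinset (finite_over hK P)).1 hR)).symm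
  · intro h
    rw [Finsupp.notMem_support_iff.1 h, zero_smul, Finsupp.zero_apply]

omit [FiniteDimensional K K'] [IsScalarTower k K K'] [Algebra K K'] [Field K'] [Algebra k K'] in
/-- A function with a single pole, over any constant field. -/
lemma exists_pole_single' (P : Place k K) :
    ∃ (f : K) (m : ℕ), 0 < m ∧ Transcendental k f ∧ pole (k := k) f = Finsupp.single P (m : ℤ) := by
  obtain ⟨x, hx, -⟩ := id hK
  have := finite_adjoin hK hx
  obtain ⟨C, hC, hCl⟩ := finrank_le_deg_pole_aux hK hx
  set n := finrank (IntermediateField.adjoin k ({x} : Set K)) K with hn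
  set B : Divisor k K := pole x with hB'
  have hB : B.deg = n := deg_pole hK hx
  have hn0 : 0 < n := finrank_pos
  have hd := deg_pos hK P
  set m := (C.deg + ell (0 : Divisor k K)).toNat + 1 with hm
  set l := (C.deg + (m : ℤ) * P.deg).toNat + 1 with hl
  have hlB : ((l : ℤ) + 1) * n - C.deg ≤ ell (l • B) := by
    have h1 := ell_sub_le hK (l • B) (l • B + C) (le_add_of_nonneg_right hC)
    have h2 : ((l : ℤ) + 1) * n ≤ ell (l • B + C) := by exact_mod_cast hCl l
    rw [deg_add] at h1
    linarith
  set M : Divisor k K := Finsupp.single P (m : ℤ) with hM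
  have hM0 : 0 ≤ M := Finsupp.single_nonneg.2 (Int.natCast_nonneg _)
  have hMd : M.deg = (m : ℤ) * P.deg := deg_single P _
  have hpos : 0 < ell (l • B - M) := by
    have h1 := ell_sub_le hK (l • B - M) (l • B) (sub_le_self _ hM0)
    rw [deg_sub, hMd] at h1
    have h3 : (l : ℤ) ≤ l * n := le_mul_of_one_le_right (Int.natCast_nonneg _) (by omega)
    have h4 : ((l : ℤ) + 1) * n = l * n + n := by ring
    omega
  obtain ⟨z, hz, hzD⟩ := exists_effective_of_ell_pos hK hpos
  have hle : M + FunFld.div k z⁻¹ ≤ l • B := by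
    rw [div_inv hK, ← sub_eq_add_neg, sub_le_iff_le_add, ← sub_nonneg]
    rwa [show l • B + FunFld.div k z - M = l • B - M + FunFld.div k z by abel]
  have h5 := ell_sub_le hK _ _ hle
  rw [ell_add_div hK M (inv_ne_zero hz), deg_add, deg_div hK, add_zero, hMd, deg_nsmul, hB] at h5
  have hlt : ell (0 : Divisor k K) < ell M := by
    have h3 : (m : ℤ) ≤ m * P.deg := le_mul_of_one_le_right (Int.natCast_nonneg _) (by omega)
    have h4 : ((l : ℤ) + 1) * n = l * n + n := by ring
    omega
  obtain ⟨f, hf, hf'⟩ : ∃ f ∈ L M, f ∉ L (0 : Divisor k K) := by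
    by_contra h
    push Not at h
    have := finiteDimensional_L hK (0 : Divisor k K)
    have h3 : ell M ≤ ell (0 : Divisor k K) := Submodule.finrank_mono fun f hf => h f hf
    omega
  have hf0 : f ≠ 0 := fun e => hf' (e ▸ Submodule.zero_mem _)
  have hother : ∀ R, R ≠ P → 0 ≤ R.ord f := fun R hR => by
    have := (mem_L_iff hf0).1 hf R
    rw [hM, Finsupp.single_eq_of_ne hR] at this
    omega
  have hneg : P.ord f < 0 := by
    by_contra h
    refine hf' ((mem_L_iff hf0).2 fun R => ?_)
    rw [Finsupp.zero_apply]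
    rcases eq_or_ne R P with rfl | hR
    · omega
    · have := hother R hR; omega
  refine ⟨f, (-P.ord f).toNat, by omega, transcendental_of_ord hK P (by omega), Finsupp.ext fun R => ?_⟩
  rw [pole_apply hK]
  rcases eq_or_ne R P with rfl | hR
  · rw [Finsupp.single_eq_same]; omega
  · rw [Finsupp.single_eq_of_ne hR]; have := hother R hR; omega

/-- `Σ e f = n`. -/
theorem sum_idx_mul_deg (P : Place k K) (Qs : Finset (Place k K')) (hQs : ∀ Q, Q ∈ Qs ↔ IsOver Q P) :
    ∑ Q ∈ Qs, underIdx hK Q * Q.deg = finrank K K' * P.deg := by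
  classical
  obtain ⟨f, m, hm, hftr, hf⟩ := exists_pole_single' hK P
  have h1 := deg_pole (fg1_ext hK) (transcendental_algebraMap (K' := K') hftr)
  have hfK := deg_pole hK hftr
  rw [hf, deg_single] at hfK
  have hpole : pole (k := k) (algebraMap K K' f) =
      ∑ Q ∈ Qs, Finsupp.single Q ((underIdx hK Q : ℤ) * m) := by
    ext R
    rw [pole_apply (fg1_ext hK), ord_algebraMap hK, Finsupp.finsetSum_apply]
    simp only [Finsupp.single_apply, Finset.sum_ite_eq']
    have hR := congrArg (fun D : Divisor k K => D (underPlace hK R)) hf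
    simp only [pole_apply hK] at hR
    rw [← mul_neg, ← mul_zero ((underIdx hK R : ℤ)), ← mul_max_of_nonneg _ _ (Int.natCast_nonneg _), hR]
    split_ifs with h
    · rw [(isOver_iff hK R P).1 ((hQs R).1 h), Finsupp.single_eq_same]
    · rw [Finsupp.single_eq_of_ne fun e => h ((hQs R).2 ((isOver_iff hK R P).2 e))]
  rw [hpole, show Divisor.deg (∑ Q ∈ Qs, Finsupp.single Q ((underIdx hK Q : ℤ) * m)) =
      ∑ Q ∈ Qs, Divisor.deg (Finsupp.single Q ((underIdx hK Q : ℤ) * m)) from map_sum degHom _ _,
    finrank_adjoin_algebraMap, Nat.cast_mul, ← hfK] at h1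
  simp only [deg_single] at h1
  have h2 : ((m : ℤ)) * ((∑ Q ∈ Qs, underIdx hK Q * Q.deg : ℕ) : ℤ) =
      (m : ℤ) * ((finrank K K' * P.deg : ℕ) : ℤ) := by
    push_cast
    rw [Finset.mul_sum, show (m : ℤ) * (finrank K K' * P.deg : ℤ) = m * P.deg * finrank K K' by ring, ← h1]
    exact Finset.sum_congr rfl fun Q _ => by ring
  exact_mod_cast mul_left_cancel₀ (by omega : (m : ℤ) ≠ 0) h2

theorem deg_conorm (D : Divisor k K) : (conorm K' D).deg = finrank K K' * D.deg := by
  classical
  induction D using Finsupp.induction_linear with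
  | zero =>
    rw [show conorm K' (0 : Divisor k K) = 0 from Finsupp.sum_zero_index]
    simp
  | add f g hf hg =>
    rw [show conorm K' (f + g) = conorm K' f + conorm K' g from Finsupp.ext fun Q => by
      rw [Finsupp.add_apply, conorm_apply hK, conorm_apply hK, conorm_apply hK, Finsupp.add_apply, add_mul],
      deg_add, deg_add, hf, hg, mul_add]
  | single P a =>
    have hfin := finite_over (K' := K') hK P
    have he : conorm K' (Finsupp.single P a) =
        ∑ Q ∈ hfin.toFinset, Finsupp.single Q (a * underIdx hK Q) := Finsupp.ext fun R => by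
      rw [conorm_apply hK, Finsupp.finsetSum_apply]
      simp only [Finsupp.single_apply, Finset.sum_ite_eq', Set.Finite.mem_toFinset, Set.mem_ofPred_eq]
      by_cases h : underPlace hK R = P
      · rw [if_pos h.symm, if_pos ((isOver_iff hK R P).2 h)]
      · rw [if_neg (Ne.symm h), zero_mul, if_neg (mt (isOver_iff hK R P).1 h)]
    rw [he, show Divisor.deg (∑ Q ∈ hfin.toFinset, Finsupp.single Q (a * (underIdx hK Q : ℤ))) =
      ∑ Q ∈ hfin.toFinset, Divisor.deg (Finsupp.single Q (a * (underIdx hK Q : ℤ))) from map_sum degHom _ _]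
    simp only [deg_single, mul_assoc]
    rw [← Finset.mul_sum]
    have := sum_idx_mul_deg hK P hfin.toFinset fun Q => Set.Finite.mem_toFinset hfin
    rw [show (∑ Q ∈ hfin.toFinset, (underIdx hK Q : ℤ) * Q.deg) = ((finrank K K' * P.deg : ℕ) : ℤ) by
      rw [← this]; push_cast; rfl]
    push_cast; ring

theorem div_algebraMap (x : K) : FunFld.div k (algebraMap K K' x) = conorm K' (FunFld.div k x) :=
  Finsupp.ext fun Q => by
    rw [div_apply (fg1_ext hK), ord_algebraMap hK, conorm_apply hK, div_apply hK, mul_comm]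

end Groth.Agent.FFLib
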