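import Groth.Agent.FFLib.QuadRH
import Mathlib.FieldTheory.RatFunc.AsPolynomial
import Mathlib.FieldTheory.Separable

/-!
# Quadratic extensions and involutions of function fields
-/

open WithZero Module

namespace Groth.Agent.FFLib

open FunFld

variable {k K K' : Type*} [Field k] [Field K] [Field K'] [Algebra k K] [Algebra K K'] [Algebra k K']
  [IsScalarTower k K K'] [FiniteDimensional K K']

/-- A subfield of finite index of a function field is a function field. -/
theorem isFunctionField_below (hK' : IsFunctionField k K') : IsFunctionField k K := by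
  obtain ⟨t, ht⟩ : ∃ t : K, Transcendental k t := by
    by_contra hcon
    push Not at hcon
    haveI : Algebra.IsAlgebraic k K := ⟨fun x => by simpa [Transcendental] using hcon x⟩
    haveI : Algebra.IsAlgebraic K K' := Algebra.IsAlgebraic.of_finite K K'
    haveI : Algebra.IsAlgebraic k K' := Algebra.IsAlgebraic.trans k K K'
    obtain ⟨x, hx, -⟩ := hK'.1
    exact hx (Algebra.IsAlgebraic.isAlgebraic x)
  refine ⟨⟨t, ht, ?_⟩, fun y hy => ?_⟩
  · haveI := finite_adjoin hK'.1 (transcendental_algebraMap (K' := K') ht)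
    have h := finrank_adjoin_algebraMap (k := k) (K' := K') t
    refine Module.finite_of_finrank_pos (Nat.pos_of_ne_zero fun h0 => ?_)
    rw [h0, zero_mul] at h
    exact (Module.finrank_pos (R := IntermediateField.adjoin k ({algebraMap K K' t} : Set K'))
      (M := K')).ne' h
  · obtain ⟨c, hc⟩ := hK'.2 _ hy.algebraMap
    exact ⟨c, (algebraMap K K').injective (by rw [← IsScalarTower.algebraMap_apply, hc])⟩

omit [FiniteDimensional K K'] in
/-- In a quadratic extension away from characteristic two some generator has its square below. -/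
theorem exists_sqrt (h2 : finrank K K' = 2) (hc : (2 : K) ≠ 0) :
    ∃ (y : K') (f : K), y ∉ Set.range (algebraMap K K') ∧ y ^ 2 = algebraMap K K' f := by
  haveI : FiniteDimensional K K' := Module.finite_of_finrank_eq_succ h2
  obtain ⟨z, hz⟩ : ∃ z : K', z ∉ Set.range (algebraMap K K') := by
    by_contra hcon
    push Not at hcon
    have : finrank K K' ≤ 1 := finrank_le_one (1 : K') fun w => by
      obtain ⟨c, rfl⟩ := hcon w
      exact ⟨c, by rw [Algebra.smul_def, mul_one]⟩
    omega
  have hli : LinearIndependent K ![(1 : K'), z] := by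
    rw [LinearIndependent.pair_iff]
    intro s r h
    by_cases hr : r = 0
    · subst hr; simp_all
    · refine absurd ⟨-(s / r), ?_⟩ hz
      rw [Algebra.smul_def, Algebra.smul_def, mul_one] at h
      rw [map_neg, map_div₀, neg_eq_iff_eq_neg, div_eq_iff ((_root_.map_ne_zero _).2 hr)]
      linear_combination h
  have hspan := hli.span_eq_top_of_card_eq_finrank (by simp [h2])
  have hsq : z ^ 2 ∈ Submodule.span K (Set.range ![(1 : K'), z]) := hspan ▸ Submodule.mem_top
  rw [Matrix.range_cons_cons_empty, Submodule.mem_span_pair] at hsq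
  obtain ⟨u, v, huv⟩ := hsq
  rw [Algebra.smul_def, Algebra.smul_def, mul_one] at huv
  refine ⟨z - algebraMap K K' (v / 2), u + v ^ 2 / 4, fun ⟨a, ha⟩ => hz ⟨a + v / 2, by rw [map_add, ha]; ring⟩, ?_⟩
  have h2' : (2 : K') ≠ 0 := by rw [← map_ofNat (algebraMap K K') 2]; exact (_root_.map_ne_zero _).2 hc
  have h4 : (4 : K') ≠ 0 := by rw [show (4 : K') = 2 * 2 by norm_num]; exact mul_ne_zero h2' h2'
  rw [map_add, map_div₀, map_div₀, map_pow, map_ofNat, map_ofNat, sub_sq]
  field_simp
  linear_combination (-16 : K') * huv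

/-- A quadratic extension away from characteristic two is separable. -/
theorem isSeparable_quad (h2 : finrank K K' = 2) (hc : (2 : K) ≠ 0) : Algebra.IsSeparable K K' := by
  refine ⟨fun x => ?_⟩
  have hint : IsIntegral K x := Algebra.IsIntegral.isIntegral x
  have hle : (minpoly K x).natDegree ≤ 2 := h2 ▸ minpoly.natDegree_le x
  have hpos := minpoly.natDegree_pos hint
  rw [IsSeparable, Polynomial.separable_iff_derivative_ne_zero (minpoly.irreducible hint)]
  intro h0
  have h1 := congrArg (fun p => p.coeff ((minpoly K x).natDegree - 1)) h0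
  simp only [Polynomial.coeff_derivative, Polynomial.coeff_zero] at h1
  rw [Nat.sub_add_cancel hpos, (minpoly.monic hint).coeff_natDegree, one_mul] at h1
  have hcases : (minpoly K x).natDegree = 1 ∨ (minpoly K x).natDegree = 2 := by omega
  rcases hcases with h | h <;> rw [h] at h1 <;> norm_num at h1
  exact hc h1

/-- A quadratic extension away from characteristic two has an involution with the expected number
of fixed places. -/
theorem exists_invol_card [IsAlgClosed k] (hK' : IsFunctionField k K') (h2 : finrank K K' = 2)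
    (hc : (2 : k) ≠ 0) :
    ∃ τ : K' ≃ₐ[k] K', τ ≠ AlgEquiv.refl ∧ (∀ z, τ (τ z) = z) ∧
      (∀ a : K, τ (algebraMap K K' a) = algebraMap K K' a) ∧
      {Q : Place k K' | ∀ z, Q.1 (τ z) = Q.1 z}.Finite ∧
      2 * genus k K' + 2 = 4 * genus k K + Nat.card {Q : Place k K' // ∀ z, Q.1 (τ z) = Q.1 z} := by
  have hc' : (2 : K) ≠ 0 := by rw [← map_ofNat (algebraMap k K) 2]; exact (_root_.map_ne_zero _).2 hc
  have hK := isFunctionField_below (K := K) hK'
  obtain ⟨y, f, hy, heq⟩ := exists_sqrt h2 hc'
  obtain ⟨σ, hσ⟩ := exists_conj h2 hy (a := (0 : K)) (g := f) (by rw [map_zero, zero_mul, add_zero, heq])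
  rw [map_zero, neg_zero, zero_sub] at hσ
  obtain ⟨r, hr, hcard, hfin⟩ := quad_genus hK.1 h2 hc hy heq hK hK' σ hσ
  have hiff : ∀ Q : Place k K', placeMap σ Q = Q ↔ ∀ z, Q.1 (σ.restrictScalars k z) = Q.1 z := fun Q =>
    ⟨fun h z => congrArg (fun P : Place k K' => P.1 z) h, fun h => Subtype.ext (Valuation.ext h)⟩
  refine ⟨σ.restrictScalars k, fun h => ?_, fun z => ?_, fun a => σ.commutes a, ?_, ?_⟩
  · have hyy : σ y = y := AlgEquiv.congr_fun h y
    rw [hσ] at hyy
    have h2' : (2 : K') ≠ 0 := by rw [← map_ofNat (algebraMap K K') 2]; exact (_root_.map_ne_zero _).2 hc'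
    refine hy ⟨0, ?_⟩
    rw [map_zero]
    exact (((mul_eq_zero.1 (by linear_combination -hyy : y * 2 = 0))).resolve_right h2').symm
  · obtain ⟨u, v, rfl⟩ := (minpoly_quad h2 hy (a := (0 : K)) (g := f)
      (by rw [map_zero, zero_mul, add_zero, heq])).2.1 z
    simp [AlgEquiv.restrictScalars_apply, hσ]
  · convert hfin using 1
    ext Q
    exact (hiff Q).symm
  · rw [hr, ← hcard, Nat.card_congr (Equiv.subtypeEquivRight hiff)]

omit [IsScalarTower k K K'] [FiniteDimensional K K'] in
/-- An involution of a function field is the conjugation of a quadratic extension. -/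
theorem exists_quadratic_of_invol (hc : (2 : k) ≠ 0) (τ : K ≃ₐ[k] K) (hne : τ ≠ AlgEquiv.refl)
    (hinv : ∀ z, τ (τ z) = z) :
    ∃ (F : IntermediateField k K) (y : K) (f : F) (σ : K ≃ₐ[F] K), finrank F K = 2 ∧
      y ∉ Set.range (algebraMap F K) ∧ y ^ 2 = algebraMap F K f ∧ σ y = -y ∧ ∀ z, σ z = τ z := by
  let F : IntermediateField k K :=
    { AlgHom.equalizer (τ : K →ₐ[k] K) (AlgHom.id k K) with
      inv_mem' := fun x (hx : τ x = x) => by show τ x⁻¹ = x⁻¹; rw [map_inv₀, hx] }
  have hmem : ∀ z, z ∈ F ↔ τ z = z := fun z => Iff.rfl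
  have h2 : (2 : K) ≠ 0 := by rw [← map_ofNat (algebraMap k K) 2]; exact (_root_.map_ne_zero _).2 hc
  obtain ⟨z₀, hz₀⟩ : ∃ z, τ z ≠ z := by
    by_contra hcon
    push Not at hcon
    exact hne (AlgEquiv.ext hcon)
  set y := z₀ - τ z₀ with hy
  have hτy : τ y = -y := by rw [hy, map_sub, hinv]; ring
  have hy0 : y ≠ 0 := sub_ne_zero.2 fun h => hz₀ h.symm
  have hyF : y ∉ Set.range (algebraMap F K) := by
    rintro ⟨a, hay⟩
    have h : τ y = y := by rw [← hay]; exact (hmem _).1 a.2
    rw [hτy] at h
    exact hy0 ((mul_eq_zero.1 (by linear_combination -h : y * 2 = 0)).resolve_right h2)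
  have hli : LinearIndependent F ![(1 : K), y] := by
    rw [LinearIndependent.pair_iff]
    intro s r h
    by_cases hr : r = 0
    · subst hr; simp_all
    · refine absurd ⟨-(s / r), ?_⟩ hyF
      rw [Algebra.smul_def, Algebra.smul_def, mul_one] at h
      rw [map_neg, map_div₀, neg_eq_iff_eq_neg, div_eq_iff ((_root_.map_ne_zero _).2 hr)]
      linear_combination h
  have hspan : ⊤ ≤ Submodule.span F (Set.range ![(1 : K), y]) := fun z _ => by
    rw [Matrix.range_cons_cons_empty, Submodule.mem_span_pair]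
    refine ⟨⟨(z + τ z) / 2, ?_⟩, ⟨(z - τ z) / (2 * y), ?_⟩, ?_⟩
    · rw [hmem, map_div₀, map_add, hinv, map_ofNat, add_comm]
    · rw [hmem, map_div₀, map_sub, map_mul, hinv, hτy, map_ofNat, mul_neg, div_neg, ← neg_div, neg_sub]
    · show (z + τ z) / 2 * 1 + (z - τ z) / (2 * y) * y = z
      field_simp
      ring
  have hfr : finrank F K = 2 := by
    rw [finrank_eq_card_basis (Basis.mk hli hspan), Fintype.card_fin]
  refine ⟨F, y, ⟨y ^ 2, ?_⟩, AlgEquiv.ofRingEquiv (f := τ.toRingEquiv) fun a => (hmem _).1 a.2, hfr, hyF, rfl,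
    hτy, fun _ => rfl⟩
  rw [hmem, map_pow, hτy, neg_sq]

omit [IsScalarTower k K K'] [FiniteDimensional K K'] in
/-- A function field of genus zero over an algebraically closed field is rational. -/
theorem exists_ratFunc_equiv [IsAlgClosed k] (hK : IsFunctionField k K) (hg : genus k K = 0) :
    Nonempty (RatFunc k ≃ₐ[k] K) := by
  obtain ⟨x, hx⟩ := exists_transcendental hK
  obtain ⟨P, -⟩ := exists_zero_of_tr hK.1 hx
  have hP := deg_eq_one hK P
  have hl := ell_eq_of_deg_ge hK (D := Finsupp.single P 1) (by rw [deg_single, hP, hg]; norm_num)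
  rw [deg_single, hP, hg] at hl
  obtain ⟨t, ht⟩ := exists_generator_of_ell hK hP (by omega)
  exact ⟨(RatFunc.algEquivOfTranscendental t (transcendental_of_top hK ht)).trans
    ((IntermediateField.equivOfEq ht).trans IntermediateField.topEquiv)⟩

end Groth.Agent.FFLib
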