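import Groth.Agent.FFLib.ExtNorm

/-!
# Finiteness of the integral closure, and of ramification
-/

open WithZero Module

namespace Groth.Agent.FFLib

open FunFld

variable {k K K' : Type*} [Field k] [Field K] [Field K'] [Algebra k K] [Algebra K K'] [Algebra k K']
  [IsScalarTower k K K'] [FiniteDimensional K K']

variable (hK : FG1 k K)
include hK

omit [FiniteDimensional K K'] [IsScalarTower k K K'] hK in
lemma inR_of_isIntegral (P : Place k K) [Algebra P.O K'] [IsScalarTower P.O K K'] {y : K'}
    (hy : IsIntegral P.O y) : InR P y := by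
  intro Q hQ
  obtain ⟨e, he⟩ := hQ
  obtain ⟨p, hmon, hp⟩ := hy
  let f : P.O →+* Q.O :=
    ((algebraMap K K').comp P.O.subtype).codRestrict Q.O.toSubring
      fun c => (isOverWith_le_one_iff he (c : K)).2 c.2
  have hint : IsIntegral Q.O y := ⟨p.map f, hmon.map f, by
    rw [Polynomial.eval₂_map]
    rw [show (algebraMap Q.O K').comp f = algebraMap P.O K' from
      RingHom.ext fun c => (IsScalarTower.algebraMap_apply P.O K K' c).symm]
    exact hp⟩
  obtain ⟨⟨z, hz⟩, rfl⟩ := IsIntegrallyClosed.isIntegral_iff.1 hint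
  exact hz

lemma isIntegral_of_inR (P : Place k K) [Algebra P.O K'] [IsScalarTower P.O K K'] {y : K'}
    (hy : InR P y) : IsIntegral P.O y := by
  classical
  obtain ⟨b, hb, hiff⟩ := exists_integral_basis (K' := K') hK P
  set A := Algebra.leftMulMatrix b y with hA
  have hle : ∀ i j, P.1 (A i j) ≤ 1 := fun i j => by
    rw [hA, Algebra.leftMulMatrix_eq_repr_mul]; exact (hiff _).1 (inR_mul hy (hb j)) i
  set A₀ : Matrix (Fin (finrank K K')) (Fin (finrank K K')) P.O := fun i j => ⟨A i j, hle i j⟩ with hA₀
  refine ⟨A₀.charpoly, A₀.charpoly_monic, ?_⟩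
  have h1 : A₀.charpoly.map (algebraMap P.O K) = A.charpoly := by
    rw [← Matrix.charpoly_map]; congr 1
  have h2 : Polynomial.aeval y A.charpoly = 0 := by
    apply Algebra.leftMulMatrix_injective b
    rw [map_zero, ← Polynomial.aeval_algHom_apply]
    exact Matrix.aeval_self_charpoly A
  rwa [← h1, Polynomial.aeval_map_algebraMap] at h2

theorem integralClosure_finite' (P : Place k K) [Algebra P.O K'] [IsScalarTower P.O K K'] :
    Module.Finite P.O (integralClosure P.O K') := by
  classical
  obtain ⟨b, hb, hiff⟩ := exists_integral_basis (K' := K') hK P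
  let v : Fin (finrank K K') → integralClosure P.O K' := fun i => ⟨b i, isIntegral_of_inR hK P (hb i)⟩
  refine ⟨⟨Finset.univ.image v, eq_top_iff.2 fun z _ => ?_⟩⟩
  have hc := (hiff _).1 (inR_of_isIntegral P z.2)
  have hz : z = ∑ i, (⟨b.repr z i, hc i⟩ : P.O) • v i := Subtype.ext (by
    refine Eq.trans ?_ (map_sum (integralClosure P.O K').val _ _).symm
    conv_lhs => rw [← b.sum_repr (z : K')]
    refine Finset.sum_congr rfl fun i _ => ?_
    show _ = (⟨b.repr z i, hc i⟩ : P.O) • b i
    rw [← IsScalarTower.algebraMap_smul K (⟨b.repr z i, hc i⟩ : P.O) (b i)]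
    rfl)
  rw [hz]
  exact Submodule.sum_mem _ fun i _ => Submodule.smul_mem _ _ (Submodule.subset_span (by simp))

lemma v_trace_lt_one {P : Place k K} {x : K'} (hx : InR P x) {m : ℕ} (hm : InT P (x ^ m)) :
    P.1 (Algebra.trace K K' x) < 1 := by
  classical
  obtain ⟨b, hb, hiff⟩ := exists_integral_basis (K' := K') hK P
  set A := Algebra.leftMulMatrix b x with hA
  have hle : ∀ i j, P.1 (A i j) ≤ 1 := fun i j => by
    rw [hA, Algebra.leftMulMatrix_eq_repr_mul]; exact (hiff _).1 (inR_mul hx (hb j)) i
  set A₀ : Matrix (Fin (finrank K K')) (Fin (finrank K K')) P.O := fun i j => ⟨A i j, hle i j⟩ with hA₀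
  have hmap : A₀.map P.O.subtype = A := rfl
  have hnil : IsNilpotent (A₀.map (IsLocalRing.residue P.O)) := by
    refine ⟨m, ?_⟩
    rw [← RingHom.mapMatrix_apply, ← map_pow]
    ext i j
    rw [RingHom.mapMatrix_apply, Matrix.map_apply, Matrix.zero_apply, residue_eq_zero_iff_lt]
    have hpow : ((A₀ ^ m) i j : K) = (Algebra.leftMulMatrix b (x ^ m)) i j := by
      rw [map_pow, ← hA, ← hmap, ← RingHom.mapMatrix_apply, ← map_pow]; rfl
    rw [hpow, Algebra.leftMulMatrix_eq_repr_mul]
    have h1 : InR P ((tP P)⁻¹ • (x ^ m * b j)) := by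
      rw [← smul_mul_assoc]; exact inR_mul hm (hb j)
    have h2 := (hiff _).1 h1 i
    rw [map_smul, Finsupp.smul_apply, smul_eq_mul] at h2
    rcases eq_or_ne (b.repr (x ^ m * b j) i) 0 with h0 | h0
    · simp [h0]
    rw [v_le_one_iff, ord_mul P (inv_ne_zero (tP_ne_zero P)) h0, ord_inv, ord_tP] at h2
    rw [v_lt_one_iff P h0]; omega
  have h := (Matrix.isNilpotent_trace_of_isNilpotent hnil).eq_zero
  have h' : IsLocalRing.residue P.O A₀.trace = 0 := by
    rw [← h]; simp [Matrix.trace]
  rw [Algebra.trace_eq_matrix_trace b, ← hA, ← hmap]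
  have htr : (A₀.map P.O.subtype).trace = ((A₀.trace : P.O) : K) := by
    simp [Matrix.trace]
  rw [htr]
  exact (residue_eq_zero_iff_lt P _).1 h'

lemma v_trace_le_one {P : Place k K} {x : K'} (hx : InR P x) : P.1 (Algebra.trace K K' x) ≤ 1 := by
  classical
  obtain ⟨b, hb, hiff⟩ := exists_integral_basis (K' := K') hK P
  rw [Algebra.trace_eq_matrix_trace b]
  refine P.1.map_sum_le fun i _ => ?_
  rw [Matrix.diag_apply, Algebra.leftMulMatrix_eq_repr_mul]
  exact (hiff _).1 (inR_mul hx (hb i)) i

open Matrix in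
/-- Only finitely many ramified places in a separable extension. -/
theorem finite_ramified [Algebra.IsSeparable K K'] :
    {Q : Place k K' | underIdx hK Q ≠ 1}.Finite := by
  classical
  set b := Module.finBasis K K' with hb
  set G := Algebra.traceMatrix K b with hG
  have hGdet : G.det ≠ 0 := by
    have := Algebra.discr_not_zero_of_basis K b
    rwa [Algebra.discr_def] at this
  set bad : Set (Place k K) := (⋃ i, (fun Q : Place k K' => underPlace hK Q) ''
      Function.support (fun Q : Place k K' => Q.ord (b i))) ∪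
      Function.support (fun P : Place k K => P.ord G.det) with hbad
  have hbfin : bad.Finite := (Set.finite_iUnion fun i =>
    (finite_support_ord (fg1_ext hK) (b i)).image _).union (finite_support_ord hK _)
  refine (hbfin.biUnion fun P _ => finite_over (K' := K') hK P).subset fun Q hQ => ?_
  simp only [Set.mem_iUnion]
  refine ⟨underPlace hK Q, ?_, (isOver_iff hK Q _).2 rfl⟩
  by_contra hgood
  set P := underPlace hK Q with hP
  have hQP : Q ∈ overs hK P := (mem_overs' hK).2 rfl
  have hbR : ∀ i, InR P (b i) := fun i R hR => by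
    rw [v_le_one_iff]
    by_contra hneg
    refine hgood (Or.inl (Set.mem_iUnion.2 ⟨i, R, ?_, (isOver_iff hK R P).1 hR⟩))
    rw [Function.mem_support]; omega
  have hG1 : P.ord G.det = 0 := by
    by_contra h; exact hgood (Or.inr h)
  have he : 2 ≤ underIdx hK Q := by
    have := underIdx_pos hK Q
    have : underIdx hK Q ≠ 1 := hQ
    omega
  obtain ⟨y, hy⟩ := weak_approx_eq (overs hK P) (fun _ => 0)
    (fun R => (underIdx hK R : ℤ) - if R = Q then 1 else 0)
  simp only [sub_zero] at hy
  have hyR : InR P y := fun R hR => by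
    rw [hy R ((mem_overs hK).2 hR), ← exp_zero, exp_le_exp]
    have := underIdx_pos hK R
    split_ifs <;> omega
  have hy2 : InT P (y ^ 2) := (inT_iff hK).2 fun R hR => by
    rw [map_pow, hy R hR, ← WithZero.exp_nsmul, exp_le_exp, nsmul_eq_mul]
    have := underIdx_pos hK R
    split_ifs with h
    · subst h; push_cast; omega
    · push_cast; omega
  set u : Fin (finrank K K') → K := fun j => Algebra.trace K K' (y * b j) with hu
  have hu1 : ∀ j, P.1 (u j) < 1 := fun j =>
    v_trace_lt_one hK (inR_mul hyR (hbR j)) (m := 2) (by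
      rw [mul_pow, InT, ← smul_mul_assoc]
      exact inR_mul hy2 (by rw [pow_two]; exact inR_mul (hbR j) (hbR j)))
  have hlin : u = G *ᵥ (fun i => b.repr y i) := by
    funext j
    rw [Matrix.mulVec, dotProduct]
    show Algebra.trace K K' (y * b j) = _
    conv_lhs => rw [← b.sum_repr y, Finset.sum_mul, map_sum]
    refine Finset.sum_congr rfl fun i _ => ?_
    rw [smul_mul_assoc, map_smul, smul_eq_mul, hG, Algebra.traceMatrix_apply, Algebra.traceForm_apply,
      mul_comm (b j) (b i), mul_comm]
  have hadj : ∀ i, G.det * b.repr y i = ∑ j, G.adjugate i j * u j := fun i => by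
    have h := congrArg (fun M => (M *ᵥ fun i => b.repr y i) i) (Matrix.adjugate_mul G)
    simp only [Matrix.smul_mulVec, Matrix.one_mulVec, Pi.smul_apply, smul_eq_mul] at h
    rw [← h, ← Matrix.mulVec_mulVec, ← hlin]; rfl
  have hadj1 : ∀ i j, P.1 (G.adjugate i j) ≤ 1 := fun i j => by
    rw [Matrix.adjugate_apply]
    refine v_det_le_one P _ fun a c => ?_
    rw [Matrix.updateRow_apply]
    split_ifs
    · rcases eq_or_ne c i with rfl | h
      · simp
      · simp [Pi.single_eq_of_ne h]
    · rw [hG, Algebra.traceMatrix_apply, Algebra.traceForm_apply]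
      exact v_trace_le_one hK (inR_mul (hbR a) (hbR c))
  have hc1 : ∀ i, P.1 (b.repr y i) < 1 := fun i => by
    have h : P.1 (G.det * b.repr y i) < 1 := by
      rw [hadj]
      exact P.1.map_sum_lt one_ne_zero fun j _ => by
        rw [map_mul]; exact mul_lt_one_of_nonneg_of_lt_one_right (hadj1 i j) zero_le (hu1 j)
    rwa [map_mul, (v_eq_one_iff P hGdet).2 hG1, one_mul] at h
  have hyT : InT P y := by
    rw [← b.sum_repr y]
    exact inT_sum _ _ fun i _ => inT_smul_of_lt (hc1 i) (hbR i)
  have h := (inT_iff hK).1 hyT Q hQP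
  rw [hy Q hQP, if_pos rfl, exp_le_exp] at h
  omega

end Groth.Agent.FFLib
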