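import Groth.Agent.FFLib.DegOne

/-!
# Weierstrass gaps and the Weierstrass form in genus one
-/

open WithZero Module Polynomial

namespace Groth.Agent.FFLib

open FunFld

variable {k K : Type*} [Field k] [Field K] [Algebra k K]

/-- `m` is a gap at `P`. -/
def IsGap (P : Place k K) (m : ℕ) : Prop :=
  L (Finsupp.single P (m : ℤ)) = L (Finsupp.single P ((m : ℤ) - 1) : Divisor k K)

lemma single_le_single (P : Place k K) {a b : ℤ} (h : a ≤ b) :
    (Finsupp.single P a : Divisor k K) ≤ Finsupp.single P b := fun Q => by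
  rcases eq_or_ne Q P with rfl | hQ
  · simpa using h
  · simp [Finsupp.single_eq_of_ne hQ]

lemma ord_eq_of_mem_notMem {P : Place k K} {m : ℤ} {f : K}
    (h1 : f ∈ L (Finsupp.single P m : Divisor k K))
    (h2 : f ∉ L (Finsupp.single P (m - 1) : Divisor k K)) : f ≠ 0 ∧ P.ord f = -m := by
  have hf : f ≠ 0 := fun e => h2 (by rw [e]; exact Submodule.zero_mem _)
  refine ⟨hf, ?_⟩
  rw [mem_L_iff hf] at h1 h2
  have hP := h1 P
  rw [Finsupp.single_eq_same] at hP
  by_contra hne
  refine h2 fun Q => ?_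
  rcases eq_or_ne Q P with rfl | hQ
  · rw [Finsupp.single_eq_same]; omega
  · rw [Finsupp.single_eq_of_ne hQ]; simpa [Finsupp.single_eq_of_ne hQ] using h1 Q

lemma isGap_iff (P : Place k K) (m : ℕ) :
    IsGap P m ↔ ¬∃ f ∈ L (Finsupp.single P (m : ℤ) : Divisor k K), f ≠ 0 ∧ P.ord f = -(m : ℤ) := by
  constructor
  · rintro h ⟨f, hf, hf0, hord⟩
    rw [h, mem_L_iff hf0] at hf
    have := hf P
    rw [Finsupp.single_eq_same] at this
    omega
  · intro h
    refine le_antisymm (fun f hf => ?_) (L_mono (single_le_single P (by omega)))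
    by_contra hn
    obtain ⟨hf0, hord⟩ := ord_eq_of_mem_notMem hf hn
    exact h ⟨f, hf, hf0, hord⟩

lemma not_isGap_add {P : Place k K} {a b : ℕ} (ha : ¬IsGap P a) (hb : ¬IsGap P b) :
    ¬IsGap P (a + b) := by
  rw [isGap_iff, not_not] at ha hb ⊢
  obtain ⟨f, hf, hf0, hfo⟩ := ha
  obtain ⟨g, hg, hg0, hgo⟩ := hb
  refine ⟨f * g, fun Q => ?_, mul_ne_zero hf0 hg0, ?_⟩
  · rw [map_mul]
    calc Q.1 f * Q.1 g ≤ exp ((Finsupp.single P (a : ℤ) : Divisor k K) Q) *
          exp ((Finsupp.single P (b : ℤ) : Divisor k K) Q) := mul_le_mul' (hf Q) (hg Q)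
      _ = exp ((Finsupp.single P ((a + b : ℕ) : ℤ) : Divisor k K) Q) := by
          rw [← exp_add, Nat.cast_add, Finsupp.single_add, Finsupp.add_apply]
  · rw [ord_mul P hf0 hg0, hfo, hgo]; push_cast; ring

variable (hK : IsFunctionField k K)
include hK

lemma ell_add_card_gaps {P : Place k K} (hP : P.deg = 1) (n : ℕ) :
    ell (Finsupp.single P (n : ℤ) : Divisor k K) + {m | 1 ≤ m ∧ m ≤ n ∧ IsGap P m}.ncard = n + 1 := by
  induction n with
  | zero =>
    have h : {m | 1 ≤ m ∧ m ≤ 0 ∧ IsGap P m} = ∅ := Set.eq_empty_iff_forall_notMem.2 fun m h => by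
      obtain ⟨h1, h2, -⟩ := h; omega
    rw [h, Set.ncard_empty, Nat.cast_zero, Finsupp.single_zero, ell_zero hK]
  | succ n ih =>
    have hle := single_le_single P (show ((n : ℕ) : ℤ) ≤ ((n + 1 : ℕ) : ℤ) by omega)
    have h1 := ell_mono hK hle
    have h2 := ell_sub_le hK _ _ hle
    rw [deg_single, deg_single, hP] at h2
    have hfin : {m | 1 ≤ m ∧ m ≤ n ∧ IsGap P m}.Finite :=
      (Set.finite_le_nat n).subset fun m h => h.2.1
    by_cases hg : IsGap P (n + 1)
    · have hset : {m | 1 ≤ m ∧ m ≤ n + 1 ∧ IsGap P m} = insert (n + 1) {m | 1 ≤ m ∧ m ≤ n ∧ IsGap P m} := by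
        ext m
        simp only [Set.mem_insert_iff]
        constructor
        · rintro ⟨a, b, c⟩
          rcases Nat.eq_or_lt_of_le b with b | b
          exacts [Or.inl b, Or.inr ⟨a, by omega, c⟩]
        · rintro (rfl | ⟨a, b, c⟩)
          exacts [⟨by omega, le_rfl, hg⟩, ⟨a, by omega, c⟩]
      rw [hset, Set.ncard_insert_of_notMem (fun h => by obtain ⟨-, h, -⟩ := h; omega) hfin]
      have e : L (Finsupp.single P ((n + 1 : ℕ) : ℤ) : Divisor k K) = L (Finsupp.single P (n : ℤ) : Divisor k K) := by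
        rw [show L (Finsupp.single P ((n + 1 : ℕ) : ℤ) : Divisor k K) =
          L (Finsupp.single P (((n + 1 : ℕ) : ℤ) - 1) : Divisor k K) from hg]
        norm_num
      have e2 : ell (Finsupp.single P ((n + 1 : ℕ) : ℤ) : Divisor k K) = ell (Finsupp.single P (n : ℤ) : Divisor k K) := by
        rw [ell, e]; rfl
      omega
    · have hset : {m | 1 ≤ m ∧ m ≤ n + 1 ∧ IsGap P m} = {m | 1 ≤ m ∧ m ≤ n ∧ IsGap P m} := by
        ext m
        constructor
        · rintro ⟨a, b, c⟩
          rcases Nat.eq_or_lt_of_le b with rfl | b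
          exacts [absurd c hg, ⟨a, by omega, c⟩]
        · rintro ⟨a, b, c⟩
          exact ⟨a, by omega, c⟩
      rw [hset]
      have hlt : ell (Finsupp.single P (n : ℤ) : Divisor k K) < ell (Finsupp.single P ((n + 1 : ℕ) : ℤ) : Divisor k K) := by
        have := finiteDimensional_L hK (Finsupp.single P ((n + 1 : ℕ) : ℤ) : Divisor k K)
        refine Submodule.finrank_lt_finrank_of_lt (lt_of_le_of_ne (L_mono hle) fun e => hg ?_)
        show _ = L _
        rw [← e]
        norm_num
      push_cast at h2 hlt ⊢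
      omega

omit hK in
lemma le_two_mul_gaps {P : Place k K} (n : ℕ) (hn : IsGap P n) :
    n - 1 ≤ 2 * {m | 1 ≤ m ∧ m < n ∧ IsGap P m}.ncard := by
  classical
  have e : {m | 1 ≤ m ∧ m < n ∧ IsGap P m} = ↑((Finset.Ico 1 n).filter fun m => IsGap P m) := by
    ext m; simp [and_assoc]
  rw [e, Set.ncard_coe_finset]
  have h := Finset.card_filter_add_card_filter_not (s := Finset.Ico 1 n) (fun m => IsGap P m)
  have h2 : ((Finset.Ico 1 n).filter fun m => ¬IsGap P m).card ≤
      ((Finset.Ico 1 n).filter fun m => IsGap P m).card := by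
    refine Finset.card_le_card_of_injOn (fun m => n - m) (fun m hm => ?_) fun a ha b hb e => ?_
    · simp only [Finset.coe_filter, Finset.mem_Ico, Set.mem_setOf_eq] at hm ⊢
      refine ⟨by omega, ?_⟩
      by_contra h
      exact not_isGap_add hm.2 h (by rwa [Nat.add_sub_cancel' (by omega)])
    · simp only [Finset.coe_filter, Finset.mem_Ico, Set.mem_setOf_eq] at ha hb
      simp only at e
      omega
  rw [Nat.card_Ico] at h
  omega

/-- The Weierstrass form of a genus-one function field with a rational place. -/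
lemma weierstrass (hg : genus k K = 1) {P₀ : Place k K} (hP : P₀.deg = 1) :
    ∃ x y : K, x ∈ L (Finsupp.single P₀ 2 : Divisor k K) ∧ y ∈ L (Finsupp.single P₀ 3 : Divisor k K) ∧
      P₀.ord x = -2 ∧ P₀.ord y = -3 ∧
      IntermediateField.adjoin k ({x, y} : Set K) = ⊤ ∧
      ∃ f g : k[X], f.natDegree ≤ 1 ∧ g.natDegree = 3 ∧
        y ^ 2 + aeval x f * y + aeval x g = 0 := by
  classical
  have hl : ∀ n : ℤ, 1 ≤ n → (ell (Finsupp.single P₀ n : Divisor k K) : ℤ) = n := by
    intro n hn
    rw [ell_eq_of_deg_ge hK (by rw [deg_single, hg, hP]; push_cast; omega), deg_single, hg, hP]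
    push_cast; ring
  have pick : ∀ n : ℤ, 2 ≤ n → ∃ f ∈ L (Finsupp.single P₀ n : Divisor k K), f ≠ 0 ∧ P₀.ord f = -n := by
    intro n hn
    by_contra h
    have hle : L (Finsupp.single P₀ n : Divisor k K) ≤ L (Finsupp.single P₀ (n - 1) : Divisor k K) :=
      fun f hf => by
        by_contra hn'
        obtain ⟨a, b⟩ := ord_eq_of_mem_notMem hf hn'
        exact h ⟨f, hf, a, b⟩
    have := finiteDimensional_L hK (Finsupp.single P₀ (n - 1) : Divisor k K)
    have h1 := Submodule.finrank_mono hle
    have h2 := hl n (by omega)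
    have h3 := hl (n - 1) (by omega)
    unfold ell at h2 h3
    omega
  obtain ⟨x, hx, hx0, hxo⟩ := pick 2 le_rfl
  obtain ⟨y, hy, hy0, hyo⟩ := pick 3 (by norm_num)
  have htx : Transcendental k x := transcendental_of_ord hK P₀ (by omega)
  have hty : Transcendental k y := transcendental_of_ord hK P₀ (by omega)
  have hpole : ∀ (z : K) (m : ℤ), z ≠ 0 → z ∈ L (Finsupp.single P₀ m : Divisor k K) → 0 ≤ m →
      P₀.ord z = -m → pole (k := k) z = Finsupp.single P₀ m := by
    intro z m hz hzL hm hzo
    ext Q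
    rw [pole_apply hK]
    have hQ := (mem_L_iff hz).1 hzL Q
    rcases eq_or_ne Q P₀ with rfl | hne
    · rw [Finsupp.single_eq_same, hzo]; omega
    · rw [Finsupp.single_eq_of_ne hne] at hQ ⊢; omega
  refine ⟨x, y, hx, hy, hxo, hyo, ?_, ?_⟩
  · set M := IntermediateField.adjoin k ({x, y} : Set K)
    have hdx : (finrank (IntermediateField.adjoin k ({x} : Set K)) K : ℤ) = 2 := by
      rw [← deg_pole hK htx, hpole x 2 hx0 hx (by norm_num) hxo, deg_single, hP]; norm_num
    have hdy : (finrank (IntermediateField.adjoin k ({y} : Set K)) K : ℤ) = 3 := by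
      rw [← deg_pole hK hty, hpole y 3 hy0 hy (by norm_num) hyo, deg_single, hP]; norm_num
    have hxM : IntermediateField.adjoin k ({x} : Set K) ≤ M :=
      IntermediateField.adjoin.mono k _ _ (by simp)
    have hyM : IntermediateField.adjoin k ({y} : Set K) ≤ M :=
      IntermediateField.adjoin.mono k _ _ (by simp)
    have h1 : finrank M K ∣ 2 := by
      rw [← show finrank (IntermediateField.adjoin k ({x} : Set K)) K = 2 by exact_mod_cast hdx]
      exact dvd_of_mul_left_eq _ (IntermediateField.relfinrank_mul_finrank_top hxM)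
    have h2 : finrank M K ∣ 3 := by
      rw [← show finrank (IntermediateField.adjoin k ({y} : Set K)) K = 3 by exact_mod_cast hdy]
      exact dvd_of_mul_left_eq _ (IntermediateField.relfinrank_mul_finrank_top hyM)
    have h3 : finrank M K ∣ Nat.gcd 2 3 := Nat.dvd_gcd h1 h2
    exact IntermediateField.finrank_eq_one_iff_eq_top.1 (Nat.dvd_one.1 (by simpa using h3))
  · let v : Fin 6 → K := ![1, x, y, x ^ 2, x * y, x ^ 3]
    have hvo : ∀ i, P₀.ord (v i) = ![0, -2, -3, -4, -5, -6] i := by
      intro i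
      fin_cases i <;> simp [v, hxo, hyo, ord_pow, ord_mul P₀ hx0 hy0]
    have hv0 : ∀ i, v i ≠ 0 := by
      intro i; fin_cases i <;> simp [v, hx0, hy0]
    have hvm : ∀ i, v i ∈ L (Finsupp.single P₀ 6 : Divisor k K) := by
      intro i
      rw [mem_L_iff (hv0 i)]
      intro Q
      rcases eq_or_ne Q P₀ with rfl | hQ
      · rw [hvo, Finsupp.single_eq_same]; fin_cases i <;> simp
      · rw [Finsupp.single_eq_of_ne hQ, add_zero]
        have e1 := (mem_L_iff hx0).1 hx Q
        have e2 := (mem_L_iff hy0).1 hy Q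
        rw [Finsupp.single_eq_of_ne hQ, add_zero] at e1 e2
        fin_cases i <;> simp [v, ord_pow, ord_mul Q hx0 hy0] <;> omega
    have hinj : Function.Injective fun i => P₀.ord (v i) := by
      intro a b e
      simp only [hvo] at e
      fin_cases a <;> fin_cases b <;> simp_all
    have hli := linearIndependent_of_ord P₀ v hv0 hinj
    have hspan : L (Finsupp.single P₀ 6 : Divisor k K) = Submodule.span k (Set.range v) := by
      have := finiteDimensional_L hK (Finsupp.single P₀ 6 : Divisor k K)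
      refine (Submodule.eq_of_le_of_finrank_le ?_ ?_).symm
      · rw [Submodule.span_le]; rintro _ ⟨i, rfl⟩; exact hvm i
      · rw [finrank_span_eq_card hli, Fintype.card_fin]
        have := hl 6 (by norm_num)
        unfold ell at this
        omega
    have hy2 : y ^ 2 ∈ L (Finsupp.single P₀ 6 : Divisor k K) := by
      rw [mem_L_iff (pow_ne_zero 2 hy0)]
      intro Q
      have e2 := (mem_L_iff hy0).1 hy Q
      rcases eq_or_ne Q P₀ with rfl | hQ
      · rw [Finsupp.single_eq_same, ord_pow, hyo]; norm_num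
      · rw [Finsupp.single_eq_of_ne hQ, add_zero] at e2 ⊢
        rw [ord_pow]; push_cast; omega
    rw [hspan, Submodule.mem_span_range_iff_exists_fun] at hy2
    obtain ⟨c, hc⟩ := hy2
    simp only [Fin.sum_univ_six, v] at hc
    have hc5 : c 5 ≠ 0 := by
      intro h5
      have hmem : y ^ 2 ∈ L (Finsupp.single P₀ 5 : Divisor k K) := by
        have h5m : ∀ i : Fin 6, i ≠ 5 → v i ∈ L (Finsupp.single P₀ 5 : Divisor k K) := by
          intro i hi
          rw [mem_L_iff (hv0 i)]
          intro Q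
          have := (mem_L_iff (hv0 i)).1 (hvm i) Q
          rcases eq_or_ne Q P₀ with rfl | hQ
          · rw [hvo, Finsupp.single_eq_same]; fin_cases i <;> simp_all
          · rw [Finsupp.single_eq_of_ne hQ] at this ⊢; exact this
        rw [← hc, h5, zero_smul, add_zero]
        exact Submodule.add_mem _ (Submodule.add_mem _ (Submodule.add_mem _ (Submodule.add_mem _
          (Submodule.smul_mem _ _ (h5m 0 (by decide))) (Submodule.smul_mem _ _ (h5m 1 (by decide))))
          (Submodule.smul_mem _ _ (h5m 2 (by decide)))) (Submodule.smul_mem _ _ (h5m 3 (by decide))))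
          (Submodule.smul_mem _ _ (h5m 4 (by decide)))
      have := (mem_L_iff (pow_ne_zero 2 hy0)).1 hmem P₀
      rw [Finsupp.single_eq_same, ord_pow, hyo] at this
      norm_num at this
    refine ⟨C (-c 4) * X + C (-c 2),
      C (-c 5) * X ^ 3 + C (-c 3) * X ^ 2 + C (-c 1) * X + C (-c 0),
      Polynomial.natDegree_linear_le, Polynomial.natDegree_cubic (neg_ne_zero.2 hc5), ?_⟩
    rw [← hc]
    simp [Algebra.smul_def]
    ring

end Groth.Agent.FFLib
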