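import Groth.Agent.FFLib.DegOne
import Groth.Agent.FFLib.Gaps
import Groth.Prelude.Def_W4bk4goldsch45
import Mathlib.FieldTheory.Relrank

/-!
# Pullback of divisors along an endomorphism, and divisors of projective maps
-/

open WithZero Module

namespace Groth.Agent.FFLib

open FunFld

variable {k K : Type*} [Field k] [Field K] [Algebra k K]

/-! ## The divisor of a projective map -/

variable (hK : IsFunctionField k K)
include hK

lemma mapDiv_apply {ι : Type*} [Fintype ι] [Nonempty ι] (φ : ι → K) (P : Place k K) :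
    mapDiv k φ P = -Finset.univ.inf' Finset.univ_nonempty (fun i => P.ord (φ i)) := by
  classical
  rw [mapDiv, dif_pos, Finsupp.ofSupportFinite_coe]
  refine (Set.finite_iUnion fun i => finite_support_ord hK (φ i)).subset fun R hR => ?_
  by_contra hnot
  simp only [Set.mem_iUnion, Function.mem_support, not_exists, not_not] at hnot
  exact hR (by simp [hnot])

lemma neg_mapDiv_le_ord {ι : Type*} [Fintype ι] [Nonempty ι] (φ : ι → K) (P : Place k K) (i : ι) :
    -mapDiv k φ P ≤ P.ord (φ i) := by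
  rw [mapDiv_apply hK, neg_neg]
  exact Finset.inf'_le (fun i => P.ord (φ i)) (Finset.mem_univ i)

lemma exists_ord_eq_neg_mapDiv {ι : Type*} [Fintype ι] [Nonempty ι] (φ : ι → K) (P : Place k K) :
    ∃ i, P.ord (φ i) = -mapDiv k φ P := by
  obtain ⟨i, -, hi⟩ := Finset.exists_mem_eq_inf' Finset.univ_nonempty (fun i => P.ord (φ i))
  exact ⟨i, by rw [mapDiv_apply hK, hi, neg_neg]⟩

lemma v_le_exp_mapDiv {ι : Type*} [Fintype ι] [Nonempty ι] (φ : ι → K) (P : Place k K) (i : ι) :
    P.1 (φ i) ≤ exp (mapDiv k φ P) := by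
  rcases eq_or_ne (φ i) 0 with h | h
  · simp [h]
  · rw [v_eq P h, exp_le_exp]
    have := neg_mapDiv_le_ord hK φ P i
    omega

lemma mapDiv_le_of_v_le {ι : Type*} [Fintype ι] [Nonempty ι] {φ : ι → K} (hφ : ∀ i, φ i ≠ 0)
    {P : Place k K} {d : ℤ} (h : ∀ i, P.1 (φ i) ≤ exp d) : mapDiv k φ P ≤ d := by
  obtain ⟨i, hi⟩ := exists_ord_eq_neg_mapDiv hK φ P
  have := (v_le_exp_iff P (hφ i) d).1 (h i)
  omega

/-- Multiplying a tuple by a function translates its divisor. -/
lemma mapDiv_smul_apply {ι : Type*} [Fintype ι] [Nonempty ι] {φ : ι → K} (hφ : ∀ i, φ i ≠ 0) {y : K}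
    (hy : y ≠ 0) (P : Place k K) : mapDiv k (y • φ) P = mapDiv k φ P - P.ord y := by
  obtain ⟨i, hi⟩ := exists_ord_eq_neg_mapDiv hK φ P
  obtain ⟨j, hj⟩ := exists_ord_eq_neg_mapDiv hK (y • φ) P
  have h1 := neg_mapDiv_le_ord hK φ P j
  have h2 := neg_mapDiv_le_ord hK (y • φ) P i
  simp only [Pi.smul_apply, smul_eq_mul] at hj h2
  rw [ord_mul P hy (hφ _)] at hj h2
  omega

/-- A tuple spanning no larger space has no larger divisor. -/
lemma mapDiv_mono_span {ι κ : Type*} [Fintype ι] [Nonempty ι] [Fintype κ] [Nonempty κ] {φ : ι → K}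
    {ψ : κ → K} (hψ : ∀ i, ψ i ≠ 0) (h : ∀ i, ψ i ∈ Submodule.span k (Set.range φ)) (P : Place k K) :
    mapDiv k ψ P ≤ mapDiv k φ P := by
  refine mapDiv_le_of_v_le hK hψ fun i => ?_
  obtain ⟨μ, hμ⟩ := (Submodule.mem_span_range_iff_exists_fun k).1 (h i)
  rw [← hμ]
  exact P.1.map_sum_le fun j _ => (v_smul_le P _ _).trans (v_le_exp_mapDiv hK φ P j)

lemma mapDiv_eq_of_span {ι κ : Type*} [Fintype ι] [Nonempty ι] [Fintype κ] [Nonempty κ] {φ : ι → K}
    {ψ : κ → K} (hφ : ∀ i, φ i ≠ 0) (hψ : ∀ i, ψ i ≠ 0)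
    (h : Submodule.span k (Set.range φ) = Submodule.span k (Set.range ψ)) :
    mapDiv k φ = mapDiv k ψ :=
  Finsupp.ext fun P => le_antisymm
    (mapDiv_mono_span hK hφ (fun i => h ▸ Submodule.subset_span ⟨i, rfl⟩) P)
    (mapDiv_mono_span hK hψ (fun i => h ▸ Submodule.subset_span ⟨i, rfl⟩) P)

/-- An effective normalized tuple has no divisor at the place. -/
lemma mapDiv_eq_zero_of_normalized {ι : Type*} [Fintype ι] [Nonempty ι] {φ : ι → K} {P : Place k K}
    (heff : (1 : K) ∈ Submodule.span k (Set.range φ)) (hφ : ∀ i, φ i ≠ 0) (hint : ∀ i, P.1 (φ i) ≤ 1) :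
    mapDiv k φ P = 0 := by
  refine le_antisymm (mapDiv_le_of_v_le hK hφ fun i => by rw [exp_zero]; exact hint i) ?_
  have h := mapDiv_mono_span hK (ψ := fun _ : Fin 1 => (1 : K)) (φ := φ) (fun _ => one_ne_zero)
    (fun _ => heff) P
  refine le_of_eq_of_le ?_ h
  rw [mapDiv_apply hK]
  simp

/-! ## Restriction of places along an endomorphism -/

variable [IsAlgClosed k] (τ : K →ₐ[k] K)

/-- The restriction of a place along `τ`, with its ramification index. -/
lemma exists_restrict (Q : Place k K) :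
    ∃ (P : Place k K) (e : ℕ), 0 < e ∧ ∀ y : K, y ≠ 0 → Q.ord (τ y) = e * P.ord y := by
  obtain ⟨x, hx⟩ := exists_transcendental hK
  have hne : Q.O.comap τ.toRingHom ≠ ⊤ := by
    intro htop
    have hint : ∀ y : K, Q.1 (τ y) ≤ 1 := fun y =>
      (show y ∈ Q.O.comap τ.toRingHom by rw [htop]; trivial)
    obtain ⟨c, hc⟩ := exists_const_sub_lt (deg_eq_one hK Q) (hint x)
    have h0 : x - algebraMap k K c ≠ 0 := fun e =>
      hx (sub_eq_zero.1 e ▸ isAlgebraic_algebraMap c)
    have h1 : Q.1 (τ (x - algebraMap k K c)) < 1 := by rwa [map_sub, τ.commutes]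
    have h2 := hint (x - algebraMap k K c)⁻¹
    rw [map_inv₀, map_inv₀, inv_le_one₀ (zero_lt_iff.2 (v_ne_zero Q (show τ (x - algebraMap k K c) ≠ 0 from (map_ne_zero τ.toRingHom).2 h0)))] at h2
    exact not_lt.2 h2 h1
  obtain ⟨P, hP⟩ := exists_place_of_valuationSubring hK (Q.O.comap τ.toRingHom)
    (fun c => show Q.1 (τ (algebraMap k K c)) ≤ 1 by rw [τ.commutes]; exact Q.2.1 c) hne
  have hiff : ∀ y, P.1 y ≤ 1 ↔ Q.1 (τ y) ≤ 1 := fun y =>
    (show y ∈ P.O ↔ y ∈ Q.O.comap τ.toRingHom by rw [hP])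
  have hzero : ∀ u : K, u ≠ 0 → P.ord u = 0 → Q.ord (τ u) = 0 := fun u hu h => by
    have h1 := (v_le_one_iff Q _).1 ((hiff u).1 ((v_le_one_iff P u).2 h.ge))
    have h2 := (v_le_one_iff Q _).1 ((hiff u⁻¹).1 ((v_le_one_iff P u⁻¹).2 (by rw [ord_inv, h, neg_zero])))
    rw [map_inv₀, ord_inv] at h2
    omega
  obtain ⟨π, hπ0, hπ1, -⟩ := exists_uniformizer P
  have hτπ : τ π ≠ 0 := (map_ne_zero τ.toRingHom).2 hπ0
  have hpos : 0 < Q.ord (τ π) := by
    have h1 : ¬ Q.1 (τ π⁻¹) ≤ 1 := fun h => by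
      have := (v_le_one_iff P _).1 ((hiff _).2 h)
      rw [ord_inv, hπ1] at this
      omega
    have h1' : Q.ord (τ π⁻¹) < 0 := not_le.1 fun h => h1 ((v_le_one_iff Q _).2 h)
    rw [map_inv₀, ord_inv] at h1'
    omega
  refine ⟨P, (Q.ord (τ π)).toNat, by omega, fun y hy => ?_⟩
  have hu0 : y * π ^ (-P.ord y) ≠ 0 := mul_ne_zero hy (zpow_ne_zero _ hπ0)
  have hu := hzero _ hu0 (by
    rw [ord_mul P hy (zpow_ne_zero _ hπ0), ord_zpow, hπ1, mul_one, add_neg_cancel])
  rw [map_mul, map_zpow₀, ord_mul Q (show τ y ≠ 0 from (map_ne_zero τ.toRingHom).2 hy) (zpow_ne_zero _ hτπ), ord_zpow] at hu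
  rw [Int.toNat_of_nonneg hpos.le, mul_comm]
  linarith

/-- The chosen restriction. -/
noncomputable def resPlace (hK : IsFunctionField k K) (τ : K →ₐ[k] K) (Q : Place k K) : Place k K :=
  Classical.choose (exists_restrict hK τ Q)

/-- The chosen ramification index. -/
noncomputable def resIdx (hK : IsFunctionField k K) (τ : K →ₐ[k] K) (Q : Place k K) : ℕ :=
  Classical.choose (Classical.choose_spec (exists_restrict hK τ Q))

lemma resIdx_pos (Q : Place k K) : 0 < resIdx hK τ Q :=
  (Classical.choose_spec (Classical.choose_spec (exists_restrict hK τ Q))).1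

lemma ord_map (Q : Place k K) (y : K) : Q.ord (τ y) = resIdx hK τ Q * (resPlace hK τ Q).ord y := by
  rcases eq_or_ne y 0 with rfl | hy
  · simp
  · exact (Classical.choose_spec (Classical.choose_spec (exists_restrict hK τ Q))).2 y hy

omit [IsAlgClosed k] in
lemma finrank_adjoin_map (x : K) :
    finrank (IntermediateField.adjoin k ({τ x} : Set K)) K =
      finrank (IntermediateField.adjoin k ({x} : Set K)) K * finrank τ.fieldRange K := by
  have h1 : IntermediateField.adjoin k ({τ x} : Set K) = (IntermediateField.adjoin k ({x} : Set K)).map τ := by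
    rw [IntermediateField.adjoin_map, Set.image_singleton]
  have h2 : τ.fieldRange = (⊤ : IntermediateField k K).map τ := AlgHom.fieldRange_eq_map τ
  rw [congrArg (fun F : IntermediateField k K => finrank F K) h1,
    congrArg (fun F : IntermediateField k K => finrank F K) h2,
    ← IntermediateField.relfinrank_mul_finrank_top
      (IntermediateField.map_mono τ (le_top : IntermediateField.adjoin k ({x} : Set K) ≤ ⊤)),
    IntermediateField.relfinrank_map_map, IntermediateField.relfinrank_top_right]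

/-- A function with a single pole. -/
lemma exists_pole_single (P : Place k K) {m : ℕ} (hm : 2 * genus k K < m) :
    ∃ f : K, Transcendental k f ∧ pole (k := k) f = Finsupp.single P (m : ℤ) := by
  have hP := deg_eq_one hK P
  have h1 := ell_eq_of_deg_ge hK (D := Finsupp.single P (m : ℤ)) (by rw [deg_single, hP]; omega)
  have h2 := ell_eq_of_deg_ge hK (D := Finsupp.single P ((m : ℤ) - 1)) (by rw [deg_single, hP]; omega)
  rw [deg_single, hP] at h1 h2
  obtain ⟨f, hf, hf'⟩ : ∃ f ∈ L (Finsupp.single P (m : ℤ) : Divisor k K),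
      f ∉ L (Finsupp.single P ((m : ℤ) - 1) : Divisor k K) := by
    by_contra h
    push Not at h
    have := finiteDimensional_L hK (Finsupp.single P ((m : ℤ) - 1))
    have h3 : ell (Finsupp.single P (m : ℤ)) ≤ ell (Finsupp.single P ((m : ℤ) - 1)) :=
      Submodule.finrank_mono fun f hf => h f hf
    omega
  obtain ⟨hf0, hord⟩ := ord_eq_of_mem_notMem hf hf'
  refine ⟨f, transcendental_of_ord hK P (by omega), Finsupp.ext fun R => ?_⟩
  rw [pole_apply hK]
  rcases eq_or_ne R P with rfl | hR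
  · rw [Finsupp.single_eq_same, hord]; omega
  · rw [Finsupp.single_eq_of_ne hR]
    have := (mem_L_iff hf0).1 hf R
    rw [Finsupp.single_eq_of_ne hR] at this
    omega

/-- The fibre divisor over a place. -/
lemma exists_fibDiv (P : Place k K) : ∃ F : Divisor k K, F.deg = finrank τ.fieldRange K ∧
    ∀ Q, (resPlace hK τ Q = P → F Q = resIdx hK τ Q) ∧ (resPlace hK τ Q ≠ P → F Q = 0) := by
  obtain ⟨x, hx, hxp⟩ := exists_pole_single hK P (m := 2 * genus k K + 2) (by omega)
  obtain ⟨y, hy, hyp⟩ := exists_pole_single hK P (m := 2 * genus k K + 1) (by omega)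
  have htr : ∀ z : K, Transcendental k z → Transcendental k (τ z) := fun z hz h =>
    hz ((isAlgebraic_algHom_iff τ τ.injective).1 h)
  have hdeg : ∀ z : K, Transcendental k z →
      (pole (k := k) (τ z)).deg = (pole (k := k) z).deg * finrank τ.fieldRange K := fun z hz => by
    rw [deg_pole hK (htr z hz), deg_pole hK hz, finrank_adjoin_map hK, Nat.cast_mul]
  refine ⟨pole (τ x) - pole (τ y), ?_, fun Q => ?_⟩
  · rw [deg_sub, hdeg x hx, hdeg y hy, hxp, hyp, deg_single, deg_single, deg_eq_one hK P]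
    push_cast
    ring
  have key : ∀ z : K, pole (k := k) (τ z) Q = resIdx hK τ Q * pole (k := k) z (resPlace hK τ Q) := fun z => by
    rw [pole_apply hK, pole_apply hK, ord_map hK, mul_max_of_nonneg _ _ (Int.natCast_nonneg _)]
    congr 1 <;> ring
  rw [Finsupp.sub_apply, key, key, hxp, hyp]
  constructor
  · intro h
    rw [h, Finsupp.single_eq_same, Finsupp.single_eq_same]
    push_cast
    ring
  · intro h
    rw [Finsupp.single_eq_of_ne h, Finsupp.single_eq_of_ne h]
    simp

/-- The divisor of `τ ∘ φ`. -/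
lemma mapDiv_comp_apply {ι : Type*} [Fintype ι] [Nonempty ι] (φ : ι → K) (Q : Place k K) :
    mapDiv k (τ ∘ φ) Q = resIdx hK τ Q * mapDiv k φ (resPlace hK τ Q) := by
  obtain ⟨i, hi⟩ := exists_ord_eq_neg_mapDiv hK φ (resPlace hK τ Q)
  obtain ⟨j, hj⟩ := exists_ord_eq_neg_mapDiv hK (τ ∘ φ) Q
  have h1 := neg_mapDiv_le_ord hK φ (resPlace hK τ Q) j
  have h2 := neg_mapDiv_le_ord hK (τ ∘ φ) Q i
  simp only [Function.comp_apply, ord_map hK] at hj h2
  rw [hi] at h2
  have := mul_le_mul_of_nonneg_left h1 (Int.natCast_nonneg (resIdx hK τ Q))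
  rw [hj] at this
  linarith

/-- The degree of `τ ∘ φ`. -/
theorem deg_mapDiv_comp {ι : Type*} [Fintype ι] [Nonempty ι] (φ : ι → K) :
    (mapDiv k (τ ∘ φ)).deg = finrank τ.fieldRange K * (mapDiv k φ).deg := by
  classical
  choose F hFd hF using exists_fibDiv hK τ
  set D := mapDiv k φ
  have h : mapDiv k (τ ∘ φ) = ∑ P ∈ D.support, D P • F P := by
    refine Finsupp.ext fun Q => ?_
    rw [mapDiv_comp_apply hK, Finsupp.finsetSum_apply]
    simp only [Finsupp.smul_apply, smul_eq_mul]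
    rw [Finset.sum_eq_single (resPlace hK τ Q) (fun P _ hne => by rw [(hF P Q).2 hne.symm, mul_zero])
      (fun hn => by rw [Finsupp.notMem_support_iff.1 hn, zero_mul]), (hF _ Q).1 rfl, mul_comm]
  rw [h]
  show degHom (∑ P ∈ D.support, D P • F P) = _
  rw [map_sum]
  simp only [map_zsmul, smul_eq_mul]
  rw [show D.deg = ∑ P ∈ D.support, D P * (P.deg : ℤ) from rfl, Finset.mul_sum]
  refine Finset.sum_congr rfl fun P _ => ?_
  rw [show degHom (F P) = (F P).deg from rfl, hFd, deg_eq_one hK P]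
  push_cast
  ring

end Groth.Agent.FFLib
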