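import Groth.Agent.FFLib.LocFibre
import Groth.Agent.FFLib.Conorm
import Mathlib.RingTheory.MvPolynomial.Homogeneous

/-!
# Criteria for nonsingularity of a projective map
-/

open WithZero Module

namespace Groth.Agent.FFLib

open FunFld

variable {k K : Type*} [Field k] [Field K] [Algebra k K] {ι : Type*}

/-- A coordinate of largest value. -/
lemma exists_max_coord [Fintype ι] [Nonempty ι] (φ : ι → K) (P : Place k K) :
    ∃ j, ∀ i, P.1 (φ i) ≤ P.1 (φ j) := by
  obtain ⟨j, -, hj⟩ := Finset.univ.exists_max_image (fun i => P.1 (φ i)) Finset.univ_nonempty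
  exact ⟨j, fun i => hj i (Finset.mem_univ i)⟩

lemma v_coord_eq [Fintype ι] [Nonempty ι] (hK : IsFunctionField k K) {φ : ι → K} (hφ : ∀ i, φ i ≠ 0)
    {P : Place k K} {j : ι} (hmax : ∀ i, P.1 (φ i) ≤ P.1 (φ j)) :
    P.1 (φ j) = exp (mapDiv k φ P) := by
  refine le_antisymm (v_le_exp_mapDiv hK φ P j) ?_
  obtain ⟨i, hi⟩ := exists_ord_eq_neg_mapDiv hK φ P
  refine le_trans ?_ (hmax i)
  rw [v_eq P (hφ i), hi, neg_neg]

/-- Scaling the variables of a homogeneous polynomial. -/
lemma aeval_scale {R : Type*} [CommRing R] [Algebra k R] {σ : Type*} {m : ℕ} {g : MvPolynomial σ k}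
    (hg : g.IsHomogeneous m) (a : R) (v : σ → R) :
    MvPolynomial.aeval (fun i => a * v i) g = a ^ m * MvPolynomial.aeval v g := by
  rw [MvPolynomial.aeval_def, MvPolynomial.aeval_def, MvPolynomial.eval₂_eq, MvPolynomial.eval₂_eq,
    Finset.mul_sum]
  refine Finset.sum_congr rfl fun d hd => ?_
  rw [hg.degree_eq_sum_deg_support hd, mul_left_comm, Finset.prod_congr rfl fun i _ => mul_pow a (v i) (d i),
    Finset.prod_mul_distrib, Finset.prod_pow_eq_pow_sum]


variable [IsAlgClosed k] (hK : IsFunctionField k K) {φ : ι → K} {c : K}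
include hK

/-- The local ring contains a uniformizer exactly when some form gives one. -/
lemma exists_uniformizer_inLoc_iff (hc : c ∈ Submodule.span k (Set.range φ)) {P : Place k K}
    (hP : ∀ i, P.1 (φ i / c) ≤ 1) (hc0 : c ≠ 0) :
    (∃ t, InLoc (chart k φ c) P t ∧ P.1 t = exp (-1 : ℤ)) ↔
      ∃ s ∈ Submodule.span k (Set.range φ), P.1 (s / c) = exp (-1 : ℤ) := by
  refine ⟨fun ⟨t, ⟨u, hu, w, _, hw1, htw⟩, ht⟩ => ?_,
    fun ⟨s, hs, h⟩ => ⟨s / c, InLoc.of_mem (span_div_mem_chart hs), h⟩⟩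
  by_contra hne
  push Not at hne
  have hsmall : ∀ s ∈ Submodule.span k (Set.range φ),
      ∃ r : k, P.1 (s / c - algebraMap k K r) ≤ exp (-2 : ℤ) := by
    intro s hs
    obtain ⟨r, hr⟩ := exists_const_sub_lt (deg_eq_one hK P)
      (chart_le_one hP (span_div_mem_chart hs) : P.1 (s / c) ≤ 1)
    refine ⟨r, ?_⟩
    have he : (s - r • c) / c = s / c - algebraMap k K r := by
      rw [sub_div, Algebra.smul_def, mul_div_cancel_right₀ _ hc0]
    rcases eq_or_ne (s / c - algebraMap k K r) 0 with h0 | h0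
    · rw [h0, map_zero]; exact zero_le
    have h1 := (v_lt_one_iff P h0).1 hr
    have h2 := hne (s - r • c) (sub_mem hs (Submodule.smul_mem _ _ hc))
    rw [he, Ne, v_eq_exp_iff P h0] at h2
    rw [v_le_exp_iff P h0]
    omega
  have hA : ∀ a ∈ chart k φ c, ∃ r : k, P.1 (a - algebraMap k K r) ≤ exp (-2 : ℤ) := by
    intro a ha
    induction ha using Algebra.adjoin_induction with
    | mem w hw => obtain ⟨i, rfl⟩ := hw; exact hsmall _ (Submodule.subset_span ⟨i, rfl⟩)
    | algebraMap r => exact ⟨r, by simp⟩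
    | add a b _ _ ha hb =>
      obtain ⟨r, hr⟩ := ha
      obtain ⟨r', hr'⟩ := hb
      refine ⟨r + r', ?_⟩
      rw [map_add, add_sub_add_comm]
      exact (P.1.map_add _ _).trans (max_le hr hr')
    | mul a b ha' _ ha hb =>
      obtain ⟨r, hr⟩ := ha
      obtain ⟨r', hr'⟩ := hb
      refine ⟨r * r', ?_⟩
      rw [map_mul, show a * b - algebraMap k K r * algebraMap k K r' =
        a * (b - algebraMap k K r') + (a - algebraMap k K r) * algebraMap k K r' by ring]
      refine (P.1.map_add _ _).trans (max_le ?_ ?_)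
      · rw [map_mul]; exact (mul_le_of_le_one_left' (chart_le_one hP ha')).trans hr'
      · rw [map_mul]; exact (mul_le_of_le_one_right' (P.2.1 r')).trans hr
  obtain ⟨r, hr⟩ := hA u hu
  have hu1 : P.1 u = exp (-1 : ℤ) := by rw [← htw, map_mul, hw1, mul_one, ht]
  have hr0 : r = 0 := (lt_one_iff_of_const (hr.trans_lt (by rw [← exp_zero, exp_lt_exp]; omega))).1
    (by rw [hu1, ← exp_zero, exp_lt_exp]; omega)
  rw [hr0, map_zero, sub_zero, hu1, exp_le_exp] at hr
  omega

variable [Fintype ι] (hgen : IntermediateField.adjoin k (Set.range fun i => φ i / c) = ⊤)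
include hgen

/-- One place over the point and a uniformizer in the local ring give nonsingularity. -/
theorem inLoc_of_unique {P : Place k K} (hP : ∀ i, P.1 (φ i / c) ≤ 1)
    (huniq : ∀ Q : Place k K, (∀ i, Cong P Q (φ i / c)) → Q = P)
    {t : K} (ht : InLoc (chart k φ c) P t) (ht1 : P.1 t = exp (-1 : ℤ)) {z : K} (hz : P.1 z ≤ 1) :
    InLoc (chart k φ c) P z := by
  obtain ⟨N, hN⟩ := exists_fibre_bound hK hgen hP
  have ht0 : t ≠ 0 := fun e => by rw [e, map_zero] at ht1; exact exp_ne_zero ht1.symm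
  have approx : ∀ m : ℕ, ∃ a, InLoc (chart k φ c) P a ∧ P.1 (z - a) ≤ exp (-(m : ℤ)) := by
    intro m
    induction m with
    | zero => exact ⟨algebraMap k K 0, InLoc.const 0, by simpa using hz⟩
    | succ m ih =>
      obtain ⟨a, ha, hza⟩ := ih
      have htm : P.1 (t ^ m) = exp (-(m : ℤ)) := by
        rw [map_pow, ht1, ← exp_nsmul, nsmul_eq_mul]; congr 1; ring
      have h1 : P.1 ((z - a) / t ^ m) ≤ 1 := by
        rw [map_div₀, htm, div_le_one₀ exp_pos]; exact hza
      obtain ⟨r, hr⟩ := exists_const_sub_lt (deg_eq_one hK P) h1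
      refine ⟨a + algebraMap k K r * t ^ m, ha.add ((InLoc.const r).mul (ht.pow m)), ?_⟩
      rw [show z - (a + algebraMap k K r * t ^ m) = ((z - a) / t ^ m - algebraMap k K r) * t ^ m by
        rw [sub_mul, div_mul_cancel₀ _ (pow_ne_zero _ ht0)]; ring, map_mul, htm]
      refine (mul_le_mul' (le_exp_neg_one_of_lt_one hr) le_rfl).trans ?_
      rw [← exp_add, exp_le_exp]; push_cast; omega
  obtain ⟨a, ha, hza⟩ := approx N
  have h2 := hN (z - a) fun Q hQ => by rw [huniq Q hQ]; exact hza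
  simpa using ha.add h2

omit [IsAlgClosed k] [Fintype ι] hgen hK in
lemma eq_of_nonsingular {P Q : Place k K}
    (hns : ∀ z : K, P.1 z ≤ 1 → InLoc (chart k φ c) P z) (hQ : ∀ i, Cong P Q (φ i / c)) : Q = P :=
  (place_ext_of_le P Q fun z hz => ((hns z hz).cong fun _ ha => cong_chart hQ ha).le_one).symm

omit hgen in
/-- Nonsingularity: one place over the point, and a form vanishing simply at it. -/
theorem nonsingular_iff {P : Place k K} {j : ι} (hj : φ j ≠ 0) (hmax : ∀ i, P.1 (φ i) ≤ P.1 (φ j))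
    (hgen : IntermediateField.adjoin k (Set.range fun i => φ i / φ j) = ⊤) :
    IsNonsingularAt φ P ↔ (∀ Q : Place k K, (∀ i, Cong P Q (φ i / φ j)) → Q = P) ∧
      ∃ s ∈ Submodule.span k (Set.range φ), P.1 (s / φ j) = exp (-1 : ℤ) := by
  have hsp : φ j ∈ Submodule.span k (Set.range φ) := Submodule.subset_span ⟨j, rfl⟩
  have hP := div_le_one_of_max hj hmax
  rw [isNonsingularAt_iff hj hsp hmax, ← exists_uniformizer_inLoc_iff hK hsp hP hj]
  refine ⟨fun hns => ⟨fun Q hQ => eq_of_nonsingular hns hQ, ?_⟩,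
    fun ⟨huniq, t, ht, ht1⟩ z hz => inLoc_of_unique hK hgen hP huniq ht ht1 hz⟩
  obtain ⟨t, -, -, ht⟩ := exists_uniformizer P
  exact ⟨t, hns t (by rw [ht, ← exp_zero, exp_le_exp]; omega), ht⟩

omit [IsAlgClosed k] [Fintype ι] hgen hK in
/-- Cutting a space of functions by one linear condition. -/
lemma finrank_step {S S' : Submodule k K} [FiniteDimensional k S] (hle : S' ≤ S) {s : K} (hs : s ∈ S)
    (hs' : s ∉ S') (h : ∀ y ∈ S, ∃ r : k, y - r • s ∈ S') : finrank k S = finrank k S' + 1 := by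
  have : FiniteDimensional k S' := Submodule.finiteDimensional_of_le hle
  have hsup : S = S' ⊔ Submodule.span k {s} := by
    refine le_antisymm (fun y hy => ?_) (sup_le hle ((Submodule.span_singleton_le_iff_mem _ _).2 hs))
    obtain ⟨r, hr⟩ := h y hy
    exact Submodule.mem_sup.2 ⟨_, hr, r • s, Submodule.smul_mem _ _ (Submodule.mem_span_singleton_self s),
      sub_add_cancel _ _⟩
  have hs0 : s ≠ 0 := fun e => hs' (e ▸ zero_mem _)
  have h1 := Submodule.finrank_sup_add_finrank_inf_eq S' (Submodule.span k {s})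
  have h2 : S' ⊓ Submodule.span k {s} = ⊥ := by
    rw [← disjoint_iff]
    exact Submodule.disjoint_span_singleton_of_notMem hs'
  rw [← hsup, h2, finrank_bot, finrank_span_singleton hs0, add_zero] at h1
  exact h1

end Groth.Agent.FFLib
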