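import Groth.Agent.FFLib.Embedding

/-!
# The monic equation of a function integral away from the poles of another
-/

open WithZero Module Polynomial

namespace Groth.Agent.FFLib

open FunFld

variable {k K : Type*} [Field k] [Field K] [Algebra k K]
variable (hK : IsFunctionField k K)
include hK

omit hK in
lemma ord_aeval_pole {R : Place k K} {h : K} (hR : R.ord h < 0) {p : k[X]} (hp : p ≠ 0) :
    aeval h p ≠ 0 ∧ R.ord (aeval h p) = p.natDegree * R.ord h := by
  classical
  have h0 : h ≠ 0 := fun e => by rw [e, ord_zero] at hR; omega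
  have hlc : p.leadingCoeff ≠ 0 := leadingCoeff_ne_zero.2 hp
  have hterm : R.1 (algebraMap k K p.leadingCoeff * h ^ p.natDegree) =
      exp (-((p.natDegree : ℤ) * R.ord h)) := by
    rw [map_mul, v_const R hlc, one_mul, map_pow, v_eq R h0, ← exp_nsmul, nsmul_eq_mul, mul_neg]
  have h1 : R.1 (aeval h p) = exp (-((p.natDegree : ℤ) * R.ord h)) := by
    rw [aeval_eq_sum_range]
    simp only [Algebra.smul_def]
    rw [v_sum_eq R.1 (j := p.natDegree) (Finset.self_mem_range_succ _) fun i hi hne => ?_]
    · exact hterm
    · refine lt_of_le_of_lt ?_ (lt_of_lt_of_eq (exp_lt_exp.2 (by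
        have := Finset.mem_range_succ_iff.1 hi
        have h2 : (i : ℤ) < p.natDegree := by omega
        nlinarith : -((i : ℤ) * R.ord h) < -((p.natDegree : ℤ) * R.ord h))) hterm.symm)
      rw [map_mul, map_pow, v_eq R h0, ← exp_nsmul, nsmul_eq_mul, mul_neg]
      exact mul_le_of_le_one_left' (R.2.1 _)
  refine ⟨fun e => ?_, ?_⟩
  · rw [e, map_zero] at h1; exact exp_ne_zero h1.symm
  · rw [Place.ord, h1, log_exp, neg_neg]

/-- A generator of `K/k(u)` integral away from the poles of `u` satisfies a monic equation of
degree `[K:k(u)]` with coefficients in `k[u]`; its lower powers are independent over `k[u]`. -/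
lemma exists_monic_relation {u z : K} (hu : Transcendental k u)
    (hz : ∀ Q : Place k K, 0 ≤ Q.ord u → Q.1 z ≤ 1)
    (htop : IntermediateField.adjoin (IntermediateField.adjoin k ({u} : Set K)) ({z} : Set K) = ⊤) :
    ∃ q : Fin (finrank (IntermediateField.adjoin k ({u} : Set K)) K) → k[X],
      z ^ finrank (IntermediateField.adjoin k ({u} : Set K)) K +
        ∑ l, aeval u (q l) * z ^ (l : ℕ) = 0 := by
  classical
  set E := IntermediateField.adjoin k ({u} : Set K) with hE
  have hfin := finite_adjoin hK hu
  let aK : Algebra k[X] K := (aeval u : k[X] →ₐ[k] K).toRingHom.toAlgebra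
  let aE : Algebra k[X] E :=
    ((aeval (⟨u, IntermediateField.mem_adjoin_simple_self k u⟩ : E)) : k[X] →ₐ[k] E).toRingHom.toAlgebra
  have haK : ∀ p : k[X], algebraMap k[X] K p = aeval u p := fun p => rfl
  have haE : ∀ p : k[X], ((algebraMap k[X] E p : E) : K) = aeval u p := fun p => by
    show ((aeval (⟨u, IntermediateField.mem_adjoin_simple_self k u⟩ : E) p : E) : K) = _
    exact (Polynomial.aeval_algHom_apply E.val _ p).symm
  have : IsScalarTower k[X] E K := IsScalarTower.of_algebraMap_eq fun p => by
    rw [haK]; exact (haE p).symm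
  have hinj : Function.Injective (algebraMap k[X] K) := transcendental_iff_injective.1 hu
  have : FaithfulSMul k[X] K := (faithfulSMul_iff_algebraMap_injective _ _).2 hinj
  have : FaithfulSMul k[X] E := (faithfulSMul_iff_algebraMap_injective _ _).2 fun a b e => hinj (by
    rw [haK, haK, ← haE, ← haE, e])
  have : IsFractionRing k[X] E := IsFractionRing.of_field k[X] E fun w => by
    obtain ⟨r, s, e⟩ := (IntermediateField.mem_adjoin_simple_iff k _).1 w.2
    refine ⟨r, s, Subtype.ext ?_⟩
    rw [IntermediateField.coe_div, haE, haE]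
    exact e
  -- integrality
  obtain ⟨G, hG1, hG2⟩ := exists_finite_span_regular hK hu (Algebra.adjoin k {u}) (Algebra.subset_adjoin rfl)
  let S : Subalgebra k[X] K :=
    { carrier := {y | ∀ Q : Place k K, 0 ≤ Q.ord u → Q.1 y ≤ 1}
      mul_mem' := fun {a b} ha hb Q hQ => by rw [map_mul]; exact mul_le_one' (ha Q hQ) (hb Q hQ)
      add_mem' := fun {a b} ha hb Q hQ => (Q.1.map_add a b).trans (max_le (ha Q hQ) (hb Q hQ))
      algebraMap_mem' := fun p Q hQ => by
        rw [haK]
        exact v_aeval_le Q.1 Q.2.1 ((v_le_one_iff Q u).2 hQ) p }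
  have hS : S.toSubmodule.FG := by
    refine ⟨G, le_antisymm (Submodule.span_le.2 fun y hy => hG1 y hy) fun y hy => ?_⟩
    have h2 := hG2 y hy
    clear hy
    induction h2 using Submodule.span_induction with
    | mem g hg => exact Submodule.subset_span hg
    | zero => exact zero_mem _
    | add a b _ _ iha ihb => exact add_mem iha ihb
    | smul c w _ ihw =>
      obtain ⟨c, hc⟩ := c
      obtain ⟨p, rfl⟩ : ∃ p : k[X], aeval u p = c := by
        rw [← AlgHom.mem_range, ← Algebra.adjoin_singleton_eq_range_aeval]; exact hc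
      have h3 := Submodule.smul_mem _ p ihw
      rw [Algebra.smul_def, haK] at h3
      exact h3
  have hint : IsIntegral k[X] z := IsIntegral.of_mem_of_fg S hS z hz
  have hmin := minpoly.isIntegrallyClosed_eq_field_fractions' (R := k[X]) E hint
  have hdeg : (minpoly k[X] z).natDegree = finrank E K := by
    have h1 := IntermediateField.adjoin.finrank (K := E) (x := z) (IsIntegral.of_finite E z)
    rw [htop, IntermediateField.finrank_top'] at h1
    rw [h1, hmin, (minpoly.monic hint).natDegree_map]
  refine ⟨fun l => (minpoly k[X] z).coeff (l : ℕ), ?_⟩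
  have h2 := minpoly.aeval k[X] z
  rw [(minpoly.monic hint).as_sum] at h2
  simp only [map_add, map_sum, map_mul, map_pow, aeval_X, aeval_C, haK] at h2
  rw [hdeg] at h2
  rw [Fin.sum_univ_eq_sum_range (fun l => aeval u ((minpoly k[X] z).coeff l) * z ^ l)]
  exact h2

end Groth.Agent.FFLib
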