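import Groth.Agent.FFLib.LocalDual
import Groth.Agent.FFLib.Monic
import Groth.Agent.FFLib.RR

/-!
# The divisor of an exact differential is canonical
-/

open WithZero Module Polynomial

namespace Groth.Agent.FFLib

open FunFld

variable {k K : Type*} [Field k] [Field K] [Algebra k K] (hK : IsFunctionField k K) [IsAlgClosed k]
  {x : K} (hx : Transcendental k x)

/-- Functions integral wherever `x` is. -/
def finInt (k : Type*) {K : Type*} [Field k] [Field K] [Algebra k K] (x : K) : Subalgebra k K where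
  carrier := {f | ∀ Q : Place k K, Q.1 x ≤ 1 → Q.1 f ≤ 1}
  mul_mem' ha hb Q hQ := by rw [map_mul]; exact mul_le_one' (ha Q hQ) (hb Q hQ)
  add_mem' {a b} ha hb Q hQ := (Q.1.map_add a b).trans (max_le (ha Q hQ) (hb Q hQ))
  algebraMap_mem' c Q _ := Q.2.1 c

omit [IsAlgClosed k] in
lemma aeval_mem_finInt (p : k[X]) : aeval x p ∈ finInt k x := fun Q hQ => v_aeval_le Q.1 Q.2.1 hQ p

include hx in
omit [IsAlgClosed k] in
lemma transcendental_sub (c : k) : Transcendental k (x - algebraMap k K c) := fun h =>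
  hx (by simpa using h.add (isAlgebraic_algebraMap (A := K) c))

omit [IsAlgClosed k] in
lemma adjoin_sub (c : k) : IntermediateField.adjoin k ({x - algebraMap k K c} : Set K) =
    IntermediateField.adjoin k ({x} : Set K) :=
  le_antisymm (IntermediateField.adjoin_simple_le_iff.2
      (sub_mem (IntermediateField.mem_adjoin_simple_self k x) (IntermediateField.algebraMap_mem _ c)))
    (IntermediateField.adjoin_simple_le_iff.2 (by
      simpa using add_mem (IntermediateField.mem_adjoin_simple_self k (x - algebraMap k K c))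
        (IntermediateField.algebraMap_mem (IntermediateField.adjoin k ({x - algebraMap k K c} : Set K)) c)))

include hK in
lemma finite_iff_exists {Q : Place k K} : Q.1 x ≤ 1 ↔ ∃ c : k, Q.1 (x - algebraMap k K c) < 1 := by
  refine ⟨fun h => exists_const_sub_lt (deg_eq_one hK Q) h, fun ⟨c, hc⟩ => ?_⟩
  rw [show x = (x - algebraMap k K c) + algebraMap k K c by ring]
  exact (Q.1.map_add _ _).trans (max_le hc.le (Q.2.1 c))

omit [IsAlgClosed k] in
lemma pole_iff {Q : Place k K} (h0 : x ≠ 0) : ¬ Q.1 x ≤ 1 ↔ Q.1 x⁻¹ < 1 := by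
  rw [not_le, map_inv₀, inv_lt_one₀ (zero_lt_iff.2 (v_ne_zero Q h0))]

include hK in
/-- A polynomial in `x` makes a given function integral away from the poles of `x`. -/
lemma exists_clear (w : K) : ∃ q : k[X], q ≠ 0 ∧ aeval x q * w ∈ finInt k x ∧
    ∀ c : k, w ∈ fibInt k (x - algebraMap k K c) → q.eval c ≠ 0 := by
  classical
  let val : Place k K → k := fun Q =>
    if h : Q.1 x ≤ 1 then Classical.choose ((finite_iff_exists hK).1 h) else 0
  have hval : ∀ Q : Place k K, Q.1 x ≤ 1 → Q.1 (x - algebraMap k K (val Q)) < 1 := fun Q h => by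
    simp only [val, dif_pos h]
    exact Classical.choose_spec ((finite_iff_exists hK).1 h)
  set W := (finite_support_ord hK.1 w).toFinset.filter fun Q => Q.1 x ≤ 1 ∧ 1 < Q.1 w with hW
  set q : k[X] := ∏ Q ∈ W, (X - C (val Q)) ^ (-Q.ord w).toNat
  refine ⟨q, Finset.prod_ne_zero_iff.2 fun Q _ => pow_ne_zero _ (X_sub_C_ne_zero _), ?_, ?_⟩
  · intro R hR
    rw [map_mul]
    by_cases hRW : 1 < R.1 w
    · have hw0 : w ≠ 0 := fun e => by simp [e] at hRW
      have hRo := (one_lt_v_iff R w).1 hRW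
      have hmem : R ∈ W := by simp [hW, hR, hRW, hRo.ne]
      rw [map_prod, map_prod, ← Finset.mul_prod_erase _ _ hmem, map_pow, map_pow, map_sub, aeval_X,
        aeval_C]
      have h1 : R.1 (x - algebraMap k K (val R)) ≤ exp (-1 : ℤ) := le_exp_neg_one_of_lt_one (hval R hR)
      have h2 : ∏ i ∈ W.erase R, R.1 (aeval x ((X - C (val i)) ^ (-i.ord w).toNat)) ≤ 1 :=
        Finset.prod_le_one' fun i _ => aeval_mem_finInt _ R hR
      rw [mul_right_comm]
      refine (mul_le_of_le_one_right' h2).trans ?_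
      refine (mul_le_mul' (pow_le_pow_left' h1 _) le_rfl).trans ?_
      rw [v_eq R hw0, ← exp_nsmul, ← exp_add, ← exp_zero, exp_le_exp, nsmul_eq_mul]
      omega
    · exact mul_le_one' (aeval_mem_finInt _ R hR) (not_lt.1 hRW)
  · intro c hc h0
    obtain ⟨Q, hQ, hQ0⟩ := Finset.prod_eq_zero_iff.1 (show ∏ Q ∈ W, (c - val Q) ^ (-Q.ord w).toNat = 0 by
      simpa [q, eval_prod] using h0)
    have hQW : Q.1 x ≤ 1 ∧ 1 < Q.1 w := (Finset.mem_filter.1 hQ).2
    have hcv : c = val Q := sub_eq_zero.1 (pow_eq_zero_iff'.1 hQ0).1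
    exact absurd (hc Q (hcv ▸ hval Q hQW.1)) (not_le.2 hQW.2)

include hK hx

/-- A rational function of `x` integral away from infinity is a polynomial. -/
lemma exists_poly {r : K} (hr : r ∈ IntermediateField.adjoin k ({x} : Set K))
    (hrS : r ∈ finInt k x) : ∃ p : k[X], r = aeval x p := by
  classical
  have hx0 : ∀ q : k[X], q ≠ 0 → aeval x q ≠ 0 := fun q hq e => hq (transcendental_iff.1 hx q e)
  have hex : ∃ q : k[X], q ≠ 0 ∧ ∃ p : k[X], r * aeval x q = aeval x p := by
    rw [IntermediateField.mem_adjoin_simple_iff] at hr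
    obtain ⟨p, q, rfl⟩ := hr
    rcases eq_or_ne q 0 with rfl | hq
    · exact ⟨1, one_ne_zero, 0, by simp⟩
    · exact ⟨q, hq, p, div_mul_cancel₀ _ (hx0 q hq)⟩
  obtain ⟨q, hq⟩ := hex
  induction hd : q.natDegree using Nat.strong_induction_on generalizing q with | _ d ih => ?_
  obtain ⟨hq0, p, hp⟩ := hq
  rcases Nat.eq_zero_or_pos q.natDegree with hd0 | hd0
  · obtain ⟨a, rfl⟩ := natDegree_eq_zero.1 hd0
    refine ⟨C a⁻¹ * p, ?_⟩
    have ha : a ≠ 0 := fun e => hq0 (by rw [e, map_zero])
    rw [map_mul, ← hp, aeval_C, aeval_C, mul_left_comm, ← map_mul, inv_mul_cancel₀ ha, map_one, mul_one]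
  obtain ⟨c, hc⟩ := IsAlgClosed.exists_root q (fun h => by
    rw [natDegree_eq_zero_iff_degree_le_zero.2 h.le] at hd0; exact lt_irrefl _ hd0)
  obtain ⟨Q, hQ⟩ := exists_zero hK (x := x - algebraMap k K c)
    fun ⟨a, ha⟩ => transcendental_sub hx c (by rw [← ha]; exact isAlgebraic_algebraMap a)
  have hQ' : Q.1 (x - algebraMap k K c) < 1 :=
    (v_lt_one_iff Q fun e => transcendental_sub hx c (by rw [e]; exact isAlgebraic_zero)).2 hQ
  have hQx := (finite_iff_exists hK).2 ⟨c, hQ'⟩
  obtain ⟨q₁, rfl⟩ := dvd_iff_isRoot.2 hc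
  have hpc : p.IsRoot c := by
    by_contra hpc
    have h1 : Q.1 (aeval x p) < 1 := by
      rw [← hp]
      simp only [map_mul, map_sub, aeval_X, aeval_C]
      exact (mul_le_of_le_one_left' (hrS Q hQx)).trans_lt
        (mul_lt_one_of_lt_of_le hQ' (aeval_mem_finInt _ Q hQx))
    have h2 := v_aeval_unit hQ' (q := p.comp (X + C c))
      (by rwa [coeff_zero_eq_eval_zero, eval_comp, eval_add, eval_X, eval_C, zero_add])
    rw [aeval_comp, map_add, aeval_X, aeval_C, sub_add_cancel] at h2
    exact h1.ne h2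
  obtain ⟨p₁, rfl⟩ := dvd_iff_isRoot.2 hpc
  have hq1 : q₁ ≠ 0 := right_ne_zero_of_mul hq0
  refine ih q₁.natDegree ?_ q₁ ⟨hq1, p₁, ?_⟩ rfl
  · rw [← hd, natDegree_mul (X_sub_C_ne_zero c) hq1, natDegree_X_sub_C]; omega
  · refine mul_left_cancel₀ (hx0 _ (X_sub_C_ne_zero c)) ?_
    rw [map_mul, map_mul] at hp
    rw [← hp]; ring

omit [IsAlgClosed k] in
/-- `aeval x p / x ^ j` is integral at infinity exactly when `deg p ≤ j`. -/
lemma deg_le_iff {p : k[X]} (hp : p ≠ 0) (j : ℤ) :
    aeval x p * x ^ (-j) ∈ fibInt k x⁻¹ ↔ (p.natDegree : ℤ) ≤ j := by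
  obtain ⟨R, hR⟩ := exists_pole hK (x := x) fun ⟨a, ha⟩ => hx (ha ▸ isAlgebraic_algebraMap a)
  have hx0 : x ≠ 0 := fun e => hx (e ▸ isAlgebraic_zero)
  have key : ∀ Q : Place k K, Q.ord x < 0 →
      (Q.1 (aeval x p * x ^ (-j)) ≤ 1 ↔ (p.natDegree : ℤ) ≤ j) := fun Q hQ => by
    obtain ⟨h1, h2⟩ := ord_aeval_pole hQ hp
    rw [v_le_one_iff, ord_mul Q h1 (zpow_ne_zero _ hx0), ord_zpow, h2, neg_mul, ← sub_eq_add_neg,
      ← sub_mul]
    constructor
    · intro h; by_contra hlt; push Not at hlt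
      nlinarith
    · intro h; exact mul_nonneg_of_nonpos_of_nonpos (sub_nonpos.2 h) hQ.le
  have hlt : ∀ Q : Place k K, Q.1 x⁻¹ < 1 ↔ Q.ord x < 0 := fun Q => by
    rw [v_lt_one_iff Q (inv_ne_zero hx0), ord_inv, neg_pos]
  exact ⟨fun h => (key R hR).1 (h R ((hlt R).2 hR)), fun h Q hQ => (key Q ((hlt Q).1 hQ)).2 h⟩

/-- An adapted basis of the functions integral away from the poles of `x`. -/
lemma exists_adapted (hsep : Algebra.IsSeparable (IntermediateField.adjoin k ({x} : Set K)) K) :
    ∃ (B : Basis (Fin (finrank (IntermediateField.adjoin k ({x} : Set K)) K))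
        (IntermediateField.adjoin k ({x} : Set K)) K) (a : Fin (finrank (IntermediateField.adjoin k ({x} : Set K)) K) → ℕ),
      (∀ i, B i ∈ finInt k x) ∧
      (∀ i, B i * x ^ (-(a i : ℤ)) ∈ fibInt k x⁻¹) ∧
      (∀ f ∈ finInt k x, ∀ i, ((B.repr f i : IntermediateField.adjoin k ({x} : Set K)) : K) ∈ finInt k x) ∧
      (∀ f ∈ fibInt k x⁻¹, ∀ i,
        ((B.repr f i : IntermediateField.adjoin k ({x} : Set K)) : K) * x ^ (a i : ℤ) ∈ fibInt k x⁻¹) := by
  classical
  set E := IntermediateField.adjoin k ({x} : Set K) with hE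
  have hfin : FiniteDimensional E K := finite_adjoin hK hx
  set n := finrank E K
  have hx0 : x ≠ 0 := fun e => hx (e ▸ isAlgebraic_zero)
  have hx' : Transcendental k x⁻¹ := fun h => hx (inv_inv x ▸ h.inv)
  have hinv : IntermediateField.adjoin k ({x⁻¹} : Set K) = E := adjoin_inv x
  have hxE : x ∈ E := IntermediateField.mem_adjoin_simple_self k x
  have hpl : ∀ Q : Place k K, Q.1 x⁻¹ < 1 ↔ Q.ord x < 0 := fun Q => by
    rw [v_lt_one_iff Q (inv_ne_zero hx0), ord_inv, neg_pos]
  -- existence of some admissible family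
  have hdeg : ∀ f ∈ finInt k x, ∃ a : ℕ, f * x ^ (-(a : ℤ)) ∈ fibInt k x⁻¹ := fun f _ => by
    refine ⟨∑ Q ∈ (finite_support_ord hK.1 f).toFinset, (-Q.ord f).toNat, fun Q hQ => ?_⟩
    rcases eq_or_ne f 0 with rfl | hf
    · simp
    have hQ' := (hpl Q).1 hQ
    rw [v_le_one_iff, ord_mul Q hf (zpow_ne_zero _ hx0), ord_zpow]
    by_cases h0 : Q.ord f = 0
    · rw [h0, zero_add, neg_mul, neg_nonneg]
      exact mul_nonpos_of_nonneg_of_nonpos (Int.natCast_nonneg _) hQ'.le
    have h1 := Finset.single_le_sum (f := fun Q : Place k K => (-Q.ord f).toNat) (fun _ _ => Nat.zero_le _)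
      (show Q ∈ (finite_support_ord hK f).toFinset by simpa using h0)
    have h2 : ((∑ Q ∈ (finite_support_ord hK.1 f).toFinset, (-Q.ord f).toNat : ℕ) : ℤ) ≤
        -((∑ Q ∈ (finite_support_ord hK.1 f).toFinset, (-Q.ord f).toNat : ℕ) : ℤ) * Q.ord x := by
      rw [neg_mul, ← mul_neg]
      exact le_mul_of_one_le_right (Int.natCast_nonneg _) (by omega)
    omega
  let Adm : (Fin n → K) → (Fin n → ℕ) → Prop := fun ω a =>
    LinearIndependent E ω ∧ (∀ i, ω i ∈ finInt k x) ∧ ∀ i, ω i * x ^ (-(a i : ℤ)) ∈ fibInt k x⁻¹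
  have hex : ∃ N, ∃ ω a, Adm ω a ∧ ∑ i, a i = N := by
    let b := Module.finBasis E K
    choose q hq0 hq hq' using fun i => exists_clear hK (x := x) (b i)
    choose a ha using fun i => hdeg _ (hq i)
    have hqE : ∀ i, aeval x (q i) ∈ E := fun i =>
      IntermediateField.algebra_adjoin_le_adjoin k {x} (Algebra.adjoin_singleton_eq_range_aeval k x ▸ ⟨q i, rfl⟩)
    have hu : ∀ i, (⟨aeval x (q i), hqE i⟩ : E) ≠ 0 := fun i e =>
      hq0 i (transcendental_iff.1 hx _ (congrArg Subtype.val e))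
    refine ⟨_, fun i => aeval x (q i) * b i, a, ⟨?_, hq, ha⟩, rfl⟩
    exact b.linearIndependent.units_smul fun i => Units.mk0 _ (hu i)
  obtain ⟨ω, a, ⟨hind, hfinI, hinf⟩, hmin⟩ : ∃ ω a, Adm ω a ∧ ∀ ω' a', Adm ω' a' → ∑ i, a i ≤ ∑ i, a' i := by
    obtain ⟨ω, a, h, hs⟩ := Nat.find_spec hex
    exact ⟨ω, a, h, fun ω' a' h' => hs ▸ Nat.find_min' hex ⟨ω', a', h', rfl⟩⟩
  -- no combination drops below the degree of one of its terms
  have no_drop : ∀ (r : Fin n → E) (i₀ : Fin n), r i₀ ≠ 0 → ∑ i, r i • ω i ∈ finInt k x →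
      (∑ i, r i • ω i) * x ^ (-((a i₀ : ℤ) - 1)) ∈ fibInt k x⁻¹ → False := by
    intro r i₀ hr hzR hzI
    set z := ∑ i, r i • ω i with hz
    have hind' : LinearIndependent E (Function.update ω i₀ z) := by
      rw [Fintype.linearIndependent_iff]
      intro g hg
      have h1 : ∑ i, (g i₀ * r i + (if i = i₀ then 0 else g i)) • ω i = 0 := by
        refine Eq.trans ?_ hg
        simp only [add_smul, Finset.sum_add_distrib, mul_smul, ← Finset.smul_sum, ← hz]
        rw [← Finset.add_sum_erase _ _ (Finset.mem_univ i₀), ← Finset.add_sum_erase (f := fun i => g i • Function.update ω i₀ z i) _ (Finset.mem_univ i₀),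
          if_pos rfl, zero_smul, zero_add, Function.update_self]
        congr 1
        exact Finset.sum_congr rfl fun i hi => by
          rw [if_neg (Finset.ne_of_mem_erase hi), Function.update_of_ne (Finset.ne_of_mem_erase hi)]
      have h2 := Fintype.linearIndependent_iff.1 hind _ h1
      have h3 : g i₀ = 0 := by
        have := h2 i₀
        rw [if_pos rfl, add_zero] at this
        exact (mul_eq_zero.1 this).resolve_right hr
      intro i
      rcases eq_or_ne i i₀ with rfl | hi
      · exact h3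
      · have := h2 i
        rwa [h3, zero_mul, zero_add, if_neg hi] at this
    rcases Nat.eq_zero_or_pos (a i₀) with h0 | h0
    · have hz0 : z ≠ 0 := by simpa using hind'.ne_zero i₀
      obtain ⟨R, hR⟩ := exists_pole hK (x := x) fun ⟨c, hc⟩ => hx (hc ▸ isAlgebraic_algebraMap c)
      rw [h0, Nat.cast_zero, zero_sub, neg_neg, zpow_one] at hzI
      have hall : ∀ Q : Place k K, Q.1 z ≤ 1 := fun Q => by
        by_cases hQ : Q.1 x ≤ 1
        · exact hzR Q hQ
        · have h := hzI Q ((pole_iff hx0).1 hQ)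
          rw [map_mul] at h
          exact (le_mul_of_one_le_right' (not_le.1 hQ).le).trans h
      have hconst : IsAlgebraic k z := by
        by_contra htr
        obtain ⟨S, hS⟩ := exists_pole hK (x := z) fun ⟨c, hc⟩ => htr (hc ▸ isAlgebraic_algebraMap c)
        exact absurd ((v_le_one_iff S z).1 (hall S)) (by omega)
      obtain ⟨c, hc⟩ := hK.2 z hconst
      have h := hzI R ((hpl R).2 hR)
      rw [map_mul, ← hc, v_const R (fun e => hz0 (by rw [← hc, e, map_zero])), one_mul] at h
      exact absurd ((v_le_one_iff R x).1 h) (by omega)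
    · have := hmin (Function.update ω i₀ z) (Function.update a i₀ (a i₀ - 1)) ⟨hind', fun i => ?_, fun i => ?_⟩
      · rw [Finset.sum_update_of_mem (Finset.mem_univ i₀),
          ← Finset.add_sum_erase _ _ (Finset.mem_univ i₀), Finset.erase_eq] at this
        omega
      · rcases eq_or_ne i i₀ with rfl | hi
        · rwa [Function.update_self]
        · rw [Function.update_of_ne hi]; exact hfinI i
      · rcases eq_or_ne i i₀ with rfl | hi
        · rw [Function.update_self, Function.update_self, Nat.cast_sub h0, Nat.cast_one]; exact hzI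
        · rw [Function.update_of_ne hi, Function.update_of_ne hi]; exact hinf i
  set B := basisOfLinearIndependentOfCardEqFinrank' _ hind (Fintype.card_fin n) with hB
  have hBi : ∀ i, B i = ω i := fun i => by simp [hB]
  have hrepr : ∀ f, ∑ i, B.repr f i • ω i = f := fun f => by
    conv_rhs => rw [← B.sum_repr f]
    simp [hBi]
  refine ⟨B, a, fun i => hBi i ▸ hfinI i, fun i => hBi i ▸ hinf i, ?_, ?_⟩
  · -- integral coefficients away from infinity
    intro f hf
    have hxp : ∀ q : k[X], q ≠ 0 → aeval x q ≠ 0 := fun q hq e => hq (transcendental_iff.1 hx q e)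
    have hdec : ∀ r : E, ∃ (p : k[X]) (r' : K), r' ∈ E ∧ (r : K) = aeval x p + r' ∧ r' * x ∈ fibInt k x⁻¹ := by
      intro r
      obtain ⟨P, q, hPq⟩ := IntermediateField.mem_adjoin_simple_iff k (r : K) |>.1 r.2
      rcases eq_or_ne q 0 with rfl | hq
      · exact ⟨0, 0, zero_mem _, by simp [hPq], by rw [zero_mul]; exact Subalgebra.zero_mem _⟩
      refine ⟨P / q, aeval x (P % q) / aeval x q, div_mem ?_ ?_, ?_, fun Q hQ => ?_⟩
      · exact IntermediateField.algebra_adjoin_le_adjoin k {x} (Algebra.adjoin_singleton_eq_range_aeval k x ▸ ⟨_, rfl⟩)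
      · exact IntermediateField.algebra_adjoin_le_adjoin k {x} (Algebra.adjoin_singleton_eq_range_aeval k x ▸ ⟨_, rfl⟩)
      · rw [hPq]
        conv_lhs => rw [← EuclideanDomain.div_add_mod P q]
        rw [map_add, map_mul, add_div, mul_div_cancel_left₀ _ (hxp q hq)]
      · rcases eq_or_ne (P % q) 0 with h0 | h0
        · rw [h0, map_zero, zero_div, zero_mul, map_zero]; exact zero_le
        have hQ' := (hpl Q).1 hQ
        obtain ⟨e1, e2⟩ := ord_aeval_pole hQ' h0
        obtain ⟨e3, e4⟩ := ord_aeval_pole hQ' hq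
        rw [v_le_one_iff, ord_mul Q (div_ne_zero e1 e3) hx0, div_eq_mul_inv,
          ord_mul Q e1 (inv_ne_zero e3), ord_inv, e2, e4]
        have hd : ((P % q).natDegree : ℤ) + 1 ≤ q.natDegree := by
          have := natDegree_lt_natDegree h0 (EuclideanDomain.mod_lt P hq)
          omega
        nlinarith
    choose p r' hr'E hr' hr'I using fun i => hdec (B.repr f i)
    suffices h0 : ∀ i, r' i = 0 by
      intro i
      rw [hr' i, h0 i, add_zero]
      exact aeval_mem_finInt _
    by_contra hne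
    push Not at hne
    obtain ⟨j₀, hj₀⟩ := hne
    obtain ⟨i₀, hi₀, hmax⟩ := (Finset.univ.filter fun i => r' i ≠ 0).exists_max_image a
      ⟨j₀, by simp [hj₀]⟩
    have hi₀' := (Finset.mem_filter.1 hi₀).2
    have hsum : ∑ i, (⟨r' i, hr'E i⟩ : E) • ω i = f - ∑ i, aeval x (p i) * ω i := by
      rw [eq_sub_iff_add_eq, ← Finset.sum_add_distrib]
      conv_rhs => rw [← hrepr f]
      refine Finset.sum_congr rfl fun i _ => ?_
      rw [IntermediateField.smul_def, IntermediateField.smul_def, smul_eq_mul, smul_eq_mul, hr' i]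
      ring
    refine no_drop (fun i => ⟨r' i, hr'E i⟩) i₀ (fun e => hi₀' (congrArg Subtype.val e)) ?_ ?_
    · rw [hsum]
      exact Subalgebra.sub_mem _ hf (Subalgebra.sum_mem _ fun i _ =>
        Subalgebra.mul_mem _ (aeval_mem_finInt _) (hfinI i))
    · rw [Finset.sum_mul]
      refine Subalgebra.sum_mem _ fun i _ => ?_
      rw [IntermediateField.smul_def, smul_eq_mul]
      show r' i * ω i * _ ∈ _
      by_cases h0 : r' i = 0
      · rw [h0, zero_mul, zero_mul]; exact Subalgebra.zero_mem _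
      have hle := hmax i (by simp [h0])
      obtain ⟨d, hd⟩ := Nat.exists_eq_add_of_le hle
      rw [show r' i * ω i * x ^ (-((a i₀ : ℤ) - 1)) =
          (r' i * x) * (ω i * x ^ (-(a i : ℤ))) * x⁻¹ ^ d by
        rw [hd, inv_pow, ← zpow_natCast x d, ← zpow_neg,
          show (r' i * x) * (ω i * x ^ (-(a i : ℤ))) * x ^ (-(d : ℤ)) =
            r' i * ω i * (x ^ (1 : ℤ) * x ^ (-(a i : ℤ)) * x ^ (-(d : ℤ))) by rw [zpow_one]; ring,
          ← zpow_add₀ hx0, ← zpow_add₀ hx0]
        congr 2
        push_cast; ring]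
      exact Subalgebra.mul_mem _ (Subalgebra.mul_mem _ (hr'I i) (hinf i))
        (Subalgebra.pow_mem _ (fun Q hQ => hQ.le) d)
  · -- integral coefficients at infinity
    intro f hf i
    refine coeff_mem_fibInt hK hx' hinv (fun i => ω i * x ^ (-(a i : ℤ))) hinf (fun c hc => ?_)
      (fun i => ((B.repr f i : E) : K) * x ^ (a i : ℤ)) (fun i => mul_mem (B.repr f i).2 (zpow_mem hxE _)) ?_ i
    · by_contra hne
      obtain ⟨j₀, hj₀⟩ := Function.ne_iff.1 hne
      obtain ⟨i₀, hi₀, hmax⟩ := (Finset.univ.filter fun i => c i ≠ 0).exists_max_image a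
        ⟨j₀, by simpa using hj₀⟩
      have hi₀' := (Finset.mem_filter.1 hi₀).2
      set r : Fin n → E := fun i =>
        if c i = 0 then 0 else algebraMap k E (c i) * (⟨x, hxE⟩ : E) ^ (a i₀ - a i)
      have hr : ∑ i, r i • ω i = x ^ (a i₀ : ℤ) * ∑ i, c i • (ω i * x ^ (-(a i : ℤ))) := by
        rw [Finset.mul_sum]
        refine Finset.sum_congr rfl fun i _ => ?_
        by_cases h0 : c i = 0
        · simp [r, h0]
        have hle := hmax i (by simp [h0])
        rw [show r i = algebraMap k E (c i) * (⟨x, hxE⟩ : E) ^ (a i₀ - a i) from if_neg h0,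
          IntermediateField.smul_def, smul_eq_mul, Algebra.smul_def]
        show algebraMap k K (c i) * x ^ (a i₀ - a i) * ω i = _
        rw [← zpow_natCast, Nat.cast_sub hle, zpow_sub₀ hx0, zpow_neg]
        field_simp
      have hne0 : r i₀ ≠ 0 := by
        rw [show r i₀ = algebraMap k E (c i₀) * (⟨x, hxE⟩ : E) ^ (a i₀ - a i₀) from if_neg hi₀']
        simpa using hi₀'
      refine no_drop r i₀ hne0 (Subalgebra.sum_mem _ fun i _ => ?_) ?_
      · rw [IntermediateField.smul_def, smul_eq_mul]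
        refine Subalgebra.mul_mem _ ?_ (hfinI i)
        by_cases h0 : c i = 0
        · simp only [r, if_pos h0]; exact Subalgebra.zero_mem _
        · simp only [r, if_neg h0]
          exact Subalgebra.mul_mem _ (Subalgebra.algebraMap_mem _ _) (Subalgebra.pow_mem _ (fun Q hQ => hQ) _)
      · rw [hr]
        intro Q hQ
        have h := hc Q hQ
        rw [map_inv₀] at h
        rw [map_mul, map_mul, neg_sub, zpow_sub₀ hx0, zpow_one, map_div₀]
        have hv : Q.1 x ≠ 0 := v_ne_zero Q hx0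
        have hv' : Q.1 (x ^ (a i₀ : ℤ)) ≠ 0 := v_ne_zero Q (zpow_ne_zero _ hx0)
        refine (mul_le_mul' (mul_le_mul' le_rfl h) le_rfl).trans_eq ?_
        field_simp
    · convert hf using 1
      conv_rhs => rw [← hrepr f]
      refine Finset.sum_congr rfl fun i _ => ?_
      rw [IntermediateField.smul_def, smul_eq_mul,
        show ((B.repr f i : E) : K) * x ^ (a i : ℤ) * (ω i * x ^ (-(a i : ℤ))) =
          ((B.repr f i : E) : K) * ω i * (x ^ (a i : ℤ) * x ^ (-(a i : ℤ))) by ring,
        ← zpow_add₀ hx0, add_neg_cancel, zpow_zero, mul_one]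

omit hK hx [IsAlgClosed k] in
/-- Dimension of a space of functions cut out by degree bounds on coordinates. -/
lemma finrank_of_coeff (hx : Transcendental k x) {ι : Type*} [Fintype ι] {E : IntermediateField k K}
    (hE : IntermediateField.adjoin k ({x} : Set K) = E) (b : Basis ι E K) (m : ι → ℕ) (S : Submodule k K)
    (h : ∀ f, f ∈ S ↔ ∀ i, ∃ p ∈ Polynomial.degreeLT k (m i), ((b.repr f i : E) : K) = aeval x p) :
    finrank k S = ∑ i, m i := by
  classical
  let T : (∀ i, Polynomial.degreeLT k (m i)) →ₗ[k] K :=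
    ∑ i, ((LinearMap.mulRight k (b i)).comp ((aeval x).toLinearMap.comp (Submodule.subtype _))).comp
      (LinearMap.proj i)
  have hmem : ∀ p : k[X], aeval x p ∈ E := fun p =>
    hE ▸ IntermediateField.algebra_adjoin_le_adjoin k {x} (Algebra.adjoin_singleton_eq_range_aeval k x ▸ ⟨p, rfl⟩)
  have hT : ∀ p, T p = ∑ i, (⟨aeval x (p i : k[X]), hmem _⟩ : E) • b i := fun p => by
    simp only [T, LinearMap.sum_apply, LinearMap.coe_comp, Function.comp_apply, LinearMap.proj_apply,
      AlgHom.toLinearMap_apply, Submodule.coe_subtype, LinearMap.mulRight_apply]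
    rfl
  have hrepr : ∀ p i, ((b.repr (T p) i : E) : K) = aeval x (p i : k[X]) := fun p i => by
    rw [hT, b.repr_sum_self]
  have hinj : Function.Injective T := fun p q hpq => by
    funext i
    refine Subtype.ext ?_
    have h1 := hrepr p i
    rw [hpq, hrepr q i] at h1
    exact sub_eq_zero.1 (transcendental_iff.1 hx _ (by rw [map_sub, h1, sub_self]))
  have hrange : LinearMap.range T = S := by
    ext f
    rw [LinearMap.mem_range, h]
    constructor
    · rintro ⟨p, rfl⟩ i
      exact ⟨_, (p i).2, hrepr p i⟩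
    · intro hf
      choose p hp hp' using hf
      refine ⟨fun i => ⟨p i, hp i⟩, ?_⟩
      rw [hT]
      conv_rhs => rw [← b.sum_repr f]
      exact Finset.sum_congr rfl fun i _ => by congr 1; exact Subtype.ext (hp' i).symm
  have : ∀ i, Module.Finite k (Polynomial.degreeLT k (m i)) := fun i =>
    Module.Finite.equiv (Polynomial.degreeLTEquiv k (m i)).symm
  rw [← hrange, LinearMap.finrank_range_of_inj hinj, Module.finrank_pi_fintype]
  exact Finset.sum_congr rfl fun i _ => by rw [(Polynomial.degreeLTEquiv k (m i)).finrank_eq, finrank_fin_fun]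

/-- The characterisation of polynomial coordinates bounded at infinity. -/
lemma exists_deg_iff {r : K} (hr : r ∈ IntermediateField.adjoin k ({x} : Set K)) (j : ℤ) :
    (r ∈ finInt k x ∧ r * x ^ (-j) ∈ fibInt k x⁻¹) ↔
      ∃ p ∈ Polynomial.degreeLT k (j + 1).toNat, r = aeval x p := by
  constructor
  · rintro ⟨h1, h2⟩
    obtain ⟨p, rfl⟩ := exists_poly hK hx hr h1
    refine ⟨p, ?_, rfl⟩
    rw [Polynomial.mem_degreeLT]
    rcases eq_or_ne p 0 with rfl | hp
    · rw [degree_zero]; exact WithBot.bot_lt_coe _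
    · rw [← natDegree_lt_iff_degree_lt hp]
      have := (deg_le_iff hK hx hp j).1 h2
      omega
  · rintro ⟨p, hp, rfl⟩
    refine ⟨aeval_mem_finInt p, ?_⟩
    rcases eq_or_ne p 0 with rfl | hp0
    · rw [map_zero, zero_mul]; exact Subalgebra.zero_mem _
    · rw [Polynomial.mem_degreeLT, ← natDegree_lt_iff_degree_lt hp0] at hp
      exact (deg_le_iff hK hx hp0 j).2 (by omega)

variable (hsep : Algebra.IsSeparable (IntermediateField.adjoin k ({x} : Set K)) K)
include hsep

/-- The orders of `dx` form a canonical divisor. -/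
theorem exists_canonical_dOrd : ∃ C : Divisor k K, (∀ Q, C Q = dOrd hK x Q) ∧ IsCanonical k K C := by
  classical
  set E := IntermediateField.adjoin k ({x} : Set K) with hE
  have hfin : FiniteDimensional E K := finite_adjoin hK hx
  have hx0 : x ≠ 0 := fun e => hx (e ▸ isAlgebraic_zero)
  have hx' : Transcendental k x⁻¹ := fun h => hx (inv_inv x ▸ h.inv)
  have hinv : IntermediateField.adjoin k ({x⁻¹} : Set K) = E := adjoin_inv x
  have hxE : x ∈ E := IntermediateField.mem_adjoin_simple_self k x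
  set n := finrank E K with hn
  have hxz : ∀ l : ℤ, (((⟨x, hxE⟩ : E) ^ l : E) : K) = x ^ l := fun l => map_zpow₀ E.val _ l
  obtain ⟨B, a, hB1, hB2, hB3, hB4⟩ := exists_adapted hK hx hsep
  set B' := B.traceDual with hB'
  have hB'r : ∀ f i, B'.repr f i = Algebra.trace E K (f * B i) := fun f i => by
    rw [hB', Basis.traceDual_repr_apply, Algebra.traceForm_apply]
  -- vanishing outside a finite set
  have hsupp : (Function.support fun Q => dOrd hK x Q).Finite := by
    refine Set.Finite.subset ((finite_support_ord hK x).union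
      (Set.finite_iUnion fun i => finite_support_ord hK (B' i))) fun Q hQ => ?_
    by_contra hnot
    simp only [Set.mem_union, Set.mem_iUnion, Function.mem_support, not_or, not_exists, not_not] at hnot
    obtain ⟨hQx, hQB⟩ := hnot
    have hQ1 : Q.1 x ≤ 1 := (v_le_one_iff Q x).2 hQx.ge
    obtain ⟨c, hc⟩ := (finite_iff_exists hK).1 hQ1
    obtain ⟨t, H, ht, hH, hd⟩ := dOrd_spec hK Q
    obtain ⟨Φ, hΦ, hΦt⟩ := exists_expansion (deg_eq_one hK Q) ht
    have h0 : 0 ≤ dOrd hK x Q := by
      rw [hd]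
      exact (v_le_one_iff Q _).1 (v_hasseD_le_one (hasse_separating hK hH).2 hΦ hΦt hH hQ1 1)
    obtain ⟨Z, hZ, -, -⟩ := exists_fibre hK (transcendental_sub hx c)
    obtain ⟨z, hz⟩ := weak_approx_eq Z (fun _ => 0) (fun R => -dOrd hK x R)
    simp only [sub_zero, neg_neg] at hz
    have hloc := (local_dual hK (transcendental_sub hx c) (adjoin_sub c) z).1 fun R hR => by
      rw [dOrd_sub_const hK, hz R ((hZ R).2 hR)]
    have hzQ : Q.1 z ≤ 1 := by
      rw [← B'.sum_repr z]
      refine Q.1.map_sum_le fun i _ => ?_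
      rw [IntermediateField.smul_def, smul_eq_mul, map_mul, hB'r]
      refine mul_le_one' (hloc (B i) (fun R hR => hB1 i R ((finite_iff_exists hK).2 ⟨c, hR⟩)) Q hc)
        ((v_le_one_iff Q _).2 (hQB i).ge)
    rw [hz Q ((hZ Q).2 hc), ← exp_zero, exp_le_exp] at hzQ
    exact hQ (le_antisymm hzQ h0)
  set Cd : Divisor k K := Finsupp.ofSupportFinite _ hsupp with hC
  refine ⟨Cd, fun Q => rfl, ?_⟩
  set X₀ := pole (k := k) x with hX₀
  have hX : ∀ Q, X₀ Q = max (-Q.ord x) 0 := pole_apply hK x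
  have hXd : X₀.deg = n := deg_pole hK hx
  have hpl : ∀ Q : Place k K, Q.1 x⁻¹ < 1 ↔ Q.ord x < 0 := fun Q => by
    rw [v_lt_one_iff Q (inv_ne_zero hx0), ord_inv, neg_pos]
  -- the spaces `L(j X)`
  have hL : ∀ j : ℕ, ell (j • X₀) = ∑ i, ((j : ℤ) - a i + 1).toNat := fun j => by
    refine finrank_of_coeff hx rfl B _ _ fun f => ?_
    have h1 : f ∈ L (j • X₀) ↔ f ∈ finInt k x ∧ f * x ^ (-(j : ℤ)) ∈ fibInt k x⁻¹ := by
      constructor
      · intro hf
        refine ⟨fun Q hQ => ?_, fun Q hQ => ?_⟩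
        · have := hf Q
          rwa [Finsupp.smul_apply, hX, max_eq_right (by have := (v_le_one_iff Q x).1 hQ; omega),
            smul_zero, exp_zero] at this
        · have := hf Q
          rw [Finsupp.smul_apply, hX, max_eq_left (by have := (hpl Q).1 hQ; omega), nsmul_eq_mul] at this
          rw [map_mul, map_zpow₀, v_eq Q hx0, ← exp_zsmul, smul_eq_mul]
          refine (mul_le_mul' this le_rfl).trans_eq ?_
          rw [← exp_add, ← exp_zero]; congr 1; ring
      · rintro ⟨h1, h2⟩ Q
        rw [Finsupp.smul_apply, hX, nsmul_eq_mul]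
        by_cases hQ : Q.1 x ≤ 1
        · rw [max_eq_right (by have := (v_le_one_iff Q x).1 hQ; omega), mul_zero, exp_zero]
          exact h1 Q hQ
        · have := h2 Q ((pole_iff hx0).1 hQ)
          rw [map_mul, map_zpow₀, v_eq Q hx0, ← exp_zsmul, smul_eq_mul] at this
          rw [max_eq_left (by have := (hpl Q).1 ((pole_iff hx0).1 hQ); omega)]
          rw [← le_mul_inv_iff₀ exp_pos, one_mul, ← exp_neg] at this
          refine this.trans_eq ?_
          congr 1; ring
    rw [h1]
    have hsmul : f * x ^ (-(j : ℤ)) = (⟨x, hxE⟩ : E) ^ (-(j : ℤ)) • f := by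
      rw [IntermediateField.smul_def, smul_eq_mul, mul_comm]
      simp
    constructor
    · rintro ⟨hf1, hf2⟩ i
      refine (exists_deg_iff hK hx (B.repr f i).2 ((j : ℤ) - a i)).1 ⟨hB3 f hf1 i, ?_⟩
      have h := hB4 _ hf2 i
      rw [hsmul, map_smul, Finsupp.smul_apply, smul_eq_mul] at h
      convert h using 1
      simp only [MulMemClass.coe_mul, hxz]
      rw [mul_comm _ ((B.repr f i : E) : K), mul_assoc, ← zpow_add₀ hx0]
      congr 2; ring
    · intro hf
      have hsum : f = ∑ i, ((B.repr f i : E) : K) * B i := by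
        conv_lhs => rw [← B.sum_repr f]
        rfl
      refine ⟨?_, ?_⟩
      · rw [hsum]
        exact Subalgebra.sum_mem _ fun i _ => Subalgebra.mul_mem _
          ((exists_deg_iff hK hx (B.repr f i).2 _).2 (hf i)).1 (hB1 i)
      · rw [hsum, Finset.sum_mul]
        refine Subalgebra.sum_mem _ fun i _ => ?_
        rw [show ((B.repr f i : E) : K) * B i * x ^ (-(j : ℤ)) =
            ((B.repr f i : E) : K) * x ^ (-((j : ℤ) - a i)) * (B i * x ^ (-(a i : ℤ))) by
          rw [mul_mul_mul_comm, ← zpow_add₀ hx0]; congr 2; ring]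
        exact Subalgebra.mul_mem _ ((exists_deg_iff hK hx (B.repr f i).2 _).2 (hf i)).2 (hB2 i)
  -- the spaces `L(C + s X)`
  have hLC : ∀ s : ℕ, ell (Cd + s • X₀) = ∑ i, ((a i : ℤ) + s - 1).toNat := fun s => by
    have he : ∀ i, ((a i : ℤ) + s - 1).toNat = (((a i : ℤ) + s - 2) + 1).toNat := fun i => by congr 1; ring
    simp only [he]
    refine finrank_of_coeff hx rfl B' _ _ fun z => ?_
    simp only [hB'r]
    have hfinite : (∀ Q : Place k K, Q.1 x ≤ 1 → Q.1 z ≤ exp (dOrd hK x Q)) ↔
        ∀ i, ((Algebra.trace E K (z * B i) : E) : K) ∈ finInt k x := by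
      constructor
      · intro h i Q hQ
        obtain ⟨c, hc⟩ := (finite_iff_exists hK).1 hQ
        refine (local_dual hK (transcendental_sub hx c) (adjoin_sub c) z).1 (fun R hR => ?_) (B i)
          (fun R hR => hB1 i R ((finite_iff_exists hK).2 ⟨c, hR⟩)) Q hc
        rw [dOrd_sub_const hK]
        exact h R ((finite_iff_exists hK).2 ⟨c, hR⟩)
      · intro h Q hQ
        obtain ⟨c, hc⟩ := (finite_iff_exists hK).1 hQ
        rw [← dOrd_sub_const hK x c]
        refine (local_dual hK (transcendental_sub hx c) (adjoin_sub c) z).2 (fun w hw => ?_) Q hc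
        obtain ⟨q, -, hqR, hq⟩ := exists_clear hK (x := x) w
        have hqc : (q.comp (X + C c)).coeff 0 ≠ 0 := by
          rw [coeff_zero_eq_eval_zero, eval_comp, eval_add, eval_X, eval_C, zero_add]; exact hq c hw
        have hqE : aeval x q ∈ E :=
          IntermediateField.algebra_adjoin_le_adjoin k {x} (Algebra.adjoin_singleton_eq_range_aeval k x ▸ ⟨q, rfl⟩)
        have hq1 : ∀ R : Place k K, R.1 (x - algebraMap k K c) < 1 → R.1 (aeval x q) = 1 := fun R hR => by
          have := v_aeval_unit hR hqc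
          rwa [aeval_comp, map_add, aeval_X, aeval_C, sub_add_cancel] at this
        have htr : ((Algebra.trace E K (z * (aeval x q * w)) : E) : K) =
            aeval x q * ((Algebra.trace E K (z * w) : E) : K) := by
          rw [show z * (aeval x q * w) = (⟨_, hqE⟩ : E) • (z * w) by
            rw [IntermediateField.smul_def, smul_eq_mul]; ring, map_smul]
          rfl
        have hmem : ((Algebra.trace E K (z * (aeval x q * w)) : E) : K) ∈ finInt k x := by
          rw [show z * (aeval x q * w) = z * ∑ i, B.repr (aeval x q * w) i • B i by rw [B.sum_repr]]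
          rw [Finset.mul_sum, map_sum, AddSubmonoidClass.coe_finsetSum]
          refine Subalgebra.sum_mem _ fun i _ => ?_
          rw [mul_smul_comm, map_smul]
          exact Subalgebra.mul_mem _ (hB3 _ hqR i) (h i)
        intro R hR
        have h2 := hmem R ((finite_iff_exists hK).2 ⟨c, hR⟩)
        rwa [htr, map_mul, hq1 R hR, one_mul] at h2
    set m : ℤ := (s : ℤ) - 2 with hm
    have hinfty : (∀ Q : Place k K, Q.1 x⁻¹ < 1 → Q.1 (z * x ^ (-m)) ≤ exp (dOrd hK x⁻¹ Q)) ↔
        ∀ i, ((Algebra.trace E K (z * B i) : E) : K) * x ^ (-((a i : ℤ) + m)) ∈ fibInt k x⁻¹ := by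
      have hsc : ∀ (l : ℤ) (w : K), ((Algebra.trace E K (w * x ^ l) : E) : K) =
          ((Algebra.trace E K w : E) : K) * x ^ l := fun l w => by
        rw [show w * x ^ l = (⟨x, hxE⟩ : E) ^ l • w by
          rw [IntermediateField.smul_def, smul_eq_mul, hxz]; ring, map_smul,
          smul_eq_mul, MulMemClass.coe_mul, hxz, mul_comm]
      rw [local_dual hK hx' hinv (z * x ^ (-m))]
      constructor
      · intro h i
        have := h (B i * x ^ (-(a i : ℤ))) (hB2 i)
        rw [show z * x ^ (-m) * (B i * x ^ (-(a i : ℤ))) = z * B i * x ^ (-((a i : ℤ) + m)) by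
          rw [mul_mul_mul_comm, ← zpow_add₀ hx0]; congr 2; ring, hsc] at this
        exact this
      · intro h w hw
        rw [show z * x ^ (-m) * w = z * x ^ (-m) * ∑ i, B.repr w i • B i by rw [B.sum_repr]]
        rw [Finset.mul_sum, map_sum, AddSubmonoidClass.coe_finsetSum]
        refine Subalgebra.sum_mem _ fun i _ => ?_
        rw [mul_smul_comm, map_smul, smul_eq_mul, MulMemClass.coe_mul,
          show z * x ^ (-m) * B i = z * B i * x ^ (-m) by ring, hsc,
          show ((B.repr w i : E) : K) * (((Algebra.trace E K (z * B i) : E) : K) * x ^ (-m)) =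
            (((B.repr w i : E) : K) * x ^ (a i : ℤ)) *
              (((Algebra.trace E K (z * B i) : E) : K) * x ^ (-((a i : ℤ) + m))) by
            rw [show x ^ (-m) = x ^ (a i : ℤ) * x ^ (-((a i : ℤ) + m)) by
              rw [← zpow_add₀ hx0]; congr 1; ring]
            ring]
        exact Subalgebra.mul_mem _ (hB4 w hw i) (h i)
    have hsplit : z ∈ L (Cd + s • X₀) ↔ ((∀ Q : Place k K, Q.1 x ≤ 1 → Q.1 z ≤ exp (dOrd hK x Q)) ∧
        ∀ Q : Place k K, Q.1 x⁻¹ < 1 → Q.1 (z * x ^ (-m)) ≤ exp (dOrd hK x⁻¹ Q)) := by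
      have hCs : ∀ Q, (Cd + s • X₀) Q = dOrd hK x Q + (s : ℤ) * max (-Q.ord x) 0 := fun Q => by
        rw [Finsupp.add_apply, Finsupp.smul_apply, hX, nsmul_eq_mul]; rfl
      have hinf' : ∀ Q : Place k K, Q.ord x < 0 →
          (Q.1 (z * x ^ (-m)) ≤ exp (dOrd hK x⁻¹ Q) ↔ Q.1 z ≤ exp ((Cd + s • X₀) Q)) := fun Q hQ => by
        rw [dOrd_inv hK hx hsep, hCs, max_eq_left (by omega)]
        rcases eq_or_ne z 0 with rfl | hz
        · simp
        rw [v_le_exp_iff Q (mul_ne_zero hz (zpow_ne_zero _ hx0)), v_le_exp_iff Q hz,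
          ord_mul Q hz (zpow_ne_zero _ hx0), ord_zpow, hm]
        constructor <;> intro h <;> linarith
      constructor
      · intro h
        refine ⟨fun Q hQ => ?_, fun Q hQ => ?_⟩
        · have h1 := h Q
          rwa [hCs, max_eq_right (by have := (v_le_one_iff Q x).1 hQ; omega), mul_zero, add_zero] at h1
        · exact (hinf' Q ((hpl Q).1 hQ)).2 (h Q)
      · rintro ⟨h1, h2⟩ Q
        by_cases hQ : Q.1 x ≤ 1
        · rw [hCs, max_eq_right (by have := (v_le_one_iff Q x).1 hQ; omega), mul_zero, add_zero]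
          exact h1 Q hQ
        · exact (hinf' Q ((hpl Q).1 ((pole_iff hx0).1 hQ))).1 (h2 Q ((pole_iff hx0).1 hQ))
    rw [hsplit, hfinite, hinfty, ← forall_and]
    refine forall_congr' fun i => ?_
    rw [show (a i : ℤ) + (s : ℤ) - 2 = (a i : ℤ) + m by rw [hm]; ring]
    exact exists_deg_iff hK hx (Algebra.trace E K (z * B i)).2 _
  -- conclusion
  set g := genus k K
  set A := ∑ i, (a i : ℤ) with hA
  have hai : ∀ i, (a i : ℤ) ≤ A := fun i =>
    Finset.single_le_sum (f := fun i => (a i : ℤ)) (fun _ _ => Int.natCast_nonneg _) (Finset.mem_univ i)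
  have hn0 : 1 ≤ (n : ℤ) := by exact_mod_cast finrank_pos (R := E) (M := K)
  have hA1 : A = n + g - 1 := by
    obtain ⟨j, hj1, hj2⟩ : ∃ j : ℕ, A ≤ j ∧ 2 * (g : ℤ) ≤ j := ⟨(A + 2 * g).toNat, by
      have : 0 ≤ A := Finset.sum_nonneg fun i _ => Int.natCast_nonneg _
      omega, by
      have : 0 ≤ A := Finset.sum_nonneg fun i _ => Int.natCast_nonneg _
      omega⟩
    have h1 := ell_eq_of_deg_ge hK (D := j • X₀) (by
      rw [deg_nsmul, hXd]
      have : (j : ℤ) ≤ j * n := le_mul_of_one_le_right (Int.natCast_nonneg _) hn0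
      omega)
    rw [hL, deg_nsmul, hXd, Nat.cast_sum,
      Finset.sum_congr rfl fun i _ => Int.toNat_of_nonneg (show 0 ≤ (j : ℤ) - a i + 1 by have := hai i; omega),
      Finset.sum_add_distrib, Finset.sum_sub_distrib, Finset.sum_const, Finset.sum_const,
      Finset.card_univ, Fintype.card_fin, nsmul_eq_mul, nsmul_eq_mul, ← hA] at h1
    linarith [h1, mul_comm (n : ℤ) (j : ℤ)]
  have hdeg : Cd.deg = 2 * g - 2 := by
    obtain ⟨s, hs1, hs2⟩ : ∃ s : ℕ, 1 ≤ s ∧ 2 * (g : ℤ) - Cd.deg ≤ s :=
      ⟨(2 * (g : ℤ) - Cd.deg).toNat + 1, by omega, by omega⟩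
    have h1 := ell_eq_of_deg_ge hK (D := Cd + s • X₀) (by
      rw [deg_add, deg_nsmul, hXd]
      have : (s : ℤ) ≤ s * n := le_mul_of_one_le_right (Int.natCast_nonneg _) hn0
      omega)
    rw [hLC, deg_add, deg_nsmul, hXd, Nat.cast_sum,
      Finset.sum_congr rfl fun i _ => Int.toNat_of_nonneg (show 0 ≤ (a i : ℤ) + s - 1 by omega),
      Finset.sum_sub_distrib, Finset.sum_add_distrib, Finset.sum_const, Finset.sum_const,
      Finset.card_univ, Fintype.card_fin, nsmul_eq_mul, nsmul_eq_mul, ← hA] at h1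
    linarith [h1, mul_comm (n : ℤ) (s : ℤ)]
  have hell : (ell Cd : ℤ) = g := by
    have h0 := hL 0
    rw [zero_smul, ell_zero hK] at h0
    have h1 := hLC 0
    rw [zero_smul, add_zero] at h1
    rw [h1, Nat.cast_sum]
    have h2 : ∑ i, ((((a i : ℤ) + (0 : ℕ) - 1).toNat : ℤ) - (((0 : ℕ) : ℤ) - a i + 1).toNat) = A - n := by
      rw [Finset.sum_congr rfl fun i _ => show _ = (a i : ℤ) - 1 by omega, Finset.sum_sub_distrib,
        Finset.sum_const, Finset.card_univ, Fintype.card_fin, nsmul_one]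
    rw [Finset.sum_sub_distrib] at h2
    have h3 : (∑ i, ((((0 : ℕ) : ℤ) - a i + 1).toNat : ℤ)) = 1 := by exact_mod_cast h0.symm
    linarith
  exact (isCanonical_iff hK Cd).2 ⟨by exact_mod_cast hell, hdeg⟩

end Groth.Agent.FFLib
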