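import Mathlib

/-!
# Relative quotients of nested subspaces
-/

namespace Groth.Agent.FFLib

open Module

variable {F : Type*} [Field F] {M N : Type*} [AddCommGroup M] [Module F M] [AddCommGroup N]
  [Module F N]

/-- `B / (A ∩ B)`. -/
abbrev quo (A B : Submodule F M) : Type _ := ↥B ⧸ Submodule.comap B.subtype A

/-- The map of relative quotients induced by a linear map. -/
noncomputable def quoMap (f : M →ₗ[F] N) {A B : Submodule F M} {A' B' : Submodule F N}
    (hA : A ≤ A'.comap f) (hB : B ≤ B'.comap f) : quo A B →ₗ[F] quo A' B' :=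
  Submodule.mapQ _ _ (f.restrict fun _ hx => hB hx) fun _ hx => hA hx

lemma quoMap_mk (f : M →ₗ[F] N) {A B : Submodule F M} {A' B' : Submodule F N}
    (hA : A ≤ A'.comap f) (hB : B ≤ B'.comap f) (b : B) :
    quoMap f hA hB (Submodule.Quotient.mk b) = Submodule.Quotient.mk ⟨f b, hB b.2⟩ := rfl

lemma quoMap_comap_injective (f : M →ₗ[F] N) (A' B' : Submodule F N) :
    Function.Injective (quoMap f (le_refl (A'.comap f)) (le_refl (B'.comap f))) := by
  rw [injective_iff_map_eq_zero]
  intro y hy
  induction y using Submodule.Quotient.induction_on with | _ b => ?_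
  rw [quoMap_mk, Submodule.Quotient.mk_eq_zero] at hy
  rw [Submodule.Quotient.mk_eq_zero]
  exact hy

lemma finite_quo_comap (f : M →ₗ[F] N) (A' B' : Submodule F N) [FiniteDimensional F (quo A' B')] :
    FiniteDimensional F (quo (A'.comap f) (B'.comap f)) ∧
      finrank F (quo (A'.comap f) (B'.comap f)) ≤ finrank F (quo A' B') :=
  ⟨Module.Finite.of_injective _ (quoMap_comap_injective f A' B'),
    LinearMap.finrank_le_finrank_of_injective (quoMap_comap_injective f A' B')⟩

lemma finrank_quo_add_of_finite (A B : Submodule F M) (h : A ≤ B) [FiniteDimensional F B] :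
    finrank F (quo A B) + finrank F A = finrank F B := by
  rw [← (Submodule.comapSubtypeEquivOfLe h).finrank_eq]
  exact Submodule.finrank_quotient_add_finrank _

lemma finite_of_finite_quo (A B : Submodule F M) (h : A ≤ B) [FiniteDimensional F A]
    [FiniteDimensional F (quo A B)] : FiniteDimensional F B := by
  have : FiniteDimensional F (Submodule.comap B.subtype A) :=
    (Submodule.comapSubtypeEquivOfLe h).symm.finiteDimensional
  exact Module.Finite.of_submodule_quotient (Submodule.comap B.subtype A)

lemma finite_quo_trans (A B C : Submodule F M) (hAB : A ≤ B) (hBC : B ≤ C)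
    [FiniteDimensional F (quo A B)] [FiniteDimensional F (quo B C)] :
    FiniteDimensional F (quo A C) ∧
      finrank F (quo A C) = finrank F (quo A B) + finrank F (quo B C) := by
  let f : quo A B →ₗ[F] quo A C :=
    quoMap LinearMap.id (le_of_eq (Submodule.comap_id A).symm) (by rwa [Submodule.comap_id])
  let g : quo A C →ₗ[F] quo B C :=
    quoMap LinearMap.id (by rwa [Submodule.comap_id]) (le_of_eq (Submodule.comap_id C).symm)
  have hf : Function.Injective f := by
    rw [injective_iff_map_eq_zero]
    intro y hy
    induction y using Submodule.Quotient.induction_on with | _ b => ?_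
    rw [quoMap_mk, Submodule.Quotient.mk_eq_zero] at hy
    rw [Submodule.Quotient.mk_eq_zero]
    exact hy
  have hg : Function.Surjective g := by
    intro y
    induction y using Submodule.Quotient.induction_on with | _ c => ?_
    exact ⟨Submodule.Quotient.mk c, rfl⟩
  have hfg : LinearMap.range f = LinearMap.ker g := by
    ext y
    induction y using Submodule.Quotient.induction_on with | _ c => ?_
    rw [LinearMap.mem_ker, quoMap_mk, Submodule.Quotient.mk_eq_zero, LinearMap.mem_range]
    constructor
    · rintro ⟨z, hz⟩
      induction z using Submodule.Quotient.induction_on with | _ b => ?_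
      rw [quoMap_mk, Submodule.Quotient.eq] at hz
      have h1 : ((b : M) - (c : M)) ∈ B := hAB hz
      simpa using B.sub_mem b.2 h1
    · intro hc
      exact ⟨Submodule.Quotient.mk ⟨c, hc⟩, rfl⟩
  have h1 : FiniteDimensional F (LinearMap.ker g) := by
    rw [← hfg]
    exact LinearEquiv.finiteDimensional (LinearEquiv.ofInjective f hf)
  have h2 : FiniteDimensional F (quo A C ⧸ LinearMap.ker g) :=
    (g.quotKerEquivOfSurjective hg).symm.finiteDimensional
  have h3 : FiniteDimensional F (quo A C) := Module.Finite.of_submodule_quotient (LinearMap.ker g)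
  refine ⟨h3, ?_⟩
  have h4 := g.finrank_range_add_finrank_ker
  rw [LinearMap.range_eq_top.2 hg, finrank_top, ← hfg, LinearMap.finrank_range_of_inj hf] at h4
  omega

/-- Adding the range of `d` to both terms. -/
lemma finite_quo_sup_range (d : N →ₗ[F] M) (A B : Submodule F M) (hAB : A ≤ B)
    [FiniteDimensional F (quo A B)] :
    FiniteDimensional F (quo (A ⊔ LinearMap.range d) (B ⊔ LinearMap.range d)) ∧
      finrank F (quo A B) = finrank F (quo (A ⊔ LinearMap.range d) (B ⊔ LinearMap.range d)) +
        finrank F (quo (A.comap d) (B.comap d)) := by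
  set R := LinearMap.range d
  let g : quo A B →ₗ[F] quo (A ⊔ R) (B ⊔ R) :=
    quoMap LinearMap.id (by rw [Submodule.comap_id]; exact le_sup_left)
      (by rw [Submodule.comap_id]; exact le_sup_left)
  let h : quo (A.comap d) (B.comap d) →ₗ[F] quo A B := quoMap d le_rfl le_rfl
  have hg : Function.Surjective g := by
    intro y
    induction y using Submodule.Quotient.induction_on with | _ c => ?_
    obtain ⟨b, hb, r, hr, e⟩ := Submodule.mem_sup.1 c.2
    refine ⟨Submodule.Quotient.mk ⟨b, hb⟩, ?_⟩
    rw [quoMap_mk, Submodule.Quotient.eq]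
    refine Submodule.mem_sup_right ?_
    simpa [← e] using R.neg_mem hr
  have hh : Function.Injective h := quoMap_comap_injective d A B
  have hgh : LinearMap.range h = LinearMap.ker g := by
    ext y
    induction y using Submodule.Quotient.induction_on with | _ b => ?_
    rw [LinearMap.mem_ker, quoMap_mk, Submodule.Quotient.mk_eq_zero, LinearMap.mem_range]
    constructor
    · rintro ⟨z, hz⟩
      induction z using Submodule.Quotient.induction_on with | _ z => ?_
      rw [quoMap_mk, Submodule.Quotient.eq] at hz
      have h1 : d z - (b : M) ∈ A := hz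
      have h2 : (b : M) = -(d z - b) + d z := by abel
      show (b : M) ∈ A ⊔ R
      rw [h2]
      exact Submodule.add_mem_sup (A.neg_mem h1) ⟨z, rfl⟩
    · intro hb
      obtain ⟨a, ha, r, ⟨z, rfl⟩, e⟩ := Submodule.mem_sup.1 (show (b : M) ∈ A ⊔ R from hb)
      have hz : d z ∈ B := by
        rw [show d z = (b : M) - a by rw [← e]; abel]
        exact B.sub_mem b.2 (hAB ha)
      refine ⟨Submodule.Quotient.mk ⟨z, hz⟩, ?_⟩
      rw [quoMap_mk, Submodule.Quotient.eq]
      show d z - (b : M) ∈ A
      rw [show d z - (b : M) = -a by rw [← e]; abel]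
      exact A.neg_mem ha
  refine ⟨Module.Finite.of_surjective g hg, ?_⟩
  have h4 := g.finrank_range_add_finrank_ker
  rw [LinearMap.range_eq_top.2 hg, finrank_top, ← hgh, LinearMap.finrank_range_of_inj hh] at h4
  omega

end Groth.Agent.FFLib
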