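import Groth.Agent.FFLib.Places
import Groth.Agent.FFLib.Quo

/-!
# Degrees of places and divisors
-/

open Polynomial WithZero Module

namespace Groth.Agent.FFLib

open FunFld

variable {k K : Type*} [Field k] [Field K] [Algebra k K]

lemma coe_algebraMap_O (P : Place k K) (c : k) :
    ((algebraMap k P.O c : P.O) : K) = algebraMap k K c := rfl

lemma coe_smul_O (P : Place k K) (c : k) (y : P.O) : ((c • y : P.O) : K) = c • (y : K) := by
  rw [Algebra.smul_def, Algebra.smul_def]; rfl

/-- The residue map at `P`, as a `k`-linear map. -/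
noncomputable def resL (P : Place k K) : P.O →ₗ[k] IsLocalRing.ResidueField P.O where
  toFun := IsLocalRing.residue P.O
  map_add' := map_add _
  map_smul' c y := by
    rw [RingHom.id_apply, Algebra.smul_def, map_mul]; exact (Algebra.smul_def c (IsLocalRing.residue P.O y)).symm

@[simp] lemma resL_apply (P : Place k K) (y : P.O) : resL P y = IsLocalRing.residue P.O y := rfl

lemma residue_sum_smul (P : Place k K) {ι : Type*} (s : Finset ι) (c : ι → k) (y : ι → P.O) :
    IsLocalRing.residue P.O (∑ i ∈ s, c i • y i) = ∑ i ∈ s, c i • IsLocalRing.residue P.O (y i) := by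
  rw [map_sum]
  exact Finset.sum_congr rfl fun i _ => (resL P).map_smul (c i) (y i)

lemma residue_eq_zero_iff_lt (P : Place k K) (y : P.O) :
    IsLocalRing.residue P.O y = 0 ↔ P.1 (y : K) < 1 := by
  rw [IsLocalRing.residue_eq_zero_iff, IsLocalRing.mem_maximalIdeal, mem_nonunits_iff]
  constructor
  · intro h
    refine lt_of_le_of_ne y.2 fun e => h ?_
    have hy0 : (y : K) ≠ 0 := fun e0 => by simp [e0] at e
    exact IsUnit.of_mul_eq_one ⟨(y : K)⁻¹, show P.1 (y : K)⁻¹ ≤ 1 by rw [map_inv₀, e, inv_one]⟩
      (Subtype.ext (mul_inv_cancel₀ hy0))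
  · rintro h ⟨u, rfl⟩
    have h1 : P.1 ((u : P.O) : K) * P.1 ((↑u⁻¹ : P.O) : K) = 1 := by
      rw [← map_mul]
      show P.1 (((u : P.O) * (↑u⁻¹ : P.O) : P.O) : K) = 1
      rw [u.mul_inv]
      exact map_one P.1
    exact (mul_lt_one_of_lt_of_le h (↑u⁻¹ : P.O).2).ne h1

lemma v_le_of_sub {P : Place k K} {a b : K} {g : WithZero (Multiplicative ℤ)}
    (h : P.1 (a - b) ≤ g) (hb : P.1 b ≤ g) : P.1 a ≤ g := by
  have := P.1.map_add (a - b) b
  rw [sub_add_cancel] at this
  exact this.trans (max_le h hb)

variable (hK : FG1 k K)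
include hK

lemma transcendental_of_v_lt (P : Place k K) {x : K} (hx0 : x ≠ 0) (hx : P.1 x < 1) :
    Transcendental k x :=
  transcendental_of_v_ne_one P.1 (fun _ hc => v_const P hc) hx0 hx.ne

lemma transcendental_of_ord (P : Place k K) {x : K} (hx : P.ord x ≠ 0) : Transcendental k x :=
  have hx0 : x ≠ 0 := fun e => hx (by rw [e, ord_zero])
  transcendental_of_v_ne_one P.1 (fun _ hc => v_const P hc) hx0 fun h => hx ((v_eq_one_iff P hx0).1 h)

omit hK in
/-- Key estimate: families integral at a set of places and independent modulo `x` are independent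
over `k(x)`. -/
lemma linearIndependent_of_places {x : K} (hx : Transcendental k x) (s : Finset (Place k K))
    (hs : ∀ P ∈ s, P.1 x < 1) {ι : Type*} [Fintype ι] (w : ι → K)
    (hw : ∀ P ∈ s, ∀ i, P.1 (w i) ≤ 1)
    (hind : ∀ c : ι → k, (∀ P ∈ s, P.1 (∑ i, c i • w i) ≤ P.1 x) → c = 0) :
    LinearIndependent (IntermediateField.adjoin k ({x} : Set K)) w := by
  classical
  refine linearIndependent_adjoin hx w fun t φ ht i hi => ?_
  let c : ι → k := fun i => if i ∈ t then (φ i).coeff 0 else 0
  have hc : c = 0 := hind c fun P hP => by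
    have e : ∑ i, c i • w i =
        -∑ i ∈ t, (aeval x (φ i) - algebraMap k K ((φ i).coeff 0)) * w i := by
      simp only [sub_mul, Finset.sum_sub_distrib, ht, zero_sub, neg_neg, c, Algebra.smul_def,
        apply_ite (algebraMap k K), map_zero, ite_mul, zero_mul, Finset.sum_ite_mem,
        Finset.univ_inter]
    rw [e, Valuation.map_neg]
    refine P.1.map_sum_le fun j _ => ?_
    rw [map_mul]
    exact mul_le_of_le_of_le_one (v_aeval_sub_C P.1 P.2.1 (hs P hP).le _) (hw P hP j)
  simpa [c, hi] using congrFun hc i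

lemma rank_residueField_le (P : Place k K) :
    ∃ n : ℕ, Module.rank k (IsLocalRing.ResidueField P.O) ≤ n := by
  classical
  obtain ⟨t, ht0, htord, htv⟩ := exists_uniformizer P
  have hlt : P.1 t < 1 := by rw [htv, ← exp_zero, exp_lt_exp]; norm_num
  have htr := transcendental_of_v_lt hK P ht0 hlt
  have := finite_adjoin hK htr
  refine ⟨finrank (IntermediateField.adjoin k ({t} : Set K)) K, rank_le fun s hs => ?_⟩
  choose y hy using fun i : s => IsLocalRing.residue_surjective (R := P.O) (i : _)
  have hli : LinearIndependent (IntermediateField.adjoin k ({t} : Set K))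
      (fun i : s => (y i : K)) := by
    refine linearIndependent_of_places htr {P}
      (fun Q hQ => by rw [Finset.mem_singleton.1 hQ]; exact hlt) _
      (fun Q hQ i => by rw [Finset.mem_singleton.1 hQ]; exact (y i).2) fun c hc => ?_
    have h1 := hc P (Finset.mem_singleton_self P)
    have e : ((∑ i, c i • y i : P.O) : K) = ∑ i, c i • (y i : K) := by
      rw [← ValuationSubring.subtype_apply, map_sum]
      exact Finset.sum_congr rfl fun i _ => coe_smul_O P _ _
    have h2 : resL P (∑ i, c i • y i) = 0 := by
      rw [resL_apply, residue_eq_zero_iff_lt, e]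
      exact h1.trans_lt hlt
    rw [resL_apply, residue_sum_smul] at h2
    simp only [hy] at h2
    exact funext (Fintype.linearIndependent_iff.1 hs c h2)
  simpa using hli.fintype_card_le_finrank

lemma finiteDimensional_residue (P : Place k K) :
    FiniteDimensional k (IsLocalRing.ResidueField P.O) := by
  obtain ⟨n, hn⟩ := rank_residueField_le hK P
  exact Module.rank_lt_aleph0_iff.1 (hn.trans_lt (Cardinal.natCast_lt_aleph0))

lemma deg_pos (P : Place k K) : 0 < P.deg := by
  have := finiteDimensional_residue hK P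
  exact finrank_pos

/-- `∑ ord_P(x) deg P ≤ [K : k(x)]` over any finite set of zeros of `x`. -/
lemma sum_ord_mul_deg_le {x : K} (hx : Transcendental k x) (s : Finset (Place k K))
    (hs : ∀ P ∈ s, 0 < P.ord x) :
    ∑ P ∈ s, P.ord x * (P.deg : ℤ) ≤ finrank (IntermediateField.adjoin k ({x} : Set K)) K := by
  classical
  have hx0 : x ≠ 0 := fun e => hx (e ▸ isAlgebraic_zero)
  have := finite_adjoin hK hx
  have hfd := fun P : Place k K => finiteDimensional_residue hK P
  let b : ∀ P : Place k K, Basis (Fin P.deg) k (IsLocalRing.ResidueField P.O) := fun P =>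
    @Module.finBasis k _ _ _ _ _ _ (hfd P)
  choose u hu using fun (P : Place k K) (i : Fin P.deg) =>
    IsLocalRing.residue_surjective (R := P.O) (b P i)
  choose t ht0 htord htv using fun P : Place k K => exists_uniformizer P
  let ι := Σ P : s, Fin ((P : Place k K).ord x).toNat × Fin (P : Place k K).deg
  let a : ι → Place k K → K := fun (i : Σ P : s, Fin ((P : Place k K).ord x).toNat × Fin (P : Place k K).deg) Q =>
    if Q = i.1 then t i.1 ^ (i.2.1 : ℕ) * (u i.1 i.2.2 : K) else 0
  choose w hw using fun i : ι => weak_approx s (a i) (fun Q => Q.ord x)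
  have htle : ∀ P : Place k K, P.1 (t P) ≤ 1 := fun P => by
    rw [htv, ← exp_zero, exp_le_exp]; norm_num
  have ha : ∀ (i : ι) (Q : Place k K), Q.1 (a i Q) ≤ 1 := by
    intro i Q
    simp only [a]
    split_ifs with h
    · subst h
      rw [map_mul, map_pow]
      exact mul_le_one' (pow_le_one' (htle _) _) (u _ _).2
    · simp
  have hxv : ∀ Q ∈ s, Q.1 x = exp (-Q.ord x) := fun Q _ => v_eq Q hx0
  have hli : LinearIndependent (IntermediateField.adjoin k ({x} : Set K)) w := by
    refine linearIndependent_of_places hx s (fun P hP => (v_lt_one_iff P hx0).2 (hs P hP)) w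
      (fun Q hQ i => v_le_of_sub ((hw i Q hQ).trans ?_) (ha i Q)) fun c hc => ?_
    · rw [← exp_zero, exp_le_exp]; have := hs Q hQ; omega
    by_contra hne
    obtain ⟨⟨P, j₁, b₁⟩, hi₁⟩ := Function.ne_iff.1 hne
    let J : Finset (Fin ((P : Place k K).ord x).toNat) :=
      Finset.univ.filter fun j => ∃ b, c ⟨P, j, b⟩ ≠ 0
    have hJ : J.Nonempty := ⟨j₁, by simp only [J, Finset.mem_filter, Finset.mem_univ, true_and]; exact ⟨b₁, hi₁⟩⟩
    obtain ⟨j₀, hj₀, hmin⟩ := J.exists_min_image id hJ
    simp only [J, Finset.mem_filter, Finset.mem_univ, true_and, id_eq] at hj₀ hmin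
    let U : Fin ((P : Place k K).ord x).toNat → (P : Place k K).O := fun j =>
      ∑ b, c ⟨P, j, b⟩ • u P b
    have hmain : (P : Place k K).1 (∑ i, c i • a i P) ≤ exp (-(P : Place k K).ord x) := by
      refine v_le_of_sub (b := ∑ i, c i • w i) ?_ ((hc P P.2).trans_eq (hxv P P.2))
      rw [← Finset.sum_sub_distrib]
      refine (P : Place k K).1.map_sum_le fun i _ => ?_
      rw [← smul_sub]
      refine (v_smul_le _ _ _).trans ?_
      rw [Valuation.map_sub_swap]
      exact hw i P P.2
    have he : ∑ i, c i • a i P = ∑ j : Fin ((P : Place k K).ord x).toNat, t P ^ (j : ℕ) * (U j : K) := by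
      rw [Fintype.sum_sigma, Finset.sum_eq_single P]
      · rw [Fintype.sum_prod_type]
        refine Finset.sum_congr rfl fun j _ => ?_
        simp only [U]
        rw [← ValuationSubring.subtype_apply, map_sum, Finset.mul_sum]
        refine Finset.sum_congr rfl fun bb _ => ?_
        rw [ValuationSubring.subtype_apply, coe_smul_O]
        simp only [a, if_true]
        rw [mul_smul_comm]
      · intro Q _ hQ
        refine Finset.sum_eq_zero fun jb _ => ?_
        simp only [a]
        rw [if_neg fun e => hQ (Subtype.ext e).symm, smul_zero]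
      · simp
    have hU : (P : Place k K).1 (U j₀ : K) = 1 := by
      refine le_antisymm (U j₀).2 ?_
      by_contra h
      rw [not_le, ← residue_eq_zero_iff_lt] at h
      have h2 : resL (P : Place k K) (U j₀) = 0 := h
      rw [resL_apply, residue_sum_smul] at h2
      simp only [hu] at h2
      obtain ⟨b₀, hb₀⟩ := hj₀
      exact hb₀ (Fintype.linearIndependent_iff.1 (b P).linearIndependent _ h2 b₀)
    have hv : (P : Place k K).1 (∑ j : Fin ((P : Place k K).ord x).toNat, t P ^ (j : ℕ) * (U j : K)) = exp (-((j₀ : ℕ) : ℤ)) := by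
      have h0 : (P : Place k K).1 (t P ^ (j₀ : ℕ) * (U j₀ : K)) = exp (-((j₀ : ℕ) : ℤ)) := by
        rw [map_mul, map_pow, hU, mul_one, htv, ← exp_nsmul]; congr 1; simp
      rw [v_sum_eq _ (Finset.mem_univ j₀) fun j _ hj => ?_, h0]
      rw [h0]
      by_cases hcj : ∀ b, c ⟨P, j, b⟩ = 0
      · have : U j = 0 := Finset.sum_eq_zero fun b _ => by rw [hcj b, zero_smul]
        rw [this]; simp
      · push Not at hcj
        have hlt : (j₀ : ℕ) < j := lt_of_le_of_ne (hmin j hcj) fun e => hj (Fin.ext e.symm)
        rw [map_mul, map_pow, htv, ← exp_nsmul]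
        refine (mul_le_of_le_one_right' (U j).2).trans_lt (exp_lt_exp.2 ?_)
        simp only [nsmul_eq_mul, mul_neg, mul_one]
        omega
    rw [he, hv, exp_le_exp] at hmain
    have := j₀.2
    omega
  have hcard := hli.fintype_card_le_finrank
  simp only [ι, Fintype.card_sigma, Fintype.card_prod, Fintype.card_fin] at hcard
  rw [← Finset.sum_attach]
  calc ∑ P ∈ s.attach, (P : Place k K).ord x * ((P : Place k K).deg : ℤ)
      = ((∑ P : s, ((P : Place k K).ord x).toNat * (P : Place k K).deg : ℕ) : ℤ) := by
        push_cast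
        exact Finset.sum_congr rfl fun P _ => by rw [Int.toNat_of_nonneg (hs P P.2).le]
    _ ≤ _ := by exact_mod_cast hcard

lemma finite_zeros (x : K) : {P : Place k K | 0 < P.ord x}.Finite := by
  by_cases htr : Transcendental k x
  swap
  · refine Set.finite_empty.subset fun P hP => ?_
    exact absurd (transcendental_of_ord hK P (ne_of_gt hP)) htr
  by_contra hinf
  obtain ⟨s, hs, hcard⟩ := Set.Infinite.exists_subset_card_eq hinf
    (finrank (IntermediateField.adjoin k ({x} : Set K)) K + 1)
  have h1 := sum_ord_mul_deg_le hK htr s hs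
  have h2 : ∑ P ∈ s, (1 : ℤ) ≤ ∑ P ∈ s, P.ord x * (P.deg : ℤ) :=
    Finset.sum_le_sum fun P hP => by
      have hd := deg_pos hK P
      have ho : 0 < P.ord x := hs hP
      exact one_le_mul_of_one_le_of_one_le (by omega) (by omega)
  simp only [Finset.sum_const, nsmul_eq_mul, mul_one, hcard] at h2
  push_cast at h2
  linarith

lemma finite_support_ord (x : K) : (Function.support fun P : Place k K => P.ord x).Finite := by
  refine ((finite_zeros hK x).union (finite_zeros hK x⁻¹)).subset fun P hP => ?_
  simp only [Function.mem_support] at hP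
  simp only [Set.mem_union, Set.mem_setOf_eq, ord_inv]
  omega

lemma div_apply (x : K) (P : Place k K) : FunFld.div k x P = P.ord x := by
  rw [FunFld.div, dif_pos (finite_support_ord hK x), Finsupp.ofSupportFinite_coe]

lemma div_mul {x y : K} (hx : x ≠ 0) (hy : y ≠ 0) :
    FunFld.div k (x * y) = FunFld.div k x + FunFld.div k y := by
  ext P
  simp [div_apply hK, ord_mul P hx hy]

lemma div_inv (x : K) : FunFld.div k x⁻¹ = -FunFld.div k x := by
  ext P
  simp [div_apply hK]

lemma div_const (c : k) : FunFld.div k (algebraMap k K c) = 0 := by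
  ext P
  simp [div_apply hK]

omit hK

/-! ## Degrees of divisors -/

@[simp] lemma deg_zero : Divisor.deg (0 : Divisor k K) = 0 := by simp [Divisor.deg]

@[simp] lemma deg_add (D E : Divisor k K) : (D + E).deg = D.deg + E.deg :=
  Finsupp.sum_add_index' (fun _ => zero_mul _) fun _ _ _ => add_mul _ _ _

/-- The degree as an additive map. -/
noncomputable def degHom : Divisor k K →+ ℤ := AddMonoidHom.mk' Divisor.deg deg_add

@[simp] lemma deg_neg (D : Divisor k K) : (-D).deg = -D.deg := map_neg degHom D

@[simp] lemma deg_sub (D E : Divisor k K) : (D - E).deg = D.deg - E.deg := map_sub degHom D E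

@[simp] lemma deg_nsmul (n : ℕ) (D : Divisor k K) : (n • D).deg = n * D.deg := by
  show degHom (n • D) = _
  rw [map_nsmul, nsmul_eq_mul]; rfl

@[simp] lemma deg_single (P : Place k K) (n : ℤ) :
    Divisor.deg (Finsupp.single P n : Divisor k K) = n * P.deg := by
  simp [Divisor.deg]

lemma deg_nonneg {D : Divisor k K} (h : 0 ≤ D) : 0 ≤ D.deg :=
  Finset.sum_nonneg fun P _ => mul_nonneg (h P) (Int.natCast_nonneg _)

lemma deg_mono {D E : Divisor k K} (h : D ≤ E) : D.deg ≤ E.deg := by
  have := deg_nonneg (sub_nonneg.2 h)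
  rw [deg_sub] at this
  omega

/-- Induction along `≤` by adding one place at a time. -/
lemma divisor_induction {motive : Divisor k K → Divisor k K → Prop}
    (refl : ∀ D, motive D D)
    (step : ∀ D E P, D ≤ E → motive D E → motive D (E + Finsupp.single P 1))
    (D E : Divisor k K) (h : D ≤ E) : motive D E := by
  classical
  suffices ∀ (n : ℕ) (D E : Divisor k K), D ≤ E →
      (E - D).sum (fun _ a => a.toNat) ≤ n → motive D E from this _ D E h le_rfl
  intro n
  induction n with
  | zero =>
    intro D E hle hn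
    rw [Nat.le_zero, Finsupp.sum, Finset.sum_eq_zero_iff] at hn
    have : E = D := by
      ext P
      by_contra hP
      have h1 := hn P (by simpa [sub_eq_zero] using hP)
      have h2 := hle P
      simp only [Finsupp.coe_sub, Pi.sub_apply] at h1
      omega
    rw [this]; exact refl D
  | succ n ih =>
    intro D E hle hn
    by_cases hED : E = D
    · rw [hED]; exact refl D
    obtain ⟨P, hP⟩ : ∃ P, E P ≠ D P := by
      by_contra hh
      push Not at hh
      exact hED (Finsupp.ext hh)
    have hlt : D P < E P := lt_of_le_of_ne (hle P) (Ne.symm hP)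
    have hle' : D ≤ E - Finsupp.single P 1 := fun Q => by
      rcases eq_or_ne Q P with rfl | hQ
      · simp; omega
      · simpa [Finsupp.single_eq_of_ne hQ] using hle Q
    have key : (E - Finsupp.single P 1 - D).sum (fun _ a => a.toNat) + 1 =
        (E - D).sum (fun _ a => a.toNat) := by
      have hsupp : (E - Finsupp.single P 1 - D).support ⊆ (E - D).support := fun Q hQ => by
        rcases eq_or_ne Q P with rfl | hQP
        · simp [sub_eq_zero]; omega
        · simpa [Finsupp.single_eq_of_ne hQP] using hQ
      have hPm : P ∈ (E - D).support := by simp [sub_eq_zero]; omega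
      rw [Finsupp.sum_of_support_subset _ hsupp _ (fun _ _ => rfl), Finsupp.sum,
        ← Finset.add_sum_erase _ _ hPm, ← Finset.add_sum_erase _ _ hPm]
      have e : ∑ Q ∈ (E - D).support.erase P, ((E - (Finsupp.single P 1 : Divisor k K) - D) Q).toNat =
          ∑ Q ∈ (E - D).support.erase P, ((E - D) Q).toNat :=
        Finset.sum_congr rfl fun Q hQ => by
          simp [Finsupp.single_eq_of_ne (Finset.ne_of_mem_erase hQ)]
      rw [e]
      simp only [Finsupp.coe_sub, Pi.sub_apply, Finsupp.single_eq_same]
      omega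
    have := step D _ P hle' (ih D _ hle' (by omega))
    rwa [sub_add_cancel] at this

end Groth.Agent.FFLib
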