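import Mathlib
import Groth.Prelude.Def_W4bk4goldsch23FF

/-!
# Places of a function field of one variable

Basic API for `FunFld.Place`: orders, uniformizers, existence and uniqueness of places.
-/

open Polynomial WithZero

namespace Groth.Agent.FFLib

open FunFld

variable {k K : Type*} [Field k] [Field K] [Algebra k K]

/-! ## Elementary valuation API -/

lemma v_ne_zero (P : Place k K) {x : K} (hx : x ≠ 0) : P.1 x ≠ 0 :=
  P.1.ne_zero_iff.2 hx

lemma v_eq (P : Place k K) {x : K} (hx : x ≠ 0) : P.1 x = exp (-P.ord x) := by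
  rw [Place.ord, neg_neg, exp_log (v_ne_zero P hx)]

@[simp] lemma ord_zero (P : Place k K) : P.ord 0 = 0 := by simp [Place.ord]

lemma ord_mul (P : Place k K) {x y : K} (hx : x ≠ 0) (hy : y ≠ 0) :
    P.ord (x * y) = P.ord x + P.ord y := by
  rw [Place.ord, Place.ord, Place.ord, map_mul, log_mul (v_ne_zero P hx) (v_ne_zero P hy)]; ring

@[simp] lemma ord_one (P : Place k K) : P.ord 1 = 0 := by simp [Place.ord]

@[simp] lemma ord_inv (P : Place k K) (x : K) : P.ord x⁻¹ = -P.ord x := by
  simp [Place.ord]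

lemma ord_pow (P : Place k K) (x : K) (n : ℕ) : P.ord (x ^ n) = n * P.ord x := by
  simp [Place.ord]

lemma ord_zpow (P : Place k K) (x : K) (n : ℤ) : P.ord (x ^ n) = n * P.ord x := by
  simp [Place.ord]

lemma v_le_exp_iff (P : Place k K) {x : K} (hx : x ≠ 0) (n : ℤ) :
    P.1 x ≤ exp n ↔ -n ≤ P.ord x := by
  rw [v_eq P hx, exp_le_exp]; omega

lemma v_lt_exp_iff (P : Place k K) {x : K} (hx : x ≠ 0) (n : ℤ) :
    P.1 x < exp n ↔ -n < P.ord x := by
  rw [v_eq P hx, exp_lt_exp]; omega

lemma v_eq_exp_iff (P : Place k K) {x : K} (hx : x ≠ 0) (n : ℤ) :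
    P.1 x = exp n ↔ P.ord x = -n := by
  rw [v_eq P hx, exp_inj]; omega

lemma v_le_one_iff (P : Place k K) (x : K) : P.1 x ≤ 1 ↔ 0 ≤ P.ord x := by
  rcases eq_or_ne x 0 with rfl | hx
  · simp
  · simpa using v_le_exp_iff P hx 0

lemma v_lt_one_iff (P : Place k K) {x : K} (hx : x ≠ 0) : P.1 x < 1 ↔ 0 < P.ord x := by
  simpa using v_lt_exp_iff P hx 0

lemma v_eq_one_iff (P : Place k K) {x : K} (hx : x ≠ 0) : P.1 x = 1 ↔ P.ord x = 0 := by
  simpa using v_eq_exp_iff P hx 0

lemma one_lt_v_iff (P : Place k K) (x : K) : 1 < P.1 x ↔ P.ord x < 0 := by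
  rw [← not_le, v_le_one_iff, not_le]

@[simp] lemma v_const (P : Place k K) {c : k} (hc : c ≠ 0) : P.1 (algebraMap k K c) = 1 := by
  refine le_antisymm (P.2.1 c) ?_
  have h := P.2.1 c⁻¹
  rw [map_inv₀, map_inv₀, inv_le_one₀ (zero_lt_iff.2 (v_ne_zero P (by simpa using hc)))] at h
  exact h

@[simp] lemma ord_const (P : Place k K) (c : k) : P.ord (algebraMap k K c) = 0 := by
  rcases eq_or_ne c 0 with rfl | hc
  · simp
  · simp [Place.ord, v_const P hc]

lemma v_smul (P : Place k K) {c : k} (hc : c ≠ 0) (x : K) : P.1 (c • x) = P.1 x := by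
  rw [Algebra.smul_def, map_mul, v_const P hc, one_mul]

lemma v_smul_le (P : Place k K) (c : k) (x : K) : P.1 (c • x) ≤ P.1 x := by
  rw [Algebra.smul_def, map_mul]; exact mul_le_of_le_one_left' (P.2.1 c)

lemma exists_uniformizer (P : Place k K) :
    ∃ t : K, t ≠ 0 ∧ P.ord t = 1 ∧ P.1 t = exp (-1) := by
  obtain ⟨t, ht⟩ := P.2.2 (exp (-1))
  have h0 : t ≠ 0 := by rintro rfl; rw [map_zero] at ht; exact exp_ne_zero ht.symm
  exact ⟨t, h0, by simp [Place.ord, ht], ht⟩

/-! ## Uniqueness -/

lemma v_eq_one_of_le (P Q : Place k K) (h : ∀ y, P.1 y ≤ 1 → Q.1 y ≤ 1) {u : K}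
    (hu : P.1 u = 1) : Q.1 u = 1 := by
  refine le_antisymm (h u hu.le) ?_
  have h2 := h u⁻¹ (by simp [hu])
  rw [map_inv₀] at h2
  by_contra hlt
  push Not at hlt
  rcases eq_or_ne (Q.1 u) 0 with h0 | h0
  · rw [Valuation.zero_iff] at h0; simp [h0] at hu
  · exact absurd ((inv_le_one₀ (zero_lt_iff.2 h0)).1 h2) (not_le.2 hlt)

/-- Two places such that one valuation ring is contained in the other are equal. -/
lemma place_ext_of_le (P Q : Place k K) (h : ∀ y, P.1 y ≤ 1 → Q.1 y ≤ 1) : P = Q := by
  obtain ⟨t, ht0, htord, htv⟩ := exists_uniformizer P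
  have key : ∀ y : K, y ≠ 0 → Q.1 y = Q.1 t ^ P.ord y := by
    intro y hy
    have hu : P.1 (y * t ^ (-P.ord y)) = 1 := by
      rw [v_eq_one_iff P (mul_ne_zero hy (zpow_ne_zero _ ht0)),
        ord_mul P hy (zpow_ne_zero _ ht0), ord_zpow, htord]
      omega
    have := v_eq_one_of_le P Q h hu
    rw [map_mul, map_zpow₀, zpow_neg, mul_inv_eq_one₀ (zpow_ne_zero _ (v_ne_zero Q ht0))] at this
    exact this
  obtain ⟨s, hs⟩ := Q.2.2 (exp (-1))
  have hs0 : s ≠ 0 := by rintro rfl; rw [map_zero] at hs; exact exp_ne_zero hs.symm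
  have ht1 : Q.1 t ≤ 1 := h t (by rw [htv, ← exp_zero, exp_le_exp]; norm_num)
  obtain ⟨a, ha⟩ : ∃ a : ℤ, Q.1 t = exp a := ⟨_, (exp_log (v_ne_zero Q ht0)).symm⟩
  have ha0 : a ≤ 0 := by rw [ha] at ht1; exact exp_le_exp.1 (ht1.trans_eq exp_zero.symm)
  have h2 := key s hs0
  rw [hs, ha, ← exp_zsmul, exp_inj, smul_eq_mul] at h2
  have ha1 : a = -1 := by
    rcases Int.eq_one_or_neg_one_of_mul_eq_one'
      (show (-a) * P.ord s = 1 by nlinarith) with ⟨h3, -⟩ | ⟨h3, -⟩ <;> omega
  apply Subtype.ext
  refine Valuation.ext fun y => ?_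
  rcases eq_or_ne y 0 with rfl | hy
  · simp
  · rw [key y hy, v_eq P hy, ha, ha1, ← exp_zsmul]; simp

lemma place_ext (P Q : Place k K) (h : P.O = Q.O) : P = Q :=
  place_ext_of_le P Q fun y hy => by
    have : y ∈ Q.O := h ▸ (show y ∈ P.O from hy)
    exact this

/-- Distinct places are incomparable. -/
lemma exists_v_le_one_lt (P Q : Place k K) (h : P ≠ Q) : ∃ y, P.1 y ≤ 1 ∧ 1 < Q.1 y := by
  by_contra hh
  push Not at hh
  exact h (place_ext_of_le P Q hh)

/-! ## Function field basics -/

lemma finite_of_adjoin_eq_top {L M : Type*} [Field L] [Field M] [Algebra L M] (S : Set M)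
    [Finite S] (h : ∀ s ∈ S, IsIntegral L s) (htop : IntermediateField.adjoin L S = ⊤) :
    FiniteDimensional L M := by
  have := IntermediateField.finiteDimensional_adjoin (K := L) h
  rw [htop] at this
  exact IntermediateField.topEquiv.toLinearEquiv.finiteDimensional

/-- `K` has transcendence degree one over `k` and is finitely generated; the constant field may
be larger than `k`. -/
def FG1 (k K : Type*) [Field k] [Field K] [Algebra k K] : Prop :=
  ∃ x : K, Transcendental k x ∧ FiniteDimensional (IntermediateField.adjoin k ({x} : Set K)) K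

instance instCoeFG1 : Coe (IsFunctionField k K) (FG1 k K) := ⟨fun h => h.1⟩

lemma transcendental_of_notMem (hK : IsFunctionField k K) {x : K}
    (hx : x ∉ Set.range (algebraMap k K)) : Transcendental k x := fun h => hx (hK.2 x h)

variable (hK : FG1 k K)
include hK

lemma finite_adjoin {x : K} (hx : Transcendental k x) :
    FiniteDimensional (IntermediateField.adjoin k ({x} : Set K)) K := by
  obtain ⟨x₀, hx₀, hfin⟩ := hK
  have halg₀ : Algebra.IsAlgebraic (Algebra.adjoin k ({x₀} : Set K)) K := by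
    rw [← IntermediateField.isAlgebraic_adjoin_iff_top]
    exact Algebra.IsAlgebraic.of_finite _ _
  have hle : Algebra.trdeg k K ≤ 1 := by
    simpa using Algebra.IsAlgebraic.trdeg_le_cardinalMk k ({x₀} : Set K)
  have hx' : AlgebraicIndependent k (fun _ : PUnit.{1} => x) :=
    algebraicIndependent_unique_type_iff.2 hx
  have hb : IsTranscendenceBasis k (fun _ : PUnit.{1} => x) :=
    hx'.isTranscendenceBasis_of_lift_trdeg_le_of_finite (by simpa using hle)
  have halg : Algebra.IsAlgebraic (IntermediateField.adjoin k ({x} : Set K)) K := by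
    have := hb.isAlgebraic_field
    rwa [Set.range_const] at this
  classical
  let b := Module.finBasis (IntermediateField.adjoin k ({x₀} : Set K)) K
  obtain ⟨S, hS₀, hSb, hSf⟩ : ∃ S : Set K, x₀ ∈ S ∧ (∀ i, b i ∈ S) ∧ S.Finite :=
    ⟨insert x₀ (Set.range b), Set.mem_insert _ _, fun i => Set.mem_insert_of_mem _ ⟨i, rfl⟩,
      (Set.finite_range b).insert _⟩
  have : Finite S := hSf.to_subtype
  have htop : IntermediateField.adjoin (IntermediateField.adjoin k ({x} : Set K)) S = ⊤ := by
    rw [eq_top_iff]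
    intro y _
    rw [← b.sum_repr y]
    refine sum_mem fun i _ => ?_
    rw [Algebra.smul_def]
    refine mul_mem ?_ (IntermediateField.subset_adjoin _ _ (hSb i))
    have h₀ : IntermediateField.adjoin k ({x₀} : Set K) ≤
        (IntermediateField.adjoin (IntermediateField.adjoin k ({x} : Set K)) S).restrictScalars k := by
      rw [IntermediateField.adjoin_simple_le_iff]
      exact (IntermediateField.subset_adjoin (IntermediateField.adjoin k ({x} : Set K)) S) hS₀
    exact h₀ (b.repr y i).2
  exact finite_of_adjoin_eq_top S (fun s _ => (halg.isAlgebraic s).isIntegral) htop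

omit hK

/-- A criterion for linear independence over `k(x)`. -/
lemma linearIndependent_adjoin {x : K} (hx : Transcendental k x) {ι : Type*} (w : ι → K)
    (h : ∀ (s : Finset ι) (φ : ι → k[X]), ∑ i ∈ s, aeval x (φ i) * w i = 0 →
      ∀ i ∈ s, (φ i).coeff 0 = 0) :
    LinearIndependent (IntermediateField.adjoin k ({x} : Set K)) w := by
  classical
  have hx0 : x ≠ 0 := fun e => hx (e ▸ isAlgebraic_zero)
  have step : ∀ (n : ℕ) (s : Finset ι) (φ : ι → k[X]), ∑ i ∈ s, aeval x (φ i) * w i = 0 →
      ∀ i ∈ s, (φ i).coeff n = 0 := by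
    intro n
    induction n with
    | zero => exact h
    | succ n ih =>
      intro s φ hs i hi
      have e : ∀ i ∈ s, φ i = X * (φ i).divX := fun i hi => by
        conv_lhs => rw [← X_mul_divX_add (φ i)]
        rw [h s φ hs i hi, map_zero, add_zero]
      have : ∑ i ∈ s, aeval x (φ i).divX * w i = 0 := by
        refine (mul_eq_zero_iff_left hx0).1 ?_
        rw [Finset.mul_sum]
        refine (Finset.sum_congr rfl fun i hi => ?_).trans hs
        conv_rhs => rw [e i hi, map_mul, aeval_X, mul_assoc]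
      simpa [coeff_divX] using ih s _ this i hi
  rw [linearIndependent_iff']
  intro s g hg
  have : ∀ i, ∃ r t : k[X], aeval x t ≠ 0 ∧ (g i : K) = aeval x r / aeval x t := fun i => by
    obtain ⟨r, t, e⟩ := (IntermediateField.mem_adjoin_simple_iff k _).1 (g i).2
    by_cases ht : aeval x t = 0
    · exact ⟨0, 1, by simp, by simp [e, ht]⟩
    · exact ⟨r, t, ht, e⟩
  choose r t ht e using this
  let φ : ι → k[X] := fun i => r i * ∏ j ∈ s.erase i, t j
  have hφ : ∑ i ∈ s, aeval x (φ i) * w i = 0 := by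
    have h2 := congrArg (fun y : K => (∏ j ∈ s, aeval x (t j)) * y) hg
    simp only [mul_zero, Finset.mul_sum] at h2
    refine (Finset.sum_congr rfl fun i hi => ?_).trans h2
    rw [Algebra.smul_def, show algebraMap _ K (g i) = (g i : K) from rfl, e i, map_mul, map_prod,
      ← Finset.mul_prod_erase s _ hi]
    have := ht i
    field_simp
  intro i hi
  have h1 : φ i = 0 := Polynomial.ext fun n => by simpa using step n s φ hφ i hi
  have h2 : r i = 0 := by
    rcases mul_eq_zero.1 h1 with h2 | h2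
    · exact h2
    · obtain ⟨j, -, hj⟩ := Finset.prod_eq_zero_iff.1 h2
      exact absurd (by rw [hj, map_zero]) (ht j)
  exact Subtype.ext (by simp [e i, h2])

/-- Ultrametric: a unique strictly largest term gives the valuation of a sum. -/
lemma v_sum_eq {Γ : Type*} [LinearOrderedCommGroupWithZero Γ] (v : Valuation K Γ) {ι : Type*}
    {s : Finset ι} {f : ι → K} {j : ι} (hj : j ∈ s) (h : ∀ i ∈ s, i ≠ j → v (f i) < v (f j)) :
    v (∑ i ∈ s, f i) = v (f j) := by
  classical
  exact v.map_sum_eq_of_lt hj fun i hi => h i (Finset.sdiff_subset hi) (by simpa using (Finset.mem_sdiff.1 hi).2)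

lemma v_aeval_le {Γ : Type*} [LinearOrderedCommGroupWithZero Γ] (v : Valuation K Γ)
    (hk : ∀ c : k, v (algebraMap k K c) ≤ 1) {x : K} (hx : v x ≤ 1) (p : k[X]) :
    v (aeval x p) ≤ 1 := by
  rw [aeval_eq_sum_range]
  refine v.map_sum_le fun i _ => ?_
  rw [Algebra.smul_def, map_mul, map_pow]
  exact mul_le_one' (hk _) (pow_le_one' hx i)

lemma v_aeval_sub_C {Γ : Type*} [LinearOrderedCommGroupWithZero Γ] (v : Valuation K Γ)
    (hk : ∀ c : k, v (algebraMap k K c) ≤ 1) {x : K} (hx : v x ≤ 1) (p : k[X]) :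
    v (aeval x p - algebraMap k K (p.coeff 0)) ≤ v x := by
  conv_lhs => rw [← X_mul_divX_add p]
  simp only [map_add, map_mul, aeval_X, aeval_C, coeff_add, coeff_X_mul_zero, coeff_C_zero,
    zero_add, add_sub_cancel_right]
  exact mul_le_of_le_one_right' (v_aeval_le v hk hx _)

/-- An element on which a valuation trivial on `k` is nontrivial is transcendental. -/
lemma transcendental_of_v_ne_one {Γ : Type*} [LinearOrderedCommGroupWithZero Γ] (v : Valuation K Γ)
    (hk : ∀ c : k, c ≠ 0 → v (algebraMap k K c) = 1) {x : K} (hx0 : x ≠ 0) (hx : v x ≠ 1) :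
    Transcendental k x := by
  classical
  have key : ∀ y : K, 1 < v y → Transcendental k y := by
    intro y hy
    rw [transcendental_iff]
    intro q hq
    by_contra hq0
    have hy0 : 0 < v y := zero_lt_one.trans hy
    have h : v (aeval y q) = v y ^ q.natDegree := by
      have hlead : v (q.coeff q.natDegree • y ^ q.natDegree) = v y ^ q.natDegree := by
        rw [Algebra.smul_def, map_mul, map_pow, hk _ (show q.coeff q.natDegree ≠ 0 from leadingCoeff_ne_zero.2 hq0), one_mul]
      rw [aeval_eq_sum_range, v_sum_eq v (Finset.self_mem_range_succ _) fun i hi hne => ?_, hlead]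
      rw [hlead, Algebra.smul_def, map_mul, map_pow]
      rcases eq_or_ne (q.coeff i) 0 with h0 | h0
      · rw [h0, map_zero, map_zero, zero_mul]; exact pow_pos hy0 _
      · rw [hk _ h0, one_mul]
        exact pow_lt_pow_right₀ hy (lt_of_le_of_ne (Nat.lt_succ_iff.1 (Finset.mem_range.1 hi)) hne)
    rw [hq, map_zero] at h
    exact (pow_pos hy0 _).ne h
  rcases hx.lt_or_gt with h | h
  · have h1 := key x⁻¹ (by rw [map_inv₀]; exact (one_lt_inv₀ (zero_lt_iff.2 (v.ne_zero_iff.2 hx0))).2 h)
    exact fun h2 => h1 h2.inv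
  · exact key x h

include hK

/-- In a valuation ring containing `k`, the values in `[v x, 1)` are finite in number. -/
lemma card_le_of_values {Γ : Type*} [LinearOrderedCommGroupWithZero Γ] (v : Valuation K Γ)
    (hk : ∀ c : k, c ≠ 0 → v (algebraMap k K c) = 1) {x : K} (hx0 : x ≠ 0) (hx : v x < 1)
    (s : Finset K) (hs : ∀ y ∈ s, v x ≤ v y ∧ v y < 1) (hinj : Set.InjOn v s) :
    s.card ≤ Module.finrank (IntermediateField.adjoin k ({x} : Set K)) K := by
  classical
  have hk' : ∀ c : k, v (algebraMap k K c) ≤ 1 := fun c => by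
    rcases eq_or_ne c 0 with rfl | hc
    · simp
    · exact (hk c hc).le
  have htr : Transcendental k x := transcendental_of_v_ne_one v hk hx0 hx.ne
  have := finite_adjoin hK htr
  have hli : LinearIndependent (IntermediateField.adjoin k ({x} : Set K)) (fun y : s => (y : K)) := by
    refine linearIndependent_adjoin htr _ fun t φ ht i hi => ?_
    by_contra hi0
    obtain ⟨j, hj, hmax⟩ := (t.filter fun i => (φ i).coeff 0 ≠ 0).exists_max_image
      (fun i => v (i : K)) ⟨i, Finset.mem_filter.2 ⟨hi, hi0⟩⟩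
    obtain ⟨hjt, hj0⟩ := Finset.mem_filter.1 hj
    have hvj : v (aeval x (φ j) * j) = v (j : K) := by
      rw [map_mul]
      have h1 := v_aeval_sub_C v hk' hx.le (φ j)
      have h2 : v (aeval x (φ j)) = 1 := by
        have := v.map_add_eq_of_lt_left (x := algebraMap k K ((φ j).coeff 0))
          (y := aeval x (φ j) - algebraMap k K ((φ j).coeff 0)) (by
            rw [hk _ hj0]; exact h1.trans_lt hx)
        rwa [add_sub_cancel, hk _ hj0] at this
      rw [h2, one_mul]
    have hlt : ∀ i ∈ t, i ≠ j → v (aeval x (φ i) * i) < v (aeval x (φ j) * j) := by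
      intro i hit hij
      rw [hvj, map_mul]
      by_cases h0 : (φ i).coeff 0 = 0
      · have h1 := v_aeval_sub_C v hk' hx.le (φ i)
        rw [h0, map_zero, sub_zero] at h1
        have hxpos : 0 < v x := zero_lt_iff.2 (v.ne_zero_iff.2 hx0)
        calc v (aeval x (φ i)) * v (i : K) ≤ v x * v (i : K) := mul_le_mul' h1 le_rfl
          _ < v x * 1 := mul_lt_mul_of_pos_left (hs _ i.2).2 hxpos
          _ ≤ v (j : K) := by rw [mul_one]; exact (hs _ j.2).1
      · refine (mul_le_of_le_one_left' (v_aeval_le v hk' hx.le _)).trans_lt ?_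
        exact lt_of_le_of_ne (hmax i (Finset.mem_filter.2 ⟨hit, h0⟩))
          fun e => hij (Subtype.ext (hinj i.2 j.2 e))
    have := v_sum_eq v hjt hlt
    rw [ht, map_zero, hvj, eq_comm, Valuation.zero_iff] at this
    have hxpos : 0 < v x := zero_lt_iff.2 (v.ne_zero_iff.2 hx0)
    exact absurd ((hs _ j.2).1.trans_eq (by simp [this])) (not_le.2 hxpos)
  simpa using hli.fintype_card_le_finrank

end Groth.Agent.FFLib
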