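import Groth.Agent.FFLib.Invol

/-!
# A function field of genus at least two has one subfield of index two and genus zero at most
-/

open WithZero Module

namespace Groth.Agent.FFLib

open FunFld

variable {k K K' : Type*} [Field k] [Field K] [Field K'] [Algebra k K] [Algebra K K'] [Algebra k K']
  [IsScalarTower k K K'] [FiniteDimensional K K']

/-- Functions with bounded poles pull back into the conorm. -/
theorem algebraMap_mem_conorm (hK : FG1 k K) {M : Divisor k K} {a : K} (ha : a ∈ L M) :
    algebraMap K K' a ∈ L (conorm K' M) := by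
  rcases eq_or_ne a 0 with rfl | ha0
  · rw [map_zero]; exact zero_mem _
  rw [mem_L_iff ((_root_.map_ne_zero _).2 ha0)]
  intro Q
  rw [ord_algebraMap hK, conorm_apply hK]
  have := (mem_L_iff ha0).1 ha (underPlace hK Q)
  have h0 : (0 : ℤ) ≤ underIdx hK Q := by positivity
  nlinarith

theorem ell_le_ell_conorm (hK : IsFunctionField k K) (hK' : IsFunctionField k K') (M : Divisor k K) :
    ell M ≤ ell (conorm K' M) := by
  haveI := finiteDimensional_L hK' (conorm K' M)
  let τ := IsScalarTower.toAlgHom k K K'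
  have hle : (L M).map τ.toLinearMap ≤ L (conorm K' M) := by
    rintro _ ⟨a, ha, rfl⟩
    exact algebraMap_mem_conorm hK.1 ha
  have := Submodule.finrank_mono hle
  rwa [← (Submodule.equivMapOfInjective τ.toLinearMap (algebraMap K K').injective (L M)).finrank_eq] at this

/-- Castelnuovo's inequality for a function outside a genus zero subfield of index two. -/
theorem genus_lt_deg_of_notMem (hK : IsFunctionField k K) (hK' : IsFunctionField k K') (hg : genus k K = 0)
    (h2 : finrank K K' = 2) {B : Divisor k K'} (hB : 0 ≤ B) {x : K'} (hx : x ∈ L B)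
    (hxF : x ∉ Set.range (algebraMap K K')) : (genus k K' : ℤ) < B.deg := by
  obtain ⟨P⟩ := exists_place hK
  set n : ℕ := 2 * genus k K' + 1 with hn
  set M : Divisor k K := Finsupp.single P (n : ℤ) with hM
  have hdM : (n : ℤ) ≤ M.deg := by
    have : (1 : ℤ) ≤ P.deg := by exact_mod_cast deg_pos hK P
    rw [hM, deg_single]
    nlinarith
  have hM0 : 0 ≤ M := Finsupp.single_nonneg.2 (Int.natCast_nonneg _)
  have hcon : 0 ≤ conorm K' M := fun Q => by
    rw [conorm_apply hK.1, Finsupp.zero_apply]
    exact mul_nonneg (hM0 _) (Int.natCast_nonneg _)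
  let ψ : ↥(L M) × ↥(L M) →ₗ[k] K' :=
    { toFun := fun z => algebraMap K K' z.1.1 + algebraMap K K' z.2.1 * x
      map_add' := fun z w => by simp only [Prod.fst_add, Prod.snd_add, Submodule.coe_add, map_add]; ring
      map_smul' := fun c z => by
        simp only [Prod.smul_fst, Prod.smul_snd, Submodule.coe_smul, Algebra.smul_def, map_mul,
          ← IsScalarTower.algebraMap_apply k K K', RingHom.id_apply]
        ring }
  have hinj : Function.Injective ψ := by
    rw [← LinearMap.ker_eq_bot, LinearMap.ker_eq_bot']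
    rintro ⟨⟨a, ha⟩, ⟨b, hb⟩⟩ hz
    change algebraMap K K' a + algebraMap K K' b * x = 0 at hz
    have hb0 : b = 0 := by
      by_contra hb0
      refine hxF ⟨-a / b, ?_⟩
      rw [map_div₀, map_neg, div_eq_iff ((_root_.map_ne_zero _).2 hb0)]
      linear_combination -hz
    subst hb0
    rw [map_zero, zero_mul, add_zero, map_eq_zero] at hz
    subst hz
    rfl
  have hrange : LinearMap.range ψ ≤ L (conorm K' M + B) := by
    rintro _ ⟨⟨⟨a, ha⟩, ⟨b, hb⟩⟩, rfl⟩
    exact add_mem (L_mono (le_add_of_nonneg_right hB) (algebraMap_mem_conorm hK.1 ha))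
      (mul_mem_L_add' (algebraMap_mem_conorm hK.1 hb) hx)
  haveI := finiteDimensional_L hK' (conorm K' M + B)
  haveI := finiteDimensional_L hK M
  have h3 := Submodule.finrank_mono hrange
  rw [LinearMap.finrank_range_of_inj hinj, finrank_prod] at h3
  have h4 := ell_eq_of_deg_ge hK (D := M) (by omega)
  have hdB := deg_nonneg hB
  have h5 := ell_eq_of_deg_ge hK' (D := conorm K' M + B) (by rw [deg_add, deg_conorm hK.1, h2]; push_cast; omega)
  rw [deg_add, deg_conorm hK.1, h2] at h5
  unfold ell at h4 h5
  push_cast at h5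
  omega
where
  mul_mem_L_add' {D E : Divisor k K'} {a b : K'} (ha : a ∈ L D) (hb : b ∈ L E) : a * b ∈ L (D + E) := fun P => by
    rw [map_mul, Finsupp.add_apply, exp_add]
    exact mul_le_mul' (ha P) (hb P)

omit [Algebra K K'] [IsScalarTower k K K'] [FiniteDimensional K K'] in
theorem adjoin_self_top (x : K) : IntermediateField.adjoin k
    ({⟨x, IntermediateField.mem_adjoin_simple_self k x⟩} : Set (IntermediateField.adjoin k ({x} : Set K))) = ⊤ := by
  apply IntermediateField.map_injective (IntermediateField.adjoin k ({x} : Set K)).val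
  rw [IntermediateField.adjoin_map, Set.image_singleton, ← AlgHom.fieldRange_eq_map,
    IntermediateField.fieldRange_val]
  rfl

omit [Algebra K K'] [IsScalarTower k K K'] [FiniteDimensional K K'] in
/-- A field of genus zero is generated by the space of its anticanonical divisor. -/
theorem eq_top_of_L_le (hK : IsFunctionField k K) {R : Divisor k K} (hR : 0 ≤ R) (hd : R.deg = 2)
    (hl : ell R = 3) {G : IntermediateField k K} (hG : ∀ y ∈ L R, y ∈ G) : G = ⊤ := by
  obtain ⟨x, hxR, hx⟩ : ∃ x ∈ L R, x ∉ Set.range (algebraMap k K) := by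
    by_contra hh
    push Not at hh
    haveI := finiteDimensional_L hK (0 : Divisor k K)
    have h1 := Submodule.finrank_mono (show L R ≤ L (0 : Divisor k K) from fun y hy => by
      rw [L_zero hK, Submodule.mem_one]
      exact hh y hy)
    have h2 : ell (0 : Divisor k K) = 1 := ell_zero hK
    unfold ell at hl h2
    omega
  have htr := transcendental_of_notMem hK hx
  set E := IntermediateField.adjoin k ({x} : Set K) with hE
  haveI : FiniteDimensional E K := finite_adjoin hK.1 htr
  have hEG : E ≤ G := IntermediateField.adjoin_le_iff.2 (Set.singleton_subset_iff.2 (hG x hxR))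
  have hpole : pole x ≤ R := fun Q => by
    rw [pole_apply hK.1]
    refine max_le ?_ (hR Q)
    have hx0 : x ≠ 0 := fun e => hx ⟨0, by rw [map_zero, e]⟩
    have := (mem_L_iff hx0).1 hxR Q
    omega
  have hdeg := deg_pole hK htr
  have h2 := deg_mono hpole
  rw [hdeg, hd] at h2
  rw [← IntermediateField.finrank_eq_one_iff_eq_top]
  have hmul := IntermediateField.relfinrank_mul_finrank_top hEG
  have hpos : 0 < finrank E K := finrank_pos
  have hGpos : 0 < finrank G K := Nat.pos_of_ne_zero fun h => by
    rw [h, mul_zero] at hmul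
    omega
  have hGle : finrank G K ≤ finrank E K := Nat.le_of_dvd hpos ⟨_, hmul.symm.trans (mul_comm _ _)⟩
  by_contra hne
  have hE2 : finrank E K = 2 := by
    have : (finrank E K : ℤ) ≤ 2 := h2
    omega
  have hEGeq : E = G := IntermediateField.eq_of_le_of_finrank_eq' hEG (by omega)
  have hEF : IsFunctionField k E := isFunctionField_below hK
  let t : E := ⟨x, IntermediateField.mem_adjoin_simple_self k x⟩
  have htop : IntermediateField.adjoin k ({t} : Set E) = ⊤ := adjoin_self_top x
  have hgE : genus k E = 0 := genus_eq_zero_of_top hEF htop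
  have hdt := deg_pole_eq_one hEF htop
  have hRt : pole x = R := by
    have := eq_zero_of_deg_eq_zero hK (sub_nonneg.2 hpole) (by rw [deg_sub, hdeg, hd, hE2]; norm_num)
    exact (sub_eq_zero.1 this).symm
  have hcov : ∀ y ∈ L R, ∃ a ∈ L (pole (k := k) t), (a : K) = y := fun y hy => by
    refine ⟨⟨y, hEGeq ▸ hG y hy⟩, fun P => ?_, rfl⟩
    set a : E := ⟨y, hEGeq ▸ hG y hy⟩ with ha
    rcases eq_or_ne a 0 with h0 | h0
    · simp [h0]
    rw [v_le_exp_iff P h0, pole_apply hEF.1]
    obtain ⟨Q, hQ⟩ := exists_overs (K' := K) hEF.1 P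
    set e := underIdx hEF.1 Q
    obtain ⟨he, hord⟩ := isOverWith_iff_ord.1 hQ
    have hy0 : (a : K) ≠ 0 := fun h => h0 (Subtype.ext h)
    have h := (mem_L_iff hy0).1 hy Q
    have ht0 : t ≠ 0 := fun h => hx ⟨0, by rw [map_zero]; exact (congrArg Subtype.val h).symm⟩
    have e1 : Q.ord (a : K) = e * P.ord a := hord a h0
    have e2 : Q.ord x = e * P.ord t := hord t ht0
    rw [← hRt, pole_apply hK.1, e2] at h
    replace h : 0 ≤ Q.ord (a : K) + max (-((e : ℤ) * P.ord t)) 0 := h
    rw [e1] at h
    have he' : (0 : ℤ) < e := by exact_mod_cast he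
    rcases le_total (-P.ord t) 0 with h' | h'
    · rw [max_eq_right h']
      rw [max_eq_right (by nlinarith)] at h
      nlinarith
    · rw [max_eq_left h']
      rw [max_eq_left (by nlinarith)] at h
      nlinarith
  haveI := finiteDimensional_L hEF (pole (k := k) t)
  have h4 : ell R ≤ ell (pole (k := k) t) := by
    have hle : L R ≤ (L (pole (k := k) t)).map E.val.toLinearMap := fun y hy => by
      obtain ⟨a, ha, rfl⟩ := hcov y hy
      exact ⟨a, ha, rfl⟩
    have := Submodule.finrank_mono hle
    exact this.trans (Submodule.finrank_map_le _ _)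
  have h5 := ell_eq_of_deg_ge hEF (D := pole (k := k) t) (by rw [hdt, hgE]; norm_num)
  rw [hdt, hgE] at h5
  omega

omit [Algebra K K'] [IsScalarTower k K K'] [FiniteDimensional K K'] in
/-- The effective anticanonical divisor of a field of genus zero. -/
theorem exists_anticanonical (hK : IsFunctionField k K) (hg : genus k K = 0) :
    ∃ R : Divisor k K, 0 ≤ R ∧ R.deg = 2 ∧ ell R = 3 := by
  obtain ⟨C, hC⟩ := exists_canonical hK
  have hCd := (canonical_ell_deg hK hC).2
  have hl := ell_eq_of_deg_ge hK (D := -C) (by rw [deg_neg, hCd, hg]; norm_num)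
  rw [deg_neg, hCd, hg] at hl
  obtain ⟨z, hz, hpos⟩ := exists_effective_of_ell_pos hK (D := -C) (by omega)
  refine ⟨_, hpos, ?_, ?_⟩
  · rw [deg_add, deg_neg, deg_div hK, hCd, hg]; norm_num
  · rw [ell_add_div hK _ hz]; omega

omit [Algebra K K'] [IsScalarTower k K K'] [FiniteDimensional K K'] in
/-- **In genus at least two the genus zero subfield of index two is unique.** -/
theorem index_two_unique (hK : IsFunctionField k K) (hg : 2 ≤ genus k K) {F₁ F₂ : IntermediateField k K}
    (h₁ : finrank F₁ K = 2) (h₂ : finrank F₂ K = 2) (hg₁ : genus k F₁ = 0) (hg₂ : genus k F₂ = 0) : F₁ = F₂ := by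
  haveI : FiniteDimensional F₁ K := Module.finite_of_finrank_eq_succ h₁
  haveI : FiniteDimensional F₂ K := Module.finite_of_finrank_eq_succ h₂
  have hF₁ : IsFunctionField k F₁ := isFunctionField_below hK
  have hF₂ : IsFunctionField k F₂ := isFunctionField_below hK
  by_cases hg2 : genus k K = 2
  · obtain ⟨C, hC⟩ := exists_canonical hK
    obtain ⟨hCl, hCd⟩ := canonical_ell_deg hK hC
    obtain ⟨z, hz, hpos⟩ := exists_effective_of_ell_pos hK (D := C) (by omega)
    set C' := C + FunFld.div k z with hC'
    have hd : C'.deg = 2 := by rw [hC', deg_add, deg_div hK, hCd, hg2]; norm_num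
    have hl : ell C' = 2 := by rw [hC', ell_add_div hK _ hz, hCl, hg2]
    obtain ⟨x, hxC, hx⟩ : ∃ x ∈ L C', x ∉ Set.range (algebraMap k K) := by
      by_contra hh
      push Not at hh
      haveI := finiteDimensional_L hK (0 : Divisor k K)
      have h1 := Submodule.finrank_mono (show L C' ≤ L (0 : Divisor k K) from fun y hy => by
        rw [L_zero hK, Submodule.mem_one]
        exact hh y hy)
      have h2 : ell (0 : Divisor k K) = 1 := ell_zero hK
      unfold ell at hl h2
      omega
    have htr := transcendental_of_notMem hK hx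
    haveI := finite_adjoin hK.1 htr
    have hpole : pole x ≤ C' := fun Q => by
      rw [pole_apply hK.1]
      refine max_le ?_ (hpos Q)
      have hx0 : x ≠ 0 := fun e => hx ⟨0, by rw [map_zero, e]⟩
      have := (mem_L_iff hx0).1 hxC Q
      omega
    have hle := deg_mono hpole
    rw [deg_pole hK htr, hd] at hle
    have key : ∀ F : IntermediateField k K, finrank F K = 2 → genus k F = 0 →
        IntermediateField.adjoin k ({x} : Set K) = F := fun F hF hgF => by
      haveI : FiniteDimensional F K := Module.finite_of_finrank_eq_succ hF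
      have hxF : x ∈ F := by
        by_contra hxF
        have := genus_lt_deg_of_notMem (isFunctionField_below (K := F) hK) hK hgF hF hpos hxC
          fun ⟨a, ha⟩ => hxF (ha ▸ a.2)
        omega
      have hxle : IntermediateField.adjoin k ({x} : Set K) ≤ F :=
        IntermediateField.adjoin_le_iff.2 (Set.singleton_subset_iff.2 hxF)
      have hmul := IntermediateField.relfinrank_mul_finrank_top hxle
      have hpos' : 0 < finrank (IntermediateField.adjoin k ({x} : Set K)) K := finrank_pos
      refine IntermediateField.eq_of_le_of_finrank_eq' hxle ?_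
      have : finrank F K ≤ finrank (IntermediateField.adjoin k ({x} : Set K)) K :=
        Nat.le_of_dvd hpos' ⟨_, hmul.symm.trans (mul_comm _ _)⟩
      have h' : (finrank (IntermediateField.adjoin k ({x} : Set K)) K : ℤ) ≤ 2 := hle
      omega
    exact (key F₁ h₁ hg₁).symm.trans (key F₂ h₂ hg₂)
  suffices hle : F₂ ≤ F₁ from (IntermediateField.eq_of_le_of_finrank_eq' hle (by omega)).symm
  obtain ⟨R₂, hR₂, hR₂d, hR₂l⟩ := exists_anticanonical hF₂ hg₂
  suffices hmem : ∀ a ∈ L R₂, (a : K) ∈ F₁ by
    have := eq_top_of_L_le hF₂ hR₂ hR₂d hR₂l (G := F₁.comap F₂.val) hmem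
    intro a ha
    have h : (⟨a, ha⟩ : F₂) ∈ F₁.comap F₂.val := by rw [this]; trivial
    exact h
  have hA₂ : 0 ≤ conorm K R₂ := fun Q => by
    rw [conorm_apply hF₂.1, Finsupp.zero_apply]
    exact mul_nonneg (hR₂ _) (Int.natCast_nonneg _)
  have hA₂d : (conorm K R₂).deg = 4 := by rw [deg_conorm hF₂.1, h₂, hR₂d]; norm_num
  intro a ha
  by_contra haF
  have hlt := genus_lt_deg_of_notMem hF₁ hK hg₁ h₁ hA₂ (algebraMap_mem_conorm (K' := K) hF₂.1 ha)
    fun ⟨b, hb⟩ => haF (by
      have hb' : (b : K) = a := hb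
      exact hb' ▸ b.2)
  rw [hA₂d] at hlt
  have hg3 : genus k K = 3 := by omega
  obtain ⟨R₁, hR₁, hR₁d, hR₁l⟩ := exists_anticanonical hF₁ hg₁
  have hA₁d : (conorm K R₁).deg = 4 := by rw [deg_conorm hF₁.1, h₁, hR₁d]; norm_num
  have hl₁ := ell_le_ell_conorm hF₁ hK R₁
  have hl₂ := ell_le_ell_conorm hF₂ hK R₂
  obtain ⟨C, hC⟩ := exists_canonical hK
  have hbound : ∀ A : Divisor k K, A.deg = 4 → 3 ≤ ell A → IsCanonical k K A := fun A hA hAl => by
    rw [isCanonical_iff hK]
    refine ⟨?_, by rw [hA, hg3]; norm_num⟩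
    have hrr := riemann_roch hK hC A
    have h1 : ell (C - A) ≤ 1 := by
      by_contra hh
      obtain ⟨z, hz, hzp⟩ := exists_effective_of_ell_pos hK (D := C - A) (by omega)
      have hd0 := eq_zero_of_deg_eq_zero hK hzp (by
        rw [deg_add, deg_div hK, deg_sub, hA, (canonical_ell_deg hK hC).2, hg3]; norm_num)
      have := ell_add_div hK (C - A) hz
      rw [hd0, ell_zero hK] at this
      omega
    omega
  have hc₁ := hbound _ hA₁d (by omega)
  have hrr := riemann_roch hK hc₁ (conorm K R₂)
  obtain ⟨z, hz, hdiv⟩ := exists_eq_div_of_ell_pos hK (D := conorm K R₁ - conorm K R₂) (by omega)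
    (by rw [deg_sub, hA₁d, hA₂d]; norm_num)
  have hA : conorm K R₂ + FunFld.div k z = conorm K R₁ := by rw [← hdiv]; abel
  haveI := finiteDimensional_L hK (conorm K R₁)
  have himg : (L R₁).map F₁.val.toLinearMap = L (conorm K R₁) := by
    refine Submodule.eq_of_le_of_finrank_le ?_ ?_
    · rintro _ ⟨b, hb, rfl⟩
      exact algebraMap_mem_conorm (K' := K) hF₁.1 hb
    · rw [← (Submodule.equivMapOfInjective F₁.val.toLinearMap F₁.val.injective (L R₁)).finrank_eq]
      exact ((isCanonical_iff hK _).1 hc₁).1.le.trans (by unfold ell at hR₁l; omega)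
  have hstep : ∀ b : F₂, b ∈ L R₂ → z⁻¹ * (b : K) ∈ F₁ := fun b hb => by
    have hmem : z⁻¹ * (b : K) ∈ L (conorm K R₁) := by
      rw [← hA, ← mul_mem_L_iff hK hz, mul_inv_cancel_left₀ hz]
      exact algebraMap_mem_conorm (K' := K) hF₂.1 hb
    rw [← himg] at hmem
    obtain ⟨c, -, hc⟩ := hmem
    exact hc ▸ c.2
  have h1 : (1 : F₂) ∈ L R₂ := fun P => by
    rw [map_one, ← exp_zero, exp_le_exp]
    exact hR₂ P
  have hz1 := hstep 1 h1
  rw [IntermediateField.coe_one, mul_one] at hz1
  have hzF : z ∈ F₁ := by simpa using F₁.inv_mem hz1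
  have := F₁.mul_mem hzF (hstep a ha)
  rw [mul_inv_cancel_left₀ hz] at this
  exact haF this

theorem genus_le_of_finrank_one (hK : IsFunctionField k K) (hK' : IsFunctionField k K') (h1 : finrank K K' = 1) :
    genus k K' ≤ genus k K := by
  obtain ⟨P⟩ := exists_place hK
  set n : ℕ := 2 * genus k K + 2 * genus k K' + 1 with hn
  set M : Divisor k K := Finsupp.single P (n : ℤ) with hM
  have hdM : (n : ℤ) ≤ M.deg := by
    have : (1 : ℤ) ≤ P.deg := by exact_mod_cast deg_pos hK P
    rw [hM, deg_single]
    nlinarith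
  have hle := ell_le_ell_conorm (K' := K') hK hK' M
  have h4 := ell_eq_of_deg_ge hK (D := M) (by omega)
  have h5 := ell_eq_of_deg_ge hK' (D := conorm K' M) (by rw [deg_conorm hK.1, h1]; push_cast; omega)
  rw [deg_conorm hK.1, h1] at h5
  push_cast at h5
  omega

omit [Algebra K K'] [IsScalarTower k K K'] [FiniteDimensional K K'] in
/-- Isomorphic function fields have the same genus. -/
theorem genus_congr (hK : IsFunctionField k K) (e : K ≃ₐ[k] K') (hK' : IsFunctionField k K') :
    genus k K = genus k K' := by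
  refine le_antisymm ?_ ?_
  · letI := (e.symm : K' →ₐ[k] K).toRingHom.toAlgebra
    haveI : IsScalarTower k K' K := IsScalarTower.of_algebraMap_eq fun c => (e.symm.commutes c).symm
    have h1 : finrank K' K = 1 := finrank_eq_one 1 one_ne_zero fun w => ⟨e w, by
      rw [Algebra.smul_def, mul_one]; exact e.symm_apply_apply w⟩
    haveI : FiniteDimensional K' K := Module.finite_of_finrank_eq_succ h1
    exact genus_le_of_finrank_one hK' hK h1
  · letI := (e : K →ₐ[k] K').toRingHom.toAlgebra
    haveI : IsScalarTower k K K' := IsScalarTower.of_algebraMap_eq fun c => (e.commutes c).symm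
    have h1 : finrank K K' = 1 := finrank_eq_one 1 one_ne_zero fun w => ⟨e.symm w, by
      rw [Algebra.smul_def, mul_one]; exact e.apply_symm_apply w⟩
    haveI : FiniteDimensional K K' := Module.finite_of_finrank_eq_succ h1
    exact genus_le_of_finrank_one hK hK' h1

omit [Algebra K K'] [IsScalarTower k K K'] [FiniteDimensional K K'] in
/-- Two genus zero subfields of index two, given by embeddings, have the same range. -/
theorem fieldRange_eq_of_double {L₁ L₂ : Type*} [Field L₁] [Field L₂] [Algebra k L₁] [Algebra k L₂]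
    (hK : IsFunctionField k K) (hg : 2 ≤ genus k K) (hL₁ : IsFunctionField k L₁) (hL₂ : IsFunctionField k L₂)
    (hg₁ : genus k L₁ = 0) (hg₂ : genus k L₂ = 0) (ψ₁ : L₁ →ₐ[k] K) (ψ₂ : L₂ →ₐ[k] K)
    (h₁ : letI := ψ₁.toRingHom.toAlgebra; finrank L₁ K = 2)
    (h₂ : letI := ψ₂.toRingHom.toAlgebra; finrank L₂ K = 2) : ψ₁.fieldRange = ψ₂.fieldRange := by
  have key : ∀ (L : Type _) [Field L] [Algebra k L] (ψ : L →ₐ[k] K),
      (letI := ψ.toRingHom.toAlgebra; finrank L K = 2) → finrank ψ.fieldRange K = 2 := fun L _ _ ψ h => by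
    letI := ψ.toRingHom.toAlgebra
    exact (Algebra.finrank_eq_of_equiv_equiv ((AlgEquiv.ofInjectiveField ψ).toRingEquiv) (RingEquiv.refl K)
      (RingHom.ext fun _ => rfl)).symm.trans h
  have key₂ : finrank ψ₂.fieldRange K = 2 := by
    letI := ψ₂.toRingHom.toAlgebra
    exact (Algebra.finrank_eq_of_equiv_equiv ((AlgEquiv.ofInjectiveField ψ₂).toRingEquiv) (RingEquiv.refl K)
      (RingHom.ext fun _ => rfl)).symm.trans h₂
  have key₁ := key L₁ ψ₁ h₁
  haveI : FiniteDimensional ψ₁.fieldRange K := Module.finite_of_finrank_eq_succ key₁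
  haveI : FiniteDimensional ψ₂.fieldRange K := Module.finite_of_finrank_eq_succ key₂
  refine index_two_unique hK hg key₁ key₂ ?_ ?_
  · rw [← genus_congr hL₁ (AlgEquiv.ofInjectiveField ψ₁) (isFunctionField_below (K := ψ₁.fieldRange) hK), hg₁]
  · rw [← genus_congr hL₂ (AlgEquiv.ofInjectiveField ψ₂) (isFunctionField_below (K := ψ₂.fieldRange) hK), hg₂]

end Groth.Agent.FFLib
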