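import Groth.Agent.FFLib.DiffDiv
import Mathlib.FieldTheory.PrimitiveElement

/-!
# Separating variables and generators
-/

open WithZero Module

namespace Groth.Agent.FFLib

open FunFld

variable {k K : Type*} [Field k] [Field K] [Algebra k K] [IsAlgClosed k] (hK : IsFunctionField k K)
include hK

/-- A generating subspace containing a separating variable. -/
lemma exists_separating_mem (W : Submodule k K)
    (hW : IntermediateField.adjoin k (W : Set K) = ⊤) :
    ∃ x ∈ W, Algebra.IsSeparable (IntermediateField.adjoin k ({x} : Set K)) K := by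
  obtain ⟨p, hp⟩ := ExpChar.exists K
  by_contra h
  push Not at h
  obtain ⟨t, ht⟩ := exists_transcendental hK
  rcases ‹ExpChar K p› with _ | hprime
  · have : ∀ x ∈ W, x ∈ (⊥ : IntermediateField k K) := fun x hx => by
      by_contra hne
      refine h x hx (isSeparable_adjoin hK 1 (transcendental_of_notMem hK fun ⟨c, hc⟩ => hne ?_) (.inl rfl))
      exact hc ▸ IntermediateField.algebraMap_mem _ c
    have hle : IntermediateField.adjoin k (W : Set K) ≤ ⊥ := IntermediateField.adjoin_le_iff.2 this
    rw [hW] at hle
    obtain ⟨c, hc⟩ := IntermediateField.mem_bot.1 (hle (IntermediateField.mem_top (x := t)))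
    exact ht (hc ▸ isAlgebraic_algebraMap c)
  · have hall : ∀ x ∈ W, x ∈ powField k K p 1 := fun x hx => by
      by_cases hc : x ∈ Set.range (algebraMap k K)
      · obtain ⟨c, rfl⟩ := hc
        exact IntermediateField.algebraMap_mem _ c
      · rw [mem_powField, pow_one]
        by_contra hne
        push Not at hne
        exact h x hx (isSeparable_adjoin hK p (transcendental_of_notMem hK hc) (.inr hne))
    have hle : IntermediateField.adjoin k (W : Set K) ≤ powField k K p 1 :=
      IntermediateField.adjoin_le_iff.2 hall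
    rw [hW, top_le_iff] at hle
    have h1 := (powField_degree hK p 1).1
    rw [hle, pow_one, IntermediateField.finrank_top] at h1
    exact hprime.one_lt.ne h1

/-- Avoiding the finitely many intermediate fields of a separable extension. -/
lemma exists_generator_mem {x : K} (hx : Transcendental k x)
    (hsep : Algebra.IsSeparable (IntermediateField.adjoin k ({x} : Set K)) K) (W : Submodule k K)
    (hW : IntermediateField.adjoin k ((W : Set K) ∪ {x}) = ⊤) :
    ∃ y ∈ W, IntermediateField.adjoin k ({x, y} : Set K) = ⊤ := by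
  classical
  set E := IntermediateField.adjoin k ({x} : Set K)
  have := finite_adjoin hK hx
  have hfin : Finite (IntermediateField E K) :=
    Field.finite_intermediateField_of_exists_primitive_element E K (Field.exists_primitive_element E K)
  let p : {F : IntermediateField E K // F ≠ ⊤} → Submodule k W := fun F =>
    ((F.1.restrictScalars k).toSubalgebra.toSubmodule).comap W.subtype
  obtain ⟨w, hw⟩ := Submodule.exists_forall_notMem_of_forall_ne_top p fun F htop => by
    refine F.2 ?_
    have hle : IntermediateField.adjoin k ((W : Set K) ∪ {x}) ≤ F.1.restrictScalars k := by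
      rw [IntermediateField.adjoin_le_iff, Set.union_subset_iff, Set.singleton_subset_iff]
      refine ⟨fun y hy => ?_, ?_⟩
      · have : (⟨y, hy⟩ : W) ∈ p F := htop ▸ Submodule.mem_top
        exact this
      · exact F.1.algebraMap_mem (⟨x, IntermediateField.mem_adjoin_simple_self k x⟩ : E)
    rw [hW, top_le_iff] at hle
    exact IntermediateField.restrictScalars_eq_top_iff.1 hle
  refine ⟨w, w.2, ?_⟩
  set F := IntermediateField.adjoin E ({(w : K)} : Set K) with hF
  have hFtop : F = ⊤ := by
    by_contra hne
    exact hw ⟨F, hne⟩ (IntermediateField.mem_adjoin_simple_self E (w : K))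
  have h2 := IntermediateField.adjoin_adjoin_left k ({x} : Set K) ({(w : K)} : Set K)
  rw [← hF, hFtop, IntermediateField.restrictScalars_top] at h2
  rw [Set.insert_eq]
  exact h2.symm

/-- A variable with nonvanishing derivative at a finite place is a parameter there. -/
lemma v_sub_eq_of_dOrd_eq_zero {x : K} (hx : Transcendental k x)
    (hsep : Algebra.IsSeparable (IntermediateField.adjoin k ({x} : Set K)) K) {P : Place k K} {c : k}
    (hc : P.1 (x - algebraMap k K c) < 1) (hd : dOrd hK x P = 0) :
    P.1 (x - algebraMap k K c) = exp (-1 : ℤ) := by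
  set u := x - algebraMap k K c
  have hu : u ≠ 0 := fun e => transcendental_sub hx c (by rw [show x - algebraMap k K c = 0 from e]; exact isAlgebraic_zero)
  rw [v_eq_exp_iff P hu]
  have h1 := (v_lt_one_iff P hu).1 hc
  by_contra hne
  obtain ⟨t, H, ht, hH, h⟩ := dOrd_spec hK P
  obtain ⟨Φ, hΦ, hΦt⟩ := exists_expansion (deg_eq_one hK P) ht
  have ht0 : t ≠ 0 := fun e => by rw [e, map_zero] at ht; exact exp_ne_zero ht.symm
  set r := u / t ^ 2
  have hr : P.1 r ≤ 1 := by
    rw [map_div₀, map_pow, ht, ← exp_nsmul, div_le_one₀ exp_pos, v_eq P hu, exp_le_exp, nsmul_eq_mul]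
    push_cast; omega
  have hur : u = t * (t * r) := by rw [← mul_assoc, ← pow_two, mul_div_cancel₀ _ (pow_ne_zero _ ht0)]
  have hder : LocRes.hasseD H 1 u = t * (LocRes.hasseD H 1 (t * r)) + t * r := by
    rw [hur]
    have := (hasseDer H hH).leibniz t (t * r)
    simp only [hasseDer_apply, smul_eq_mul, hasseD_self hH, mul_one] at this
    exact this
  have hlt : P.1 (LocRes.hasseD H 1 u) < 1 := by
    rw [hder]
    refine (P.1.map_add _ _).trans_lt (max_lt ?_ ?_) <;> rw [map_mul, ht]
    · refine (mul_le_of_le_one_right' (v_hasseD_le_one (hasse_separating hK hH).2 hΦ hΦt hH ?_ 1)).trans_lt ?_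
      · rw [map_mul, ht]; exact mul_le_one' (by rw [← exp_zero, exp_le_exp]; omega) hr
      · rw [← exp_zero, exp_lt_exp]; omega
    · exact (mul_le_of_le_one_right' hr).trans_lt (by rw [← exp_zero, exp_lt_exp]; omega)
  have hne0 : LocRes.hasseD H 1 u ≠ 0 :=
    hasseD_ne_zero_of_sep hK (transcendental_sub hx c) (by rw [adjoin_sub]; exact hsep) hH
  have h3 := (v_lt_one_iff P hne0).1 hlt
  have h4 := dOrd_sub_const hK x c P
  rw [h, hd] at h4
  have h5 : P.ord (LocRes.hasseD H 1 u) = 0 := h4
  omega

/-- A generator over `k(x)` giving parameters everywhere. -/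
theorem exists_generator_uniformizers {x : K} (hx : Transcendental k x)
    (hsep : Algebra.IsSeparable (IntermediateField.adjoin k ({x} : Set K)) K) :
    ∃ y : K, IntermediateField.adjoin k ({x, y} : Set K) = ⊤ ∧
      ∀ P : Place k K, ∃ f ∈ Submodule.span k ({1, x, y} : Set K), P.1 f = exp (-1 : ℤ) := by
  classical
  obtain ⟨C, hC, -⟩ := exists_canonical_dOrd hK hx hsep
  have hx0 : x ≠ 0 := fun e => hx (e ▸ isAlgebraic_zero)
  set S : Finset (Place k K) := C.support ∪ ((finite_support_ord hK x).toFinset.filter fun P => P.ord x < 0)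
  have hS : ∀ P ∉ S, P.1 x ≤ 1 ∧ dOrd hK x P = 0 := fun P hP => by
    simp only [S, Finset.mem_union, Finset.mem_filter, Set.Finite.mem_toFinset, Function.mem_support,
      Finsupp.mem_support_iff, not_or, not_and, not_lt, not_not, hC] at hP
    refine ⟨(v_le_one_iff P x).2 ?_, hP.1⟩
    by_contra hneg
    exact hneg (hP.2 (by omega))
  obtain ⟨y₀, hy₀⟩ := weak_approx_eq S (fun _ => 0) (fun _ => 1)
  simp only [sub_zero] at hy₀
  let val : Place k K → k := fun P =>
    if h : P.1 x ≤ 1 then Classical.choose ((finite_iff_exists hK).1 h) else 0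
  have hval : ∀ P : Place k K, P.1 x ≤ 1 → P.1 (x - algebraMap k K (val P)) < 1 := fun P h => by
    simp only [val, dif_pos h]
    exact Classical.choose_spec ((finite_iff_exists hK).1 h)
  obtain ⟨c₀, hc₀⟩ := Infinite.exists_notMem_finset (S.image val)
  set E := IntermediateField.adjoin k ({x} : Set K) with hE
  have := finite_adjoin hK hx
  obtain ⟨g, hg⟩ := Field.exists_primitive_element E K
  have hxE : x ∈ E := IntermediateField.mem_adjoin_simple_self k x
  set N : ℕ := 2 + ∑ P ∈ S, (-P.ord g).toNat
  set T := S.image val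
  set e : K := (∏ c ∈ T, (x - algebraMap k K c) ^ N) / (x - algebraMap k K c₀) ^ ((T.card + 1) * N) with he
  have hd0 : x - algebraMap k K c₀ ≠ 0 := fun h => transcendental_sub hx c₀ (by rw [h]; exact isAlgebraic_zero)
  have hce : ∀ c : k, x - algebraMap k K c ≠ 0 := fun c h => transcendental_sub hx c (by rw [h]; exact isAlgebraic_zero)
  have he0 : e ≠ 0 := div_ne_zero (Finset.prod_ne_zero_iff.2 fun c _ => pow_ne_zero _ (hce c)) (pow_ne_zero _ hd0)
  have heE : e ∈ E := div_mem (prod_mem fun c _ => pow_mem (sub_mem hxE (E.algebraMap_mem c)) _)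
    (pow_mem (sub_mem hxE (E.algebraMap_mem c₀)) _)
  have heo : ∀ P ∈ S, (N : ℤ) ≤ P.ord e := by
    intro P hP
    have hprod : P.ord (∏ c ∈ T, (x - algebraMap k K c) ^ N) = ∑ c ∈ T, (N : ℤ) * P.ord (x - algebraMap k K c) := by
      have : ∀ U : Finset k, P.ord (∏ c ∈ U, (x - algebraMap k K c) ^ N) = ∑ c ∈ U, (N : ℤ) * P.ord (x - algebraMap k K c) := by
        intro U
        induction U using Finset.induction_on with
        | empty => simp
        | insert c U hc ih =>
          rw [Finset.prod_insert hc, Finset.sum_insert hc, ord_mul P (pow_ne_zero _ (hce c))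
            (Finset.prod_ne_zero_iff.2 fun c _ => pow_ne_zero _ (hce c)), ord_pow, ih]
      exact this T
    rw [he, div_eq_mul_inv, ord_mul P (Finset.prod_ne_zero_iff.2 fun c _ => pow_ne_zero _ (hce c))
      (inv_ne_zero (pow_ne_zero _ hd0)), ord_inv, ord_pow, hprod]
    by_cases hPx : P.1 x ≤ 1
    · have hmem : val P ∈ T := Finset.mem_image_of_mem _ hP
      have h1 := (v_lt_one_iff P (hce _)).1 (hval P hPx)
      have h2 : P.ord (x - algebraMap k K c₀) = 0 := by
        refine (v_eq_one_iff P hd0).1 ?_
        rw [show x - algebraMap k K c₀ = algebraMap k K (val P - c₀) + (x - algebraMap k K (val P)) by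
          rw [map_sub]; ring]
        have hne : val P - c₀ ≠ 0 := sub_ne_zero.2 fun e => hc₀ (e ▸ hmem)
        rw [P.1.map_add_eq_of_lt_left (by rw [v_const P hne]; exact hval P hPx), v_const P hne]
      have h3 := Finset.single_le_sum (f := fun c => (N : ℤ) * P.ord (x - algebraMap k K c))
        (fun c _ => mul_nonneg (Int.natCast_nonneg _) ((v_le_one_iff P _).1
          ((P.1.map_sub _ _).trans (max_le hPx (P.2.1 c))))) hmem
      have h4 : (N : ℤ) ≤ (N : ℤ) * P.ord (x - algebraMap k K (val P)) :=
        le_mul_of_one_le_right (Int.natCast_nonneg _) (by omega)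
      rw [h2, mul_zero, neg_zero, add_zero]
      exact h4.trans h3
    · have hneg : P.ord x < 0 := by
        by_contra h; exact hPx ((v_le_one_iff P x).2 (not_lt.1 h))
      have hall : ∀ c : k, P.ord (x - algebraMap k K c) = P.ord x := fun c => by
        have h1 : P.1 (algebraMap k K c) < P.1 x := (P.2.1 c).trans_lt (not_le.1 hPx)
        have h2 := Valuation.map_sub_eq_of_lt_left P.1 h1
        rw [v_eq P (hce c), v_eq P hx0, exp_inj] at h2
        omega
      simp only [hall, Finset.sum_const, nsmul_eq_mul]
      push_cast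
      have h5 : (N : ℤ) * 1 ≤ N * (-P.ord x) := mul_le_mul_of_nonneg_left (by omega) (Int.natCast_nonneg _)
      linarith [h5, show (T.card : ℤ) * ((N : ℤ) * P.ord x) + -(((T.card : ℤ) + 1) * N * P.ord x) =
        N * (-P.ord x) by ring]
  have hfin : Finite (IntermediateField E K) :=
    Field.finite_intermediateField_of_exists_primitive_element E K ⟨g, hg⟩
  obtain ⟨a, ha⟩ : ∃ a : k, IntermediateField.adjoin E ({y₀ + a • (g * e)} : Set K) = ⊤ := by
    by_contra h
    push Not at h
    obtain ⟨a, b, hab, heq⟩ := Finite.exists_ne_map_eq_of_infinite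
      fun a : k => IntermediateField.adjoin E ({y₀ + a • (g * e)} : Set K)
    set F := IntermediateField.adjoin E ({y₀ + a • (g * e)} : Set K)
    have h1 : y₀ + a • (g * e) ∈ F := IntermediateField.mem_adjoin_simple_self E _
    have h2 : y₀ + b • (g * e) ∈ F := heq ▸ IntermediateField.mem_adjoin_simple_self E _
    have h3 : (g * e) ∈ F := by
      have h4 := F.toSubalgebra.smul_mem (sub_mem h1 h2) (algebraMap k E (a - b)⁻¹)
      rw [add_sub_add_left_eq_sub, ← sub_smul, algebraMap_smul, smul_smul,
        inv_mul_cancel₀ (sub_ne_zero.2 hab), one_smul] at h4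
      exact h4
    have hgF : g ∈ F := by
      have := div_mem h3 (F.algebraMap_mem (⟨e, heE⟩ : E))
      rwa [show algebraMap E K ⟨e, heE⟩ = e from rfl, mul_div_cancel_right₀ _ he0] at this
    refine h a (top_le_iff.1 ?_)
    rw [← hg, IntermediateField.adjoin_le_iff]
    simpa using hgF
  set y := y₀ + a • (g * e) with hy
  refine ⟨y, ?_, fun P => ?_⟩
  · have h2 := IntermediateField.adjoin_adjoin_left k ({x} : Set K) ({y} : Set K)
    rw [ha, IntermediateField.restrictScalars_top] at h2
    rw [Set.insert_eq]
    exact h2.symm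
  by_cases hP : P ∈ S
  · refine ⟨y, Submodule.subset_span (by simp), ?_⟩
    have h1 : P.1 (a • (g * e)) < exp (-1 : ℤ) := by
      refine (v_smul_le P a _).trans_lt ?_
      rcases eq_or_ne g 0 with hg0 | hg0
      · rw [hg0, zero_mul, map_zero]; exact exp_pos
      rw [v_eq P (mul_ne_zero hg0 he0), exp_lt_exp, ord_mul P hg0 he0]
      have := Finset.single_le_sum (f := fun P : Place k K => (-P.ord g).toNat) (fun _ _ => Nat.zero_le _) hP
      have := heo P hP
      simp only [N] at this
      omega
    rw [hy, P.1.map_add_eq_of_lt_left (by rw [hy₀ P hP]; exact h1), hy₀ P hP]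
  · obtain ⟨hP1, hP2⟩ := hS P hP
    refine ⟨x - algebraMap k K (val P), ?_, v_sub_eq_of_dOrd_eq_zero hK hx hsep (hval P hP1) hP2⟩
    rw [Algebra.algebraMap_eq_smul_one]
    exact sub_mem (Submodule.subset_span (by simp)) (Submodule.smul_mem _ _ (Submodule.subset_span (by simp)))

omit [IsAlgClosed k] in
/-- A variable over which the field is separable is transcendental. -/
lemma transcendental_of_sep {x : K}
    (hsep : Algebra.IsSeparable (IntermediateField.adjoin k ({x} : Set K)) K) : Transcendental k x := by
  intro halg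
  obtain ⟨t, ht⟩ := exists_transcendental hK
  have := IntermediateField.adjoin.finiteDimensional halg.isIntegral
  have : Algebra.IsAlgebraic k (IntermediateField.adjoin k ({x} : Set K)) := Algebra.IsAlgebraic.of_finite _ _
  have : Algebra.IsAlgebraic (IntermediateField.adjoin k ({x} : Set K)) K := Algebra.IsSeparable.isAlgebraic _ _
  have : Algebra.IsAlgebraic k K := Algebra.IsAlgebraic.trans k (IntermediateField.adjoin k ({x} : Set K)) K
  exact ht (Algebra.IsAlgebraic.isAlgebraic t)

end Groth.Agent.FFLib
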