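import Groth.Agent.FFLib.RHConfig
import Groth.Agent.FFLib.SepGen
import Mathlib.FieldTheory.AlgebraicClosure
import Mathlib.RingTheory.AlgebraicIndependent.TranscendenceBasis
import Mathlib.Analysis.SpecificLimits.Basic

/-!
# The Riemann hypothesis for function fields over finite fields
-/

set_option linter.unusedSectionVars false

open Module

namespace Groth.Agent.FFLib

open FunFld

/-- Power sums that stay bounded force the bases into the closed unit disc. -/
lemma norm_le_one_of_bounded {ι : Type*} [Fintype ι] (β : ι → ℂ) (C : ℝ) (J : ℕ)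
    (h : ∀ t, J ≤ t → ‖∑ i, β i ^ t‖ ≤ C) (i : ι) : ‖β i‖ ≤ 1 := by
  classical
  have key : ∀ S : Finset ℂ, ∃ B : ℝ, ∀ t, J ≤ t → ‖∑ l, (∏ c ∈ S, (β l - c)) * β l ^ t‖ ≤ B := by
    intro S
    induction S using Finset.induction_on with
    | empty => exact ⟨C, fun t ht => by simpa using h t ht⟩
    | insert c S hc ih =>
      obtain ⟨B, hB⟩ := ih
      refine ⟨B + ‖c‖ * B, fun t ht => ?_⟩
      have e : ∑ l, (∏ d ∈ insert c S, (β l - d)) * β l ^ t =
          (∑ l, (∏ d ∈ S, (β l - d)) * β l ^ (t + 1)) - c * ∑ l, (∏ d ∈ S, (β l - d)) * β l ^ t := by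
        rw [Finset.mul_sum, ← Finset.sum_sub_distrib]
        exact Finset.sum_congr rfl fun l _ => by rw [Finset.prod_insert hc, pow_succ]; ring
      rw [e]
      refine (norm_sub_le _ _).trans (add_le_add (hB _ (by omega)) ?_)
      rw [norm_mul]
      exact mul_le_mul_of_nonneg_left (hB t ht) (norm_nonneg c)
  set b := β i
  obtain ⟨B, hB⟩ := key ((Finset.univ.image β).erase b)
  set S := (Finset.univ.image β).erase b
  set c : ℂ := ((Finset.univ.filter fun l => β l = b).card : ℂ) * ∏ d ∈ S, (b - d)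
  have hc : c ≠ 0 := by
    refine mul_ne_zero (Nat.cast_ne_zero.2 (Finset.card_pos.2 ⟨i, by simp [b]⟩).ne') ?_
    exact Finset.prod_ne_zero_iff.2 fun d hd => sub_ne_zero.2 (Finset.ne_of_mem_erase hd).symm
  have hsum : ∀ t, ∑ l, (∏ d ∈ S, (β l - d)) * β l ^ t = c * b ^ t := by
    intro t
    rw [← Finset.sum_filter_add_sum_filter_not Finset.univ (fun l => β l = b)]
    rw [Finset.sum_eq_zero (s := Finset.univ.filter fun l => ¬ β l = b) fun l hl => by
      rw [Finset.prod_eq_zero (Finset.mem_erase.2 ⟨(Finset.mem_filter.1 hl).2,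
        Finset.mem_image_of_mem _ (Finset.mem_univ l)⟩) (sub_self _), zero_mul], add_zero]
    rw [Finset.sum_congr rfl fun l hl => by rw [(Finset.mem_filter.1 hl).2], Finset.sum_const, nsmul_eq_mul]
    ring
  by_contra hgt
  push Not at hgt
  have hcpos : 0 < ‖c‖ := norm_pos_iff.2 hc
  obtain ⟨m, hm⟩ := pow_unbounded_of_one_lt (B / ‖c‖) hgt
  have h1 := hB (max J m) (le_max_left _ _)
  rw [hsum, norm_mul, norm_pow] at h1
  have h2 : ‖b‖ ^ m ≤ ‖b‖ ^ max J m := pow_le_pow_right₀ hgt.le (le_max_right _ _)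
  rw [div_lt_iff₀ hcpos] at hm
  nlinarith

variable {k K : Type*} [Field k] [Finite k] [Field K] [Algebra k K] (hK : IsFunctionField k K)
include hK

/-- A separating variable. -/
lemma exists_sep_variable :
    ∃ x : K, Transcendental k x ∧ Algebra.IsSeparable (IntermediateField.adjoin k ({x} : Set K)) K := by
  classical
  obtain ⟨x, hx, hfin⟩ := id hK.1
  set F := IntermediateField.adjoin k ({x} : Set K) with hF
  have hess : Algebra.EssFiniteType k K := by
    rw [← IntermediateField.fg_top_iff]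
    have h1 : F.FG := ⟨{x}, by simp [hF]⟩
    let b := Module.finBasis F K
    refine ⟨{x} ∪ Finset.univ.image b, top_le_iff.1 fun y _ => ?_⟩
    rw [← b.sum_repr y]
    refine sum_mem fun i _ => ?_
    rw [Algebra.smul_def]
    refine mul_mem ?_ (IntermediateField.subset_adjoin k _ (by simp))
    exact (IntermediateField.adjoin_le_iff.2 (by
      intro z hz; rw [Set.mem_singleton_iff.1 hz]; exact IntermediateField.subset_adjoin k _ (by simp)) :
        F ≤ _) (b.repr y i).2
  obtain ⟨s, hs, hsep⟩ := exists_isTranscendenceBasis_and_isSeparable_of_perfectField k K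
  have hx1 : IsTranscendenceBasis k (fun z : ({x} : Set K) => (z : K)) := by
    have hu : Unique ({x} : Set K) := Set.uniqueSingleton x
    rw [isTranscendenceBasis_iff_algebraicIndependent_isAlgebraic]
    refine ⟨algebraicIndependent_unique_type_iff.2 (by
      rw [Set.mem_singleton_iff.1 (default : ({x} : Set K)).2]; exact hx), ?_⟩
    rw [Subtype.range_coe_subtype, Set.ofPred_mem_eq, Algebra.isAlgebraic_def]
    intro y
    rw [← IntermediateField.isAlgebraic_adjoin_iff]
    exact Algebra.IsAlgebraic.isAlgebraic y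
  have hc : s.card = 1 := by
    have h1 := hs.cardinalMk_eq_trdeg
    have h2 := hx1.cardinalMk_eq_trdeg
    rw [← h2, Cardinal.mk_singleton, Cardinal.mk_coe_finset] at h1
    exact_mod_cast h1
  obtain ⟨y, rfl⟩ := Finset.card_eq_one.1 hc
  rw [Finset.coe_singleton] at hsep
  exact ⟨y, transcendental_of_sep hK hsep, hsep⟩

omit hK in
lemma adjoin_gen_top (x : K) : IntermediateField.adjoin k
    ({⟨x, IntermediateField.mem_adjoin_simple_self k x⟩} : Set (IntermediateField.adjoin k ({x} : Set K))) = ⊤ := by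
  apply IntermediateField.map_injective (IntermediateField.adjoin k ({x} : Set K)).val
  rw [IntermediateField.adjoin_map, Set.image_singleton, ← AlgHom.fieldRange_eq_map,
    IntermediateField.fieldRange_val]
  rfl

set_option maxHeartbeats 1600000 in
set_option synthInstance.maxHeartbeats 200000 in
/-- The bound along a progression. -/
theorem exists_point_bound : ∃ (C : ℤ) (d J : ℕ), 0 < d ∧ ∀ t, J ≤ t →
    |pointCount hK (2 * d * t) - (Nat.card k : ℤ) ^ (2 * d * t)| ≤ C * (Nat.card k : ℤ) ^ (d * t) := by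
  classical
  obtain ⟨x, hx, hsep⟩ := exists_sep_variable hK
  set F0 := IntermediateField.adjoin k ({x} : Set K)
  have hfinK := finite_adjoin hK.1 hx
  set gx : F0 := ⟨x, IntermediateField.mem_adjoin_simple_self k x⟩
  have htop : IntermediateField.adjoin k ({gx} : Set F0) = ⊤ := adjoin_gen_top x
  have hgx : Transcendental k gx := fun h => hx ((isAlgebraic_algebraMap_iff (algebraMap F0 K).injective).2 h)
  have hF0 : IsFunctionField k F0 := by
    refine ⟨⟨gx, hgx, ?_⟩, fun y hy => ?_⟩
    · rw [htop]; exact Module.Finite.of_surjective (Algebra.linearMap (⊤ : IntermediateField k F0) F0)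
        fun z => ⟨⟨z, trivial⟩, rfl⟩
    · obtain ⟨c, hc⟩ := hK.2 (y : K) (hy.algebraMap)
      exact ⟨c, Subtype.ext hc⟩
  have hg0 : genus k F0 = 0 := genus_eq_zero_of_top hF0 htop
  have hN0 : ∀ m, 0 < m → pointCount hF0 m = (Nat.card k : ℤ) ^ m + 1 := by
    intro m hm
    obtain ⟨α, -, hα, -⟩ := exists_recip_roots hF0
    have h := pointCount_eq_sub_sum hF0 α hα hm
    have : IsEmpty (Fin (2 * genus k F0)) := by rw [hg0, mul_zero]; infer_instance
    rw [Finset.sum_of_isEmpty, sub_zero, add_comm] at h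
    exact_mod_cast h
  set Ω := AlgebraicClosure K
  set L0 := IntermediateField.normalClosure F0 K Ω with hL0
  have : Normal F0 Ω := by
    have : Algebra.IsAlgebraic F0 Ω := Algebra.IsAlgebraic.trans F0 K Ω
    exact normal_iff.2 fun z => ⟨(Algebra.IsAlgebraic.isAlgebraic z).isIntegral, IsAlgClosed.splits _⟩
  have hsepL : Algebra.IsSeparable F0 L0 := by
    have : ∀ f : K →ₐ[F0] Ω, Algebra.IsSeparable F0 f.fieldRange := fun f =>
      AlgEquiv.Algebra.isSeparable (AlgEquiv.ofInjectiveField f)
    exact IntermediateField.isSeparable_iSup F0 Ω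
  have hgalL : IsGalois F0 L0 := ⟨⟩
  have hfinKL : FiniteDimensional K L0 := Module.Finite.of_restrictScalars_finite F0 K L0
  have tkK : IsScalarTower k K L0 := IsScalarTower.of_algebraMap_eq fun c =>
    Subtype.ext (IsScalarTower.algebraMap_apply k K Ω c)
  set k1 := algebraicClosure k L0 with hk1
  have halgdeg : ∀ y : L0, IsIntegral k y → y ^ (Nat.card k ^ (finrank F0 L0).factorial) = y := by
    intro y hy
    set M := IntermediateField.adjoin k ({y} : Set L0)
    have hM : finrank k M ≤ finrank F0 L0 := by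
      rw [← finrank_adjoin_of_const hF0.2 hy]
      exact Submodule.finrank_le (IntermediateField.adjoin F0 ({y} : Set L0)).toSubalgebra.toSubmodule
    have := IntermediateField.adjoin.finiteDimensional hy
    have : Finite M := Module.finite_of_finite k
    have := Fintype.ofFinite M
    obtain ⟨e, he⟩ := Nat.dvd_factorial (finrank_pos : 0 < finrank k M) hM
    have hy' : (⟨y, IntermediateField.mem_adjoin_simple_self k y⟩ : M) ^ (Nat.card k ^ (finrank F0 L0).factorial) =
        ⟨y, IntermediateField.mem_adjoin_simple_self k y⟩ := by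
      rw [he, pow_mul (Nat.card k), ← Module.natCard_eq_pow_finrank, Nat.card_eq_fintype_card,
        FiniteField.pow_card_pow]
    exact congrArg Subtype.val hy'
  have hk1fin : Finite k1 := by
    have hN1 : 1 < Nat.card k ^ (finrank F0 L0).factorial :=
      Nat.one_lt_pow (Nat.factorial_ne_zero _) one_lt_card
    refine Set.finite_coe_iff.2 (Set.Finite.subset
      (Polynomial.finite_setOfPred_isRoot (FiniteField.X_pow_card_sub_X_ne_zero (↥L0) hN1)) fun y hy => ?_)
    show Polynomial.IsRoot _ y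
    simp [halgdeg y hy]
  have hn1 : 0 < finrank k k1 := by
    have := Module.Finite.of_finite (R := k) (M := k1)
    exact finrank_pos
  let φ : k1 →ₐ[k] L0 := k1.val
  set F1 := constSub F0 φ
  set K1 := constSub K φ
  have hrF := finrank_constSub (K := F0) φ hF0.2
  have hgF := constSub_gen (K := F0) φ
  have hrK := finrank_constSub (K := K) φ hK.2
  have hgK := constSub_gen (K := K) φ
  have hF1 := ConstExt.isFunctionField hF0 hgF hrF
  have hK1 := ConstExt.isFunctionField hK hgK hrK
  have hFK : F1 ≤ K1.restrictScalars F0 := IntermediateField.adjoin_le_iff.2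
    (fun z hz => IntermediateField.subset_adjoin K _ hz)
  letI algFK : Algebra F1 K1 := (IntermediateField.inclusion hFK).toRingHom.toAlgebra
  haveI t1 : IsScalarTower F1 K1 L0 := IsScalarTower.of_algebraMap_eq fun _ => rfl
  haveI t2 : IsScalarTower k1 F1 L0 := IsScalarTower.of_algebraMap_eq fun _ => rfl
  haveI t3 : IsScalarTower k1 K1 L0 := IsScalarTower.of_algebraMap_eq fun _ => rfl
  haveI t4 : IsScalarTower k1 F1 K1 := IsScalarTower.of_algebraMap_eq fun _ => rfl
  have t0 : IsScalarTower F0 F1 L0 := IsScalarTower.of_algebraMap_eq fun _ => rfl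
  have hgal1 : IsGalois F1 L0 := IsGalois.tower_top_of_isGalois F0 F1 L0
  have hfin1 : FiniteDimensional F1 L0 := Module.Finite.of_restrictScalars_finite F0 F1 L0
  have hL1 : IsFunctionField k1 L0 := by
    refine ⟨fg1_ext (K := F1) hF1.1, fun y hy => ?_⟩
    have : Algebra.IsAlgebraic k k1 := algebraicClosure.isAlgebraic k L0
    exact ⟨⟨y, mem_algebraicClosure_iff.2 (hy.restrictScalars k)⟩, rfl⟩
  have hNF1 : ∀ m, 0 < m → pointCount hF1 m = (Nat.card k1 : ℤ) ^ m + 1 := fun m hm => by
    rw [ConstExt.pointCount_eq hF0 hgF hrF hF1 hm, hN0 _ (Nat.mul_pos hn1 hm)]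
    have := Module.Finite.of_finite (R := k) (M := k1)
    rw [Module.natCard_eq_pow_finrank (K := k) (V := k1)]
    push_cast
    rw [pow_mul]
  obtain ⟨C, d, J, hd, h⟩ := exists_bound_of_galois (K := K1) (K' := L0) hF1 hK1 hL1 hNF1
  refine ⟨C, finrank k k1 * d, max J 1, Nat.mul_pos hn1 hd, fun t ht => ?_⟩
  have ht1 : 0 < 2 * d * t := Nat.mul_pos (Nat.mul_pos two_pos hd) (by omega)
  have h' := h t (le_of_max_le_left ht)
  rw [ConstExt.pointCount_eq hK hgK hrK hK1 ht1] at h'
  have := Module.Finite.of_finite (R := k) (M := k1)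
  rw [Module.natCard_eq_pow_finrank (K := k) (V := k1)] at h'
  push_cast at h'
  rw [← pow_mul, ← pow_mul] at h'
  rw [show 2 * (finrank k k1 * d) * t = finrank k k1 * (2 * d * t) by ring,
    show finrank k k1 * d * t = finrank k k1 * (d * t) by ring]
  exact h'

/-- The Riemann hypothesis: the reciprocal roots have absolute value `√q`. -/
theorem norm_recip_root {ι : Type*} [Fintype ι] (α : ι → ℂ)
    (hα : PowerSeries.map (Int.castRingHom ℂ) (numerZ k K) =
      ((∏ i, (1 - Polynomial.C (α i) * Polynomial.X) : Polynomial ℂ) : PowerSeries ℂ))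
    (i : ι) : ‖α i‖ ^ 2 ≤ (Nat.card k : ℝ) := by
  obtain ⟨C, d, J, hd, h⟩ := exists_point_bound hK
  set q : ℝ := (Nat.card k : ℝ) with hq
  have hq1 : 1 ≤ q := by rw [hq]; exact_mod_cast (one_lt_card (k := k)).le
  have hq0 : 0 < q := zero_lt_one.trans_le hq1
  set β : ι → ℂ := fun l => α l ^ (2 * d) / (Nat.card k : ℂ) ^ d with hβ
  have hbound : ∀ t, max J 1 ≤ t → ‖∑ l, β l ^ t‖ ≤ (C : ℝ) + 1 := by
    intro t ht
    have ht1 : 0 < 2 * d * t := Nat.mul_pos (Nat.mul_pos two_pos hd) (by omega)
    have hN := pointCount_eq_sub_sum hK α hα ht1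
    have e : ∑ l, α l ^ (2 * d * t) =
        1 - (((pointCount hK (2 * d * t) - (Nat.card k : ℤ) ^ (2 * d * t)) : ℤ) : ℂ) := by
      push_cast; linear_combination hN
    have e2 : ∑ l, β l ^ t = (∑ l, α l ^ (2 * d * t)) / (Nat.card k : ℂ) ^ (d * t) := by
      rw [Finset.sum_div]
      exact Finset.sum_congr rfl fun l _ => by rw [hβ, div_pow, ← pow_mul, ← pow_mul]
    have hh : |((pointCount hK (2 * d * t) - (Nat.card k : ℤ) ^ (2 * d * t) : ℤ) : ℝ)| ≤ C * q ^ (d * t) := by
      have := h t (le_of_max_le_left ht)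
      rw [← Int.cast_abs, hq]
      exact_mod_cast this
    rw [e2, e, norm_div, norm_pow, Complex.norm_natCast, div_le_iff₀ (pow_pos hq0 _)]
    refine (norm_sub_le _ _).trans ?_
    rw [norm_one, Complex.norm_intCast]
    have := one_le_pow₀ (n := d * t) hq1
    nlinarith
  have h1 := norm_le_one_of_bounded β _ _ hbound i
  rw [hβ, norm_div, norm_pow, norm_pow, Complex.norm_natCast, div_le_one (pow_pos hq0 _), pow_mul] at h1
  exact le_of_pow_le_pow_left₀ hd.ne' hq0.le h1

theorem norm_sq_recip_root (α : Fin (2 * genus k K) → ℂ)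
    (hα : PowerSeries.map (Int.castRingHom ℂ) (numerZ k K) =
      ((∏ i, (1 - Polynomial.C (α i) * Polynomial.X) : Polynomial ℂ) : PowerSeries ℂ))
    (hpair : ∀ i, α i * α (Fin.rev i) = (Nat.card k : ℂ)) (i : Fin (2 * genus k K)) :
    ‖α i‖ ^ 2 = (Nat.card k : ℝ) := by
  have h1 := norm_recip_root hK α hα i
  have h2 := norm_recip_root hK α hα (Fin.rev i)
  have h3 : ‖α i‖ ^ 2 * ‖α (Fin.rev i)‖ ^ 2 = (Nat.card k : ℝ) ^ 2 := by
    rw [← mul_pow, ← norm_mul, hpair, Complex.norm_natCast]
  have hq0 : (0 : ℝ) < Nat.card k := by exact_mod_cast zero_lt_one.trans (one_lt_card (k := k))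
  refine le_antisymm h1 (not_lt.1 fun hlt => ?_)
  nlinarith [mul_le_mul_of_nonneg_left h2 (sq_nonneg ‖α i‖)]

end Groth.Agent.FFLib
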