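import Groth.Prelude.Def_W4bk4goldsch23FF
import Mathlib.RingTheory.Polynomial.GaussLemma
import Mathlib.FieldTheory.PrimitiveElement
import Mathlib.RingTheory.TensorProduct.Free
import Mathlib.FieldTheory.Perfect
import Mathlib.RingTheory.Flat.Basic

/-!
# Function fields over perfect fields are geometric
-/

open TensorProduct Polynomial

namespace Groth.Agent.FFLib

open FunFld

universe u v

variable {k : Type u} {K : Type v} [Field k] [Field K] [Algebra k K]

/-- An irreducible polynomial stays irreducible over an extension in which `k` is algebraically closed. -/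
lemma irreducible_map_of_alg_closed_in (hK : ∀ y : K, IsAlgebraic k y → y ∈ Set.range (algebraMap k K))
    {f : k[X]} (hm : f.Monic) (hf : Irreducible f) : Irreducible (f.map (algebraMap k K)) := by
  have hmK := hm.map (algebraMap k K)
  rw [hmK.irreducible_iff_natDegree]
  refine ⟨fun h => ?_, fun a b ha hb hab => ?_⟩
  · have := congrArg natDegree h
    rw [natDegree_map, natDegree_one] at this
    exact hf.natDegree_pos.ne' this
  · obtain ⟨g, hg⟩ := (Polynomial.mem_lifts a).1 (integralClosure.mem_lifts_of_monic_of_dvd_map K hm ha ⟨b, hab.symm⟩)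
    have hcoef : a ∈ Polynomial.lifts (algebraMap k K) := by
      rw [Polynomial.lifts_iff_coeff_lifts]
      intro i
      rw [← hg, coeff_map]
      exact hK _ ((g.coeff i).2.isAlgebraic)
    obtain ⟨a0, ha0, hdeg, ha0m⟩ := Polynomial.lifts_and_degree_eq_and_monic hcoef ha
    have hdvd : a0 ∣ f := by
      rw [← Polynomial.map_dvd_map (algebraMap k K) (algebraMap k K).injective ha0m, ha0]
      exact ⟨b, hab.symm⟩
    obtain ⟨b0, hb0⟩ := hdvd
    have hdeg' : a.natDegree = a0.natDegree := by rw [← ha0, natDegree_map]
    rcases hf.isUnit_or_isUnit hb0 with h | h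
    · exact .inl (hdeg'.trans (natDegree_eq_zero_of_isUnit h))
    · refine .inr ?_
      have hd := congrArg natDegree hab
      rw [natDegree_mul ha.ne_zero hb.ne_zero, hdeg', natDegree_map] at hd
      have hd' := congrArg natDegree hb0
      rw [natDegree_mul ha0m.ne_zero h.ne_zero, natDegree_eq_zero_of_isUnit h, add_zero] at hd'
      omega

/-- Over a perfect field a function field is geometric. -/
theorem isGeometric_of_perfect [PerfectField k] (hK : IsFunctionField k K) : IsGeometric k K := by
  intro k' _ _ hfin
  obtain ⟨α, hα⟩ := Field.exists_primitive_element k k'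
  set f := minpoly k α with hf
  have hint : IsIntegral k α := IsIntegral.of_finite k α
  have hirr := irreducible_map_of_alg_closed_in hK.2 (minpoly.monic hint) (minpoly.irreducible hint)
  let φ : K[X] →+* k' ⊗[k] K :=
    Polynomial.eval₂RingHom (Algebra.TensorProduct.includeRight : K →ₐ[k] k' ⊗[k] K).toRingHom (α ⊗ₜ[k] 1)
  have hφ : ∀ q : k[X], φ (q.map (algebraMap k K)) = (aeval α q) ⊗ₜ[k] (1 : K) := fun q => by
    show Polynomial.eval₂ _ _ (q.map (algebraMap k K)) = _
    rw [Polynomial.eval₂_map, show (Algebra.TensorProduct.includeRight : K →ₐ[k] k' ⊗[k] K).toRingHom.comp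
      (algebraMap k K) = algebraMap k (k' ⊗[k] K) from
      RingHom.ext fun c => (Algebra.TensorProduct.includeRight : K →ₐ[k] k' ⊗[k] K).commutes c,
      ← Polynomial.aeval_def, show α ⊗ₜ[k] (1 : K) = (Algebra.TensorProduct.includeLeft : k' →ₐ[k] k' ⊗[k] K) α from rfl,
      Polynomial.aeval_algHom_apply]
    rfl
  have hsurj : Function.Surjective φ := by
    intro z
    induction z using TensorProduct.induction_on with
    | zero => exact ⟨0, map_zero _⟩
    | tmul a c =>
      have ha : a ∈ Algebra.adjoin k ({α} : Set k') := by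
        have h : a ∈ IntermediateField.adjoin k ({α} : Set k') := hα ▸ trivial
        rwa [← IntermediateField.mem_toSubalgebra,
          IntermediateField.adjoin_simple_toSubalgebra_of_isAlgebraic hint.isAlgebraic] at h
      rw [Algebra.adjoin_singleton_eq_range_aeval, AlgHom.mem_range] at ha
      obtain ⟨q, rfl⟩ := ha
      refine ⟨C c * q.map (algebraMap k K), ?_⟩
      rw [map_mul, hφ, show φ (C c) = (1 : k') ⊗ₜ[k] c from Polynomial.eval₂_C _ _,
        Algebra.TensorProduct.tmul_mul_tmul, one_mul, mul_one]
    | add a b ha hb =>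
      obtain ⟨p, rfl⟩ := ha
      obtain ⟨q, rfl⟩ := hb
      exact ⟨p + q, map_add _ _ _⟩
  have : Nontrivial (k' ⊗[k] K) :=
    (Algebra.TensorProduct.includeLeft_injective (S := k) (A := k') (algebraMap k K).injective).nontrivial
  have hker : RingHom.ker φ = Ideal.span {f.map (algebraMap k K)} := by
    have hmax : (Ideal.span {f.map (algebraMap k K)}).IsMaximal :=
      PrincipalIdealRing.isMaximal_of_irreducible hirr
    refine (hmax.eq_of_le (RingHom.ker_ne_top φ) ?_).symm
    rw [Ideal.span_le, Set.singleton_subset_iff, SetLike.mem_coe, RingHom.mem_ker, hφ, minpoly.aeval,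
      TensorProduct.zero_tmul]
  have hmax : (RingHom.ker φ).IsMaximal := by
    rw [hker]; exact PrincipalIdealRing.isMaximal_of_irreducible hirr
  exact (RingHom.quotientKerEquivOfSurjective hsurj).symm.toMulEquiv.isField
    ((Ideal.Quotient.maximal_ideal_iff_isField_quotient _).1 hmax)

end Groth.Agent.FFLib
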