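import Groth.Agent.FFLib.DegOne
import Groth.Prelude.Def_W4bk4goldsch45

/-!
# Divisors separating points and tangent vectors give nonsingular models
-/

open WithZero Module

namespace Groth.Agent.FFLib

open FunFld

variable {k K : Type*} [Field k] [Field K] [Algebra k K]

/-- The functions integral at a place, as a `k`-subspace. -/
def intSub (Q : Place k K) : Submodule k K where
  carrier := {y | Q.1 y ≤ 1}
  add_mem' {a b} ha hb := (Q.1.map_add a b).trans (max_le ha hb)
  zero_mem' := by simp
  smul_mem' c a ha := (v_smul_le Q c a).trans ha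

variable (hK : IsFunctionField k K)
include hK

/-- The functions regular away from the poles of `x` form a finite `k[x]`-module. -/
lemma exists_finite_span_regular {x : K} (hx : Transcendental k x) (A : Subalgebra k K)
    (hxA : x ∈ A) :
    ∃ G : Finset K, (∀ y ∈ G, ∀ Q : Place k K, 0 ≤ Q.ord x → Q.1 y ≤ 1) ∧
      ∀ z : K, (∀ Q : Place k K, 0 ≤ Q.ord x → Q.1 z ≤ 1) →
        z ∈ Submodule.span A (G : Set K) := by
  classical
  have hx0 : x ≠ 0 := fun e => hx (e ▸ isAlgebraic_zero)
  have := finite_adjoin hK hx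
  set B : Divisor k K := pole x with hB
  have hd : B.deg = finrank (IntermediateField.adjoin k ({x} : Set K)) K := deg_pole hK hx
  have hd1 : 1 ≤ B.deg := by rw [hd]; exact_mod_cast finrank_pos
  set l₀ := 2 * genus k K + 1
  have hfd := finiteDimensional_L hK (l₀ • B)
  obtain ⟨G, hG⟩ := (Module.Finite.iff_fg (N := L (l₀ • B))).1 hfd
  have hGL : ∀ y ∈ G, y ∈ L (l₀ • B) := fun y hy => hG ▸ Submodule.subset_span hy
  refine ⟨G, fun y hy Q hQ => ?_, fun z hz => ?_⟩
  · have := hGL y hy Q
    rwa [Finsupp.smul_apply, hB, pole_apply hK, max_eq_right (by omega), smul_zero, exp_zero]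
      at this
  -- every `L(l B)` is in the span
  have hmain : ∀ l : ℕ, l₀ ≤ l → ∀ y ∈ L (l • B), y ∈ Submodule.span A (G : Set K) := by
    intro l hl
    induction l, hl using Nat.le_induction with
    | base =>
      intro y hy
      rw [← hG] at hy
      exact Submodule.span_le_restrictScalars k A _ hy
    | succ l hl ih =>
      intro y hy
      set M : Submodule k K := (L (l • B)).map (LinearMap.mulLeft k x)
      have hxB : ∀ Q : Place k K, -B Q ≤ Q.ord x := fun Q => by
        rw [hB, pole_apply hK]; omega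
      have h1 : M ≤ L ((l + 1) • B) := by
        rintro _ ⟨b, hb, rfl⟩ Q
        show Q.1 (x * b) ≤ _
        rw [succ_nsmul', Finsupp.add_apply, exp_add, map_mul]
        exact mul_le_mul' (mem_L_pole hK x Q) (hb Q)
      have h2 : L (l • B) ≤ L ((l + 1) • B) := L_mono (by
        rw [succ_nsmul']; exact le_add_of_nonneg_left (pole_nonneg x))
      have hl1 : 1 ≤ l := le_trans (by omega) hl
      have h3 : L (l • B) ⊓ M ≤ (L ((l - 1) • B)).map (LinearMap.mulLeft k x) := by
        rintro _ ⟨hl', b, hb, rfl⟩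
        refine ⟨b, ?_, rfl⟩
        rcases eq_or_ne b 0 with rfl | hb0
        · exact Submodule.zero_mem _
        have h4 := (mem_L_iff (mul_ne_zero hx0 hb0)).1 hl'
        have h5 := (mem_L_iff hb0).1 hb
        rw [SetLike.mem_coe, mem_L_iff hb0]
        intro Q
        have h4' := h4 Q
        have h5' := h5 Q
        rw [ord_mul Q hx0 hb0, Finsupp.smul_apply, nsmul_eq_mul] at h4'
        rw [Finsupp.smul_apply, nsmul_eq_mul] at h5' ⊢
        rw [Nat.cast_sub hl1, Nat.cast_one, sub_mul, one_mul]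
        have hBQ : B Q = max (-Q.ord x) 0 := by rw [hB, pole_apply hK]
        rcases le_or_gt 0 (Q.ord x) with h | h
        · rw [max_eq_right (by omega)] at hBQ; rw [hBQ] at h5' ⊢; simpa using h5'
        · rw [max_eq_left (by omega)] at hBQ; rw [hBQ] at h4' ⊢; omega
      have := finiteDimensional_L hK (l • B)
      have := finiteDimensional_L hK ((l - 1) • B)
      have := finiteDimensional_L hK ((l + 1) • B)
      have : FiniteDimensional k M := Submodule.finiteDimensional_of_le h1
      have hinj : Function.Injective (LinearMap.mulLeft k x) := mul_right_injective₀ hx0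
      have e1 : finrank k M = ell (l • B) :=
        (Submodule.equivMapOfInjective _ hinj (L (l • B))).finrank_eq.symm
      have e2 : finrank k ((L ((l - 1) • B)).map (LinearMap.mulLeft k x)) = ell ((l - 1) • B) :=
        (Submodule.equivMapOfInjective _ hinj (L ((l - 1) • B))).finrank_eq.symm
      have : FiniteDimensional k ((L ((l - 1) • B)).map (LinearMap.mulLeft k x)) :=
        Module.Finite.equiv (Submodule.equivMapOfInjective _ hinj (L ((l - 1) • B)))
      have e3 := Submodule.finrank_sup_add_finrank_inf_eq (L (l • B)) M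
      have e4 := Submodule.finrank_mono h3
      have hdeg : ∀ m : ℕ, 2 * genus k K ≤ m → (ell (m • B) : ℤ) = m * B.deg + 1 - genus k K := by
        intro m hm
        rw [ell_eq_of_deg_ge hK, deg_nsmul]
        rw [deg_nsmul]
        have : (m : ℤ) ≤ m * B.deg := le_mul_of_one_le_right (Int.natCast_nonneg _) hd1
        omega
      have f1 := hdeg l (by omega)
      have f2 := hdeg (l + 1) (by omega)
      have f3 := hdeg (l - 1) (by omega)
      have f4 : ((l - 1 : ℕ) : ℤ) * B.deg = l * B.deg - B.deg := by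
        rw [Nat.cast_sub hl1, Nat.cast_one, sub_mul, one_mul]
      have f5 : ((l + 1 : ℕ) : ℤ) * B.deg = l * B.deg + B.deg := by push_cast; ring
      have e5 : ell ((l + 1) • B) ≤ finrank k ↥(L (l • B) ⊔ M) := by
        unfold ell at *
        omega
      have hsup : L (l • B) ⊔ M = L ((l + 1) • B) :=
        Submodule.eq_of_le_of_finrank_le (sup_le h2 h1) e5
      rw [← hsup] at hy
      obtain ⟨a, ha, _, ⟨b, hb, rfl⟩, rfl⟩ := Submodule.mem_sup.1 hy
      refine add_mem (ih a ha) ?_
      exact Submodule.smul_mem _ (⟨x, hxA⟩ : A) (ih b hb)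
  -- `z` lies in some `L(l B)`
  rcases eq_or_ne z 0 with rfl | hz0
  · exact zero_mem _
  obtain ⟨N, hN⟩ : ∃ N : ℕ, ∀ Q ∈ (FunFld.div k z).support, -Q.ord z ≤ N :=
    ⟨(FunFld.div k z).support.sup fun Q => (-Q.ord z).toNat, fun Q hQ => by
      have := Finset.le_sup (f := fun Q => (-Q.ord z).toNat) hQ
      try simp only at this
      omega⟩
  refine hmain (max l₀ N) (le_max_left _ _) z ((mem_L_iff hz0).2 fun Q => ?_)
  rw [Finsupp.smul_apply, nsmul_eq_mul, hB, pole_apply hK]
  by_cases hQ : 0 ≤ Q.ord x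
  · rw [show max (-Q.ord x) 0 = 0 by omega, mul_zero, add_zero]
    exact (v_le_one_iff Q z).1 (hz Q hQ)
  · by_cases hQs : Q ∈ (FunFld.div k z).support
    · have := hN Q hQs
      have h1 : (N : ℤ) ≤ ((max l₀ N : ℕ) : ℤ) * max (-Q.ord x) 0 :=
        (Nat.cast_le.2 (le_max_right _ _)).trans
          (le_mul_of_one_le_right (Int.natCast_nonneg _) (by omega))
      omega
    · rw [Finsupp.notMem_support_iff, div_apply hK] at hQs
      rw [hQs, zero_add]
      exact mul_nonneg (Int.natCast_nonneg _) (le_max_right _ _)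

/-- A divisor separating `P` from all places (infinitesimally near ones included) gives a model
nonsingular at `P`. -/
theorem isNonsingularAt_of_separates [IsAlgClosed k] (D : Divisor k K) {n : ℕ}
    (φ : Fin (n + 1) → K) (hspan : Submodule.span k (Set.range φ) = L D) (P : Place k K)
    (hsep : ∀ Q : Place k K, ell (D - Finsupp.single P 1 - Finsupp.single Q 1) + 2 ≤ ell D) :
    IsNonsingularAt φ P := by
  classical
  have hdeg : ∀ R : Place k K, R.deg = 1 := deg_eq_one hK
  have hstep : ∀ (E : Divisor k K) (R : Place k K), ell E ≤ ell (E - Finsupp.single R 1) + 1 := by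
    intro E R
    have := ell_sub_le hK (E - Finsupp.single R 1) E
      (sub_le_self _ (Finsupp.single_nonneg.2 zero_le_one))
    rw [deg_sub, deg_single, hdeg] at this
    omega
  have hbpf : ∀ Q : Place k K, ∃ i, φ i ∉ L (D - Finsupp.single Q 1) := by
    intro Q
    by_contra h
    push Not at h
    have hle : L D ≤ L (D - Finsupp.single Q 1) := by
      rw [← hspan, Submodule.span_le]
      rintro _ ⟨i, rfl⟩
      exact h i
    have := finiteDimensional_L hK (D - Finsupp.single Q 1)
    have h1 : ell D ≤ ell (D - Finsupp.single Q 1) := Submodule.finrank_mono hle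
    have h2 := hstep (D - Finsupp.single Q 1) P
    have h3 := hsep Q
    rw [sub_right_comm] at h3
    omega
  have hφL : ∀ i, φ i ∈ L D := fun i => hspan ▸ Submodule.subset_span ⟨i, rfl⟩
  have hord : ∀ (Q : Place k K) (f : K), f ∈ L D → f ∉ L (D - Finsupp.single Q 1) →
      f ≠ 0 ∧ Q.ord f = -D Q := by
    intro Q f hf hn
    have hf0 : f ≠ 0 := fun e => hn (e ▸ Submodule.zero_mem _)
    refine ⟨hf0, ?_⟩
    by_contra hne
    have h1 := (mem_L_iff hf0).1 hf Q
    refine hn ((mem_L_iff hf0).2 fun R => ?_)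
    rw [Finsupp.sub_apply]
    rcases eq_or_ne R Q with rfl | hR
    · rw [Finsupp.single_eq_same]; omega
    · rw [Finsupp.single_eq_of_ne hR, sub_zero]; exact (mem_L_iff hf0).1 hf R
  obtain ⟨j, hj⟩ := hbpf P
  obtain ⟨hj0, hjo⟩ := hord P _ (hφL j) hj
  set ψ : Fin (n + 1) → K := fun i => φ i / φ j with hψ
  set A : Subalgebra k K := Algebra.adjoin k (Set.range ψ) with hA
  have hdiv : ∀ f ∈ L D, f / φ j ∈ A := by
    intro f hf
    rw [← hspan] at hf
    induction hf using Submodule.span_induction with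
    | mem y hy => obtain ⟨i, rfl⟩ := hy; exact Algebra.subset_adjoin ⟨i, rfl⟩
    | zero => rw [zero_div]; exact zero_mem _
    | add a b _ _ ha hb => rw [add_div]; exact add_mem ha hb
    | smul c a _ ha =>
      rw [Algebra.smul_def, mul_div_assoc]
      exact mul_mem (A.algebraMap_mem c) ha
  -- the affine chart
  set U : Set (Place k K) := {Q | ∀ i, Q.1 (ψ i) ≤ 1} with hU
  have hUord : ∀ Q ∈ U, Q.ord (φ j) = -D Q := by
    intro Q hQ
    obtain ⟨i, hi⟩ := hbpf Q
    obtain ⟨hi0, hio⟩ := hord Q _ (hφL i) hi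
    have h1 := (v_le_one_iff Q (ψ i)).1 (hQ i)
    rw [hψ] at h1
    simp only at h1
    rw [div_eq_mul_inv, ord_mul Q hi0 (inv_ne_zero hj0), ord_inv, hio] at h1
    have h2 := (mem_L_iff hj0).1 (hφL j) Q
    omega
  have hPU : P ∈ U := fun i => by
    rcases eq_or_ne (φ i) 0 with hi | hi
    · simp [hψ, hi]
    rw [v_le_one_iff, hψ]
    simp only
    rw [div_eq_mul_inv, ord_mul P hi (inv_ne_zero hj0), ord_inv, hjo]
    have := (mem_L_iff hi).1 (hφL i) P
    omega
  have hAint : ∀ a ∈ A, ∀ Q ∈ U, Q.1 a ≤ 1 := by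
    intro a ha Q hQ
    induction ha using Algebra.adjoin_induction with
    | mem y hy => obtain ⟨i, rfl⟩ := hy; exact hQ i
    | algebraMap c => exact Q.2.1 c
    | add a b _ _ ha hb => exact (Q.1.map_add a b).trans (max_le ha hb)
    | mul a b _ _ ha hb => rw [map_mul]; exact mul_le_one' ha hb
  -- separation
  have hsepel : ∀ Q ∈ U, ∃ u ∈ A, (Q ≠ P → P.1 (u - 1) < 1 ∧ Q.1 u < 1) ∧
      (Q = P → P.1 u = exp (-1)) := by
    intro Q hQ
    have hnle : ¬ L (D - Finsupp.single Q 1) ≤ L (D - Finsupp.single P 1 - Finsupp.single Q 1) := fun h => by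
      have := finiteDimensional_L hK (D - Finsupp.single P 1 - Finsupp.single Q 1)
      have h1 : ell (D - Finsupp.single Q 1) ≤ ell (D - Finsupp.single P 1 - Finsupp.single Q 1) :=
        Submodule.finrank_mono h
      have h2 := hstep D Q
      have h3 := hsep Q
      omega
    obtain ⟨f, hf, hfn⟩ := SetLike.not_le_iff_exists.1 hnle
    have hf0 : f ≠ 0 := fun e => hfn (e ▸ Submodule.zero_mem _)
    have hfD : f ∈ L D := L_mono (sub_le_self _ (Finsupp.single_nonneg.2 zero_le_one)) hf
    have hfP : P.ord f = -D P + (Finsupp.single Q 1 : Divisor k K) P := by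
      by_contra hne
      refine hfn ((mem_L_iff hf0).2 fun R => ?_)
      have h1 := (mem_L_iff hf0).1 hf R
      rw [Finsupp.sub_apply] at h1
      rw [Finsupp.sub_apply, Finsupp.sub_apply]
      rcases eq_or_ne R P with rfl | hR
      · rw [Finsupp.single_eq_same]; omega
      · rw [Finsupp.single_eq_of_ne hR]; omega
    have hord' : ∀ R : Place k K, R.ord (f / φ j) = R.ord f - R.ord (φ j) := fun R => by
      rw [div_eq_mul_inv, ord_mul R hf0 (inv_ne_zero hj0), ord_inv]; ring
    have hfj : f / φ j ≠ 0 := div_ne_zero hf0 hj0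
    by_cases hQP : Q = P
    · refine ⟨f / φ j, hdiv f hfD, fun h => absurd hQP h, fun _ => ?_⟩
      rw [v_eq P hfj, hord', hfP, hjo, hQP, Finsupp.single_eq_same]
      congr 1
      ring
    · have h1 : P.1 (f / φ j) = 1 := by
        rw [v_eq_one_iff P hfj, hord', hfP, hjo, Finsupp.single_eq_of_ne (Ne.symm hQP)]
        ring
      obtain ⟨c, hc⟩ := exists_const_sub_lt (hdeg P) h1.le
      have hc0 : c ≠ 0 := fun e => by
        rw [e, map_zero, sub_zero, h1] at hc
        exact lt_irrefl _ hc
      refine ⟨c⁻¹ • (f / φ j), A.smul_mem (hdiv f hfD) _, fun _ => ⟨?_, ?_⟩, fun h => absurd h hQP⟩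
      · rw [show c⁻¹ • (f / φ j) - 1 = c⁻¹ • (f / φ j - algebraMap k K c) by
          rw [smul_sub, Algebra.smul_def c⁻¹ (algebraMap k K c), ← map_mul, inv_mul_cancel₀ hc0, map_one],
          v_smul P (inv_ne_zero hc0)]
        exact hc
      · rw [v_smul Q (inv_ne_zero hc0), v_lt_one_iff Q hfj, hord', hUord Q hQ]
        have := (mem_L_iff hf0).1 hf Q
        rw [Finsupp.sub_apply, Finsupp.single_eq_same] at this
        omega
  choose! u huA huQ huP using hsepel
  obtain ⟨t, htA, htv⟩ : ∃ t ∈ A, P.1 t = exp (-1) := ⟨u P, huA P hPU, huP P hPU rfl⟩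
  have ht0 : t ≠ 0 := fun e => by rw [e, map_zero] at htv; exact exp_ne_zero htv.symm
  -- a function with poles exactly outside the chart
  have hfin : Uᶜ.Finite := by
    refine (Set.finite_iUnion fun i => finite_support_ord hK (ψ i)).subset fun Q hQ => ?_
    simp only [hU, Set.mem_compl_iff, Set.mem_setOf_eq, not_forall, not_le] at hQ
    obtain ⟨i, hi⟩ := hQ
    exact Set.mem_iUnion.2 ⟨i, ((one_lt_v_iff Q _).1 hi).ne⟩
  have : Finite ↥Uᶜ := hfin.to_subtype
  let pQ : ↥Uᶜ → Submodule k (Fin (n + 1) → k) := fun Q =>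
    (intSub (Q : Place k K)).comap (Fintype.linearCombination k ψ)
  obtain ⟨c, hc⟩ := Submodule.exists_forall_notMem_of_forall_ne_top pQ fun Q htop => by
    obtain ⟨i, hi⟩ := not_forall.1 (show ¬ ∀ i, (Q : Place k K).1 (ψ i) ≤ 1 from Q.2)
    refine hi ?_
    have : Pi.single i (1 : k) ∈ pQ Q := htop ▸ Submodule.mem_top
    simp only [pQ, Submodule.mem_comap, Fintype.linearCombination_apply_single, one_smul] at this
    exact this
  set x : K := Fintype.linearCombination k ψ c with hx
  have hxA : x ∈ A := by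
    rw [hx, Fintype.linearCombination_apply]
    exact Subalgebra.sum_mem _ fun i _ => A.smul_mem (Algebra.subset_adjoin (Set.mem_range_self i)) _
  have hxU : ∀ Q : Place k K, 0 ≤ Q.ord x ↔ Q ∈ U := by
    intro Q
    refine ⟨fun h => ?_, fun h => (v_le_one_iff Q x).1 (hAint x hxA Q h)⟩
    by_contra hn
    exact hc ⟨Q, hn⟩ ((v_le_one_iff Q x).2 h)
  have hxtr : Transcendental k x := by
    have htc : t ∉ Set.range (algebraMap k K) := by
      rintro ⟨a, rfl⟩
      rcases eq_or_ne a 0 with rfl | ha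
      · exact ht0 (map_zero _)
      · rw [v_const P ha, ← exp_zero, exp_inj] at htv; norm_num at htv
    obtain ⟨Q, hQ⟩ := exists_pole hK htc
    have hQU : Q ∉ U := fun h => absurd (hAint t htA Q h) (not_le.2 ((one_lt_v_iff Q t).2 hQ))
    exact transcendental_of_ord hK Q fun h => hQU ((hxU Q).1 h.ge)
  obtain ⟨G, hG1, hG2⟩ := exists_finite_span_regular hK hxtr A hxA
  set N : Submodule A K := Submodule.span A (G : Set K) with hN
  have hNint : ∀ z ∈ N, ∀ Q ∈ U, Q.1 z ≤ 1 := by
    intro z hz Q hQ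
    induction hz using Submodule.span_induction with
    | mem y hy => exact hG1 y hy Q ((hxU Q).2 hQ)
    | zero => simp
    | add a b _ _ ha hb => exact (Q.1.map_add a b).trans (max_le ha hb)
    | smul a b _ hb =>
      show Q.1 ((a : K) * b) ≤ 1
      rw [map_mul]; exact mul_le_one' (hAint a a.2 Q hQ) hb
  -- clearing denominators
  have hone : ∀ a b : K, P.1 (a - 1) < 1 → P.1 (b - 1) < 1 → P.1 (a * b - 1) < 1 := by
    intro a b ha hb
    rw [show a * b - 1 = a * (b - 1) + (a - 1) by ring]
    refine (P.1.map_add _ _).trans_lt (max_lt ?_ ha)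
    rw [map_mul]
    exact mul_lt_one_of_nonneg_of_lt_one_right (v_le_of_sub ha.le (by simp)) zero_le hb
  have hclear : ∀ z : K, P.1 z ≤ 1 → ∃ w ∈ A, P.1 (w - 1) < 1 ∧ w * z ∈ N := by
    intro z hz
    rcases eq_or_ne z 0 with rfl | hz0
    · exact ⟨1, one_mem _, by simp, by simp⟩
    set S : Finset (Place k K) := (FunFld.div k z).support.filter fun Q => Q ∈ U ∧ Q.ord z < 0
    have hSne : ∀ Q ∈ S, Q ≠ P := fun Q hQ e => by
      have := (Finset.mem_filter.1 hQ).2.2
      rw [e] at this
      exact absurd ((v_le_one_iff P z).1 hz) (by omega)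
    set w : K := ∏ Q ∈ S, u Q ^ (-Q.ord z).toNat
    have hwA : w ∈ A := Subalgebra.prod_mem _ fun Q hQ => pow_mem (huA Q (Finset.mem_filter.1 hQ).2.1) _
    have hw1 : P.1 (w - 1) < 1 := by
      refine Finset.prod_induction _ (fun y => P.1 (y - 1) < 1) hone (by simp) fun Q hQ => ?_
      have := (huQ Q (Finset.mem_filter.1 hQ).2.1 (hSne Q hQ)).1
      induction (-Q.ord z).toNat with
      | zero => simp
      | succ m ih => rw [pow_succ]; exact hone _ _ ih this
    refine ⟨w, hwA, hw1, hG2 _ fun Q hQ => ?_⟩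
    have hQU := (hxU Q).1 hQ
    rw [map_mul]
    by_cases hQS : Q ∈ S
    · have hlt : Q.1 (u Q) < 1 := (huQ Q hQU (hSne Q hQS)).2
      rw [map_prod, ← Finset.mul_prod_erase S _ hQS, mul_assoc, mul_comm (∏ _ ∈ _, _), ← mul_assoc]
      refine mul_le_one' ?_ (Finset.prod_le_one' fun R hR => hAint _
        (pow_mem (huA R (Finset.mem_filter.1 (Finset.mem_of_mem_erase hR)).2.1) _) Q hQU)
      rw [map_pow]
      rcases eq_or_ne (u Q) 0 with hu0 | hu0
      · have : 0 < (-Q.ord z).toNat := by have := (Finset.mem_filter.1 hQS).2.2; omega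
        rw [hu0, map_zero, zero_pow this.ne', zero_mul]
        exact zero_le
      have ho := (v_lt_one_iff Q hu0).1 hlt
      rw [v_eq Q hu0, v_eq Q hz0, ← exp_nsmul, ← exp_add, ← exp_zero, exp_le_exp, nsmul_eq_mul]
      have h1 : ((-Q.ord z).toNat : ℤ) ≤ ((-Q.ord z).toNat : ℤ) * Q.ord (u Q) :=
        le_mul_of_one_le_right (Int.natCast_nonneg _) (by omega)
      rw [mul_neg]
      omega
    · refine mul_le_one' (hAint w hwA Q hQU) ((v_le_one_iff Q z).2 ?_)
      by_contra hn
      refine hQS (Finset.mem_filter.2 ⟨?_, hQU, by omega⟩)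
      rw [Finsupp.mem_support_iff, div_apply hK]
      omega
  -- Nakayama
  let 𝔭 : Ideal A :=
    { carrier := {a | P.1 (a : K) < 1}
      add_mem' := fun {a b} ha hb => (P.1.map_add _ _).trans_lt (max_lt ha hb)
      zero_mem' := by simp
      smul_mem' := fun a b hb => by
        show P.1 ((a : K) * (b : K)) < 1
        rw [map_mul]
        exact mul_lt_one_of_nonneg_of_lt_one_right (hAint a a.2 P hPU) zero_le hb }
  let M₀ : Submodule A K := Submodule.span A {1}
  let N' : Submodule A (K ⧸ M₀) := N.map M₀.mkQ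
  have hin : N' ≤ 𝔭 • N' := by
    rintro _ ⟨z, hz, rfl⟩
    have hzP : P.1 z ≤ 1 := hNint z hz P hPU
    obtain ⟨a, ha⟩ := exists_const_sub_lt (hdeg P) hzP
    set z' := (z - algebraMap k K a) / t with hz'
    have hz'P : P.1 z' ≤ 1 := by
      rcases eq_or_ne (z - algebraMap k K a) 0 with h0 | h0
      · simp [hz', h0]
      rw [v_le_one_iff, hz', div_eq_mul_inv, ord_mul P h0 (inv_ne_zero ht0), ord_inv]
      have h1 := (v_lt_one_iff P h0).1 ha
      have h2 : P.ord t = 1 := by have := (v_eq_exp_iff P ht0 (-1)).1 htv; omega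
      omega
    obtain ⟨w, hwA, hw1, hwN⟩ := hclear z' hz'P
    have hmem1 : (1 - ⟨w, hwA⟩ : A) ∈ 𝔭 := by
      show P.1 (1 - w) < 1
      rw [Valuation.map_sub_swap]; exact hw1
    have hmem2 : (⟨t, htA⟩ : A) ∈ 𝔭 := by
      show P.1 t < 1
      rw [htv, ← exp_zero, exp_lt_exp]; norm_num
    have key : M₀.mkQ z = (1 - ⟨w, hwA⟩ : A) • M₀.mkQ z + (⟨t, htA⟩ : A) • M₀.mkQ (w * z') := by
      rw [← map_smul, ← map_smul, ← map_add, Submodule.mkQ_apply, Submodule.mkQ_apply,
        Submodule.Quotient.eq]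
      refine Submodule.mem_span_singleton.2 ⟨⟨w * algebraMap k K a, mul_mem hwA (A.algebraMap_mem a)⟩, ?_⟩
      show w * algebraMap k K a * 1 = z - ((1 - w) * z + t * (w * z'))
      have e : t * z' = z - algebraMap k K a := mul_div_cancel₀ _ ht0
      linear_combination w * e
    rw [key]
    exact add_mem (Submodule.smul_mem_smul hmem1 ⟨z, hz, rfl⟩)
      (Submodule.smul_mem_smul hmem2 ⟨_, hwN, rfl⟩)
  obtain ⟨r, hr, hr0⟩ := Submodule.exists_sub_one_mem_and_smul_eq_zero_of_fg_of_le_smul 𝔭 N'
    ((Submodule.fg_span G.finite_toSet).map _) hin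
  intro z hz
  obtain ⟨w, hwA, hw1, hwN⟩ := hclear z hz
  have hrA : (r : K) * (w * z) ∈ A := by
    have h1 := hr0 _ ⟨_, hwN, rfl⟩
    rw [← map_smul, Submodule.mkQ_apply, Submodule.Quotient.mk_eq_zero,
      Submodule.mem_span_singleton] at h1
    obtain ⟨a, ha⟩ := h1
    have e : (a : K) * 1 = (r : K) * (w * z) := ha
    rw [← e, mul_one]
    exact a.2
  refine ⟨j, hj0, fun i => ?_, (r : K) * (w * z), hrA, (r : K) * w, mul_mem r.2 hwA, ?_, by ring⟩
  · rcases eq_or_ne (φ i) 0 with hi | hi
    · rw [hi, map_zero]; exact zero_le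
    · have := hPU i
      rw [hψ] at this
      simp only at this
      rwa [map_div₀, div_le_one₀ (zero_lt_iff.2 (v_ne_zero P hj0))] at this
  · have h := hone _ _ (show P.1 ((r : K) - 1) < 1 from hr) hw1
    have h2 := P.1.map_add_eq_of_lt_left (x := (1 : K)) (y := (r : K) * w - 1) (by rwa [map_one])
    rwa [add_sub_cancel, map_one] at h2

end Groth.Agent.FFLib
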