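import Groth.Agent.FFLib.Monic

/-!
# Plane models: the genus bound and nonsingularity
-/

open WithZero Module Polynomial

namespace Groth.Agent.FFLib

open FunFld

variable {k K : Type*} [Field k] [Field K] [Algebra k K]

/-- Functions of value at most `exp e` at a place, as a `k`-subspace. -/
def boundSub (Q : Place k K) (e : ℤ) : Submodule k K where
  carrier := {y | Q.1 y ≤ exp e}
  add_mem' {a b} ha hb := (Q.1.map_add a b).trans (max_le ha hb)
  zero_mem' := by simp
  smul_mem' c a ha := (v_smul_le Q c a).trans ha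

lemma mul_mem_L_add {D E : Divisor k K} {x y : K} (hx : x ∈ L D) (hy : y ∈ L E) :
    x * y ∈ L (D + E) := fun P => by
  rw [map_mul, Finsupp.add_apply, exp_add]
  exact mul_le_mul' (hx P) (hy P)

variable (hK : IsFunctionField k K)

include hK in
lemma mapDiv_plane (x y : K) (Q : Place k K) :
    mapDiv k ![(1 : K), x, y] Q = max 0 (max (-Q.ord x) (-Q.ord y)) := by
  classical
  have key : ∀ R : Place k K, -Finset.univ.inf' Finset.univ_nonempty
      (fun i => R.ord (![(1 : K), x, y] i)) = max 0 (max (-R.ord x) (-R.ord y)) := fun R => by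
    refine le_antisymm ?_ ?_
    · rw [neg_le]
      refine Finset.le_inf' _ _ fun i _ => ?_
      fin_cases i <;> simp <;> omega
    · have h0 := Finset.inf'_le (fun i => R.ord (![(1 : K), x, y] i)) (Finset.mem_univ (0 : Fin 3))
      have h1 := Finset.inf'_le (fun i => R.ord (![(1 : K), x, y] i)) (Finset.mem_univ (1 : Fin 3))
      have h2 := Finset.inf'_le (fun i => R.ord (![(1 : K), x, y] i)) (Finset.mem_univ (2 : Fin 3))
      simp only [Matrix.cons_val_zero, Matrix.cons_val_one, Matrix.cons_val,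
        ord_one] at h0 h1 h2
      omega
  rw [mapDiv, dif_pos, Finsupp.ofSupportFinite_coe, key]
  refine ((finite_support_ord hK x).union (finite_support_ord hK y)).subset fun R hR => ?_
  rw [Function.mem_support, key] at hR
  simp only [Set.mem_union, Function.mem_support]
  omega

/-- A plane model in normal position: `h` is a linear form in `x, y` with the poles of both. -/
structure Model (k : Type*) {K : Type*} [Field k] [Field K] [Algebra k K] (x y : K) where
  h : K
  a : k
  b : k
  a_ne : a ≠ 0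
  eq : h = a • x + b • y
  pole_eq : pole (k := k) h = mapDiv k ![(1 : K), x, y]

variable {x y : K}

lemma Model.x_eq (M : Model k x y) : x = M.a⁻¹ • M.h + (-(M.a⁻¹ * M.b)) • y := by
  rw [M.eq, smul_add, smul_smul, inv_mul_cancel₀ M.a_ne, one_smul, smul_smul, neg_smul,
    add_neg_cancel_right]

include hK

/-- A plane model with coefficients outside a prescribed proper subspace. -/
lemma exists_model_avoid [Infinite k] (p₀ : Submodule k (Fin 2 → k)) (hp₀ : p₀ ≠ ⊤) :
    ∃ M : Model k x y, ![M.a, M.b] ∉ p₀ := by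
  classical
  set D := mapDiv k ![(1 : K), x, y] with hD
  have hDQ : ∀ Q : Place k K, D Q = max 0 (max (-Q.ord x) (-Q.ord y)) := mapDiv_plane hK x y
  let p : Option (Option ↥D.support) → Submodule k (Fin 2 → k) := fun o => o.elim p₀ fun o => o.elim
    (LinearMap.ker (LinearMap.proj 0 : (Fin 2 → k) →ₗ[k] k))
    fun Q => (boundSub (Q : Place k K) (D Q - 1)).comap (Fintype.linearCombination k ![x, y])
  obtain ⟨c, hc⟩ := Submodule.exists_forall_notMem_of_forall_ne_top p fun o htop => by
    rcases o with _ | o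
    · exact hp₀ htop
    cases o with
    | none =>
      have : Pi.single (0 : Fin 2) (1 : k) ∈ p (some none) := htop ▸ Submodule.mem_top
      simp [p] at this
    | some Q =>
      have hQ := hDQ Q
      have hQ0 : D Q ≠ 0 := Finsupp.mem_support_iff.1 Q.2
      have hmem : ∀ i : Fin 2, (Q : Place k K).1 (![x, y] i) ≤ exp (D Q - 1) := fun i => by
        have : Pi.single i (1 : k) ∈ p (some (some Q)) := htop ▸ Submodule.mem_top
        simp only [p, Option.elim_some, Submodule.mem_comap,
          Fintype.linearCombination_apply_single, one_smul] at this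
        exact this
      have h1 := hmem 0
      have h2 := hmem 1
      simp only [Matrix.cons_val_zero, Matrix.cons_val_one] at h1 h2
      have e1 : -(Q : Place k K).ord x ≤ D Q - 1 := by
        rcases eq_or_ne x 0 with hx | hx
        · rw [hx, ord_zero]; omega
        · have := (v_le_exp_iff (Q : Place k K) hx _).1 h1; omega
      have e2 : -(Q : Place k K).ord y ≤ D Q - 1 := by
        rcases eq_or_ne y 0 with hy | hy
        · rw [hy, ord_zero]; omega
        · have := (v_le_exp_iff (Q : Place k K) hy _).1 h2; omega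
      omega
  set h : K := c 0 • x + c 1 • y with hh
  have hch : Fintype.linearCombination k ![x, y] c = h := by
    simp [Fintype.linearCombination_apply, Fin.sum_univ_two, hh]
  have hle : ∀ Q : Place k K, Q.1 h ≤ exp (D Q) := fun Q => by
    have hb : ∀ w : K, -Q.ord w ≤ D Q → Q.1 w ≤ exp (D Q) := fun w hw => by
      rcases eq_or_ne w 0 with rfl | hw0
      · simp
      · exact (v_le_exp_iff Q hw0 _).2 (by omega)
    have := hDQ Q
    exact (boundSub Q (D Q)).add_mem ((boundSub Q _).smul_mem _ (hb x (by omega)))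
      ((boundSub Q _).smul_mem _ (hb y (by omega)))
  refine ⟨⟨h, c 0, c 1, fun e => hc (some none) (by simpa [p] using e), hh, Finsupp.ext fun Q => ?_⟩, ?_⟩
  swap
  · show ![c 0, c 1] ∉ p₀
    rw [show ![c 0, c 1] = c from List.ofFn_injective (by simp)]
    exact hc none
  rw [pole_apply hK]
  have hQ := hDQ Q
  by_cases hs : Q ∈ D.support
  · have h1 := hc (some (some ⟨Q, hs⟩))
    simp only [p, Option.elim_some, Submodule.mem_comap, hch] at h1
    have h1' : ¬ Q.1 h ≤ exp (D Q - 1) := h1
    have hh0 : h ≠ 0 := fun e => h1' (by rw [e, map_zero]; exact zero_le)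
    have h2 := (v_le_exp_iff Q hh0 _).1 (hle Q)
    rw [v_le_exp_iff Q hh0] at h1'
    show _ = D Q
    omega
  · rw [Finsupp.notMem_support_iff] at hs
    have h1 := hle Q
    rw [hs, exp_zero, v_le_one_iff] at h1
    show _ = D Q
    omega

lemma exists_model [Infinite k] (hxy : IntermediateField.adjoin k ({x, y} : Set K) = ⊤) :
    Nonempty (Model k x y) :=
  (exists_model_avoid hK (⊥ : Submodule k (Fin 2 → k)) bot_ne_top)|>.elim fun M _ => ⟨M⟩

omit hK

/-- Degree of the model. -/
noncomputable def Model.d (M : Model k x y) : ℕ :=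
  finrank (IntermediateField.adjoin k ({M.h} : Set K)) K

/-- The monomial family spanning the forms of degree `m`. -/
noncomputable def Model.fam (M : Model k x y) (m : ℕ) :
    (Σ j : Fin M.d, Fin (m + 1 - j)) → K :=
  fun s => M.h ^ (s.2 : ℕ) * y ^ (s.1 : ℕ)

/-- The forms of degree `m`. -/
noncomputable def Model.W (M : Model k x y) (m : ℕ) : Submodule k K :=
  Submodule.span k (Set.range (M.fam m))

lemma Model.mem_W (M : Model k x y) {m : ℕ} {p : Fin M.d → k[X]}
    (hp : ∀ (j : Fin M.d) (i : ℕ), (p j).coeff i ≠ 0 → i + j ≤ m) :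
    ∑ j, aeval M.h (p j) * y ^ (j : ℕ) ∈ M.W m := by
  refine Submodule.sum_mem _ fun j _ => ?_
  rw [aeval_eq_sum_range, Finset.sum_mul]
  refine Submodule.sum_mem _ fun i _ => ?_
  rw [smul_mul_assoc]
  rcases eq_or_ne ((p j).coeff i) 0 with h | h
  · rw [h, zero_smul]; exact zero_mem _
  · exact Submodule.smul_mem _ _ (Submodule.subset_span
      ⟨⟨j, ⟨i, by have := hp j i h; omega⟩⟩, rfl⟩)

lemma Model.exists_rep (M : Model k x y) {m : ℕ} {f : K} (hf : f ∈ M.W m) :
    ∃ p : Fin M.d → k[X], (∀ (j : Fin M.d) (i : ℕ), (p j).coeff i ≠ 0 → i + j ≤ m) ∧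
      f = ∑ j, aeval M.h (p j) * y ^ (j : ℕ) := by
  classical
  induction hf using Submodule.span_induction with
  | mem f hf =>
    obtain ⟨⟨j, i⟩, rfl⟩ := hf
    refine ⟨Pi.single j (X ^ (i : ℕ)), fun j' i' h => ?_, ?_⟩
    · rcases eq_or_ne j' j with rfl | hj
      · rw [Pi.single_eq_same, coeff_X_pow] at h
        have : i' = (i : ℕ) := by by_contra hne; exact h (if_neg hne)
        have := i.2
        omega
      · rw [Pi.single_eq_of_ne hj, coeff_zero] at h; exact absurd rfl h
    · rw [Finset.sum_eq_single j (fun b _ hb => by rw [Pi.single_eq_of_ne hb, map_zero, zero_mul])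
        (by simp), Pi.single_eq_same, map_pow, aeval_X]
      rfl
  | zero => exact ⟨0, by simp, by simp⟩
  | add f g _ _ hf hg =>
    obtain ⟨p, hp, rfl⟩ := hf
    obtain ⟨q, hq, rfl⟩ := hg
    refine ⟨p + q, fun j i h => ?_, by simp [add_mul, Finset.sum_add_distrib]⟩
    by_contra hlt
    refine h ?_
    rw [Pi.add_apply, coeff_add, not_not.1 (mt (hp j i) hlt), not_not.1 (mt (hq j i) hlt), add_zero]
  | smul c f _ hf =>
    obtain ⟨p, hp, rfl⟩ := hf
    refine ⟨c • p, fun j i h => hp j i fun e => h ?_, by simp [Finset.smul_sum]⟩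
    rw [Pi.smul_apply, coeff_smul, e, smul_zero]

variable (M : Model k x y)

include hK in
lemma Model.ord_facts (Q : Place k K) :
    -mapDiv k ![(1 : K), x, y] Q ≤ Q.ord x ∧ -mapDiv k ![(1 : K), x, y] Q ≤ Q.ord y ∧
      mapDiv k ![(1 : K), x, y] Q = max (-Q.ord M.h) 0 := by
  have h1 := mapDiv_plane hK x y Q
  refine ⟨by omega, by omega, ?_⟩
  rw [← M.pole_eq, pole_apply hK]

include hK

lemma Model.transcendental [Infinite k] (hxy : IntermediateField.adjoin k ({x, y} : Set K) = ⊤) :
    Transcendental k M.h := by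
  obtain ⟨t, ht⟩ := exists_transcendental hK
  obtain ⟨Q, hQ⟩ : ∃ Q : Place k K, mapDiv k ![(1 : K), x, y] Q ≠ 0 := by
    by_contra h
    push Not at h
    have hc : ∀ w : K, (∀ Q : Place k K, 0 ≤ Q.ord w) → w ∈ (⊥ : IntermediateField k K) := fun w hw => by
      have : w ∈ L (0 : Divisor k K) := fun Q => by
        rw [Finsupp.zero_apply, exp_zero, v_le_one_iff]; exact hw Q
      rw [L_zero hK, Submodule.mem_one] at this
      exact IntermediateField.mem_bot.2 this
    have hle : IntermediateField.adjoin k ({x, y} : Set K) ≤ ⊥ := IntermediateField.adjoin_le_iff.2 (by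
      rintro w (rfl | rfl) <;> refine hc _ fun Q => ?_ <;>
        (have h1 := (M.ord_facts hK Q); have := h Q; omega))
    rw [hxy] at hle
    obtain ⟨c, hc⟩ := IntermediateField.mem_bot.1 (hle (IntermediateField.mem_top (x := t)))
    exact ht (hc ▸ isAlgebraic_algebraMap c)
  refine transcendental_of_ord hK Q fun h => ?_
  have := (M.ord_facts hK Q).2.2
  omega

omit hK in
lemma Model.adjoin_top (hxy : IntermediateField.adjoin k ({x, y} : Set K) = ⊤) (u z : K)
    (hh : M.h ∈ IntermediateField.adjoin (IntermediateField.adjoin k ({u} : Set K)) ({z} : Set K))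
    (hy : y ∈ IntermediateField.adjoin (IntermediateField.adjoin k ({u} : Set K)) ({z} : Set K)) :
    IntermediateField.adjoin (IntermediateField.adjoin k ({u} : Set K)) ({z} : Set K) = ⊤ := by
  set F := IntermediateField.adjoin (IntermediateField.adjoin k ({u} : Set K)) ({z} : Set K)
  rw [eq_top_iff]
  intro w _
  have hle : IntermediateField.adjoin k ({x, y} : Set K) ≤ F.restrictScalars k := by
    rw [IntermediateField.adjoin_le_iff]
    rintro v (rfl | rfl)
    · show v ∈ F
      have hx : v = M.a⁻¹ • M.h + (-(M.a⁻¹ * M.b)) • y := M.x_eq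
      rw [hx]
      refine add_mem ?_ ?_
      · exact (F.restrictScalars k).smul_mem hh
      · exact (F.restrictScalars k).smul_mem hy
    · exact hy
  exact hle (hxy ▸ IntermediateField.mem_top)

variable [Infinite k] (hxy : IntermediateField.adjoin k ({x, y} : Set K) = ⊤)
include hxy

lemma Model.deg_eq : (mapDiv k ![(1 : K), x, y]).deg = M.d := by
  rw [← M.pole_eq]
  exact deg_pole hK (M.transcendental hK hxy)

lemma Model.d_pos : 0 < M.d := by
  have := finite_adjoin hK (M.transcendental hK hxy)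
  exact finrank_pos

lemma Model.linearIndependent :
    LinearIndependent (IntermediateField.adjoin k ({M.h} : Set K)) fun j : Fin M.d => y ^ (j : ℕ) := by
  have := finite_adjoin hK (M.transcendental hK hxy)
  have htop := M.adjoin_top hxy M.h y
    (IntermediateField.algebraMap_mem _ (⟨M.h, IntermediateField.mem_adjoin_simple_self k M.h⟩ :
      IntermediateField.adjoin k ({M.h} : Set K)))
    (IntermediateField.mem_adjoin_simple_self _ y)
  have h1 := IntermediateField.adjoin.finrank
    (IsIntegral.of_finite (IntermediateField.adjoin k ({M.h} : Set K)) y)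
  rw [htop, IntermediateField.finrank_top'] at h1
  have h2 := linearIndependent_pow (K := IntermediateField.adjoin k ({M.h} : Set K)) y
  exact h2.comp (Fin.cast h1) (Fin.cast_injective h1)

lemma Model.eq_zero {p : Fin M.d → k[X]}
    (h : ∑ j, aeval M.h (p j) * y ^ (j : ℕ) = 0) (j : Fin M.d) : p j = 0 := by
  have hmem : ∀ q : k[X], aeval M.h q ∈ IntermediateField.adjoin k ({M.h} : Set K) := fun q =>
    IntermediateField.algebra_adjoin_le_adjoin k {M.h}
      (Algebra.adjoin_singleton_eq_range_aeval k M.h ▸ ⟨q, rfl⟩)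
  have h1 := Fintype.linearIndependent_iff.1 (M.linearIndependent hK hxy)
    (fun j => ⟨_, hmem (p j)⟩) (by rw [← h]; rfl) j
  by_contra hne
  exact M.transcendental hK hxy ⟨p j, hne, congrArg Subtype.val h1⟩

lemma Model.fam_linearIndependent (m : ℕ) : LinearIndependent k (M.fam m) := by
  classical
  rw [Fintype.linearIndependent_iff]
  intro c hc s
  let p : Fin M.d → k[X] := fun j => ∑ i : Fin (m + 1 - j), monomial (i : ℕ) (c ⟨j, i⟩)
  have h0 : ∑ j, aeval M.h (p j) * y ^ (j : ℕ) = 0 := by
    rw [← hc, Fintype.sum_sigma]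
    refine Finset.sum_congr rfl fun j _ => ?_
    simp only [p, map_sum, aeval_monomial, Finset.sum_mul, Model.fam, Algebra.smul_def, mul_assoc]
  have := congrArg (fun q : k[X] => q.coeff (s.2 : ℕ)) (M.eq_zero hK hxy h0 s.1)
  simpa [p, coeff_monomial, Fin.val_inj] using this

lemma Model.two_mul_card (m : ℕ) (hm : M.d ≤ m + 1) :
    2 * (finrank k (M.W m) : ℤ) = 2 * M.d * (m + 1) - M.d * (M.d - 1) := by
  rw [Model.W, finrank_span_eq_card (M.fam_linearIndependent hK hxy m)]
  simp only [Fintype.card_sigma, Fintype.card_fin]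
  rw [Fin.sum_univ_eq_sum_range (fun j => m + 1 - j), Nat.cast_sum]
  have : ∀ n : ℕ, n ≤ m + 1 →
      2 * ∑ j ∈ Finset.range n, ((m + 1 - j : ℕ) : ℤ) = 2 * n * (m + 1) - n * (n - 1) := by
    intro n
    induction n with
    | zero => intro _; simp
    | succ n ih =>
      intro hn
      rw [Finset.sum_range_succ, mul_add, ih (by omega), Nat.cast_sub (by omega)]
      push_cast
      ring
  exact this M.d hm

omit [Infinite k] hxy in
lemma Model.W_le_L (m : ℕ) : M.W m ≤ L (m • mapDiv k ![(1 : K), x, y]) := by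
  rw [Model.W, Submodule.span_le]
  rintro _ ⟨⟨j, i⟩, rfl⟩ Q
  simp only [Model.fam, map_mul, map_pow, Finsupp.smul_apply, nsmul_eq_mul]
  obtain ⟨hx, hy, hh⟩ := M.ord_facts hK Q
  set D := mapDiv k ![(1 : K), x, y] Q
  have hh' : Q.1 M.h ≤ exp D := by
    rcases eq_or_ne M.h 0 with h0 | h0
    · simp [h0]
    · exact (v_le_exp_iff Q h0 _).2 (by omega)
  have hy' : Q.1 y ≤ exp D := by
    rcases eq_or_ne y 0 with h0 | h0
    · simp [h0]
    · exact (v_le_exp_iff Q h0 _).2 (by omega)
  refine (mul_le_mul' (pow_le_pow_left' hh' _) (pow_le_pow_left' hy' _)).trans ?_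
  rw [← exp_nsmul, ← exp_nsmul, ← exp_add, exp_le_exp, nsmul_eq_mul, nsmul_eq_mul, ← add_mul]
  refine mul_le_mul_of_nonneg_right ?_ (by omega)
  have := i.2
  omega

lemma Model.two_mul_genus_le_and_iff (m : ℕ) (hm : M.d ≤ m + 1)
    (hm' : 2 * (genus k K : ℤ) - 1 ≤ m * M.d) :
    2 * (genus k K : ℤ) ≤ ((M.d : ℤ) - 1) * ((M.d : ℤ) - 2) ∧
      (2 * (genus k K : ℤ) = ((M.d : ℤ) - 1) * ((M.d : ℤ) - 2) ↔
        M.W m = L (m • mapDiv k ![(1 : K), x, y])) := by
  have := finiteDimensional_L hK (m • mapDiv k ![(1 : K), x, y])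
  have h1 := M.two_mul_card hK hxy m hm
  have hdeg := M.deg_eq hK hxy
  have h2 := ell_eq_of_deg_ge hK (D := m • mapDiv k ![(1 : K), x, y])
    (by rw [deg_nsmul, hdeg]; exact hm')
  rw [deg_nsmul, hdeg] at h2
  have h3 : finrank k (M.W m) ≤ ell (m • mapDiv k ![(1 : K), x, y]) :=
    Submodule.finrank_mono (M.W_le_L hK m)
  refine ⟨by nlinarith, ⟨fun h => Submodule.eq_of_le_of_finrank_le (M.W_le_L hK m) ?_, fun h => ?_⟩⟩
  · show ell (m • mapDiv k ![(1 : K), x, y]) ≤ _
    have : 2 * (ell (m • mapDiv k ![(1 : K), x, y]) : ℤ) = 2 * (finrank k (M.W m) : ℤ) := by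
      rw [h1, h2]; linarith
    omega
  · have h4 : ell (m • mapDiv k ![(1 : K), x, y]) = finrank k (M.W m) := by rw [h]; rfl
    rw [h4] at h2
    linarith

/-- All monomials of degree at most `m` lie in `W m`. -/
lemma Model.monomial_mem {i j m : ℕ} (hij : i + j ≤ m) : M.h ^ i * y ^ j ∈ M.W m := by
  classical
  have htr := M.transcendental hK hxy
  have hh0 : M.h ≠ 0 := fun e => htr (e ▸ isAlgebraic_zero)
  have htop := M.adjoin_top hxy M.h y
    (IntermediateField.algebraMap_mem _ (⟨M.h, IntermediateField.mem_adjoin_simple_self k M.h⟩ :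
      IntermediateField.adjoin k ({M.h} : Set K)))
    (IntermediateField.mem_adjoin_simple_self _ y)
  obtain ⟨c, hc⟩ := exists_monic_relation hK htr (z := y) (fun Q hQ => (v_le_one_iff Q y).2 (by
    obtain ⟨-, hy, hh⟩ := M.ord_facts hK Q
    omega)) htop
  -- degree bound
  have htru : Transcendental k M.h⁻¹ := fun h => htr (inv_inv M.h ▸ h.inv)
  have hzint : ∀ Q : Place k K, 0 ≤ Q.ord M.h⁻¹ → Q.1 (y / M.h) ≤ 1 := fun Q hQ => by
    obtain ⟨-, hy, hh⟩ := M.ord_facts hK Q
    rw [ord_inv] at hQ
    rcases eq_or_ne y 0 with h0 | h0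
    · simp [h0]
    rw [v_le_one_iff, div_eq_mul_inv, ord_mul Q h0 (inv_ne_zero hh0), ord_inv]
    omega
  set E' := IntermediateField.adjoin k ({M.h⁻¹} : Set K) with hE'
  set F' := IntermediateField.adjoin E' ({y / M.h} : Set K) with hF'
  have hhF : M.h ∈ F' := by
    have : (M.h⁻¹)⁻¹ ∈ F' := inv_mem (IntermediateField.algebraMap_mem _
      (⟨M.h⁻¹, IntermediateField.mem_adjoin_simple_self k M.h⁻¹⟩ : E'))
    rwa [inv_inv] at this
  have hyF : y ∈ F' := by
    have := mul_mem (IntermediateField.mem_adjoin_simple_self E' (y / M.h)) hhF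
    rwa [div_mul_cancel₀ _ hh0] at this
  obtain ⟨q, hq⟩ := exists_monic_relation hK htru hzint (M.adjoin_top hxy M.h⁻¹ (y / M.h) hhF hyF)
  have hdd : finrank E' K = M.d :=
    congrArg (fun E : IntermediateField k K => finrank E K) (adjoin_inv M.h)
  set e : Fin M.d → Fin (finrank E' K) := Fin.cast hdd.symm
  have hq' : y ^ M.d + ∑ l : Fin M.d, aeval M.h⁻¹ (q (e l)) * M.h ^ (M.d - (l : ℕ)) * y ^ (l : ℕ) = 0 := by
    have h1 := congrArg (fun w : K => M.h ^ M.d * w) hq
    have key : ∀ (n : ℕ) (_ : n = M.d), M.h ^ M.d * (y / M.h) ^ n = y ^ M.d := fun n hn => by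
      rw [hn, div_pow, mul_div_cancel₀ _ (pow_ne_zero _ hh0)]
    rw [mul_zero, mul_add, Finset.mul_sum, key _ hdd] at h1
    rw [← h1]
    congr 1
    refine Fintype.sum_equiv (finCongr hdd.symm) _ _ fun l => ?_
    have hl : M.d = M.d - (l : ℕ) + (l : ℕ) := by have := l.2; omega
    show _ = M.h ^ M.d * (aeval M.h⁻¹ (q (e l)) * (y / M.h) ^ (l : ℕ))
    have hpow : M.h ^ M.d = M.h ^ (M.d - (l : ℕ)) * M.h ^ (l : ℕ) :=
      (congrArg (fun n : ℕ => M.h ^ n) hl).trans (pow_add _ _ _)
    rw [hpow, div_pow]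
    field_simp
  have hc' : y ^ M.d + ∑ l : Fin M.d, aeval M.h (c l) * y ^ (l : ℕ) = 0 := hc
  have hcoef : ∀ l : Fin M.d, aeval M.h (c l) = aeval M.h⁻¹ (q (e l)) * M.h ^ (M.d - (l : ℕ)) := by
    have hmem : ∀ p : k[X], aeval M.h p ∈ IntermediateField.adjoin k ({M.h} : Set K) := fun p =>
      IntermediateField.algebra_adjoin_le_adjoin k {M.h}
        (Algebra.adjoin_singleton_eq_range_aeval k M.h ▸ ⟨p, rfl⟩)
    have hmem' : ∀ p : k[X], aeval M.h⁻¹ p ∈ IntermediateField.adjoin k ({M.h} : Set K) := fun p => by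
      have := IntermediateField.algebra_adjoin_le_adjoin k {M.h⁻¹}
        (Algebra.adjoin_singleton_eq_range_aeval k M.h⁻¹ ▸ ⟨p, rfl⟩ : aeval M.h⁻¹ p ∈ _)
      rwa [adjoin_inv] at this
    intro l
    have hl := Fintype.linearIndependent_iff.1 (M.linearIndependent hK hxy)
      (fun l => (⟨_, hmem (c l)⟩ : IntermediateField.adjoin k ({M.h} : Set K)) -
        ⟨_, mul_mem (hmem' (q (e l))) (pow_mem (IntermediateField.mem_adjoin_simple_self k M.h) (M.d - (l : ℕ)))⟩)
      (by
        simp only [sub_smul, Finset.sum_sub_distrib]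
        rw [sub_eq_zero]
        exact (eq_neg_of_add_eq_zero_right hc').trans (eq_neg_of_add_eq_zero_right hq').symm) l
    exact sub_eq_zero.1 (congrArg Subtype.val hl)
  obtain ⟨R, hR⟩ := exists_pole hK (x := M.h) fun ⟨a, ha⟩ => htr (ha ▸ isAlgebraic_algebraMap a)
  have hdegc : ∀ l : Fin M.d, ∀ i, (c l).coeff i ≠ 0 → i + l ≤ M.d := by
    intro l i hi
    have hcl : c l ≠ 0 := fun e => hi (by rw [e, coeff_zero])
    obtain ⟨hne, ho⟩ := ord_aeval_pole hR hcl
    have hq0 : aeval M.h⁻¹ (q (e l)) ≠ 0 := fun h => hne (by rw [hcoef, h, zero_mul])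
    rw [hcoef, ord_mul R hq0 (pow_ne_zero _ hh0), ord_pow] at ho
    have h1 : 0 ≤ R.ord (aeval M.h⁻¹ (q (e l))) := (v_le_one_iff R _).1
      (v_aeval_le R.1 R.2.1 ((v_le_one_iff R _).2 (by rw [ord_inv]; omega)) _)
    have h2 := le_natDegree_of_ne_zero hi
    by_contra hlt
    have h3 : ((M.d - (l : ℕ) : ℕ) : ℤ) < (c l).natDegree := by omega
    nlinarith
  -- reduction
  induction j using Nat.strong_induction_on generalizing i with | _ j ih => ?_
  rcases Nat.lt_or_ge j M.d with hj | hj
  · exact Submodule.subset_span ⟨⟨⟨j, hj⟩, ⟨i, by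
      show i < m + 1 - j
      omega⟩⟩, rfl⟩
  have e1 : M.h ^ i * y ^ j = -∑ l : Fin M.d, M.h ^ i * y ^ (j - M.d) * (aeval M.h (c l) * y ^ (l : ℕ)) := by
    rw [← Finset.mul_sum, ← mul_neg, ← eq_neg_of_add_eq_zero_left hc', mul_assoc, ← pow_add,
      Nat.sub_add_cancel hj]
  rw [e1]
  refine Submodule.neg_mem _ (Submodule.sum_mem _ fun l _ => ?_)
  rw [aeval_eq_sum_range, Finset.sum_mul, Finset.mul_sum]
  refine Submodule.sum_mem _ fun n _ => ?_
  rw [smul_mul_assoc, mul_smul_comm]
  rcases eq_or_ne ((c l).coeff n) 0 with h0 | h0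
  · rw [h0, zero_smul]; exact zero_mem _
  refine Submodule.smul_mem _ _ ?_
  rw [show M.h ^ i * y ^ (j - M.d) * (M.h ^ n * y ^ (l : ℕ)) = M.h ^ (i + n) * y ^ (j - M.d + l) by
    rw [pow_add, pow_add]; ring]
  have := l.2
  have := hdegc l n h0
  exact ih _ (by omega) (by omega)

lemma Model.mul_mem {m n : ℕ} {f g : K} (hf : f ∈ M.W m) (hg : g ∈ M.W n) :
    f * g ∈ M.W (m + n) := by
  induction hf using Submodule.span_induction with
  | mem f hf =>
    obtain ⟨⟨j, i⟩, rfl⟩ := hf
    induction hg using Submodule.span_induction with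
    | mem g hg =>
      obtain ⟨⟨j', i'⟩, rfl⟩ := hg
      simp only [Model.fam]
      rw [mul_mul_mul_comm, ← pow_add, ← pow_add]
      exact M.monomial_mem hK hxy (by have := i.2; have := i'.2; omega)
    | zero => rw [mul_zero]; exact zero_mem _
    | add a b _ _ ha hb => rw [mul_add]; exact add_mem ha hb
    | smul c a _ ha => rw [mul_smul_comm]; exact Submodule.smul_mem _ _ ha
  | zero => rw [zero_mul]; exact zero_mem _
  | add a b _ _ ha hb => rw [add_mul]; exact add_mem ha hb
  | smul c a _ ha => rw [smul_mul_assoc]; exact Submodule.smul_mem _ _ ha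

lemma Model.tuple_mem (i : Fin 3) : ![(1 : K), x, y] i ∈ M.W 1 := by
  have h1 : M.h ∈ M.W 1 := by simpa using M.monomial_mem hK hxy (i := 1) (j := 0) (m := 1) le_rfl
  have h2 : y ∈ M.W 1 := by simpa using M.monomial_mem hK hxy (i := 0) (j := 1) (m := 1) le_rfl
  fin_cases i
  · simpa using M.monomial_mem hK hxy (i := 0) (j := 0) (m := 1) zero_le_one
  · show x ∈ M.W 1
    exact (congrArg (· ∈ M.W 1) M.x_eq).mpr
      (add_mem (Submodule.smul_mem _ _ h1) (Submodule.smul_mem _ _ h2))
  · exact h2

/-- If the model is nonsingular, functions regular on a chart are polynomials there. -/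
lemma Model.exists_mem_W_of_nonsingular (hns : ∀ P : Place k K, IsNonsingularAt ![(1 : K), x, y] P)
    (ψ : K) (hψ : ψ = 1 ∨ ψ = M.h) (f : K)
    (hf : ∀ P : Place k K, (∀ i, P.1 (![(1 : K), x, y] i / ψ) ≤ 1) → P.1 f ≤ 1) :
    ∃ n : ℕ, f * ψ ^ n ∈ M.W n := by
  classical
  have htr := M.transcendental hK hxy
  have hh0 : M.h ≠ 0 := fun e => htr (e ▸ isAlgebraic_zero)
  have hψ0 : ψ ≠ 0 := by rcases hψ with rfl | rfl <;> [exact one_ne_zero; exact hh0]
  have hψW : ψ ∈ M.W 1 := by
    rcases hψ with rfl | rfl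
    · simpa using M.monomial_mem hK hxy (i := 0) (j := 0) (m := 1) zero_le_one
    · simpa using M.monomial_mem hK hxy (i := 1) (j := 0) (m := 1) le_rfl
  have hψv : ∀ (P : Place k K) (g : WithZero (Multiplicative ℤ)),
      (∀ i, P.1 (![(1 : K), x, y] i) ≤ g) → P.1 ψ ≤ g := by
    intro P g hg
    rcases hψ with rfl | rfl
    · exact hg 0
    · rw [M.eq]
      exact (P.1.map_add _ _).trans (max_le ((v_smul_le P _ _).trans (hg 1))
        ((v_smul_le P _ _).trans (hg 2)))
  set A := Algebra.adjoin k (Set.range fun i => ![(1 : K), x, y] i / ψ) with hA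
  have hAW : ∀ a ∈ A, ∃ n : ℕ, a * ψ ^ n ∈ M.W n := by
    intro a ha
    induction ha using Algebra.adjoin_induction with
    | mem w hw =>
      obtain ⟨i, rfl⟩ := hw
      exact ⟨1, by rw [pow_one, div_mul_cancel₀ _ hψ0]; exact M.tuple_mem hK hxy i⟩
    | algebraMap c =>
      refine ⟨0, ?_⟩
      rw [pow_zero, mul_one, Algebra.algebraMap_eq_smul_one]
      exact Submodule.smul_mem _ _ (by simpa using M.monomial_mem hK hxy (i := 0) (j := 0) (m := 0) le_rfl)
    | add a b _ _ ha hb =>
      obtain ⟨n, hn⟩ := ha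
      obtain ⟨n', hn'⟩ := hb
      refine ⟨n + n', ?_⟩
      have hp : ∀ l : ℕ, ψ ^ l ∈ M.W l := fun l => by
        induction l with
        | zero => simpa using M.monomial_mem hK hxy (i := 0) (j := 0) (m := 0) le_rfl
        | succ l ih => rw [pow_succ]; exact M.mul_mem hK hxy ih hψW
      rw [add_mul, pow_add]
      refine add_mem ?_ ?_
      · rw [← mul_assoc]; exact M.mul_mem hK hxy hn (hp n')
      · rw [mul_left_comm]; exact M.mul_mem hK hxy (hp n) hn'
    | mul a b _ _ ha hb =>
      obtain ⟨n, hn⟩ := ha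
      obtain ⟨n', hn'⟩ := hb
      exact ⟨n + n', by rw [pow_add, mul_mul_mul_comm]; exact M.mul_mem hK hxy hn hn'⟩
  -- the conductor of `f`
  have hmem : ∀ i, ![(1 : K), x, y] i / ψ ∈ A := fun i => Algebra.subset_adjoin ⟨i, rfl⟩
  let I : Ideal A :=
    { carrier := {a | (a : K) * f ∈ A}
      add_mem' := fun {a b} ha hb => by
        show ((a : K) + b) * f ∈ A
        rw [add_mul]; exact A.add_mem ha hb
      zero_mem' := by
        show (0 : K) * f ∈ A
        rw [zero_mul]; exact A.zero_mem
      smul_mem' := fun a b hb => by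
        show ((a : K) * b) * f ∈ A
        rw [mul_assoc]; exact A.mul_mem a.2 hb }
  have key : ∀ P : Place k K, (∀ i, P.1 (![(1 : K), x, y] i / ψ) ≤ 1) →
      ∃ a ∈ I, P.1 (a : K) = 1 := by
    intro P hP
    obtain ⟨j, hj0, hjmax, u, hu, w, hw, hw1, hfw⟩ := hns P f (hf P hP)
    set ρ := ![(1 : K), x, y] j / ψ
    have hρ : P.1 ρ = 1 := by
      refine le_antisymm (hP j) ?_
      rw [map_div₀, one_le_div₀ (zero_lt_iff.2 (v_ne_zero P hψ0))]
      exact hψv P _ hjmax
    have hclear : ∀ w ∈ Algebra.adjoin k (Set.range fun i => ![(1 : K), x, y] i / ![(1 : K), x, y] j),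
        ∃ n : ℕ, w * ρ ^ n ∈ A := by
      intro w hw
      induction hw using Algebra.adjoin_induction with
      | mem w hw =>
        obtain ⟨i, rfl⟩ := hw
        refine ⟨1, ?_⟩
        rw [pow_one, div_mul_div_cancel₀ hj0]
        exact hmem i
      | algebraMap c => exact ⟨0, by rw [pow_zero, mul_one]; exact A.algebraMap_mem c⟩
      | add a b _ _ ha hb =>
        obtain ⟨n, hn⟩ := ha
        obtain ⟨n', hn'⟩ := hb
        refine ⟨n + n', ?_⟩
        rw [add_mul, pow_add]
        refine add_mem ?_ ?_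
        · rw [← mul_assoc]; exact MulMemClass.mul_mem hn (pow_mem (hmem j) _)
        · rw [mul_left_comm]; exact MulMemClass.mul_mem (pow_mem (hmem j) _) hn'
      | mul a b _ _ ha hb =>
        obtain ⟨n, hn⟩ := ha
        obtain ⟨n', hn'⟩ := hb
        exact ⟨n + n', by rw [pow_add, mul_mul_mul_comm]; exact MulMemClass.mul_mem hn hn'⟩
    obtain ⟨n, hn⟩ := hclear u hu
    obtain ⟨n', hn'⟩ := hclear w hw
    refine ⟨⟨w * ρ ^ (n + n'), ?_⟩, ?_, ?_⟩
    · rw [pow_add, mul_left_comm]; exact MulMemClass.mul_mem (pow_mem (hmem j) _) hn'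
    · show w * ρ ^ (n + n') * f ∈ A
      rw [mul_right_comm, mul_comm w f, hfw, pow_add, ← mul_assoc]
      exact MulMemClass.mul_mem hn (pow_mem (hmem j) _)
    · show P.1 (w * ρ ^ (n + n')) = 1
      rw [map_mul, map_pow, hρ, hw1, one_pow, one_mul]
  have hI : I = ⊤ := by
    by_contra hne
    have hI0 : I ≠ ⊥ := by
      obtain ⟨P, hP⟩ : ∃ P : Place k K, ∀ i, P.1 (![(1 : K), x, y] i / ψ) ≤ 1 := by
        rcases hψ with rfl | rfl
        · obtain ⟨P, hP⟩ := exists_zero hK (x := M.h) fun ⟨a, ha⟩ => htr (ha ▸ isAlgebraic_algebraMap a)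
          refine ⟨P, fun i => ?_⟩
          rw [div_one, v_le_one_iff]
          obtain ⟨h1, h2, h3⟩ := M.ord_facts hK P
          fin_cases i
          · simp
          · show 0 ≤ P.ord x; omega
          · show 0 ≤ P.ord y; omega
        · obtain ⟨P, hP⟩ := exists_pole hK (x := M.h) fun ⟨a, ha⟩ => htr (ha ▸ isAlgebraic_algebraMap a)
          refine ⟨P, fun i => ?_⟩
          obtain ⟨h1, h2, h3⟩ := M.ord_facts hK P
          rw [map_div₀, div_le_one₀ (zero_lt_iff.2 (v_ne_zero P hh0)), v_eq P hh0]
          fin_cases i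
          · show P.1 1 ≤ _
            rw [map_one, ← exp_zero, exp_le_exp]; omega
          · show P.1 x ≤ _
            rcases eq_or_ne x 0 with h0 | h0
            · exact ((congrArg P.1 h0).trans (map_zero _)).trans_le zero_le
            · rw [v_eq P h0, exp_le_exp]; omega
          · show P.1 y ≤ _
            rcases eq_or_ne y 0 with h0 | h0
            · exact ((congrArg P.1 h0).trans (map_zero _)).trans_le zero_le
            · rw [v_eq P h0, exp_le_exp]; omega
      obtain ⟨a, haI, ha1⟩ := key P hP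
      intro e
      rw [e, Ideal.mem_bot] at haI
      rw [haI] at ha1
      simp at ha1
    obtain ⟨P, hPA, hPI⟩ := exists_place_of_ideal hK A.toSubring (fun c => A.algebraMap_mem c) I hne hI0
    obtain ⟨a, haI, ha1⟩ := key P fun i => hPA _ (hmem i)
    exact absurd ha1 (hPI a haI).ne
  have hfA : f ∈ A := by
    have h1 : (1 : A) ∈ I := hI ▸ Submodule.mem_top
    have h2 : ((1 : A) : K) * f ∈ A := h1
    rwa [OneMemClass.coe_one, one_mul] at h2
  exact hAW f hfA

/-- The plane-model genus formula holds exactly for nonsingular models. -/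
theorem Model.genus_eq_iff :
    2 * (genus k K : ℤ) = ((M.d : ℤ) - 1) * ((M.d : ℤ) - 2) ↔
      ∀ P : Place k K, IsNonsingularAt ![(1 : K), x, y] P := by
  classical
  have hd := M.d_pos hK hxy
  have htr := M.transcendental hK hxy
  have hh0 : M.h ≠ 0 := fun e => htr (e ▸ isAlgebraic_zero)
  constructor
  · intro heq P z hz
    set D := mapDiv k ![(1 : K), x, y] with hD
    obtain ⟨j, -, hj⟩ := Finset.univ.exists_max_image (fun i => P.1 (![(1 : K), x, y] i)) Finset.univ_nonempty
    set φj := ![(1 : K), x, y] j with hφj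
    have hjmax : ∀ i, P.1 (![(1 : K), x, y] i) ≤ P.1 φj := fun i => hj i (Finset.mem_univ i)
    have hj1 : 1 ≤ P.1 φj := by have := hjmax 0; simpa using this
    have hj0 : φj ≠ 0 := fun e => by rw [e, map_zero] at hj1; exact absurd hj1 (not_le.2 zero_lt_one)
    have hjo : P.ord φj = -D P := by
      have h1 := mapDiv_plane hK x y P
      have h2 : ∀ i, P.ord φj ≤ P.ord (![(1 : K), x, y] i) ∨ ![(1 : K), x, y] i = 0 := fun i => by
        by_cases h0 : ![(1 : K), x, y] i = 0
        · exact .inr h0
        · left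
          have := hjmax i
          rw [v_eq P h0, v_eq P hj0, exp_le_exp] at this
          omega
      have h3 : P.ord φj ≤ 0 := by
        rw [v_eq P hj0, ← exp_zero, exp_le_exp] at hj1; omega
      have ex : P.ord φj ≤ P.ord x := by
        rcases h2 1 with h | h
        · exact h
        · have : x = 0 := h
          rw [this, ord_zero]; exact h3
      have ey : P.ord φj ≤ P.ord y := by
        rcases h2 2 with h | h
        · exact h
        · have : y = 0 := h
          rw [this, ord_zero]; exact h3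
      have e2 : P.ord φj = 0 ∨ P.ord φj = P.ord x ∨ P.ord φj = P.ord y := by
        rw [hφj]; fin_cases j <;> simp
      show P.ord φj = -mapDiv k ![(1 : K), x, y] P
      omega
    obtain ⟨m, hm⟩ : ∃ m : ℕ, (pole (k := k) z).deg + 2 * genus k K + M.d + 2 ≤ m :=
      ⟨((pole (k := k) z).deg + 2 * genus k K + M.d + 2).toNat, by omega⟩
    have hp := deg_nonneg (pole_nonneg (k := k) z)
    have hmd : (m : ℤ) ≤ m * M.d := le_mul_of_one_le_right (Int.natCast_nonneg _) (by omega)
    have hdeg := M.deg_eq hK hxy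
    have hW := ((M.two_mul_genus_le_and_iff hK hxy m (by omega) (by omega)).2).1 heq
    -- `w` with exact order at `P`, killing the poles of `z`
    have hPd := deg_pos hK P
    have hnle : ¬ L (m • D - pole (k := k) z) ≤ L (m • D - pole (k := k) z - Finsupp.single P 1) := fun h => by
      have := finiteDimensional_L hK (m • D - pole (k := k) z - Finsupp.single P 1)
      have h1 : ell (m • D - pole (k := k) z) ≤ ell (m • D - pole (k := k) z - Finsupp.single P 1) :=
        Submodule.finrank_mono h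
      have h2 := ell_eq_of_deg_ge hK (D := m • D - pole (k := k) z)
        (by rw [deg_sub, deg_nsmul, hdeg]; omega)
      obtain ⟨W, hW⟩ := exists_canonical hK
      have h3 := riemann_roch hK hW (m • D - pole (k := k) z - Finsupp.single P 1)
      have h4 := ell_mono hK (show W - (m • D - pole (k := k) z) ≤
        W - (m • D - pole (k := k) z - Finsupp.single P 1) from
          sub_le_sub_left (sub_le_self _ (Finsupp.single_nonneg.2 zero_le_one)) W)
      have h5 := ell_sub_le hK (W - (m • D - pole (k := k) z))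
        (W - (m • D - pole (k := k) z - Finsupp.single P 1))
        (sub_le_sub_left (sub_le_self _ (Finsupp.single_nonneg.2 zero_le_one)) W)
      have h6 : ell (W - (m • D - pole (k := k) z - Finsupp.single P 1)) = 0 ∨
          2 * (genus k K : ℤ) - 2 - ((m • D - pole (k := k) z).deg - P.deg) ≥ 0 := by
        by_cases hneg : (W - (m • D - pole (k := k) z - Finsupp.single P 1)).deg < 0
        · exact .inl (ell_eq_zero_of_deg_neg hK hneg)
        · right
          rw [deg_sub, deg_sub, deg_single, one_mul, (canonical_ell_deg hK hW).2] at hneg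
          omega
      rw [deg_sub, deg_single, one_mul] at h3
      rcases h6 with h6 | h6
      · omega
      · have h7 : (ell (W - (m • D - pole (k := k) z - Finsupp.single P 1)) : ℤ) ≤
            max 0 ((W - (m • D - pole (k := k) z - Finsupp.single P 1)).deg + 1) := by
          rcases Nat.eq_zero_or_pos (ell (W - (m • D - pole (k := k) z - Finsupp.single P 1))) with h | h
          · rw [h]; exact le_max_left _ _
          · obtain ⟨u, hu, hE⟩ := exists_effective_of_ell_pos hK h
            have h8 := ell_le_deg_add_one hK hE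
            rw [deg_add, deg_div hK, ell_add_div hK _ hu] at h8
            exact le_max_of_le_right (by simpa using h8)
        rw [deg_sub W, (canonical_ell_deg hK hW).2, deg_sub (m • D - pole (k := k) z), deg_single,
          one_mul] at h7
        have h9 : 2 * (genus k K : ℤ) ≤ (m • D - pole (k := k) z).deg := by
          rw [deg_sub, deg_nsmul, hdeg]; omega
        omega
    obtain ⟨w, hw, hwn⟩ := SetLike.not_le_iff_exists.1 hnle
    have hw0 : w ≠ 0 := fun e => hwn (e ▸ Submodule.zero_mem _)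
    have hPz : pole (k := k) z P = 0 := by
      rw [pole_apply hK]; have := (v_le_one_iff P z).1 hz; omega
    have hwo : P.ord w = (m : ℤ) * P.ord φj := by
      by_contra hne
      have h1 := (mem_L_iff hw0).1 hw P
      rw [Finsupp.sub_apply, hPz, Finsupp.smul_apply, nsmul_eq_mul, sub_zero] at h1
      refine hwn ((mem_L_iff hw0).2 fun R => ?_)
      have h2 := (mem_L_iff hw0).1 hw R
      rw [Finsupp.sub_apply]
      rcases eq_or_ne R P with rfl | hR
      · rw [Finsupp.single_eq_same, Finsupp.sub_apply, hPz, Finsupp.smul_apply, nsmul_eq_mul,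
          sub_zero]
        rw [hjo, mul_neg] at hne
        omega
      · rw [Finsupp.single_eq_of_ne hR, sub_zero]; exact h2
    have hwL : w ∈ L (m • D) := L_mono (sub_le_self _ (pole_nonneg z)) hw
    have hzwL : z * w ∈ L (m • D) := by
      have := mul_mem_L_add (mem_L_pole hK z) hw
      rwa [add_sub_cancel] at this
    have hA : ∀ f ∈ M.W m, f / φj ^ m ∈
        Algebra.adjoin k (Set.range fun i => ![(1 : K), x, y] i / φj) := by
      intro f hf
      set A := Algebra.adjoin k (Set.range fun i => ![(1 : K), x, y] i / φj)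
      have hmem : ∀ i, ![(1 : K), x, y] i / φj ∈ A := fun i => Algebra.subset_adjoin ⟨i, rfl⟩
      induction hf using Submodule.span_induction with
      | mem f hf =>
        obtain ⟨⟨l, i⟩, rfl⟩ := hf
        have hi := i.2
        have e : M.fam m ⟨l, i⟩ / φj ^ m = (M.h / φj) ^ (i : ℕ) * (y / φj) ^ (l : ℕ) *
            ((1 : K) / φj) ^ (m - (i : ℕ) - (l : ℕ)) := by
          simp only [Model.fam, div_pow, one_pow]
          rw [div_mul_div_comm, div_mul_div_comm, mul_one, ← pow_add, ← pow_add,
            show (i : ℕ) + (l : ℕ) + (m - (i : ℕ) - (l : ℕ)) = m by omega]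
        rw [e]
        refine MulMemClass.mul_mem (MulMemClass.mul_mem (pow_mem ?_ _) (pow_mem (hmem 2) _)) (pow_mem (hmem 0) _)
        rw [M.eq, add_div, Algebra.smul_def, Algebra.smul_def, mul_div_assoc, mul_div_assoc]
        exact add_mem (MulMemClass.mul_mem (A.algebraMap_mem _) (hmem 1)) (MulMemClass.mul_mem (A.algebraMap_mem _) (hmem 2))
      | zero => rw [zero_div]; exact zero_mem _
      | add a b _ _ ha hb => rw [add_div]; exact add_mem ha hb
      | smul c a _ ha => rw [Algebra.smul_def, mul_div_assoc]; exact MulMemClass.mul_mem (A.algebraMap_mem c) ha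
    refine ⟨j, hj0, hjmax, z * w / φj ^ m, hA _ (hW ▸ hzwL), w / φj ^ m, hA _ (hW ▸ hwL), ?_,
      (mul_div_assoc ..).symm⟩
    rw [v_eq_one_iff P (div_ne_zero hw0 (pow_ne_zero _ hj0)), div_eq_mul_inv,
      ord_mul P hw0 (inv_ne_zero (pow_ne_zero _ hj0)), ord_inv, ord_pow, hwo, add_neg_cancel]
  · intro hns
    set m := 2 * genus k K + M.d
    have hmd : (m : ℤ) ≤ m * M.d := le_mul_of_one_le_right (Int.natCast_nonneg _) (by omega)
    refine ((M.two_mul_genus_le_and_iff hK hxy m (by omega) (by omega)).2).2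
      (le_antisymm (M.W_le_L hK m) fun f hf => ?_)
    rcases eq_or_ne f 0 with rfl | hf0
    · exact zero_mem _
    have hfQ := (mem_L_iff hf0).1 hf
    obtain ⟨n₀, hn₀⟩ := M.exists_mem_W_of_nonsingular hK hxy hns 1 (.inl rfl) f fun P hP => by
      have h1 := (v_le_one_iff P x).1 (by simpa using hP 1)
      have h2 := (v_le_one_iff P y).1 (by simpa using hP 2)
      have h3 := mapDiv_plane hK x y P
      have h4 := hfQ P
      rw [Finsupp.smul_apply, show mapDiv k ![(1 : K), x, y] P = 0 by omega, smul_zero, add_zero] at h4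
      exact (v_le_one_iff P f).2 h4
    rw [one_pow, mul_one] at hn₀
    obtain ⟨n, hn⟩ := M.exists_mem_W_of_nonsingular hK hxy hns M.h (.inr rfl) (f / M.h ^ m) fun P hP => by
      have h1 : P.1 ((1 : K) / M.h) ≤ 1 := hP 0
      rw [one_div, v_le_one_iff, ord_inv] at h1
      obtain ⟨-, -, h3⟩ := M.ord_facts hK P
      have h4 := hfQ P
      rw [Finsupp.smul_apply, nsmul_eq_mul, show mapDiv k ![(1 : K), x, y] P = -P.ord M.h by omega,
        mul_neg] at h4
      rw [v_le_one_iff, div_eq_mul_inv, ord_mul P hf0 (inv_ne_zero (pow_ne_zero _ hh0)), ord_inv,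
        ord_pow]
      omega
    -- compare
    obtain ⟨p, hp, hpe⟩ := M.exists_rep hn₀
    have hn' : f * M.h ^ n ∈ M.W (n + m) := by
      have hm1 : M.h ^ m ∈ M.W m := by
        simpa using M.monomial_mem hK hxy (i := m) (j := 0) (m := m) le_rfl
      have := M.mul_mem hK hxy hn hm1
      rwa [mul_right_comm, div_mul_cancel₀ _ (pow_ne_zero _ hh0)] at this
    obtain ⟨q, hq, hqe⟩ := M.exists_rep hn'
    have hpq : ∀ j, p j * X ^ n = q j := fun j => by
      refine sub_eq_zero.1 (M.eq_zero hK hxy (p := fun j => p j * X ^ n - q j) ?_ j)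
      simp only [map_sub, map_mul, map_pow, aeval_X, sub_mul, Finset.sum_sub_distrib]
      rw [sub_eq_zero, ← hqe, hpe, Finset.sum_mul]
      exact Finset.sum_congr rfl fun j _ => by ring
    rw [hpe]
    refine M.mem_W fun j i hi => ?_
    have := hq j (i + n) (by rw [← hpq, coeff_mul_X_pow]; exact hi)
    omega

end Groth.Agent.FFLib
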