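import Groth.Agent.FFLib.ASDiff
import Groth.Agent.FFLib.RR

/-!
# Repartition classes of quadratic Artin-Schreier curves with finite poles
-/

open Module WithZero Polynomial

namespace Groth.Agent.FFLib

open FunFld

universe u

variable {k : Type u} [Field k] {K : Type*} [Field K] [Algebra k K] [Algebra (RatFunc k) K]
  [IsScalarTower k (RatFunc k) K]

lemma ord_finprod {L : Type*} [Field L] [Algebra k L] (P : Place k L) {ι : Type*} (S : Finset ι) (g : ι → L)
    (hg : ∀ i ∈ S, g i ≠ 0) : P.ord (∏ i ∈ S, g i) = ∑ i ∈ S, P.ord (g i) := by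
  classical
  induction S using Finset.induction_on with
  | empty => simp
  | insert a S ha ih =>
    rw [Finset.prod_insert ha, Finset.sum_insert ha, ord_mul P (hg a (Finset.mem_insert_self a S))
      (Finset.prod_ne_zero_iff.2 fun i hi => hg i (Finset.mem_insert_of_mem hi)),
      ih fun i hi => hg i (Finset.mem_insert_of_mem hi)]

lemma ratX_sub_C (α : k) : (RatFunc.X : RatFunc k) - RatFunc.C α = algebraMap k[X] (RatFunc k) (X - C α) := by
  rw [map_sub, RatFunc.algebraMap_X, RatFunc.algebraMap_C]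

lemma ratX_sub_C_ne (α : k) : (RatFunc.X : RatFunc k) - RatFunc.C α ≠ 0 := by
  rw [ratX_sub_C]; exact iota_ne (X_sub_C_ne_zero α)

lemma exists_place_ratX (α : k) : ∃ P : Place k (RatFunc k), P.1 ((RatFunc.X : RatFunc k) - RatFunc.C α) < 1 := by
  obtain ⟨R, hR⟩ := exists_zero_of_tr fg1_ratFunc (x := (RatFunc.X : RatFunc k) - RatFunc.C α) (fun halg => by
    obtain ⟨c, hc⟩ := (isFunctionField_ratFunc (k := k)).2 _ halg
    rw [ratX_sub_C, IsScalarTower.algebraMap_apply k k[X] (RatFunc k)] at hc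
    exact one_ne_zero ((natDegree_X_sub_C α).symm.trans ((RatFunc.algebraMap_injective k hc) ▸ natDegree_C c)))
  exact ⟨R, (v_lt_one_iff R (ratX_sub_C_ne α)).2 hR⟩

lemma ord_at_ratX {P : Place k (RatFunc k)} {α : k} (hP : P.1 ((RatFunc.X : RatFunc k) - RatFunc.C α) < 1) :
    P.ord ((RatFunc.X : RatFunc k) - RatFunc.C α) = 1 := by
  rw [ratX_sub_C] at hP ⊢
  exact ord_irreducible (irreducible_X_sub_C α) hP

lemma v_at_ne {P : Place k (RatFunc k)} {α β : k} (hP : P.1 ((RatFunc.X : RatFunc k) - RatFunc.C α) < 1) (hne : β ≠ α) :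
    P.1 ((RatFunc.X : RatFunc k) - RatFunc.C β) = 1 := by
  rw [show (RatFunc.X : RatFunc k) - RatFunc.C β =
    algebraMap k (RatFunc k) (α - β) + ((RatFunc.X : RatFunc k) - RatFunc.C α) by
      rw [map_sub, RatFunc.algebraMap_eq_C]; ring,
    Valuation.map_add_eq_of_lt_left, v_const P (sub_ne_zero.2 (Ne.symm hne))]
  rw [v_const P (sub_ne_zero.2 (Ne.symm hne))]
  exact hP

lemma eq_of_v_lt {P : Place k (RatFunc k)} {α β : k} (hP : P.1 ((RatFunc.X : RatFunc k) - RatFunc.C α) < 1)
    (hQ : P.1 ((RatFunc.X : RatFunc k) - RatFunc.C β) < 1) : β = α := by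
  by_contra hne
  rw [v_at_ne hP hne] at hQ
  exact lt_irrefl _ hQ

variable {f : RatFunc k} {B : Finset k} {d : k → ℕ} (hd : ∀ β ∈ B, Odd (d β))
  (hpole : ∀ (p : Place k (RatFunc k)) (β : k), β ∈ B →
    p.1 ((RatFunc.X : RatFunc k) - RatFunc.C β) < 1 → p.ord f = -(d β : ℤ))
  (hint : ∀ p : Place k (RatFunc k), (∀ β ∈ B, 1 ≤ p.1 ((RatFunc.X : RatFunc k) - RatFunc.C β)) → p.1 f ≤ 1)

include hint in
lemma exists_of_neg {P : Place k (RatFunc k)} (hP : P.ord f < 0) :
    ∃ α ∈ B, P.1 ((RatFunc.X : RatFunc k) - RatFunc.C α) < 1 := by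
  by_contra hall
  simp only [not_exists, not_and, not_lt] at hall
  have := (v_le_one_iff P f).1 (hint P hall)
  omega

include hd hpole hint in
lemma odd_of_neg {P : Place k (RatFunc k)} (hP : P.ord f < 0) : Odd (P.ord f) := by
  obtain ⟨α, hα, hlt⟩ := exists_of_neg hint hP
  rw [hpole P α hα hlt]
  exact Odd.neg (by exact_mod_cast hd α hα)

include hd hpole in
lemma asShift_at {P : Place k (RatFunc k)} {α : k} (hα : α ∈ B)
    (hP : P.1 ((RatFunc.X : RatFunc k) - RatFunc.C α) < 1) : asShift f P = (((d α - 1) / 2 + 1 : ℕ) : ℤ) := by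
  obtain ⟨r, hr⟩ := hd α hα
  rw [asShift, hpole P α hα hP, if_pos (by omega)]
  omega

include hint in
lemma asShift_off {P : Place k (RatFunc k)}
    (hP : ∀ α ∈ B, ¬ P.1 ((RatFunc.X : RatFunc k) - RatFunc.C α) < 1) : asShift f P = 0 := by
  rw [asShift, if_neg fun h => ?_]
  obtain ⟨α, hα, hlt⟩ := exists_of_neg hint h
  exact hP α hα hlt

include hd hpole hint in
/-- The genus. -/
theorem genus_as_finite (h2 : ringChar k = 2) (hK : IsFunctionField k K) (hdeg : finrank (RatFunc k) K = 2) {y : K}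
    (hy : y ∉ Set.range (algebraMap (RatFunc k) K)) (heq : y ^ 2 + y = algebraMap (RatFunc k) K f) :
    (genus k K : ℤ) = (∑ α ∈ B, (((d α - 1) / 2 + 1 : ℕ) : ℤ)) - 1 := by
  classical
  obtain ⟨Pi, hPi⟩ := exists_infPlace (k := k)
  choose Pt hPt using exists_place_ratX (k := k)
  set D : Divisor k (RatFunc k) := ∑ α ∈ B, Finsupp.single (Pt α) (((d α - 1) / 2 + 1 : ℕ) : ℤ) with hD
  have hdeg1 : ∀ α, (Pt α).deg = 1 := fun α => by
    have hd0 := deg_div (fg1_ratFunc (k := k)) ((RatFunc.X : RatFunc k) - RatFunc.C α)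
    rw [show FunFld.div k ((RatFunc.X : RatFunc k) - RatFunc.C α) = Finsupp.single (Pt α) 1 - Finsupp.single Pi 1 from
      Finsupp.ext fun P => by
      rw [div_apply fg1_ratFunc, Finsupp.sub_apply]
      rcases lt_or_ge (P.ord (RatFunc.X : RatFunc k)) 0 with hP | hP
      · have hne : P ≠ Pt α := fun e => by
          have := fin_of_irreducible (irreducible_X_sub_C α) (ratX_sub_C α ▸ hPt α)
          rw [← e] at this; omega
        rw [Finsupp.single_eq_of_ne hne, place_eq_inf hPi hP, Finsupp.single_eq_same, ratX_sub_C,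
          ord_poly_inf' Pi hPi (X_sub_C_ne_zero α), natDegree_X_sub_C]
        norm_num
      · have hne : P ≠ Pi := fun e => by rw [e] at hP; omega
        rw [Finsupp.single_eq_of_ne hne]
        by_cases h : P = Pt α
        · rw [h, Finsupp.single_eq_same, ord_at_ratX (hPt α), sub_zero]
        · rw [Finsupp.single_eq_of_ne h, sub_zero]
          have hle : P.1 ((RatFunc.X : RatFunc k) - RatFunc.C α) ≤ 1 := by rw [ratX_sub_C]; exact v_poly_le P hP _
          refine (v_eq_one_iff P (ratX_sub_C_ne α)).1 (le_antisymm hle (not_lt.1 fun hlt => h ?_))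
          exact place_eq_fin (irreducible_X_sub_C α) (ratX_sub_C α ▸ hPt α) (ratX_sub_C α ▸ hlt),
      deg_sub, deg_single, deg_single, (inf_ord_deg Pi hPi).2] at hd0
    push_cast at hd0
    omega
  have hDP : ∀ P, D P = asShift f P := fun P => by
    rw [hD, Finsupp.finsetSum_apply]
    by_cases hex : ∃ α ∈ B, P.1 ((RatFunc.X : RatFunc k) - RatFunc.C α) < 1
    · obtain ⟨α, hα, hlt⟩ := hex
      have hPa : P = Pt α := place_eq_fin (irreducible_X_sub_C α) (ratX_sub_C α ▸ hPt α) (ratX_sub_C α ▸ hlt)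
      rw [asShift_at hd hpole hα hlt, Finset.sum_eq_single_of_mem α hα fun β _ hne => ?_, hPa, Finsupp.single_eq_same]
      rw [Finsupp.single_eq_of_ne]
      intro e
      exact hne (eq_of_v_lt hlt (e ▸ hPt β))
    · simp only [not_exists, not_and] at hex
      rw [asShift_off hint hex]
      refine Finset.sum_eq_zero fun β hβ => ?_
      rw [Finsupp.single_eq_of_ne]
      intro e
      exact hex β hβ (e ▸ hPt β)
  have hg := genus_of_split hdeg hK hy (v := (1 : RatFunc k)) (g := f) (by rw [map_one, one_mul, heq]) D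
    fun P m a b => by
      rw [hDP P, asShift]
      exact split_as hdeg h2 hy heq P (fun h => odd_of_neg hd hpole hint h) m a b
  rw [hg, hD, show Divisor.deg (∑ α ∈ B, Finsupp.single (Pt α) (((d α - 1) / 2 + 1 : ℕ) : ℤ)) =
    ∑ α ∈ B, Divisor.deg (Finsupp.single (Pt α) (((d α - 1) / 2 + 1 : ℕ) : ℤ)) from map_sum degHom _ _]
  congr 1
  exact Finset.sum_congr rfl fun α _ => by rw [deg_single, hdeg1 α]; simp

end Groth.Agent.FFLib
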