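import Groth.Agent.FFLib.Hyper
import Mathlib.FieldTheory.Perfect

/-!
# Reduced Artin-Schreier radicands on the line
-/

open WithZero Module Polynomial

namespace Groth.Agent.FFLib

open FunFld

variable {k : Type*} [Field k]

lemma exists_sq_mul_squarefree : ∀ f : k[X], f ≠ 0 → ∃ s r : k[X], s ≠ 0 ∧ Squarefree r ∧ f = s ^ 2 * r := by
  intro f
  induction hd : f.natDegree using Nat.strong_induction_on generalizing f with | _ d ih => ?_
  intro hf
  by_cases hsq : Squarefree f
  · exact ⟨1, f, one_ne_zero, hsq, by ring⟩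
  · obtain ⟨x, ⟨g, rfl⟩, hx⟩ : ∃ x, x * x ∣ f ∧ ¬ IsUnit x := by
      by_contra h
      push Not at h
      exact hsq h
    have hx0 : x ≠ 0 := fun e => hf (by rw [e]; ring)
    have hg0 : g ≠ 0 := fun e => hf (by rw [e]; ring)
    have hxd : 0 < x.natDegree := by
      rw [Nat.pos_iff_ne_zero]
      intro h0
      obtain ⟨a, rfl⟩ := natDegree_eq_zero.1 h0
      exact hx (isUnit_C.2 (isUnit_iff_ne_zero.2 (fun e => hx0 (by rw [e, map_zero]))))
    rw [natDegree_mul (mul_ne_zero hx0 hx0) hg0, natDegree_mul hx0 hx0] at hd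
    obtain ⟨s, r, hs, hr, e⟩ := ih g.natDegree (by omega) g rfl hg0
    exact ⟨x * s, r, mul_ne_zero hx0 hs, hr, by rw [e]; ring⟩

lemma place_eq_inf {P R : Place k (RatFunc k)} (hP : P.ord (RatFunc.X : RatFunc k) < 0)
    (hR : R.ord (RatFunc.X : RatFunc k) < 0) : R = P := by
  refine place_ext_of_le R P fun y hy => ?_
  rcases eq_or_ne y 0 with rfl | hy0
  · simp
  obtain ⟨a, b, ha, hb, rfl⟩ := exists_num_den hy0
  rw [v_le_one_iff, div_eq_mul_inv, ord_mul _ (iota_ne ha) (inv_ne_zero (iota_ne hb)), ord_inv,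
    ord_poly_inf' R hR ha, ord_poly_inf' R hR hb] at hy
  rw [v_le_one_iff, div_eq_mul_inv, ord_mul _ (iota_ne ha) (inv_ne_zero (iota_ne hb)), ord_inv,
    ord_poly_inf' P hP ha, ord_poly_inf' P hP hb]
  exact hy

lemma place_eq_fin {P R : Place k (RatFunc k)} {p : k[X]} (hp : Irreducible p)
    (hP : P.1 (algebraMap k[X] (RatFunc k) p) < 1) (hR : R.1 (algebraMap k[X] (RatFunc k) p) < 1) : R = P := by
  refine place_ext_of_le R P fun y hy => ?_
  rcases eq_or_ne y 0 with rfl | hy0
  · simp
  obtain ⟨a, b, ha, hb, rfl⟩ := exists_num_den hy0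
  obtain ⟨i, a', ha', rfl⟩ := WfDvdMonoid.max_power_factor ha hp
  obtain ⟨j, b', hb', rfl⟩ := WfDvdMonoid.max_power_factor hb hp
  have hval : ∀ {S : Place k (RatFunc k)}, S.1 (algebraMap k[X] (RatFunc k) p) < 1 → ∀ (n : ℕ) (c : k[X]), ¬ p ∣ c →
      p ^ n * c ≠ 0 → S.ord (algebraMap k[X] (RatFunc k) (p ^ n * c)) = n := by
    intro S hS n c hc h0
    rw [map_mul, map_pow, ord_mul S (pow_ne_zero _ (iota_ne hp.ne_zero)) (iota_ne (right_ne_zero_of_mul h0)),
      ord_pow, ord_irreducible hp hS, ord_eq_zero_of_not_dvd hp hS hc]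
    ring
  rw [v_le_one_iff, div_eq_mul_inv, ord_mul _ (iota_ne ha) (inv_ne_zero (iota_ne hb)), ord_inv,
    hval hR i a' ha' ha, hval hR j b' hb' hb] at hy
  rw [v_le_one_iff, div_eq_mul_inv, ord_mul _ (iota_ne ha) (inv_ne_zero (iota_ne hb)), ord_inv,
    hval hP i a' ha' ha, hval hP j b' hb' hb]
  exact hy

variable [PerfectField k] [CharP k 2]

lemma exists_sqrt_char_two (c : k) : ∃ d : k, d ^ 2 = c := by
  haveI : Fact (Nat.Prime 2) := ⟨Nat.prime_two⟩
  haveI : ExpChar k 2 := ExpChar.prime Nat.prime_two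
  obtain ⟨d, hd⟩ := (PerfectRing.bijective_frobenius (R := k) (p := 2)).2 c
  exact ⟨d, by simpa [frobenius_def] using hd⟩

lemma exists_sqrt_mod {p : k[X]} (hp : Irreducible p) (c : k[X]) :
    ∃ q : k[X], q.degree < p.degree ∧ p ∣ q ^ 2 + c := by
  haveI : Fact (Irreducible p) := ⟨hp⟩
  haveI : FiniteDimensional k (AdjoinRoot p) := (AdjoinRoot.powerBasis hp.ne_zero).finite
  haveI : PerfectField (AdjoinRoot p) := Algebra.IsAlgebraic.perfectField (K := k)
  haveI : CharP (AdjoinRoot p) 2 := charP_of_injective_algebraMap (algebraMap k (AdjoinRoot p)).injective 2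
  haveI : Fact (Nat.Prime 2) := ⟨Nat.prime_two⟩
  haveI : ExpChar (AdjoinRoot p) 2 := ExpChar.prime Nat.prime_two
  obtain ⟨d, hd⟩ := (PerfectRing.bijective_frobenius (R := AdjoinRoot p) (p := 2)).2 (AdjoinRoot.mk p c)
  obtain ⟨q, rfl⟩ := AdjoinRoot.mk_surjective d
  replace hd : AdjoinRoot.mk p q ^ 2 = AdjoinRoot.mk p c := hd
  rw [← map_pow] at hd
  refine ⟨q % p, degree_mod_lt _ hp.ne_zero, ?_⟩
  rw [← AdjoinRoot.mk_eq_zero, map_add, map_pow]
  have hq : AdjoinRoot.mk p (q % p) = AdjoinRoot.mk p q := by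
    rw [AdjoinRoot.mk_eq_mk]
    exact ⟨-(q / p), by linear_combination EuclideanDomain.mod_add_div q p⟩
  rw [hq, ← map_pow, hd, CharTwo.add_self_eq_zero]

/-- lowering an even pole by `g ↦ g² + g` -/
lemma exists_step (f : RatFunc k) (P : Place k (RatFunc k)) (m : ℕ) (hm : 0 < m) (hf : P.ord f = -(2 * m : ℤ)) :
    ∃ g : RatFunc k, P.1 (f + g ^ 2 + g) < P.1 f ∧ ∀ R : Place k (RatFunc k), R ≠ P → R.1 g ≤ 1 := by
  have hf0 : f ≠ 0 := fun e => by rw [e, ord_zero] at hf; omega
  obtain ⟨a, b, ha, hb, rfl⟩ := exists_num_den hf0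
  rw [div_eq_mul_inv, ord_mul P (iota_ne ha) (inv_ne_zero (iota_ne hb)), ord_inv] at hf
  have h2 : (2 : k[X]) = 0 := by
    rw [show (2 : k[X]) = C 2 by rw [map_ofNat], show (2 : k) = 0 by exact_mod_cast CharP.cast_eq_zero k 2, map_zero]
  rcases lt_or_ge (P.ord (RatFunc.X : RatFunc k)) 0 with hX | hX
  · rw [ord_poly_inf' P hX ha, ord_poly_inf' P hX hb] at hf
    obtain ⟨c, hc⟩ := exists_sqrt_char_two (a.leadingCoeff / b.leadingCoeff)
    refine ⟨algebraMap k[X] (RatFunc k) (C c * X ^ m), ?_, fun R hR => ?_⟩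
    · set N : k[X] := a + b * (C c * X ^ m) ^ 2 + b * (C c * X ^ m) with hN
      have hnum : algebraMap k[X] (RatFunc k) a / algebraMap k[X] (RatFunc k) b +
          algebraMap k[X] (RatFunc k) (C c * X ^ m) ^ 2 + algebraMap k[X] (RatFunc k) (C c * X ^ m) =
          algebraMap k[X] (RatFunc k) N * (algebraMap k[X] (RatFunc k) b)⁻¹ := by
        rw [hN]
        simp only [map_add, map_mul, map_pow]
        field_simp [iota_ne hb]
      rw [hnum, div_eq_mul_inv]
      rcases eq_or_ne N 0 with h0 | h0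
      · rw [h0, map_zero, zero_mul, map_zero]
        exact zero_lt_iff.2 (v_ne_zero P (mul_ne_zero (iota_ne ha) (inv_ne_zero (iota_ne hb))))
      rw [v_eq P (mul_ne_zero (iota_ne h0) (inv_ne_zero (iota_ne hb))),
        v_eq P (mul_ne_zero (iota_ne ha) (inv_ne_zero (iota_ne hb))), exp_lt_exp,
        ord_mul P (iota_ne h0) (inv_ne_zero (iota_ne hb)), ord_mul P (iota_ne ha) (inv_ne_zero (iota_ne hb)),
        ord_poly_inf' P hX h0, ord_poly_inf' P hX ha]
      have hda : a.natDegree = b.natDegree + 2 * m := by omega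
      have hle : N.natDegree ≤ a.natDegree := by
        rw [hN]
        refine (natDegree_add_le _ _).trans (max_le ((natDegree_add_le _ _).trans (max_le le_rfl ?_)) ?_)
        · refine natDegree_mul_le.trans ?_
          have : ((C c * X ^ m) ^ 2).natDegree ≤ 2 * m := natDegree_pow_le.trans (Nat.mul_le_mul_left 2 (natDegree_C_mul_X_pow_le c m))
          omega
        · refine natDegree_mul_le.trans ?_
          have := natDegree_C_mul_X_pow_le c m
          omega
      have hco : N.coeff a.natDegree = 0 := by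
        have e1 : (b * (C c * X ^ m) ^ 2).coeff a.natDegree = b.leadingCoeff * c ^ 2 := by
          rw [show b * (C c * X ^ m) ^ 2 = C (c ^ 2) * b * X ^ (2 * m) by rw [map_pow]; ring, hda,
            coeff_mul_X_pow, coeff_C_mul, leadingCoeff, mul_comm]
        have e2 : (b * (C c * X ^ m)).coeff a.natDegree = 0 := by
          refine coeff_eq_zero_of_natDegree_lt (natDegree_mul_le.trans_lt ?_)
          have := natDegree_C_mul_X_pow_le c m
          omega
        rw [hN, coeff_add, coeff_add, e1, e2, add_zero, hc, mul_div_cancel₀ _ (leadingCoeff_ne_zero.2 hb), coeff_natDegree,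
          CharTwo.add_self_eq_zero]
      have hne : N.natDegree ≠ a.natDegree := fun e => h0 (leadingCoeff_eq_zero.1 (by rw [leadingCoeff, e, hco]))
      omega
    · have hRX : 0 ≤ R.ord (RatFunc.X : RatFunc k) := not_lt.1 fun h => hR (place_eq_inf hX h)
      exact v_poly_le R hRX _
  · obtain ⟨p, hp, hv⟩ := exists_irreducible P hX
    obtain ⟨i, a', ha', rfl⟩ := WfDvdMonoid.max_power_factor ha hp
    obtain ⟨j, b', hb', rfl⟩ := WfDvdMonoid.max_power_factor hb hp
    have ha'0 := right_ne_zero_of_mul ha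
    have hb'0 := right_ne_zero_of_mul hb
    have hp0 := iota_ne hp.ne_zero
    rw [map_mul, map_mul, map_pow, map_pow, ord_mul P (pow_ne_zero _ hp0) (iota_ne ha'0),
      ord_mul P (pow_ne_zero _ hp0) (iota_ne hb'0), ord_pow, ord_pow, ord_irreducible hp hv,
      ord_eq_zero_of_not_dvd hp hv ha', ord_eq_zero_of_not_dvd hp hv hb'] at hf
    obtain rfl : j = i + 2 * m := by omega
    obtain ⟨u, w, huw⟩ := hp.coprime_iff_not_dvd.2 hb'
    obtain ⟨q, hqd, s, hs⟩ := exists_sqrt_mod hp (w * a')
    refine ⟨algebraMap k[X] (RatFunc k) q * (algebraMap k[X] (RatFunc k) p ^ m)⁻¹, ?_, fun R hR => ?_⟩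
    · obtain ⟨r, hm'⟩ : ∃ r, m = r + 1 := ⟨m - 1, by omega⟩
      set M : k[X] := b' * s + u * a' + q * b' * p ^ r with hM
      have hdiv : p * M = a' + q ^ 2 * b' + q * b' * p ^ m := by
        rw [hM, hm']
        linear_combination (-b') * hs + a' * huw
      have hnum : algebraMap k[X] (RatFunc k) (p ^ i * a') / algebraMap k[X] (RatFunc k) (p ^ (i + 2 * m) * b') +
          (algebraMap k[X] (RatFunc k) q * (algebraMap k[X] (RatFunc k) p ^ m)⁻¹) ^ 2 +
            algebraMap k[X] (RatFunc k) q * (algebraMap k[X] (RatFunc k) p ^ m)⁻¹ =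
          algebraMap k[X] (RatFunc k) (p * M) * (algebraMap k[X] (RatFunc k) (p ^ (2 * m) * b'))⁻¹ := by
        rw [hdiv]
        simp only [map_add, map_mul, map_pow]
        have := iota_ne hb'0
        rw [pow_add, pow_mul]
        field_simp
        ring
      have hfeq : algebraMap k[X] (RatFunc k) (p ^ i * a') / algebraMap k[X] (RatFunc k) (p ^ (i + 2 * m) * b') =
          algebraMap k[X] (RatFunc k) a' * (algebraMap k[X] (RatFunc k) (p ^ (2 * m) * b'))⁻¹ := by
        simp only [map_mul, map_pow, pow_add]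
        have := iota_ne hb'0
        field_simp
      have hva : P.1 (algebraMap k[X] (RatFunc k) a') = 1 :=
        (v_eq_one_iff P (iota_ne ha'0)).2 (ord_eq_zero_of_not_dvd hp hv ha')
      have hlt : P.1 (algebraMap k[X] (RatFunc k) (p * M)) < 1 := by
        rw [map_mul, map_mul]
        exact mul_lt_one_of_nonneg_of_lt_one_left zero_le hv (v_poly_le P hX M)
      rw [hnum, hfeq, map_mul P.1, map_mul P.1, hva, one_mul]
      exact (mul_lt_mul_of_pos_right hlt (zero_lt_iff.2 (v_ne_zero P (inv_ne_zero (iota_ne (mul_ne_zero (pow_ne_zero _ hp.ne_zero) hb'0)))))).trans_eq (one_mul _)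
    · rcases eq_or_ne q 0 with rfl | hq0
      · simp
      rw [v_le_one_iff, ord_mul R (iota_ne hq0) (inv_ne_zero (pow_ne_zero _ hp0)), ord_inv, ord_pow]
      rcases lt_or_ge (R.ord (RatFunc.X : RatFunc k)) 0 with hRX | hRX
      · rw [ord_poly_inf' R hRX hq0, ord_poly_inf' R hRX hp.ne_zero]
        have hlt := natDegree_lt_natDegree hq0 hqd
        have : (p.natDegree : ℤ) ≤ m * p.natDegree := le_mul_of_one_le_left (Int.natCast_nonneg _) (by omega)
        linarith [Int.ofNat_lt.2 hlt]
      · have hp1 : R.ord (algebraMap k[X] (RatFunc k) p) = 0 := le_antisymm (not_lt.1 fun h =>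
          hR (place_eq_fin hp hv ((v_lt_one_iff R hp0).2 h))) (ord_poly_nonneg R hRX p)
        rw [hp1, mul_zero, neg_zero, add_zero]
        exact ord_poly_nonneg R hRX q

/-- every coset of `{g² + g}` has a representative with odd poles only -/
theorem exists_odd_poles (f : RatFunc k) :
    ∃ g : RatFunc k, ∀ P : Place k (RatFunc k), P.ord (f + g ^ 2 + g) < 0 → Odd (P.ord (f + g ^ 2 + g)) := by
  classical
  have hK := fg1_ratFunc (k := k)
  induction hd : (pole (k := k) f).deg.toNat using Nat.strong_induction_on generalizing f with | _ d ih => ?_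
  by_cases hall : ∀ P : Place k (RatFunc k), P.ord f < 0 → Odd (P.ord f)
  · exact ⟨0, by simpa using hall⟩
  push Not at hall
  obtain ⟨P, hneg, heven⟩ := hall
  obtain ⟨n, hn⟩ := Int.not_odd_iff_even.1 heven
  have hm2 : P.ord f = -(2 * ((-n).toNat : ℤ)) := by omega
  obtain ⟨g, hg1, hg2⟩ := exists_step f P (-n).toNat (by omega) hm2
  set f' := f + g ^ 2 + g with hf'
  have hle : ∀ R, R ≠ P → pole (k := k) f' R ≤ pole (k := k) f R := by
    intro R hR
    rw [pole_apply hK, pole_apply hK]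
    by_cases hRf : R.ord f' < 0
    · have h1 : 1 < R.1 f' := (one_lt_v_iff R _).2 hRf
      have hle' : R.1 f' ≤ max (R.1 f) 1 := by
        refine (R.1.map_add _ _).trans (max_le ((R.1.map_add _ _).trans (max_le_max le_rfl ?_)) ((hg2 R hR).trans (le_max_right _ _)))
        rw [map_pow]; exact pow_le_one₀ zero_le (hg2 R hR)
      rcases le_max_iff.1 hle' with h | h
      · have hf0 : f ≠ 0 := fun e => by rw [e, map_zero] at h; exact absurd h (not_le.2 (zero_lt_one.trans h1))
        have hf'0 : f' ≠ 0 := fun e => by rw [e, map_zero] at h1; exact absurd h1 (not_lt.2 zero_le)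
        rw [v_eq R hf'0, v_eq R hf0, exp_le_exp] at h
        omega
      · exact absurd h (not_le.2 h1)
    · omega
  have hlt : pole (k := k) f' P < pole (k := k) f P := by
    rw [pole_apply hK, pole_apply hK]
    rcases eq_or_ne f' 0 with h0 | h0
    · rw [h0, ord_zero]; omega
    · have hf0 : f ≠ 0 := fun e => by rw [e, ord_zero] at hneg; omega
      rw [v_eq P h0, v_eq P hf0, exp_lt_exp] at hg1
      omega
  set D := pole (k := k) f - pole (k := k) f' with hD
  have hdec : (pole (k := k) f').deg < (pole (k := k) f).deg := by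
    have hpos : 0 < D.deg := by
      rw [Divisor.deg, Finsupp.sum]
      refine Finset.sum_pos' (fun R _ => mul_nonneg ?_ (Int.natCast_nonneg _)) ⟨P, ?_, mul_pos ?_ ?_⟩
      · rw [hD, Finsupp.sub_apply]
        rcases eq_or_ne R P with rfl | h
        · omega
        · have := hle R h; omega
      · rw [Finsupp.mem_support_iff, hD, Finsupp.sub_apply]; omega
      · rw [hD, Finsupp.sub_apply]; omega
      · exact_mod_cast deg_pos hK P
    rw [hD, deg_sub] at hpos
    omega
  have hnn : 0 ≤ (pole (k := k) f').deg := by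
    rw [Divisor.deg, Finsupp.sum]
    exact Finset.sum_nonneg fun R _ => mul_nonneg (by rw [pole_apply hK]; omega) (Int.natCast_nonneg _)
  obtain ⟨g', hg'⟩ := ih (pole (k := k) f').deg.toNat (by omega) f' rfl
  refine ⟨g + g', ?_⟩
  have h2 : (2 : RatFunc k) = 0 := by
    rw [← map_ofNat (algebraMap k (RatFunc k)) 2, show (2 : k) = 0 by exact_mod_cast CharP.cast_eq_zero k 2, map_zero]
  rw [show f + (g + g') ^ 2 + (g + g') = f' + g' ^ 2 + g' by rw [hf']; linear_combination (g * g') * h2]
  exact hg'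

end Groth.Agent.FFLib
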