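import Groth.Agent.FFLib.Quadratic
import Groth.Agent.GeomFFLib.Basic
import Groth.Prelude.Def_LocRes
import Groth.Prelude.Def_W4bk4goldsch23Ext

/-!
# Different exponents through Laurent expansions
-/

open WithZero

namespace Groth.Agent.FFLib.DiffExp

open FunFld LocRes

universe u

variable {k : Type u} {K K' : Type*} [Field k] [Field K] [Field K'] [Algebra k K] [Algebra K K'] [Algebra k K']
  [IsScalarTower k K K']

section Laurent

variable {F : Type*} [Field F]

/-- The derivative of a Laurent series has order at least one less. -/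
lemma v_D_le {f : LaurentSeries F} {n : ℤ} (hf : Valued.v f ≤ exp (-n)) :
    Valued.v (D F f) ≤ exp (-(n - 1)) := by
  rw [LaurentSeries.valuation_le_iff_coeff_lt_eq_zero] at hf ⊢
  intro i hi
  rw [D_coeff, hf (i + 1) (by omega), smul_zero]

/-- The derivative of a Laurent series of order divisible by the characteristic. -/
lemma v_D_le_of_zero {f : LaurentSeries F} {n : ℤ} (hf : Valued.v f ≤ exp (-n)) (hn : (n : F) = 0) :
    Valued.v (D F f) ≤ exp (-n) := by
  rw [LaurentSeries.valuation_le_iff_coeff_lt_eq_zero] at hf ⊢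
  intro i hi
  rw [D_coeff]
  rcases lt_or_eq_of_le (show i + 1 ≤ n by omega) with h | h
  · rw [hf (i + 1) h, smul_zero]
  · rw [h, zsmul_eq_mul, hn, zero_mul]

/-- The derivative of a Laurent series of order prime to the characteristic. -/
lemma v_D_eq {f : LaurentSeries F} {n : ℤ} (hf : Valued.v f = exp (-n)) (hn : (n : F) ≠ 0) :
    Valued.v (D F f) = exp (-(n - 1)) := by
  have hc : f.coeff n ≠ 0 := fun h => by
    have h' : Valued.v f ≤ exp (-(n + 1)) := by
      rw [LaurentSeries.valuation_le_iff_coeff_lt_eq_zero]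
      intro i hi
      rcases lt_or_eq_of_le (show i ≤ n by omega) with h' | h'
      · exact LaurentSeries.coeff_zero_of_lt_valuation F hf.le h'
      · rw [h', h]
    rw [hf, exp_le_exp] at h'
    omega
  refine le_antisymm (v_D_le hf.le) ?_
  by_contra hlt
  rw [not_le] at hlt
  have h' : Valued.v (D F f) ≤ exp (-n) := by
    rcases eq_or_ne (Valued.v (D F f)) 0 with h0 | h0
    · rw [h0]; exact zero_le
    · rw [← exp_log h0, exp_le_exp]
      rw [← exp_log h0, exp_lt_exp] at hlt
      omega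
  have := LaurentSeries.coeff_zero_of_lt_valuation F h' (show n - 1 < n by omega)
  rw [D_coeff, sub_add_cancel, zsmul_eq_mul] at this
  exact mul_ne_zero hn hc this

lemma cast_ne_zero_of_odd (h : (2 : F) = 0) {n : ℤ} (hn : Odd n) : (n : F) ≠ 0 := by
  obtain ⟨r, rfl⟩ := hn
  simp [h]

end Laurent

section PropLemmas

variable {F : Type*} [Field F] [Algebra k F]

omit [Algebra K K'] [IsScalarTower k K K'] in
/-- Derivatives through an expansion are proportional as the differentials are. -/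
lemma deriv_eq (φ : K →ₐ[k] LaurentSeries F) {a x h : K}
    (hd : KaehlerDifferential.D k K a = h • KaehlerDifferential.D k K x) :
    D F (φ a) = φ h * D F (φ x) := by
  let _i := φ.toRingHom.toAlgebra
  have _t : IsScalarTower k K (LaurentSeries F) := isScalarTower_exp φ
  have h1 := congrArg (dExp φ).liftKaehlerDifferential hd
  rw [map_smul, Derivation.liftKaehlerDifferential_comp_D, Derivation.liftKaehlerDifferential_comp_D] at h1
  exact h1

omit [Algebra K K'] [IsScalarTower k K K'] in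
lemma vDiff_one (φ : K →ₐ[k] LaurentSeries F) (x : K) : vDiff φ 1 x = Valued.v (D F (φ x)) := by
  rw [vDiff, map_one, one_mul]

omit [Algebra K K'] [IsScalarTower k K K'] in
lemma D_ne_zero_of_vDiff {φ : K →ₐ[k] LaurentSeries F} {x : K} (hx : vDiff φ 1 x ≠ 0) :
    KaehlerDifferential.D k K x ≠ 0 := fun h0 => by
  refine hx ?_
  rw [vDiff_one, deriv_eq φ (a := x) (x := x) (h := 0) (by rw [h0, smul_zero]), map_zero, zero_mul, map_zero]

omit [Algebra K K'] [IsScalarTower k K K'] in
/-- A uniformizer has differential of order zero. -/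
lemma vDiff_uniformizer {P : Place k K} {φ : K →ₐ[k] LaurentSeries F} (hφ : IsExpansionAt P.1 φ) {t : K}
    (ht : P.1 t = exp (-1 : ℤ)) : vDiff φ 1 t = 1 := by
  rw [vDiff_one, v_D_eq (n := 1) (by rw [hφ.1, ht]) (by simp)]
  simp

omit [Algebra K K'] [IsScalarTower k K K'] in
lemma cast_eq_zero_iff (φ : K →ₐ[k] LaurentSeries F) (n : ℕ) : (n : F) = 0 ↔ (n : K) = 0 := by
  rw [← map_natCast (algebraMap k F), _root_.map_eq_zero, ← map_natCast (algebraMap k K), _root_.map_eq_zero]

end PropLemmas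

variable (hK : IsFunctionField k K) (hg : IsGeometric k K)
  {F F' : Type*} [Field F] [Algebra k F] [Field F'] [Algebra k F']
  {P : Place k K} {Q : Place k K'} {e : ℕ} (he : IsOverWith Q P e)
  {φ : K →ₐ[k] LaurentSeries F} (hφ : IsExpansionAt P.1 φ)
  {ψ : K' →ₐ[k] LaurentSeries F'} (hψ : IsExpansionAt Q.1 ψ)

include hK hg in
omit [Algebra K K'] [IsScalarTower k K K'] in
lemma exists_smul {x : K} (hx : vDiff φ 1 x ≠ 0) (a : K) :
    ∃ h : K, KaehlerDifferential.D k K a = h • KaehlerDifferential.D k K x := by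
  obtain ⟨c, hc⟩ := (finrank_eq_one_iff_of_nonzero' _ (D_ne_zero_of_vDiff hx)).1
    (GeomFFLib.finrank_kaehler hK hg) (KaehlerDifferential.D k K a)
  exact ⟨c, hc.symm⟩

include he hφ hψ in
lemma vDiff_smul {a x h : K} (hd : KaehlerDifferential.D k K a = h • KaehlerDifferential.D k K x) :
    vDiff φ 1 a = P.1 h * vDiff φ 1 x ∧
      vDiff ψ 1 (algebraMap K K' a) = P.1 h ^ e * vDiff ψ 1 (algebraMap K K' x) := by
  constructor
  · rw [vDiff_one, vDiff_one, deriv_eq φ hd, map_mul, hφ.1]
  · let ψ₀ : K →ₐ[k] LaurentSeries F' := ψ.comp (IsScalarTower.toAlgHom k K K')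
    have := deriv_eq ψ₀ hd
    simp only [ψ₀, AlgHom.comp_apply, IsScalarTower.toAlgHom_apply] at this
    rw [vDiff_one, vDiff_one, this, map_mul, hψ.1, he]

include he hφ hψ hK hg in
/-- The different exponent does not depend on the differential. -/
theorem diffExp_congr {x a : K} (hx : vDiff φ 1 x ≠ 0) (hx' : vDiff ψ 1 (algebraMap K K' x) ≠ 0)
    (ha : vDiff φ 1 a ≠ 0) :
    vDiff ψ 1 (algebraMap K K' a) ≠ 0 ∧ diffExp φ ψ e x = diffExp φ ψ e a := by
  obtain ⟨h, hd⟩ := exists_smul hK hg hx a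
  obtain ⟨h1, h2⟩ := vDiff_smul he hφ hψ hd
  have hh : P.1 h ≠ 0 := fun h0 => ha (by rw [h1, h0, zero_mul])
  refine ⟨by rw [h2]; exact mul_ne_zero (pow_ne_zero _ hh) hx', ?_⟩
  simp only [diffExp, ordDiff]
  rw [h1, h2, log_mul hh hx, log_mul (pow_ne_zero _ hh) hx', log_pow, nsmul_eq_mul]
  ring

include he hφ hψ hK hg in
/-- The different exponent as the order of the derivative of a uniformizer. -/
theorem diffExp_eq_uniformizer {x : K} (hx : vDiff φ 1 x ≠ 0) (hx' : vDiff ψ 1 (algebraMap K K' x) ≠ 0)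
    {t : K} (ht : P.1 t = exp (-1 : ℤ)) :
    Valued.v (D F' (ψ (algebraMap K K' t))) = exp (-(diffExp φ ψ e x)) := by
  have h1 := vDiff_uniformizer hφ ht
  obtain ⟨hne, heq⟩ := diffExp_congr hK hg he hφ hψ hx hx' (a := t) (h1 ▸ one_ne_zero)
  rw [heq, diffExp, ordDiff, ordDiff, h1, log_one, neg_zero, mul_zero, sub_zero, neg_neg, exp_log hne, vDiff_one]

include he hφ hψ hK hg in
/-- Tame and wild different exponents. -/
theorem diffExp_tame_wild {x : K} (hx : vDiff φ 1 x ≠ 0) (hx' : vDiff ψ 1 (algebraMap K K' x) ≠ 0) :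
    (¬ ringChar K ∣ e → diffExp φ ψ e x = (e : ℤ) - 1) ∧
      (ringChar K ∣ e → (e : ℤ) ≤ diffExp φ ψ e x) := by
  obtain ⟨t, -, -, ht⟩ := exists_uniformizer P
  have hv := diffExp_eq_uniformizer hK hg he hφ hψ hx hx' ht
  have ht' : Valued.v (ψ (algebraMap K K' t)) = exp (-(e : ℤ)) := by
    rw [hψ.1, he, ht, ← exp_nsmul, nsmul_eq_mul, mul_neg, mul_one]
  have hchar : ((e : ℤ) : F') = 0 ↔ ringChar K ∣ e := by
    rw [Int.cast_natCast, cast_eq_zero_iff (ψ.comp (IsScalarTower.toAlgHom k K K')) e, ringChar.spec]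
  refine ⟨fun hd => ?_, fun hd => ?_⟩
  · rw [v_D_eq ht' (hd ∘ hchar.1), exp_inj] at hv
    omega
  · have := v_D_le_of_zero ht'.le (hchar.2 hd)
    rw [hv, exp_le_exp] at this
    omega

omit hK hg in
include he hφ hψ in
/-- A quadratic Artin-Schreier equation in characteristic two with a pole of odd order below. -/
theorem diffExp_artinSchreier (h2 : (2 : k) = 0) (hfin : Module.finrank K K' = 2) (hFG : FG1 k K)
    [FiniteDimensional K K'] {y : K'} {f : K} (heq : y ^ 2 + y = algebraMap K K' f)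
    (hp : 1 < P.1 f) (hodd : Odd (P.ord f)) :
    vDiff φ 1 f ≠ 0 ∧ vDiff ψ 1 (algebraMap K K' f) ≠ 0 ∧ diffExp φ ψ e f = 1 - P.ord f := by
  have hf0 : f ≠ 0 := fun h => by rw [h, map_zero] at hp; exact not_lt.2 zero_le hp
  have hvf := v_eq P hf0
  have hneg : P.ord f < 0 := (one_lt_v_iff P f).1 hp
  have h2F : (2 : F) = 0 := by rw [← map_ofNat (algebraMap k F) 2, h2, map_zero]
  have h2F' : (2 : F') = 0 := by rw [← map_ofNat (algebraMap k F') 2, h2, map_zero]
  have hφf : Valued.v (D F (φ f)) = exp (-(P.ord f - 1)) :=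
    v_D_eq (by rw [hφ.1, hvf]) (cast_ne_zero_of_odd h2F hodd)
  have hQf : Q.1 (algebraMap K K' f) = exp (-((e : ℤ) * P.ord f)) := by
    rw [he, hvf, ← exp_nsmul, nsmul_eq_mul, mul_neg]
  have hpos := isOverWith_pos he
  have hy1 : 1 < Q.1 y := by
    by_contra hle
    rw [not_lt] at hle
    have : Q.1 (algebraMap K K' f) ≤ 1 := by
      rw [← heq]
      refine (Q.1.map_add _ _).trans (max_le ?_ hle)
      rw [map_pow]
      exact pow_le_one' hle 2
    rw [hQf, ← exp_zero, exp_le_exp] at this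
    nlinarith [show (0 : ℤ) < e by exact_mod_cast hpos]
  have hy0 : y ≠ 0 := fun h => by rw [h, map_zero] at hy1; exact not_lt.2 zero_le hy1
  have hyf : Q.1 (algebraMap K K' f) = Q.1 y ^ 2 := by
    rw [← heq, Valuation.map_add_eq_of_lt_left, map_pow]
    rw [map_pow, sq]
    exact lt_mul_of_one_lt_left (zero_lt_iff.2 (v_ne_zero Q hy0)) hy1
  rw [hQf, v_eq Q hy0, ← exp_nsmul, exp_inj, nsmul_eq_mul] at hyf
  have hev : Even e := by
    rw [← Int.even_coe_nat]
    have : Even ((e : ℤ) * P.ord f) := ⟨Q.ord y, by push_cast at hyf; linarith⟩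
    exact (Int.even_mul.1 this).resolve_right (Int.not_even_iff_odd.2 hodd)
  obtain rfl := idx_two_of_even hFG hfin he hev
  have hord : Q.ord y = P.ord f := by push_cast at hyf; linarith
  have hDy : D F' (ψ (algebraMap K K' f)) = D F' (ψ y) := by
    rw [← heq, map_add ψ, map_pow, map_add, sq, Derivation.leibniz, smul_eq_mul]
    have : (2 : LaurentSeries F') = 0 := by
      rw [← map_ofNat (HahnSeries.C : F' →+* LaurentSeries F') 2, h2F', map_zero]
    rw [← two_mul, this, zero_mul, zero_add]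
  have hψf : Valued.v (D F' (ψ (algebraMap K K' f))) = exp (-(P.ord f - 1)) := by
    rw [hDy]
    exact v_D_eq (by rw [hψ.1, v_eq Q hy0, hord]) (cast_ne_zero_of_odd h2F' hodd)
  rw [← vDiff_one] at hφf hψf
  refine ⟨hφf ▸ exp_ne_zero, hψf ▸ exp_ne_zero, ?_⟩
  simp only [diffExp, ordDiff, hφf, hψf, log_exp, neg_neg]
  ring

end Groth.Agent.FFLib.DiffExp
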