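import Groth.Agent.FFLib.Sep
import Groth.Agent.FFLib.DegOne
import Groth.Prelude.Def_LocRes
import Mathlib.RingTheory.PowerSeries.Trunc

/-!
# Expansions at rational places and total Hasse derivatives
-/

open WithZero Module

namespace Groth.Agent.FFLib

open FunFld

variable {k K : Type*} [Field k] [Field K] [Algebra k K]

/-- `F` is the expansion of `f` in powers of `t` at `P`. -/
def IsExp (P : Place k K) (t f : K) (F : PowerSeries k) : Prop :=
  ∀ n : ℕ, P.1 (f - Polynomial.aeval t (PowerSeries.trunc n F)) ≤ exp (-(n : ℤ))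

lemma le_exp_neg_one_of_lt_one {a : WithZero (Multiplicative ℤ)} (h : a < 1) : a ≤ exp (-1 : ℤ) := by
  rcases eq_or_ne a 0 with rfl | ha
  · exact zero_le
  · rw [← exp_log ha, ← exp_zero, exp_lt_exp] at h
    rw [← exp_log ha, exp_le_exp]
    omega

section

variable {P : Place k K} {t : K} (hP : P.deg = 1) (ht : P.1 t = exp (-1 : ℤ))

include hP ht in
lemma exists_isExp {f : K} (hf : P.1 f ≤ 1) : ∃ F : PowerSeries k, IsExp P t f F := by
  classical
  have ht0 : t ≠ 0 := fun e => exp_ne_zero (ht.symm.trans (by rw [e, map_zero]))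
  have hstep : ∀ r : K, ∃ q : k × K, P.1 r ≤ 1 → P.1 q.2 ≤ 1 ∧ r = algebraMap k K q.1 + t * q.2 := fun r => by
    by_cases hr : P.1 r ≤ 1
    · obtain ⟨c, hc⟩ := exists_const_sub_lt hP hr
      refine ⟨(c, (r - algebraMap k K c) / t), fun _ => ⟨?_, by field_simp; ring⟩⟩
      show P.1 ((r - algebraMap k K c) / t) ≤ 1
      rw [map_div₀, ht]
      rcases eq_or_ne (r - algebraMap k K c) 0 with h0 | h0
      · simp [h0]
      · have h1 := (v_lt_one_iff P h0).1 hc
        rw [div_le_one₀ exp_pos, v_le_exp_iff P h0]
        omega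
    · exact ⟨(0, 0), fun h => absurd h hr⟩
  choose q hq using hstep
  let r : ℕ → K := fun n => Nat.rec f (fun _ b => (q b).2) n
  have hr : ∀ n, P.1 (r n) ≤ 1 := fun n => by
    induction n with
    | zero => exact hf
    | succ n ih => exact (hq _ ih).1
  refine ⟨PowerSeries.mk fun n => (q (r n)).1, fun n => ?_⟩
  have key : f - Polynomial.aeval t (PowerSeries.trunc n (PowerSeries.mk fun n => (q (r n)).1)) =
      t ^ n * r n := by
    induction n with
    | zero => simp [r]
    | succ n ih =>
      rw [PowerSeries.trunc_succ, map_add, Polynomial.aeval_monomial, ← sub_sub, ih,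
        PowerSeries.coeff_mk]
      conv_lhs => enter [1, 2]; rw [(hq _ (hr n)).2]
      show t ^ n * (algebraMap k K (q (r n)).1 + t * (q (r n)).2) -
        algebraMap k K (q (r n)).1 * t ^ n = t ^ (n + 1) * (q (r n)).2
      ring
  rw [key, map_mul, map_pow, ht, ← exp_nsmul, nsmul_eq_mul, mul_neg, mul_one]
  exact mul_le_of_le_one_right' (hr n)

include ht in
lemma IsExp.ext {f : K} {F G : PowerSeries k} (h : IsExp P t f F) (h' : IsExp P t f G) : F = G := by
  ext n
  induction n using Nat.strong_induction_on with | _ n ih => ?_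
  by_contra hne
  have htr : PowerSeries.trunc n F = PowerSeries.trunc n G := Polynomial.ext fun i => by
    rw [PowerSeries.coeff_trunc, PowerSeries.coeff_trunc]
    split_ifs with hi
    · exact ih i hi
    · rfl
  have h1 := (P.1.map_sub _ _).trans (max_le (h' (n + 1)) (h (n + 1)))
  rw [sub_sub_sub_cancel_left, PowerSeries.trunc_succ, PowerSeries.trunc_succ, map_add, map_add,
    htr, add_sub_add_left_eq_sub, Polynomial.aeval_monomial, Polynomial.aeval_monomial, ← sub_mul,
    ← map_sub, map_mul, map_pow, v_const P (sub_ne_zero.2 hne), one_mul, ht, ← exp_nsmul,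
    exp_le_exp, nsmul_eq_mul] at h1
  push_cast at h1
  linarith

include ht in
lemma v_aeval_le_one (p : Polynomial k) : P.1 (Polynomial.aeval t p) ≤ 1 :=
  v_aeval_le P.1 P.2.1 (by rw [ht, ← exp_zero, exp_le_exp]; norm_num) p

include ht in
lemma IsExp.mul {f g : K} (hg : P.1 g ≤ 1) {F G : PowerSeries k} (h : IsExp P t f F)
    (h' : IsExp P t g G) : IsExp P t (f * g) (F * G) := fun n => by
  obtain ⟨w, hw⟩ : Polynomial.X ^ n ∣
      PowerSeries.trunc n F * PowerSeries.trunc n G - PowerSeries.trunc n (F * G) := by
    refine Polynomial.X_pow_dvd_iff.2 fun d hd => ?_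
    rw [Polynomial.coeff_sub, PowerSeries.coeff_trunc, if_pos hd,
      PowerSeries.coeff_mul_eq_coeff_trunc_mul_trunc F G hd, ← Polynomial.coe_mul,
      Polynomial.coeff_coe, sub_self]
  have e : f * g - Polynomial.aeval t (PowerSeries.trunc n (F * G)) =
      (f - Polynomial.aeval t (PowerSeries.trunc n F)) * g +
        (Polynomial.aeval t (PowerSeries.trunc n F) *
          (g - Polynomial.aeval t (PowerSeries.trunc n G)) + t ^ n * Polynomial.aeval t w) := by
    have := congrArg (Polynomial.aeval t) hw
    simp only [map_sub, map_mul, map_pow, Polynomial.aeval_X] at this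
    rw [← this]; ring
  rw [e]
  refine (P.1.map_add _ _).trans (max_le ?_ ((P.1.map_add _ _).trans (max_le ?_ ?_)))
  · rw [map_mul]; exact (mul_le_of_le_one_right' hg).trans (h n)
  · rw [map_mul]; exact (mul_le_of_le_one_left' (v_aeval_le_one ht _)).trans (h' n)
  · rw [map_mul, map_pow, ht, ← exp_nsmul, nsmul_eq_mul, mul_neg, mul_one]
    exact mul_le_of_le_one_right' (v_aeval_le_one ht _)

lemma IsExp.add {f g : K} {F G : PowerSeries k} (h : IsExp P t f F) (h' : IsExp P t g G) :
    IsExp P t (f + g) (F + G) := fun n => by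
  rw [map_add, map_add, add_sub_add_comm]
  exact (P.1.map_add _ _).trans (max_le (h n) (h' n))

include ht in
lemma isExp_poly (p : Polynomial k) : IsExp P t (Polynomial.aeval t p) (p : PowerSeries k) := fun n => by
  obtain ⟨w, hw⟩ : Polynomial.X ^ n ∣ p - PowerSeries.trunc n (p : PowerSeries k) := by
    refine Polynomial.X_pow_dvd_iff.2 fun d hd => ?_
    rw [Polynomial.coeff_sub, PowerSeries.coeff_trunc, if_pos hd, Polynomial.coeff_coe, sub_self]
  have := congrArg (Polynomial.aeval t) hw
  simp only [map_sub, map_mul, map_pow, Polynomial.aeval_X] at this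
  rw [this, map_mul, map_pow, ht, ← exp_nsmul, nsmul_eq_mul, mul_neg, mul_one]
  exact mul_le_of_le_one_right' (v_aeval_le_one ht w)

/-- The expansion of the valuation ring at a rational place. -/
noncomputable def expO : P.O →ₐ[k] PowerSeries k where
  toFun f := Classical.choose (exists_isExp hP ht (f := (f : K)) f.2)
  map_one' := IsExp.ext ht (Classical.choose_spec (exists_isExp hP ht (f := ((1 : P.O) : K)) (1 : P.O).2))
    (by simpa using isExp_poly ht (1 : Polynomial k))
  map_mul' f g := IsExp.ext ht (Classical.choose_spec (exists_isExp hP ht (f * g).2))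
    (IsExp.mul ht g.2 (Classical.choose_spec (exists_isExp hP ht f.2))
      (Classical.choose_spec (exists_isExp hP ht g.2)))
  map_zero' := IsExp.ext ht (Classical.choose_spec (exists_isExp hP ht (f := ((0 : P.O) : K)) (0 : P.O).2))
    (by simpa using isExp_poly ht (0 : Polynomial k))
  map_add' f g := IsExp.ext ht (Classical.choose_spec (exists_isExp hP ht (f + g).2))
    ((Classical.choose_spec (exists_isExp hP ht f.2)).add
      (Classical.choose_spec (exists_isExp hP ht g.2)))
  commutes' c := IsExp.ext ht (Classical.choose_spec (exists_isExp hP ht (f := ((algebraMap k P.O c : P.O) : K)) (algebraMap k P.O c : P.O).2))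
    (by
      have := isExp_poly ht (P := P) (Polynomial.C c)
      rwa [Polynomial.aeval_C, Polynomial.coe_C] at this)

lemma isExp_expO (f : P.O) : IsExp P t (f : K) (expO hP ht f) :=
  show IsExp P t (f : K) (Classical.choose (exists_isExp hP ht f.2)) from
    Classical.choose_spec (exists_isExp hP ht f.2)

lemma expO_injective : Function.Injective (expO hP ht) := by
  refine (injective_iff_map_eq_zero _).2 fun f hf => Subtype.ext ?_
  by_contra h0
  have h0' : (f : K) ≠ 0 := h0
  have := isExp_expO hP ht f ((P.ord (f : K)).toNat + 1)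
  rw [hf, map_zero, map_zero, sub_zero, v_le_exp_iff P h0'] at this
  omega

lemma constantCoeff_expO (f : P.O) :
    P.1 ((f : K) - algebraMap k K (PowerSeries.constantCoeff (expO hP ht f))) < 1 := by
  have := isExp_expO hP ht f 1
  rw [PowerSeries.trunc_one_left, PowerSeries.coeff_zero_eq_constantCoeff, Polynomial.aeval_C] at this
  exact lt_of_le_of_lt this (by rw [← exp_zero, exp_lt_exp]; norm_num)

end

open LaurentSeries in
/-- Expansions at rational places exist, with any uniformizer as the parameter. -/
theorem exists_expansion {P : Place k K} (hP : P.deg = 1) {t : K} (ht : P.1 t = exp (-1 : ℤ)) :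
    ∃ φ : K →ₐ[k] LaurentSeries k, LocRes.IsExpansionAt P.1 φ ∧ φ t = HahnSeries.single 1 1 := by
  have ht0 : t ≠ 0 := fun e => exp_ne_zero (ht.symm.trans (by rw [e, map_zero]))
  let g : P.O →+* LaurentSeries k := (HahnSeries.ofPowerSeries ℤ k).comp (expO hP ht).toRingHom
  have hg : Function.Injective g :=
    HahnSeries.ofPowerSeries_injective.comp (expO_injective hP ht)
  have hφ : ∀ f : P.O, IsFractionRing.lift hg (f : K) = ((expO hP ht f : PowerSeries k) : LaurentSeries k) :=
    fun f => IsFractionRing.lift_algebraMap hg f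
  let φ : K →ₐ[k] LaurentSeries k :=
    { IsFractionRing.lift hg with
      commutes' := fun c => by
        show IsFractionRing.lift hg ((algebraMap k P.O c : P.O) : K) = _
        rw [hφ, AlgHom.commutes, PowerSeries.algebraMap_apply, Algebra.algebraMap_self_apply,
          HahnSeries.ofPowerSeries_C, LocRes.algebraMap_eq_C] }
  have hφ : ∀ f : P.O, φ (f : K) = ((expO hP ht f : PowerSeries k) : LaurentSeries k) := hφ
  have ht1 : φ t = HahnSeries.single 1 1 := by
    have h1 : P.1 t ≤ 1 := by rw [ht, ← exp_zero, exp_le_exp]; norm_num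
    rw [show t = ((⟨t, h1⟩ : P.O) : K) from rfl, hφ,
      IsExp.ext ht (isExp_expO hP ht ⟨t, h1⟩) (by simpa using isExp_poly ht (P := P) Polynomial.X)]
    simp
  have hunit : ∀ u : K, P.1 u = 1 → Valued.v (φ u) = 1 := fun u hu => by
    rw [show u = ((⟨u, hu.le⟩ : P.O) : K) from rfl, hφ]
    refine le_antisymm ((LaurentSeries.val_le_one_iff_eq_coe k _).2 ⟨_, rfl⟩) ?_
    by_contra hlt
    have h2 := constantCoeff_expO hP ht ⟨u, hu.le⟩
    have h3 : PowerSeries.constantCoeff (expO hP ht ⟨u, hu.le⟩) ≠ 0 := fun e => by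
      rw [e, map_zero, sub_zero] at h2
      exact h2.ne hu
    have h4 := LaurentSeries.coeff_zero_of_lt_valuation k (n := 0) (D := 1)
      (le_exp_neg_one_of_lt_one (not_le.1 hlt)) zero_lt_one
    rw [show (0 : ℤ) = ((0 : ℕ) : ℤ) from rfl, HahnSeries.ofPowerSeries_apply_coeff,
      PowerSeries.coeff_zero_eq_constantCoeff] at h4
    exact h3 h4
  have hv : ∀ f : K, Valued.v (φ f) = P.1 f := fun f => by
    rcases eq_or_ne f 0 with rfl | hf
    · simp
    have h1 : P.1 (f / t ^ P.ord f) = 1 := by
      rw [map_div₀, map_zpow₀, ht, v_eq P hf, ← exp_zsmul, smul_eq_mul, mul_neg, mul_one, div_self exp_ne_zero]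
    have h2 := hunit _ h1
    rw [map_div₀ φ, map_zpow₀ φ, ht1, map_div₀, ← RatFunc.single_zpow,
      LaurentSeries.valuation_single_zpow, div_eq_one_iff_eq exp_ne_zero] at h2
    rw [h2, v_eq P hf]
  refine ⟨φ, ⟨hv, fun a => ⟨algebraMap k K a, P.2.1 a, ?_⟩, t, ht⟩, ht1⟩
  rw [φ.commutes, LocRes.algebraMap_eq_C]
  simp

/-- A total Hasse derivative with respect to a separating variable exists. -/
theorem exists_hasse (hK : IsFunctionField k K) {x : K} (hx : Transcendental k x)
    (hsep : Algebra.IsSeparable (IntermediateField.adjoin k ({x} : Set K)) K) :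
    ∃ H : K →ₐ[k] PowerSeries K, LocRes.IsHasseFamily x H := by
  classical
  set E := IntermediateField.adjoin k ({x} : Set K) with hE
  have := finite_adjoin hK hx
  let hp : Polynomial k →ₐ[k] PowerSeries K :=
    Polynomial.aeval (PowerSeries.C x + PowerSeries.X)
  have hc : ∀ p, PowerSeries.constantCoeff (hp p) = Polynomial.aeval x p := by
    intro p
    induction p using Polynomial.induction_on' with
    | add p q h h' => simp only [map_add, h, h']
    | monomial n c => simp [hp, Polynomial.aeval_monomial, PowerSeries.algebraMap_apply]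
  have hu : ∀ p : nonZeroDivisors (Polynomial k), IsUnit (hp p) := fun p => by
    rw [PowerSeries.isUnit_iff_constantCoeff, hc, isUnit_iff_ne_zero]
    exact fun e => nonZeroDivisors.coe_ne_zero p (transcendental_iff.1 hx _ e)
  let h₁ : RatFunc k →ₐ[k] PowerSeries K := IsLocalization.liftAlgHom hu
  let e := RatFunc.algEquivOfTranscendental x hx
  let h : E →ₐ[k] PowerSeries K := h₁.comp (e.symm : E →ₐ[k] RatFunc k)
  have hce : ∀ a : E, PowerSeries.constantCoeff (h a) = (a : K) := by
    intro a
    obtain ⟨r, rfl⟩ := e.surjective a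
    show PowerSeries.constantCoeff (h₁ (e.symm (e r))) = _
    rw [e.symm_apply_apply]
    have : (PowerSeries.constantCoeff (R := K)).comp h₁.toRingHom =
        E.val.toRingHom.comp e.toAlgHom.toRingHom := by
      refine IsLocalization.ringHom_ext (nonZeroDivisors (Polynomial k)) (RingHom.ext fun p => ?_)
      show PowerSeries.constantCoeff (h₁ (algebraMap _ (RatFunc k) p)) = ((e (algebraMap _ _ p) : E) : K)
      rw [IsLocalization.liftAlgHom_apply, IsLocalization.lift_eq, RatFunc.algEquivOfTranscendental_algebraMap]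
      simp [hc]
    exact RingHom.congr_fun this r
  have hhx : h ⟨x, IntermediateField.mem_adjoin_simple_self k x⟩ = PowerSeries.C x + PowerSeries.X := by
    have : (⟨x, IntermediateField.mem_adjoin_simple_self k x⟩ : E) = e (algebraMap (Polynomial k) (RatFunc k) Polynomial.X) := by
      rw [RatFunc.algEquivOfTranscendental_algebraMap]
      ext; simp
    rw [this]
    show h₁ (e.symm (e _)) = _
    rw [e.symm_apply_apply, IsLocalization.liftAlgHom_apply, IsLocalization.lift_eq]
    simp [hp]
  obtain ⟨y, hy⟩ := Field.exists_primitive_element E K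
  let iso : AdjoinRoot (minpoly E y) ≃ₐ[E] K :=
    (IntermediateField.adjoinRootEquivAdjoin E (Algebra.IsIntegral.isIntegral y)).trans
      ((IntermediateField.equivOfEq hy).trans IntermediateField.topEquiv)
  have hiso : iso (AdjoinRoot.root _) = y := by
    simp [iso, IntermediateField.adjoinRootEquivAdjoin_apply_root]
  set f := (minpoly E y).map h.toRingHom with hf
  have hev : ∀ q : Polynomial E,
      PowerSeries.constantCoeff ((q.map h.toRingHom).eval (PowerSeries.C y)) = Polynomial.aeval y q :=
    fun q => by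
    rw [Polynomial.eval_map, Polynomial.hom_eval₂, PowerSeries.constantCoeff_C, Polynomial.aeval_def]
    congr 1
    exact RingHom.ext hce
  obtain ⟨r, hr, hr0⟩ := HenselianRing.is_henselian (I := Ideal.span {(PowerSeries.X : PowerSeries K)})
    f ((minpoly.monic (Algebra.IsIntegral.isIntegral y)).map _) (PowerSeries.C y)
    (by rw [Ideal.mem_span_singleton, PowerSeries.X_dvd_iff, hf, hev, minpoly.aeval])
    (IsUnit.map _ (by
      rw [PowerSeries.isUnit_iff_constantCoeff, hf, Polynomial.derivative_map, hev, isUnit_iff_ne_zero]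
      exact (Algebra.IsSeparable.isSeparable E y).aeval_derivative_ne_zero (minpoly.aeval E y)))
  rw [Ideal.mem_span_singleton, PowerSeries.X_dvd_iff, map_sub, PowerSeries.constantCoeff_C,
    sub_eq_zero] at hr0
  have hroot : (minpoly E y).eval₂ h.toRingHom r = 0 := by
    rw [← Polynomial.eval_map]; exact hr
  let G : K →+* PowerSeries K := (AdjoinRoot.lift h.toRingHom r hroot).comp iso.symm.toRingEquiv.toRingHom
  have hG : ∀ a : E, G (algebraMap E K a) = h a := fun a => by
    show AdjoinRoot.lift h.toRingHom r hroot (iso.symm (algebraMap E K a)) = _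
    rw [iso.symm.commutes, AdjoinRoot.algebraMap_eq, AdjoinRoot.lift_of]
    rfl
  refine ⟨{ G with commutes' := fun c => ?_ }, ?_, fun z => ?_⟩
  · exact (hG (algebraMap k E c)).trans (h.commutes c)
  · exact (hG ⟨x, IntermediateField.mem_adjoin_simple_self k x⟩).trans hhx
  · obtain ⟨w, rfl⟩ := iso.surjective z
    show PowerSeries.constantCoeff (AdjoinRoot.lift h.toRingHom r hroot (iso.symm (iso w))) = iso w
    rw [iso.symm_apply_apply]
    have : (PowerSeries.constantCoeff (R := K)).comp (AdjoinRoot.lift h.toRingHom r hroot) =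
        iso.toRingEquiv.toRingHom := by
      refine AdjoinRoot.ringHom_ext (RingHom.ext fun a => ?_) ?_
      · show PowerSeries.constantCoeff (AdjoinRoot.lift h.toRingHom r hroot (AdjoinRoot.of _ a)) =
          iso (AdjoinRoot.of _ a)
        rw [AdjoinRoot.lift_of, ← AdjoinRoot.algebraMap_eq, iso.commutes]
        exact hce a
      · show PowerSeries.constantCoeff (AdjoinRoot.lift h.toRingHom r hroot (AdjoinRoot.root _)) =
          iso (AdjoinRoot.root _)
        rw [AdjoinRoot.lift_root, hr0, hiso]
    exact RingHom.congr_fun this w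

end Groth.Agent.FFLib
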