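import Groth.Agent.FFLib.QuadGenus

/-!
# Rational functions without finite poles
-/

open WithZero Module Polynomial

namespace Groth.Agent.FFLib

open FunFld

variable {k : Type*} [Field k]

lemma mem_poly_of_fin {r : RatFunc k}
    (h : ∀ R : Place k (RatFunc k), 0 ≤ R.ord (RatFunc.X : RatFunc k) → R.1 r ≤ 1) :
    ∃ q : k[X], algebraMap k[X] (RatFunc k) q = r := by
  rcases eq_or_ne r 0 with rfl | hr0
  · exact ⟨0, map_zero _⟩
  have hden : r.denom.natDegree = 0 := by
    by_contra hne
    obtain ⟨p, hp, hpd⟩ := WfDvdMonoid.exists_irreducible_factor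
      (fun hu => hne (natDegree_eq_zero_of_isUnit hu)) r.denom_ne_zero
    obtain ⟨R, hR⟩ := exists_zero_of_tr fg1_ratFunc (x := algebraMap k[X] (RatFunc k) p) (fun halg => by
      obtain ⟨c, hc⟩ := (isFunctionField_ratFunc (k := k)).2 _ halg
      rw [IsScalarTower.algebraMap_apply k k[X] (RatFunc k)] at hc
      exact hp.natDegree_pos.ne' ((RatFunc.algebraMap_injective k hc) ▸ natDegree_C c))
    have hv : R.1 (algebraMap k[X] (RatFunc k) p) < 1 := (v_lt_one_iff R (iota_ne hp.ne_zero)).2 hR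
    have hnum : ¬ p ∣ r.num := fun h => hp.not_isUnit ((r.isCoprime_num_denom).isUnit_of_dvd' h hpd)
    have := (v_le_one_iff R r).1 (h R (fin_of_irreducible hp hv))
    rw [← r.num_div_denom, div_eq_mul_inv, ord_mul R (iota_ne (RatFunc.num_ne_zero hr0))
      (inv_ne_zero (iota_ne r.denom_ne_zero)), ord_inv, ord_eq_zero_of_not_dvd hp hv hnum] at this
    have := (pos_iff_dvd hp hv r.denom_ne_zero).2 hpd
    omega
  refine ⟨r.num, ?_⟩
  conv_rhs => rw [← r.num_div_denom, r.monic_denom.natDegree_eq_zero.1 hden, map_one, div_one]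

/-- transport a place along an isomorphism -/
noncomputable def placeOfEquiv {E : Type*} [Field E] [Algebra k E] (e : E ≃ₐ[k] RatFunc k) (R : Place k (RatFunc k)) :
    Place k E :=
  ⟨R.1.comap (e : E →+* RatFunc k), fun c => by
    show R.1 (e (algebraMap k E c)) ≤ 1
    rw [AlgEquiv.commutes]; exact R.2.1 c, fun z => by
    obtain ⟨r, hr⟩ := R.2.2 z
    exact ⟨e.symm r, by show R.1 (e (e.symm r)) = z; rw [e.apply_symm_apply]; exact hr⟩⟩

end Groth.Agent.FFLib
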