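import Groth.Agent.FFLib.QuadGenus
import Groth.Agent.FFLib.RatPoly
import Groth.Agent.FFLib.DiffExp
import Groth.Agent.FFLib.ASReduce
import Groth.Agent.FFLib.Geometric
import Groth.Agent.FFLib.Expand

/-!
# Regular differentials of quadratic Artin-Schreier extensions
-/

open Module WithZero Polynomial

namespace Groth.Agent.FFLib

open FunFld LocRes DiffExp

universe u

variable {k : Type u} [Field k] {K : Type*} [Field K] [Algebra k K] [Algebra (RatFunc k) K]
  [IsScalarTower k (RatFunc k) K]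

/-- The pole divisor of the shift, at one place. -/
noncomputable def asShift (f : RatFunc k) (P : Place k (RatFunc k)) : ℤ :=
  if P.ord f < 0 then (1 - P.ord f) / 2 else 0

/-- The allowed orders of regular differentials. -/
noncomputable def asBound (f : RatFunc k) (P : Place k (RatFunc k)) : ℤ :=
  asShift f P - if P.ord (RatFunc.X : RatFunc k) < 0 then 2 else 0

/-- Derivatives of polynomials through an expansion. -/
lemma D_iota {F : Type*} [Field F] [Algebra k F] (φ : K →ₐ[k] LaurentSeries F) (p : k[X]) :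
    LocRes.D F (φ (algebraMap (RatFunc k) K (algebraMap k[X] (RatFunc k) p))) =
      φ (algebraMap (RatFunc k) K (algebraMap k[X] (RatFunc k) (derivative p))) *
        LocRes.D F (φ (algebraMap (RatFunc k) K RatFunc.X)) := by
  have h : LocRes.D F (φ (aeval (algebraMap (RatFunc k) K RatFunc.X) p)) =
      φ (aeval (algebraMap (RatFunc k) K RatFunc.X) (derivative p)) * LocRes.D F (φ (algebraMap (RatFunc k) K RatFunc.X)) :=
    DiffExp.deriv_eq φ (by rw [← Derivation.map_aeval])
  rwa [Polynomial.aeval_algebraMap_apply, aeval_ratX, Polynomial.aeval_algebraMap_apply, aeval_ratX] at h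

variable (hdeg : finrank (RatFunc k) K = 2) (h2 : ringChar k = 2) {y : K} (hy : y ∉ Set.range (algebraMap (RatFunc k) K))
  {f : RatFunc k} (heq : y ^ 2 + y = algebraMap (RatFunc k) K f)

include hdeg h2 hy heq in
/-- Ramification of an Artin-Schreier extension. -/
lemma as_idx {Q : Place k K} {P : Place k (RatFunc k)} {e : ℕ} (hQ : IsOverWith Q P e)
    (hodd : P.ord f < 0 → Odd (P.ord f)) : e = if P.ord f < 0 then 2 else 1 := by
  have : FiniteDimensional (RatFunc k) K := Module.finite_of_finrank_eq_succ hdeg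
  have : CharP k 2 := ringChar.of_eq h2
  have hK2 : (2 : K) = 0 := by
    rw [← map_ofNat (algebraMap k K) 2, show (2 : k) = 0 by exact_mod_cast CharP.cast_eq_zero k 2, map_zero]
  split_ifs with hneg
  · have hf0 : f ≠ 0 := fun e => by rw [e, ord_zero] at hneg; omega
    have hgt : 1 < Q.1 y := by
      by_contra hle
      have h2' : 1 < Q.1 (algebraMap (RatFunc k) K f) := not_le.1 fun hh => by
        have := (v_le_one_iff P f).1 ((isOverWith_le_one_iff hQ f).1 hh)
        omega
      rw [← heq] at h2'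
      refine absurd h2' (not_lt.2 ((Q.1.map_add _ _).trans (max_le ?_ (not_lt.1 hle))))
      rw [map_pow]; exact pow_le_one₀ zero_le (not_lt.1 hle)
    have hv : Q.1 (algebraMap (RatFunc k) K f) = Q.1 (y ^ 2) := by
      rw [← heq]
      exact Valuation.map_add_eq_of_lt_left _ (by rw [map_pow, sq]; exact lt_mul_of_one_lt_left (zero_lt_one.trans hgt) hgt)
    have h2y : Q.ord (algebraMap (RatFunc k) K f) = 2 * Q.ord y := by
      rw [Place.ord, hv, ← Place.ord, ord_pow]; norm_num
    rw [(isOverWith_iff_ord.1 hQ).2 f hf0] at h2y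
    refine idx_two_of_even (fg1_ratFunc (k := k)) hdeg hQ ?_
    rw [← Int.even_coe_nat]
    have : Even ((e : ℤ) * P.ord f) := ⟨Q.ord y, by omega⟩
    exact (Int.even_mul.1 this).resolve_right (Int.not_even_iff_odd.2 (hodd hneg))
  · refine idx_one_of_unit (fg1_ratFunc (k := k)) hdeg hy (a := (1 : RatFunc k)) (g := f) (by rw [map_one, one_mul, heq]) hQ
      (not_lt.1 fun h => ?_) (by simp [hK2])
    have hf1 : Q.1 (algebraMap (RatFunc k) K f) ≤ 1 := (isOverWith_le_one_iff hQ f).2 ((v_le_one_iff P f).2 (not_lt.1 hneg))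
    rw [← heq, Valuation.map_add_eq_of_lt_left _ (by rw [map_pow, sq]; exact lt_mul_of_one_lt_left (zero_lt_one.trans h) h),
      map_pow] at hf1
    exact absurd hf1 (not_le.2 (one_lt_pow₀ h two_ne_zero))

include hdeg h2 hy heq in
/-- The order of `dx` at a finite place. -/
lemma as_vDiff_fin [PerfectField k] {Q : Place k K} {P : Place k (RatFunc k)} {e : ℕ} (hQ : IsOverWith Q P e)
    (hP : 0 ≤ P.ord (RatFunc.X : RatFunc k)) (hodd : P.ord f < 0 → Odd (P.ord f)) {F : Type*} [Field F] [Algebra k F]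
    {φ : K →ₐ[k] LaurentSeries F} (hφ : IsExpansionAt Q.1 φ) :
    Valued.v (LocRes.D F (φ (algebraMap (RatFunc k) K RatFunc.X))) = exp (-((e : ℤ) * asShift f P)) := by
  have : FiniteDimensional (RatFunc k) K := Module.finite_of_finrank_eq_succ hdeg
  have : CharP k 2 := ringChar.of_eq h2
  have h20 : (2 : k) = 0 := by exact_mod_cast CharP.cast_eq_zero k 2
  have h2F : (2 : F) = 0 := by rw [← map_ofNat (algebraMap k F) 2, h20, map_zero]
  have hidx := as_idx hdeg h2 hy heq hQ hodd
  obtain ⟨p, hp, hpv⟩ := exists_irreducible P hP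
  have hnd : ¬ p ∣ derivative p := fun h =>
    hp.not_isUnit ((PerfectField.separable_of_irreducible hp).isUnit_of_dvd' dvd_rfl h)
  have hp' : derivative p ≠ 0 := fun h => hnd (h ▸ dvd_zero p)
  have hvp : Valued.v (φ (algebraMap (RatFunc k) K (algebraMap k[X] (RatFunc k) p))) = exp (-(e : ℤ)) := by
    rw [hφ.1, hQ, v_eq P (iota_ne hp.ne_zero), ord_irreducible hp hpv, ← exp_nsmul, nsmul_eq_mul]
    congr 1; ring
  have hvp' : Valued.v (φ (algebraMap (RatFunc k) K (algebraMap k[X] (RatFunc k) (derivative p)))) = 1 := by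
    rw [hφ.1, hQ, v_eq P (iota_ne hp'), ord_eq_zero_of_not_dvd hp hpv hnd, neg_zero, exp_zero, one_pow]
  by_cases hneg : P.ord f < 0
  swap
  · rw [asShift, if_neg hneg, mul_zero, neg_zero, exp_zero]
    rw [if_neg hneg] at hidx
    subst hidx
    have h := v_D_eq hvp (by simp)
    rw [D_iota φ p, map_mul, hvp', one_mul] at h
    simpa using h
  rw [if_pos hneg] at hidx
  subst hidx
  obtain ⟨r, hr⟩ := hodd hneg
  set m : ℤ := -P.ord f with hm
  have hf0 : f ≠ 0 := fun e => by rw [e, ord_zero] at hneg; omega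
  obtain ⟨a, b, ha, hb, hab⟩ := exists_num_den hf0
  obtain ⟨i, a', ha', rfl⟩ := WfDvdMonoid.max_power_factor ha hp
  obtain ⟨j, b', hb', rfl⟩ := WfDvdMonoid.max_power_factor hb hp
  have ha'0 : a' ≠ 0 := fun e => ha' (e ▸ dvd_zero p)
  have hb'0 : b' ≠ 0 := fun e => hb' (e ▸ dvd_zero p)
  have hp0 := iota_ne hp.ne_zero
  have hmij : (i : ℤ) - j = -m := by
    have h := congrArg P.ord hab
    rw [map_mul, map_mul, map_pow, map_pow, div_eq_mul_inv, ord_mul P (mul_ne_zero (pow_ne_zero _ hp0) (iota_ne ha'0))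
      (inv_ne_zero (mul_ne_zero (pow_ne_zero _ hp0) (iota_ne hb'0))), ord_inv,
      ord_mul P (pow_ne_zero _ hp0) (iota_ne ha'0), ord_mul P (pow_ne_zero _ hp0) (iota_ne hb'0), ord_pow, ord_pow,
      ord_irreducible hp hpv, ord_eq_zero_of_not_dvd hp hpv ha', ord_eq_zero_of_not_dvd hp hpv hb'] at h
    omega
  have hvfin : ∀ q : k[X], Valued.v (φ (algebraMap (RatFunc k) K (algebraMap k[X] (RatFunc k) q))) ≤ 1 := fun q => by
    rw [hφ.1]; exact (isOverWith_le_one_iff hQ _).2 (v_poly_le P hP q)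
  set A := φ (algebraMap (RatFunc k) K (algebraMap k[X] (RatFunc k) a'))
  set B := φ (algebraMap (RatFunc k) K (algebraMap k[X] (RatFunc k) b'))
  set Pp := φ (algebraMap (RatFunc k) K (algebraMap k[X] (RatFunc k) p))
  set X' := LocRes.D F (φ (algebraMap (RatFunc k) K RatFunc.X))
  have hA : Valued.v A = 1 := by
    rw [hφ.1, hQ, v_eq P (iota_ne ha'0), ord_eq_zero_of_not_dvd hp hpv ha', neg_zero, exp_zero, one_pow]
  have hB : Valued.v B = 1 := by
    rw [hφ.1, hQ, v_eq P (iota_ne hb'0), ord_eq_zero_of_not_dvd hp hpv hb', neg_zero, exp_zero, one_pow]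
  have hf : φ (algebraMap (RatFunc k) K f) = A / B * Pp ^ (-m) := by
    have hPp0 : Pp ≠ 0 := fun h => by rw [h, map_zero] at hvp; exact exp_ne_zero hvp.symm
    have hB0 : B ≠ 0 := fun h => by rw [h, map_zero] at hB; exact zero_ne_one hB
    rw [hab, map_mul (algebraMap k[X] (RatFunc k)), map_mul (algebraMap k[X] (RatFunc k)), map_pow, map_pow, map_div₀,
      map_mul, map_mul, map_pow, map_pow, map_div₀, map_mul, map_mul, map_pow, map_pow, ← hmij, zpow_sub₀ hPp0,
      zpow_natCast, zpow_natCast]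
    rw [mul_div_mul_comm, mul_comm (_ / _)]
  -- the order of the derivative of the Artin-Schreier root
  have hgt : Q.ord y = -m := by
    have hle : 1 < Q.1 y := by
      by_contra hle
      have h2' : 1 < Q.1 (algebraMap (RatFunc k) K f) := not_le.1 fun hh => by
        have := (v_le_one_iff P f).1 ((isOverWith_le_one_iff hQ f).1 hh)
        omega
      rw [← heq] at h2'
      refine absurd h2' (not_lt.2 ((Q.1.map_add _ _).trans (max_le ?_ (not_lt.1 hle))))
      rw [map_pow]; exact pow_le_one₀ zero_le (not_lt.1 hle)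
    have hv : Q.1 (algebraMap (RatFunc k) K f) = Q.1 (y ^ 2) := by
      rw [← heq]
      exact Valuation.map_add_eq_of_lt_left _ (by rw [map_pow, sq]; exact lt_mul_of_one_lt_left (zero_lt_one.trans hle) hle)
    have h2y : Q.ord (algebraMap (RatFunc k) K f) = 2 * Q.ord y := by
      rw [Place.ord, hv, ← Place.ord, ord_pow]; norm_num
    rw [(isOverWith_iff_ord.1 hQ).2 f hf0] at h2y
    push_cast at h2y
    omega
  have hy0 : y ≠ 0 := fun h => by rw [h, ord_zero] at hgt; omega
  have hvy : Valued.v (φ y) = exp (-(-m)) := by rw [hφ.1, v_eq Q hy0, hgt]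
  have hDy : Valued.v (LocRes.D F (φ (algebraMap (RatFunc k) K f))) = exp (-(-m - 1)) := by
    rw [← heq, map_add φ, map_pow, map_add, sq, Derivation.leibniz, smul_eq_mul]
    have : (2 : LaurentSeries F) = 0 := by
      rw [← map_ofNat (HahnSeries.C : F →+* LaurentSeries F) 2, h2F, map_zero]
    rw [← two_mul, this, zero_mul, zero_add]
    exact v_D_eq hvy (cast_ne_zero_of_odd h2F ⟨r, by omega⟩)
  -- the chain rule
  have hPp0 : Pp ≠ 0 := fun h => by rw [h, map_zero] at hvp; exact exp_ne_zero hvp.symm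
  have hB0 : B ≠ 0 := fun h => by rw [h, map_zero] at hB; exact zero_ne_one hB
  set G : LaurentSeries F := ((φ (algebraMap (RatFunc k) K (algebraMap k[X] (RatFunc k) (derivative a'))) * B -
      A * φ (algebraMap (RatFunc k) K (algebraMap k[X] (RatFunc k) (derivative b')))) / B ^ 2) * Pp ^ (-m) +
    A / B * ((((-m : ℤ) : LaurentSeries F)) * Pp ^ (-m - 1) *
      φ (algebraMap (RatFunc k) K (algebraMap k[X] (RatFunc k) (derivative p)))) with hG
  have hchain : LocRes.D F (φ (algebraMap (RatFunc k) K f)) = G * X' := by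
    rw [hf, Derivation.leibniz, Derivation.leibniz_div, Derivation.leibniz_zpow, D_iota φ p, D_iota φ a', D_iota φ b',
      hG]
    simp only [smul_eq_mul, zsmul_eq_mul]
    field_simp
    ring
  have hmF : ((-m : ℤ) : F) ≠ 0 := cast_ne_zero_of_odd h2F ⟨r, by omega⟩
  have hvm : Valued.v (((-m : ℤ)) : LaurentSeries F) = 1 := by
    rw [← map_intCast (HahnSeries.C : F →+* LaurentSeries F)]
    refine le_antisymm ?_ ?_
    · rw [show (1 : WithZero (Multiplicative ℤ)) = exp (-(0 : ℤ)) by simp, LaurentSeries.valuation_le_iff_coeff_lt_eq_zero]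
      intro i hi
      rw [HahnSeries.C_apply, HahnSeries.coeff_single_of_ne hi.ne]
    · by_contra hlt
      rw [not_le] at hlt
      have := LaurentSeries.coeff_zero_of_lt_valuation F (D := 1) (le_exp_neg_one_of_lt_one hlt) zero_lt_one
      rw [HahnSeries.C_apply, HahnSeries.coeff_single_same] at this
      exact hmF this
  have hPz : ∀ z : ℤ, Valued.v (Pp ^ z) = exp (-(2 * z)) := fun z => by
    rw [map_zpow₀, hvp, ← exp_zsmul, smul_eq_mul]; congr 1; push_cast; ring
  have hvG : Valued.v G = exp (-(2 * (-m - 1))) := by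
    rw [hG, Valuation.map_add_eq_of_lt_right]
    · rw [map_mul, map_mul, map_mul, map_div₀, hA, hB, hvm, hvp', hPz, div_one, one_mul, one_mul, mul_one]
    rw [map_mul, map_mul, map_mul, map_mul, map_div₀, map_div₀, map_pow, hA, hB, hvm, hvp', hPz, hPz, one_pow, div_one,
      div_one, one_mul, one_mul, mul_one]
    refine (mul_le_mul' ((Valuation.map_sub _ _ _).trans (max_le ?_ ?_)) le_rfl).trans_lt ?_ (b := 1 * exp (-(2 * -m)))
    · rw [map_mul]; exact mul_le_one' (hvfin _) hB.le
    · rw [map_mul]; exact mul_le_one' hA.le (hvfin _)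
    · rw [one_mul, exp_lt_exp]; omega
  rw [hchain, map_mul, hvG] at hDy
  have hX0 : Valued.v X' ≠ 0 := fun h => by rw [h, mul_zero] at hDy; exact exp_ne_zero hDy.symm
  rw [← exp_log hX0, ← exp_add, exp_inj] at hDy
  rw [← exp_log hX0, exp_inj, asShift, if_pos hneg]
  push_cast
  omega

include hdeg h2 hy heq in
/-- The order of `dx` at infinity. -/
lemma as_vDiff_inf [PerfectField k] {Q : Place k K} {P : Place k (RatFunc k)} {e : ℕ} (hQ : IsOverWith Q P e)
    (hP : P.ord (RatFunc.X : RatFunc k) < 0) (hodd : P.ord f < 0 → Odd (P.ord f)) {F : Type*} [Field F] [Algebra k F]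
    {φ : K →ₐ[k] LaurentSeries F} (hφ : IsExpansionAt Q.1 φ) :
    Valued.v (LocRes.D F (φ (algebraMap (RatFunc k) K RatFunc.X))) = exp (-((e : ℤ) * (asShift f P - 2))) := by
  have : FiniteDimensional (RatFunc k) K := Module.finite_of_finrank_eq_succ hdeg
  have : CharP k 2 := ringChar.of_eq h2
  have h20 : (2 : k) = 0 := by exact_mod_cast CharP.cast_eq_zero k 2
  have hidx := as_idx hdeg h2 hy heq hQ hodd
  obtain ⟨hord, hdegP⟩ := inf_ord_deg P hP
  have hvX : Valued.v (φ (algebraMap (RatFunc k) K RatFunc.X)) = exp (-(-(e : ℤ))) := by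
    rw [hφ.1, hQ, v_eq P RatFunc.X_ne_zero, hord, ← exp_nsmul, nsmul_eq_mul]
    congr 1; ring
  by_cases hneg : P.ord f < 0
  swap
  · rw [if_neg hneg] at hidx
    subst hidx
    rw [asShift, if_neg hneg, v_D_eq hvX (by simp)]
    congr 1
  rw [if_pos hneg] at hidx
  subst hidx
  have hw : P.1 (RatFunc.X : RatFunc k)⁻¹ = exp (-1 : ℤ) := by
    rw [map_inv₀, v_eq P RatFunc.X_ne_zero, hord, ← exp_neg, neg_neg]
  obtain ⟨φP, hφP, -⟩ := exists_expansion hdegP hw
  have hF := isFunctionField_ratFunc (k := k)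
  have hG : IsGeometric k (RatFunc k) := isGeometric_of_perfect hF
  obtain ⟨hf, hf', hd⟩ := diffExp_artinSchreier hQ hφP hφ h20 hdeg hF.1 heq ((one_lt_v_iff P f).2 hneg) (hodd hneg)
  have hv := diffExp_eq_uniformizer hF hG hQ hφP hφ hf hf' hw
  rw [hd, map_inv₀ (algebraMap (RatFunc k) K), map_inv₀ φ, Derivation.leibniz_inv, smul_eq_mul, map_mul,
    Valuation.map_neg, map_pow, map_inv₀, hvX, ← exp_neg, ← exp_nsmul, nsmul_eq_mul] at hv
  have hX0 : Valued.v (LocRes.D F (φ (algebraMap (RatFunc k) K RatFunc.X))) ≠ 0 := fun h => by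
    rw [h, mul_zero] at hv; exact exp_ne_zero hv.symm
  obtain ⟨r, hr⟩ := hodd hneg
  rw [← exp_log hX0, ← exp_add, exp_inj] at hv
  rw [← exp_log hX0, exp_inj, asShift, if_pos hneg]
  push_cast at hv ⊢
  omega

include hdeg h2 hy heq in
/-- Regularity of `z dx` as a bound on `z`. -/
lemma as_vDiff_iff [PerfectField k] (hodd : ∀ p : Place k (RatFunc k), p.ord f < 0 → Odd (p.ord f))
    {Q : Place k K} {P : Place k (RatFunc k)} {e : ℕ} (hQ : IsOverWith Q P e) {F : Type*} [Field F] [Algebra k F]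
    {φ : K →ₐ[k] LaurentSeries F} (hφ : IsExpansionAt Q.1 φ) (z : K) :
    vDiff φ z (algebraMap (RatFunc k) K RatFunc.X) ≤ 1 ↔ Q.1 z ≤ exp ((e : ℤ) * asBound f P) := by
  rw [vDiff, map_mul, hφ.1]
  by_cases hP : P.ord (RatFunc.X : RatFunc k) < 0
  · rw [as_vDiff_inf hdeg h2 hy heq hQ hP (hodd P) hφ, asBound, if_pos hP, exp_neg, mul_inv_le_iff₀ exp_pos, one_mul]
  · rw [as_vDiff_fin hdeg h2 hy heq hQ (not_lt.1 hP) (hodd P) hφ, asBound, if_neg hP, sub_zero, exp_neg,
      mul_inv_le_iff₀ exp_pos, one_mul]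

include hdeg h2 hy heq in
/-- Regular differentials come from the line. -/
theorem as_regular_iff [PerfectField k] (hodd : ∀ p : Place k (RatFunc k), p.ord f < 0 → Odd (p.ord f))
    (hK : FG1 k (RatFunc k)) (F : Place k K → Type*) [∀ Q, Field (F Q)] [∀ Q, Algebra k (F Q)]
    (φ : ∀ Q, K →ₐ[k] LaurentSeries (F Q)) (hφ : ∀ Q, IsExpansionAt Q.1 (φ Q)) (z : K) :
    (∀ Q, vDiff (φ Q) z (algebraMap (RatFunc k) K RatFunc.X) ≤ 1) ↔
      ∃ a : RatFunc k, z = algebraMap (RatFunc k) K a ∧ ∀ P, P.1 a ≤ exp (asBound f P) := by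
  have : FiniteDimensional (RatFunc k) K := Module.finite_of_finrank_eq_succ hdeg
  constructor
  · intro hz
    obtain ⟨a, b, rfl⟩ := (minpoly_quad hdeg hy
      (show y ^ 2 + algebraMap (RatFunc k) K 1 * y = algebraMap (RatFunc k) K f by rw [map_one, one_mul, heq])).2.1 z
    have key := fun P => (split_as hdeg h2 hy heq P (hodd P) (asBound f P) a b).1 fun Q e hQ =>
      (as_vDiff_iff hdeg h2 hy heq hodd hQ (hφ Q) _).1 (hz Q)
    have hb : b = 0 := by
      obtain ⟨q, hq⟩ := mem_poly_of_fin (r := b) fun P hP => by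
        have := (key P).2
        rw [show asBound f P - (if P.ord f < 0 then (1 - P.ord f) / 2 else 0) = 0 by
          rw [asBound, asShift, if_neg (not_lt.2 hP)]; ring, exp_zero] at this
        exact this
      by_contra hb0
      obtain ⟨Pi, hPi⟩ := exists_infPlace (k := k)
      have := (key Pi).2
      rw [show asBound f Pi - (if Pi.ord f < 0 then (1 - Pi.ord f) / 2 else 0) = -2 by
        rw [asBound, asShift, if_pos hPi]; ring] at this
      subst hq
      have hq0 : q ≠ 0 := fun h => hb0 (by rw [h, map_zero])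
      rw [v_le_exp_iff Pi hb0, ord_poly_inf' Pi hPi hq0] at this
      omega
    refine ⟨a, by rw [hb, map_zero, zero_mul, add_zero], fun P => (key P).1⟩
  · rintro ⟨a, rfl, ha⟩ Q
    exact (as_vDiff_iff hdeg h2 hy heq hodd (isOverWith_under hK Q) (hφ Q) _).2
      ((v_base_le_iff (isOverWith_under hK Q) a _).2 (ha _))

end Groth.Agent.FFLib
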