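import Groth.Agent.FFLib.Basic
import Groth.Prelude.Def_W4bk4goldsch45

/-!
# The local rings of a projective map
-/

open WithZero

namespace Groth.Agent.FFLib

open FunFld

variable {k K : Type*} [Field k] [Field K] [Algebra k K] {ι : Type*}

/-- Membership in the localisation of a subalgebra at the centre of a place. -/
def InLoc (A : Subalgebra k K) (P : Place k K) (z : K) : Prop :=
  ∃ u ∈ A, ∃ w ∈ A, P.1 w = 1 ∧ z * w = u

/-- The chart ring of a tuple at the form `c`. -/
def chart (k : Type*) {K : Type*} [Field k] [Field K] [Algebra k K] {ι : Type*} (φ : ι → K) (c : K) :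
    Subalgebra k K :=
  Algebra.adjoin k (Set.range fun i => φ i / c)

lemma div_mem_chart {φ : ι → K} (c : K) (i : ι) : φ i / c ∈ chart k φ c :=
  Algebra.subset_adjoin ⟨i, rfl⟩

lemma span_div_mem_chart {φ : ι → K} {c d : K} (hd : d ∈ Submodule.span k (Set.range φ)) :
    d / c ∈ chart k φ c := by
  induction hd using Submodule.span_induction with
  | mem d hd =>
    obtain ⟨i, rfl⟩ := hd
    exact div_mem_chart c i
  | zero => rw [zero_div]; exact Subalgebra.zero_mem _
  | add a b _ _ ha hb => rw [add_div]; exact Subalgebra.add_mem _ ha hb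
  | smul r a _ ha => rw [smul_div_assoc]; exact Subalgebra.smul_mem _ ha r

lemma exists_clear_chart {φ : ι → K} {c c' : K} (hc' : c' ≠ 0)
    (hsp : c' ∈ Submodule.span k (Set.range φ)) {s : K} (hs : s ∈ chart k φ c') :
    ∃ n : ℕ, s * (c' / c) ^ n ∈ chart k φ c := by
  have hρ : c' / c ∈ chart k φ c := span_div_mem_chart hsp
  induction hs using Algebra.adjoin_induction with
  | mem w hw =>
    obtain ⟨i, rfl⟩ := hw
    refine ⟨1, ?_⟩
    rw [pow_one, div_mul_div_cancel₀ hc']
    exact div_mem_chart c i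
  | algebraMap r => exact ⟨0, by rw [pow_zero, mul_one]; exact Subalgebra.algebraMap_mem _ r⟩
  | add a b _ _ ha hb =>
    obtain ⟨n, hn⟩ := ha
    obtain ⟨n', hn'⟩ := hb
    refine ⟨n + n', ?_⟩
    rw [add_mul, pow_add]
    refine Subalgebra.add_mem _ ?_ ?_
    · rw [← mul_assoc]; exact Subalgebra.mul_mem _ hn (Subalgebra.pow_mem _ hρ _)
    · rw [mul_left_comm]; exact Subalgebra.mul_mem _ (Subalgebra.pow_mem _ hρ _) hn'
  | mul a b _ _ ha hb =>
    obtain ⟨n, hn⟩ := ha
    obtain ⟨n', hn'⟩ := hb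
    exact ⟨n + n', by rw [pow_add, mul_mul_mul_comm]; exact Subalgebra.mul_mem _ hn hn'⟩

/-- A form of largest value at `P` has the value of the largest coordinate. -/
lemma v_span_le {φ : ι → K} {c : K} (hc : c ∈ Submodule.span k (Set.range φ)) (P : Place k K)
    {g : WithZero (Multiplicative ℤ)} (hg : ∀ i, P.1 (φ i) ≤ g) : P.1 c ≤ g := by
  induction hc using Submodule.span_induction with
  | mem d hd => obtain ⟨i, rfl⟩ := hd; exact hg i
  | zero => rw [map_zero]; exact zero_le
  | add a b _ _ ha hb => exact (P.1.map_add a b).trans (max_le ha hb)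
  | smul r a _ ha => exact (v_smul_le P r a).trans ha

lemma inLoc_change {φ : ι → K} {c c' : K} (hc : c ≠ 0) (hc' : c' ≠ 0)
    (hsp : c' ∈ Submodule.span k (Set.range φ)) {P : Place k K} (hv : P.1 c' = P.1 c) {z : K}
    (h : InLoc (chart k φ c') P z) : InLoc (chart k φ c) P z := by
  obtain ⟨u, hu, w, hw, hw1, hzw⟩ := h
  obtain ⟨n, hn⟩ := exists_clear_chart (c := c) hc' hsp hu
  obtain ⟨n', hn'⟩ := exists_clear_chart (c := c) hc' hsp hw
  have hρ : c' / c ∈ chart k φ c := span_div_mem_chart hsp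
  have hρ1 : P.1 (c' / c) = 1 := by rw [map_div₀, hv, div_self (v_ne_zero P hc)]
  refine ⟨u * (c' / c) ^ n * (c' / c) ^ n', Subalgebra.mul_mem _ hn (Subalgebra.pow_mem _ hρ _),
    w * (c' / c) ^ n' * (c' / c) ^ n, Subalgebra.mul_mem _ hn' (Subalgebra.pow_mem _ hρ _), ?_, ?_⟩
  · simp only [map_mul, map_pow, hw1, hρ1, one_pow, mul_one]
  · rw [← hzw]; ring

/-- The local ring may be computed in the chart of any form of largest value. -/
lemma inLocRing_iff [Fintype ι] {φ : ι → K} {c : K} (hc : c ≠ 0)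
    (hsp : c ∈ Submodule.span k (Set.range φ)) {P : Place k K} (hmax : ∀ i, P.1 (φ i) ≤ P.1 c) (z : K) :
    InLocRing φ P z ↔ InLoc (chart k φ c) P z := by
  classical
  constructor
  · rintro ⟨j, hj, hjmax, h⟩
    exact inLoc_change hc hj (Submodule.subset_span ⟨j, rfl⟩)
      (le_antisymm (hmax j) (v_span_le hsp P hjmax)) h
  · intro h
    have hne : Nonempty ι := by
      by_contra hι
      rw [not_nonempty_iff] at hι
      rw [Set.range_eq_empty, Submodule.span_empty, Submodule.mem_bot] at hsp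
      exact hc hsp
    obtain ⟨j, -, hj⟩ := Finset.univ.exists_max_image (fun i => P.1 (φ i)) Finset.univ_nonempty
    have hjmax : ∀ i, P.1 (φ i) ≤ P.1 (φ j) := fun i => hj i (Finset.mem_univ i)
    have hv : P.1 c = P.1 (φ j) := le_antisymm (v_span_le hsp P hjmax) (hmax j)
    have hj0 : φ j ≠ 0 := fun e => v_ne_zero P hc (by rw [hv, e, map_zero])
    exact ⟨j, hj0, hjmax, inLoc_change hj0 hc hsp hv h⟩

lemma isNonsingularAt_iff [Fintype ι] {φ : ι → K} {c : K} (hc : c ≠ 0)
    (hsp : c ∈ Submodule.span k (Set.range φ)) {P : Place k K} (hmax : ∀ i, P.1 (φ i) ≤ P.1 c) :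
    IsNonsingularAt φ P ↔ ∀ z : K, P.1 z ≤ 1 → InLoc (chart k φ c) P z :=
  forall₂_congr fun z _ => inLocRing_iff hc hsp hmax z

end Groth.Agent.FFLib
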