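import Groth.Agent.FFLib.MonicPlane
import Groth.Agent.FFLib.PlaneModel
import Groth.Agent.FFLib.LocRing
import Mathlib.Algebra.Polynomial.Reverse
import Mathlib.Algebra.MvPolynomial.PDeriv

/-!
# The adjoint divisor of a plane model
-/

open WithZero Module Polynomial

namespace Groth.Agent.FFLib

open FunFld

variable {k K : Type*} [Field k] [Field K] [Algebra k K] {x y : K}

section Coordinates

variable (M : Model k x y)

/-- Substitution of the model coordinates into a polynomial in `x, y`. -/
noncomputable def Model.psi : MvPolynomial (Fin 2) k →ₐ[k] k[X][X] :=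
  MvPolynomial.aeval ![C (C M.a⁻¹ * X) + C (C (-(M.a⁻¹ * M.b))) * X, X]

/-- The inverse substitution. -/
noncomputable def Model.psiInv : k[X][X] →+* MvPolynomial (Fin 2) k :=
  Polynomial.eval₂RingHom
    (Polynomial.aeval (MvPolynomial.C M.a * MvPolynomial.X 0 + MvPolynomial.C M.b * MvPolynomial.X 1 :
      MvPolynomial (Fin 2) k)).toRingHom (MvPolynomial.X 1)

lemma Model.psi_injective : Function.Injective M.psi := by
  refine Function.LeftInverse.injective (g := M.psiInv) fun p => ?_
  induction p using MvPolynomial.induction_on with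
  | C c =>
    rw [← MvPolynomial.algebraMap_eq, AlgHom.commutes]
    simp [Model.psiInv, MvPolynomial.algebraMap_eq]
  | add p q hp hq => rw [map_add, map_add, hp, hq]
  | mul_X p i hp =>
    rw [map_mul, map_mul, hp]
    congr 1
    fin_cases i
    · simp only [Model.psi, MvPolynomial.aeval_X]
      show M.psiInv (C (C M.a⁻¹ * X) + C (C (-(M.a⁻¹ * M.b))) * X) = MvPolynomial.X 0
      simp only [Model.psiInv, map_add, Polynomial.coe_eval₂RingHom, eval₂_add, eval₂_mul, eval₂_C, eval₂_X]
      simp only [AlgHom.toRingHom_eq_coe, RingHom.coe_coe, map_mul, map_neg, aeval_C, aeval_X,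
        MvPolynomial.algebraMap_eq]
      have e : (MvPolynomial.C M.a⁻¹ : MvPolynomial (Fin 2) k) * MvPolynomial.C M.a = 1 := by
        rw [← MvPolynomial.C_mul, inv_mul_cancel₀ M.a_ne, MvPolynomial.C_1]
      linear_combination MvPolynomial.X 0 * e
    · simp [Model.psi, Model.psiInv]

lemma Model.psi_surjective : Function.Surjective M.psi := by
  have hX : M.psi (MvPolynomial.C M.a * MvPolynomial.X 0 + MvPolynomial.C M.b * MvPolynomial.X 1) = C X := by
    simp only [Model.psi, map_add, map_mul, map_neg, MvPolynomial.aeval_C, MvPolynomial.aeval_X,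
      Matrix.cons_val_zero, Matrix.cons_val_one, IsScalarTower.algebraMap_apply k k[X] k[X][X],
      Polynomial.algebraMap_eq]
    have e : (C (C M.a) : k[X][X]) * C (C M.a⁻¹) = 1 := by
      rw [← C_mul, ← C_mul, mul_inv_cancel₀ M.a_ne, map_one, map_one]
    linear_combination (C X - C (C M.b) * X) * e
  have hC : ∀ q : k[X], ∃ p, M.psi p = C q := fun q => by
    refine ⟨Polynomial.aeval (MvPolynomial.C M.a * MvPolynomial.X 0 +
      MvPolynomial.C M.b * MvPolynomial.X 1 : MvPolynomial (Fin 2) k) q, ?_⟩
    rw [← Polynomial.aeval_algHom_apply, hX]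
    induction q using Polynomial.induction_on' with
    | add p q hp hq => rw [map_add, hp, hq, map_add]
    | monomial i c => rw [aeval_monomial, ← C_mul_X_pow_eq_monomial, map_mul, map_pow]; rfl
  intro r
  induction r using Polynomial.induction_on' with
  | add p q hp hq =>
    obtain ⟨p', rfl⟩ := hp
    obtain ⟨q', rfl⟩ := hq
    exact ⟨p' + q', map_add _ _ _⟩
  | monomial i c =>
    obtain ⟨p, hp⟩ := hC c
    exact ⟨p * MvPolynomial.X 1 ^ i, by
      rw [map_mul, map_pow, hp, ← C_mul_X_pow_eq_monomial]; simp [Model.psi]⟩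

lemma Model.ev2_psi (p : MvPolynomial (Fin 2) k) :
    ev2 M.h y (M.psi p) = MvPolynomial.aeval ![x, y] p := by
  induction p using MvPolynomial.induction_on with
  | C c =>
    rw [← MvPolynomial.algebraMap_eq, AlgHom.commutes, AlgHom.commutes,
      IsScalarTower.algebraMap_apply k k[X] k[X][X]]
    exact (ev2_C _ _ _).trans (aeval_C _ _)
  | add p q hp hq => simp only [map_add, hp, hq]
  | mul_X p i hp =>
    simp only [map_mul, hp]
    congr 1
    fin_cases i
    · simp only [Model.psi, MvPolynomial.aeval_X]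
      show ev2 M.h y (C (C M.a⁻¹ * X) + C (C (-(M.a⁻¹ * M.b))) * X) = x
      rw [map_add, map_mul (ev2 M.h y), ev2_C, ev2_C, ev2_X, map_mul, aeval_C, aeval_C, aeval_X, ← Algebra.smul_def,
        ← Algebra.smul_def]
      exact M.x_eq.symm
    · simp only [Model.psi, MvPolynomial.aeval_X]
      exact ev2_X _ _

lemma Model.derivative_psi (p : MvPolynomial (Fin 2) k) :
    derivative (M.psi p) = M.psi (MvPolynomial.pderiv 1 p) +
      C (C (-(M.a⁻¹ * M.b))) * M.psi (MvPolynomial.pderiv 0 p) := by
  induction p using MvPolynomial.induction_on with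
  | C c =>
    rw [← MvPolynomial.algebraMap_eq, AlgHom.commutes, IsScalarTower.algebraMap_apply k k[X] k[X][X]]
    simp [MvPolynomial.algebraMap_eq]
  | add p q hp hq => simp only [map_add, hp, hq]; ring
  | mul_X p i hp =>
    simp only [map_mul, derivative_mul, hp, MvPolynomial.pderiv_mul, map_add]
    fin_cases i <;> simp [Model.psi, MvPolynomial.pderiv_X] <;> ring

end Coordinates

section Equation

variable (hK : IsFunctionField k K) [Infinite k] (M : Model k x y)
  (hxy : IntermediateField.adjoin k ({x, y} : Set K) = ⊤)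

include hK hxy in
/-- The monic equation of a plane model with its degree bounds. -/
lemma Model.exists_eqn : ∃ (P : k[X][X]), P.Monic ∧ P.natDegree = M.d ∧ ev2 M.h y P = 0 ∧
    ∀ j, (P.coeff j).natDegree ≤ M.d - j := by
  classical
  obtain ⟨p, hp, he⟩ := M.exists_rep (m := M.d) (f := y ^ M.d)
    (by simpa using M.monomial_mem hK hxy (i := 0) (j := M.d) (m := M.d) (by omega))
  set S : k[X][X] := ∑ j : Fin M.d, C (p j) * X ^ (j : ℕ) with hS
  have hSd : S.degree < (M.d : WithBot ℕ) := degree_sum_fin_lt _
  have hm : (X ^ M.d - S).Monic := monic_X_pow_sub hSd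
  refine ⟨X ^ M.d - S, hm, ?_, ?_, fun j => ?_⟩
  · refine natDegree_eq_of_degree_eq_some ?_
    rw [degree_sub_eq_left_of_degree_lt (by rw [degree_X_pow]; exact hSd), degree_X_pow]
  · simp only [hS, map_sub, map_pow, map_sum, map_mul, ev2_C, ev2_X]
    rw [← he, sub_self]
  · rw [coeff_sub, coeff_X_pow]
    rcases lt_trichotomy j M.d with hj | rfl | hj
    · rw [if_neg hj.ne, zero_sub, natDegree_neg, natDegree_le_iff_coeff_eq_zero]
      intro i hi
      have hcoe : S.coeff j = p ⟨j, hj⟩ := by
        rw [hS, finsetSum_coeff, Finset.sum_eq_single ⟨j, hj⟩ (fun b _ hb => by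
          rw [coeff_C_mul_X_pow, if_neg]
          exact fun e => hb (Fin.ext e.symm)) (by simp)]
        simp
      rw [hcoe]
      by_contra hne
      have := hp ⟨j, hj⟩ i hne
      simp only at this
      omega
    · have h0 : S.coeff M.d = 0 := coeff_eq_zero_of_degree_lt hSd
      rw [if_pos rfl, h0, sub_zero, natDegree_one]; omega
    · have h0 : S.coeff j = 0 := coeff_eq_zero_of_degree_lt (hSd.trans (by exact_mod_cast hj))
      rw [if_neg hj.ne', h0, sub_zero, natDegree_zero]; omega

include hK hxy

/-- The monic equation divides every relation of `x, y`. -/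
lemma Model.dvd_psi {P : k[X][X]} (hP : P.Monic) (hPd : P.natDegree = M.d)
    (hrel : ev2 M.h y P = 0) {f : MvPolynomial (Fin 2) k}
    (hfxy : MvPolynomial.aeval ![x, y] f = 0) : P ∣ M.psi f := by
  classical
  have hd := M.d_pos hK hxy
  rw [← modByMonic_eq_zero_iff_dvd hP]
  set r := M.psi f %ₘ P with hr
  have hr0 : ev2 M.h y r = 0 := by
    have h := M.ev2_psi f
    rw [hfxy, ← modByMonic_add_div (M.psi f) P, map_add, map_mul, hrel, zero_mul, add_zero, ← hr] at h
    exact h
  have hrd : r.natDegree < M.d := hPd ▸ natDegree_modByMonic_lt _ hP fun e => by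
    rw [e, natDegree_one] at hPd; omega
  have hsum : ∑ j : Fin M.d, aeval M.h (r.coeff j) * y ^ (j : ℕ) = 0 := by
    rw [← hr0, Fin.sum_univ_eq_sum_range (fun j => aeval M.h (r.coeff j) * y ^ j)]
    exact (Polynomial.eval₂_eq_sum_range' _ hrd _).symm
  ext1 j
  rcases Nat.lt_or_ge j M.d with hj | hj
  · rw [M.eq_zero hK hxy hsum ⟨j, hj⟩, coeff_zero]
  · rw [coeff_eq_zero_of_natDegree_lt (by omega), coeff_zero]

/-- An irreducible relation of `x, y` is a constant times the monic equation. -/
lemma Model.exists_const_eqn {P : k[X][X]} (hP : P.Monic) (hPd : P.natDegree = M.d)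
    (hrel : ev2 M.h y P = 0) {f : MvPolynomial (Fin 2) k} (hf : Irreducible f)
    (hfxy : MvPolynomial.aeval ![x, y] f = 0) : ∃ c : k, c ≠ 0 ∧ M.psi f = C (C c) * P := by
  classical
  have hd := M.d_pos hK hxy
  let e : MvPolynomial (Fin 2) k ≃* k[X][X] :=
    MulEquiv.ofBijective M.psi.toMonoidHom ⟨M.psi_injective, M.psi_surjective⟩
  have hirr : Irreducible (M.psi f) := (MulEquiv.irreducible_iff e).2 hf
  have hdvd : P ∣ M.psi f := M.dvd_psi hK hxy hP hPd hrel hfxy
  obtain ⟨q, hq⟩ := hdvd
  have hPu : ¬ IsUnit P := fun hu => by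
    have := natDegree_eq_zero_of_isUnit hu
    omega
  obtain ⟨c', hc', rfl⟩ := Polynomial.isUnit_iff.1 ((hirr.isUnit_or_isUnit hq).resolve_left hPu)
  obtain ⟨c, hc, rfl⟩ := Polynomial.isUnit_iff.1 hc'
  exact ⟨c, hc.ne_zero, by rw [hq, mul_comm]⟩

end Equation

section Adjoint

variable [IsAlgClosed k] (hK : IsFunctionField k K) (M : Model k x y)
  (hxy : IntermediateField.adjoin k ({x, y} : Set K) = ⊤)
  [hsep : Algebra.IsSeparable (IntermediateField.adjoin k ({M.h} : Set K)) K]
  {P : k[X][X]} (hP : P.Monic) (hPd : P.natDegree = M.d) (hrel : ev2 M.h y P = 0)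
  (hdeg : ∀ j, (P.coeff j).natDegree ≤ M.d - j) (hne : ev2 M.h y (derivative P) ≠ 0)
include hK hxy hsep hP hPd hrel hdeg hne

/-- The adjoint coefficient is nonnegative and vanishes exactly at nonsingular places. -/
theorem Model.adjoint (Q : Place k K) :
    dOrd hK M.h Q ≤ Q.ord (ev2 M.h y (derivative P)) + ((M.d : ℤ) - 3) * mapDiv k ![(1 : K), x, y] Q ∧
      (Q.ord (ev2 M.h y (derivative P)) + ((M.d : ℤ) - 3) * mapDiv k ![(1 : K), x, y] Q = dOrd hK M.h Q ↔
        IsNonsingularAt ![(1 : K), x, y] Q) := by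
  classical
  set φ := ![(1 : K), x, y] with hφ
  set D := mapDiv k φ Q with hD
  have htr := M.transcendental hK hxy
  have hh0 : M.h ≠ 0 := fun e => htr (e ▸ isAlgebraic_zero)
  have hd := M.d_pos hK hxy
  obtain ⟨hox, hoy, hoh⟩ := M.ord_facts hK Q
  rw [← hφ, ← hD] at hox hoy hoh
  set E := IntermediateField.adjoin k ({M.h} : Set K)
  have hfd := finite_adjoin hK htr
  have htop : IntermediateField.adjoin E ({y} : Set K) = ⊤ := M.adjoin_top hxy M.h y
    (IntermediateField.algebraMap_mem _ (⟨M.h, IntermediateField.mem_adjoin_simple_self k M.h⟩ : E))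
    (IntermediateField.mem_adjoin_simple_self _ y)
  set P' := ev2 M.h y (derivative P) with hP'
  by_cases hQ : Q.1 M.h ≤ 1
  · -- an affine place
    have hD0 : D = 0 := by have := (v_le_one_iff Q M.h).1 hQ; omega
    obtain ⟨h1, h2⟩ := conductor_core (n := M.d) rfl hP hPd hrel hK htr htop Q hQ
    rw [hD0, mul_zero, add_zero]
    refine ⟨h1, h2.trans ?_⟩
    have hmax : ∀ i, Q.1 (φ i) ≤ Q.1 (1 : K) := fun i => by
      rw [map_one, v_le_one_iff]
      fin_cases i <;> simp [hφ] <;> omega
    rw [isNonsingularAt_iff one_ne_zero (Submodule.subset_span ⟨0, rfl⟩) hmax]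
    have hA : chart k φ 1 = Algebra.adjoin k ({M.h, y} : Set K) := by
      refine le_antisymm (Algebra.adjoin_le ?_) (Algebra.adjoin_le ?_)
      · rintro w ⟨i, rfl⟩
        show φ i / 1 ∈ Algebra.adjoin k ({M.h, y} : Set K)
        rw [div_one]
        fin_cases i
        · exact Subalgebra.one_mem _
        · show x ∈ _
          refine (congrArg (· ∈ (Algebra.adjoin k ({M.h, y} : Set K) : Set K)) M.x_eq).mpr ?_
          exact Subalgebra.add_mem _ (Subalgebra.smul_mem _ (Algebra.subset_adjoin (by simp)) _)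
            (Subalgebra.smul_mem _ (Algebra.subset_adjoin (by simp)) _)
        · exact Algebra.subset_adjoin (by simp [hφ])
      · have h : ∀ w ∈ Submodule.span k (Set.range φ), w ∈ chart k φ 1 := fun w hw => by
          simpa using span_div_mem_chart (c := (1 : K)) hw
        rintro w (rfl | rfl)
        · refine h _ (M.eq ▸ ?_)
          exact add_mem (Submodule.smul_mem _ _ (Submodule.subset_span ⟨1, rfl⟩))
            (Submodule.smul_mem _ _ (Submodule.subset_span ⟨2, rfl⟩))
        · exact h _ (Submodule.subset_span ⟨2, rfl⟩)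
    rw [hA]
    rfl
  · -- a place at infinity
    have hneg : Q.ord M.h < 0 := by
      by_contra h; exact hQ ((v_le_one_iff Q _).2 (not_lt.1 h))
    have hDh : D = -Q.ord M.h := by omega
    set s := M.h⁻¹ with hs
    set t := y / M.h with ht
    have hstr : Transcendental k s := fun h => htr (inv_inv M.h ▸ h.inv)
    have hadj : IntermediateField.adjoin k ({s} : Set K) = E := adjoin_inv M.h
    have : Algebra.IsSeparable (IntermediateField.adjoin k ({s} : Set K)) K := by rw [hadj]; exact hsep
    have hn : finrank (IntermediateField.adjoin k ({s} : Set K)) K = M.d :=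
      congrArg (fun E : IntermediateField k K => finrank E K) hadj
    have hhF : M.h ∈ IntermediateField.adjoin (IntermediateField.adjoin k ({s} : Set K)) ({t} : Set K) := by
      have : s⁻¹ ∈ IntermediateField.adjoin (IntermediateField.adjoin k ({s} : Set K)) ({t} : Set K) :=
        inv_mem (IntermediateField.algebraMap_mem _
          (⟨s, IntermediateField.mem_adjoin_simple_self k s⟩ : IntermediateField.adjoin k ({s} : Set K)))
      rwa [hs, inv_inv] at this
    have hyF : y ∈ IntermediateField.adjoin (IntermediateField.adjoin k ({s} : Set K)) ({t} : Set K) := by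
      have := MulMemClass.mul_mem (IntermediateField.mem_adjoin_simple_self
        (IntermediateField.adjoin k ({s} : Set K)) t) hhF
      rwa [ht, div_mul_cancel₀ _ hh0] at this
    have htops := M.adjoin_top hxy s t hhF hyF
    -- the reflected equation
    let R : k[X][X] := ∑ j ∈ Finset.range (M.d + 1), C (reflect (M.d - j) (P.coeff j)) * X ^ j
    have hRc : ∀ j, R.coeff j = if j ≤ M.d then reflect (M.d - j) (P.coeff j) else 0 := fun j => by
      simp only [R, finsetSum_coeff, coeff_C_mul_X_pow]
      rw [Finset.sum_ite_eq]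
      simp [Nat.lt_succ_iff]
    have hRtop : R.coeff M.d = 1 := by
      rw [hRc, if_pos le_rfl, Nat.sub_self, ← hPd, hP.coeff_natDegree]
      simp [reflect_one]
    have hRle : R.natDegree ≤ M.d := natDegree_le_iff_coeff_eq_zero.2 fun j hj => by
      rw [hRc, if_neg (by omega)]
    have hRd : R.natDegree = M.d := le_antisymm hRle (le_natDegree_of_ne_zero (by rw [hRtop]; exact one_ne_zero))
    have hR : R.Monic := by rw [Monic, leadingCoeff, hRd, hRtop]
    have hrefl : ∀ (N : ℕ) (p : k[X]), p.natDegree ≤ N →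
        aeval s (reflect N p) = aeval M.h p / M.h ^ N := fun N p hp => by
      let _ : Invertible M.h := invertibleOfNonzero hh0
      rw [eq_div_iff (pow_ne_zero _ hh0), aeval_def, aeval_def, hs, ← invOf_eq_inv]
      exact eval₂_reflect_mul_pow (algebraMap k K) M.h N p hp
    have hRrel : ev2 s t R = 0 := by
      have h1 : ev2 s t R = ev2 M.h y P / M.h ^ M.d := by
        conv_rhs => rw [P.as_sum_range_C_mul_X_pow' (n := M.d + 1) (by omega)]
        simp only [R, map_sum, Finset.sum_div, map_mul, map_pow, ev2_C, ev2_X]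
        refine Finset.sum_congr rfl fun j hj => ?_
        have hj' : j ≤ M.d := Nat.lt_succ_iff.1 (Finset.mem_range.1 hj)
        rw [hrefl _ _ (hdeg j), ht, div_pow, div_mul_div_comm, ← pow_add, Nat.sub_add_cancel hj']
      rw [h1, hrel, zero_div]
    have hRder : ev2 s t (derivative R) = P' / M.h ^ (M.d - 1) := by
      rw [hP']
      conv_rhs => rw [P.as_sum_range_C_mul_X_pow' (n := M.d + 1) (by omega)]
      simp only [R, derivative_sum, map_sum, Finset.sum_div, derivative_C_mul_X_pow]
      refine Finset.sum_congr rfl fun j hj => ?_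
      have hj' : j ≤ M.d := Nat.lt_succ_iff.1 (Finset.mem_range.1 hj)
      rcases Nat.eq_zero_or_pos j with rfl | hj0
      · simp
      · simp only [map_mul, map_pow, ev2_C, ev2_X, map_natCast]
        rw [hrefl _ _ (hdeg j), ht, div_pow, div_mul_eq_mul_div, div_mul_div_comm, ← pow_add,
          show M.d - j + (j - 1) = M.d - 1 by omega]
    have hsQ : Q.1 s ≤ 1 := by
      rw [v_le_one_iff, hs, ord_inv]; omega
    obtain ⟨h1, h2⟩ := conductor_core (u := s) (z := t) hn hR hRd hRrel hK hstr htops Q hsQ
    rw [dOrd_inv hK htr hsep, hRder] at h1 h2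
    have hP'0 : P' ≠ 0 := hne
    rw [div_eq_mul_inv, ord_mul Q hP'0 (inv_ne_zero (pow_ne_zero _ hh0)), ord_inv, ord_pow,
      Nat.cast_sub (by omega : 1 ≤ M.d), Nat.cast_one] at h1 h2
    have key : ((M.d : ℤ) - 3) * D = -(((M.d : ℤ) - 1) * Q.ord M.h) + 2 * Q.ord M.h := by
      rw [hDh]; ring
    refine ⟨by omega, ?_⟩
    have hmax : ∀ i, Q.1 (φ i) ≤ Q.1 M.h := fun i => by
      rw [v_eq Q hh0]
      by_cases h0 : φ i = 0
      · rw [h0, map_zero]; exact zero_le
      · refine (v_le_exp_iff Q h0 _).2 ?_
        fin_cases i <;> simp [hφ] <;> omega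
    have hsp : M.h ∈ Submodule.span k (Set.range φ) := by
      rw [M.eq]
      exact add_mem (Submodule.smul_mem _ _ (Submodule.subset_span ⟨1, rfl⟩))
        (Submodule.smul_mem _ _ (Submodule.subset_span ⟨2, rfl⟩))
    rw [isNonsingularAt_iff hh0 hsp hmax]
    have hA : chart k φ M.h = Algebra.adjoin k ({s, t} : Set K) := by
      refine le_antisymm (Algebra.adjoin_le ?_) (Algebra.adjoin_le ?_)
      · rintro w ⟨i, rfl⟩
        show φ i / M.h ∈ Algebra.adjoin k ({s, t} : Set K)
        fin_cases i
        · exact Algebra.subset_adjoin (by simp [hφ, hs])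
        · show x / M.h ∈ _
          rw [(congrArg (· / M.h) M.x_eq : x / M.h = _), add_div, smul_div_assoc, smul_div_assoc, div_self hh0]
          exact Subalgebra.add_mem _ (Subalgebra.smul_mem _ (Subalgebra.one_mem _) _)
            (Subalgebra.smul_mem _ (Algebra.subset_adjoin (by simp [ht])) _)
        · exact Algebra.subset_adjoin (by simp [hφ, ht])
      · rintro w (rfl | rfl)
        · simpa [hφ, hs] using div_mem_chart (k := k) (φ := φ) M.h 0
        · simpa [hφ, ht] using div_mem_chart (k := k) (φ := φ) M.h 2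
    rw [hA]
    refine Iff.trans ?_ h2
    constructor <;> intro h <;> omega

end Adjoint

/-- Chain rule for a derivation at a point of a plane. -/
lemma derivation_aeval_two (δ : Derivation k K K) (x y : K) (p : MvPolynomial (Fin 2) k) :
    δ (MvPolynomial.aeval ![x, y] p) = MvPolynomial.aeval ![x, y] (MvPolynomial.pderiv 0 p) * δ x +
      MvPolynomial.aeval ![x, y] (MvPolynomial.pderiv 1 p) * δ y := by
  induction p using MvPolynomial.induction_on with
  | C c => simp
  | add p q hp hq => simp only [map_add, hp, hq]; ring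
  | mul_X p i hp =>
    simp only [map_mul, MvPolynomial.aeval_X, Derivation.leibniz, smul_eq_mul, hp,
      MvPolynomial.pderiv_mul, map_add, MvPolynomial.pderiv_X]
    fin_cases i <;> simp <;> ring

/-- A model in normal position with separating coordinate. -/
lemma exists_model_sep [IsAlgClosed k] (hK : IsFunctionField k K)
    (hxy : IntermediateField.adjoin k ({x, y} : Set K) = ⊤) (δ : Derivation k K K)
    (hδ : δ x ≠ 0 ∨ δ y ≠ 0) : ∃ M : Model k x y,
      Algebra.IsSeparable (IntermediateField.adjoin k ({M.h} : Set K)) K ∧ δ M.h ≠ 0 := by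
  let p₀ : Submodule k (Fin 2 → k) := LinearMap.ker (Fintype.linearCombination k ![δ x, δ y])
  have hp₀ : p₀ ≠ ⊤ := fun e => by
    have h0 : Pi.single (0 : Fin 2) (1 : k) ∈ p₀ := e ▸ Submodule.mem_top
    have h1 : Pi.single (1 : Fin 2) (1 : k) ∈ p₀ := e ▸ Submodule.mem_top
    simp only [p₀, LinearMap.mem_ker, Fintype.linearCombination_apply_single, one_smul] at h0 h1
    exact hδ.elim (fun h => h h0) (fun h => h h1)
  obtain ⟨M, hM⟩ := exists_model_avoid hK (x := x) (y := y) p₀ hp₀
  have hne : δ M.h ≠ 0 := fun e => hM (by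
    simpa [p₀, Fintype.linearCombination_apply, Fin.sum_univ_two, M.eq] using e)
  refine ⟨M, ?_, hne⟩
  obtain ⟨q, hq⟩ := ExpChar.exists K
  refine isSeparable_adjoin hK q (M.transcendental hK hxy) ?_
  rcases ‹ExpChar K q› with _ | hp
  · exact .inl rfl
  refine .inr fun w hw => hne ?_
  rw [← hw, Derivation.leibniz_pow, nsmul_eq_mul, CharP.cast_eq_zero, zero_mul]

end Groth.Agent.FFLib
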