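import Groth.Agent.FFLib.WrFixed
import Groth.Agent.FFLib.Conorm

/-!
# The action of automorphisms on places; a bound on fixed points
-/

open WithZero Module

namespace Groth.Agent.FFLib

open FunFld

variable {k K : Type*} [Field k] [IsAlgClosed k] [Field K] [Algebra k K] (hK : IsFunctionField k K)
include hK

lemma resIdx_auto (σ : K ≃ₐ[k] K) (P : Place k K) : resIdx hK (σ : K →ₐ[k] K) P = 1 := by
  obtain ⟨t, -, h1, -⟩ := exists_uniformizer P
  have h := ord_map hK (σ : K →ₐ[k] K) P (σ.symm t)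
  rw [show (σ : K →ₐ[k] K) (σ.symm t) = t from σ.apply_symm_apply t, h1] at h
  exact_mod_cast Int.eq_one_of_mul_eq_one_right (Int.natCast_nonneg _) h.symm

/-- The image of a place under an automorphism, with the same orders. -/
lemma ord_auto (σ : K ≃ₐ[k] K) (P : Place k K) (y : K) :
    P.ord (σ y) = (resPlace hK (σ : K →ₐ[k] K) P).ord y := by
  have h := ord_map hK (σ : K →ₐ[k] K) P y
  rwa [resIdx_auto hK σ P, Nat.cast_one, one_mul] at h

lemma place_eq_of_ord {P Q : Place k K} (h : ∀ y, P.ord y = Q.ord y) : P = Q :=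
  place_ext_of_le P Q fun y hy => by
    rw [v_le_one_iff] at hy ⊢
    rwa [← h]

lemma resPlace_refl (P : Place k K) :
    resPlace hK ((AlgEquiv.refl : K ≃ₐ[k] K) : K →ₐ[k] K) P = P :=
  place_eq_of_ord hK fun y => (ord_auto hK AlgEquiv.refl P y).symm

lemma resPlace_mul (σ τ : K ≃ₐ[k] K) (P : Place k K) :
    resPlace hK ((σ * τ : K ≃ₐ[k] K) : K →ₐ[k] K) P =
      resPlace hK (τ : K →ₐ[k] K) (resPlace hK (σ : K →ₐ[k] K) P) :=
  place_eq_of_ord hK fun y => by
    rw [← ord_auto hK, ← ord_auto hK, ← ord_auto hK]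
    rfl

lemma isFixedPt_iff (σ : K ≃ₐ[k] K) (P : Place k K) :
    IsFixedPt (σ : K →ₐ[k] K) P ↔ resPlace hK (σ : K →ₐ[k] K) P = P := by
  constructor
  · intro h
    refine (place_ext_of_le P _ fun y hy => ?_).symm
    rw [v_le_one_iff, ← ord_auto hK σ P]
    exact (v_le_one_iff P _).1 (v_map_le_one_of_fixed (deg_eq_one hK P) h hy)
  · intro h z hz
    rcases eq_or_ne z 0 with rfl | hz0
    · simp
    rw [v_lt_one_iff P hz0] at hz
    show P.1 (σ z) < 1
    rw [v_lt_one_iff P (show σ z ≠ 0 from σ.map_ne_zero_iff.2 hz0), ord_auto hK, h]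
    exact hz

lemma gap_zero_not (P : Place k K) : ¬IsGap P 0 := by
  rw [isGap_iff, not_not]
  exact ⟨1, by rw [Nat.cast_zero, Finsupp.single_zero, mem_L_iff one_ne_zero]; simp, one_ne_zero, by simp⟩

lemma gap_le (P : Place k K) {m : ℕ} (hm : IsGap P m) : 1 ≤ m ∧ m ≤ 2 * genus k K := by
  refine ⟨Nat.one_le_iff_ne_zero.2 fun e => gap_zero_not hK P (e ▸ hm), ?_⟩
  by_contra h
  obtain ⟨f, hf, hfp⟩ := exists_pole_single hK P (m := m) (by omega)
  rw [isGap_iff] at hm
  refine hm ⟨f, hfp ▸ mem_L_pole hK f, fun e => hf (e ▸ isAlgebraic_zero), ?_⟩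
  have h5 : pole (k := k) f P = m := by rw [hfp, Finsupp.single_eq_same]
  rw [pole_apply hK] at h5
  omega

/-- There are exactly `g` gaps. -/
lemma exists_gapSet (P : Place k K) :
    ∃ G : Finset ℕ, (∀ m, m ∈ G ↔ IsGap P m) ∧ G.card = genus k K := by
  classical
  set N := 2 * genus k K + 1
  refine ⟨(Finset.range N).filter fun m => IsGap P m, fun m => ?_, ?_⟩
  · simp only [Finset.mem_filter, Finset.mem_range, and_iff_right_iff_imp]
    intro h
    have := (gap_le hK P h).2
    omega
  · have hdeg := deg_eq_one hK P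
    have h1 := ell_add_card_gaps hK hdeg N
    have h2 := ell_eq_of_deg_ge hK (D := Finsupp.single P (N : ℤ)) (by rw [deg_single, hdeg]; omega)
    rw [deg_single, hdeg] at h2
    have hset : {m | 1 ≤ m ∧ m ≤ N ∧ IsGap P m} = ↑((Finset.range N).filter fun m => IsGap P m) := by
      ext m
      simp only [Finset.coe_filter, Finset.mem_range, Set.mem_ofPred_eq]
      constructor
      · rintro ⟨-, -, h⟩
        have := (gap_le hK P h).2
        exact ⟨by omega, h⟩
      · rintro ⟨h4, h⟩
        exact ⟨(gap_le hK P h).1, h4.le, h⟩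
    rw [hset, Set.ncard_coe_finset] at h1
    omega

/-- Every place has a function with a single pole of order at most `g + 1`. -/
lemma exists_small_pole (P : Place k K) :
    ∃ m : ℕ, 1 ≤ m ∧ m ≤ genus k K + 1 ∧ ∃ f : K, Transcendental k f ∧
      pole (k := k) f = Finsupp.single P (m : ℤ) := by
  classical
  obtain ⟨G, hG, hc⟩ := exists_gapSet hK P
  obtain ⟨m, hm, hmG⟩ : ∃ m ∈ Finset.Icc 1 (genus k K + 1), m ∉ G := by
    by_contra h
    push Not at h
    have := Finset.card_le_card (s := Finset.Icc 1 (genus k K + 1)) (fun m hm => h m hm)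
    rw [Nat.card_Icc, hc] at this
    omega
  rw [Finset.mem_Icc] at hm
  have hm' : ¬IsGap P m := fun h => hmG ((hG m).2 h)
  rw [isGap_iff, not_not] at hm'
  obtain ⟨f, hf, hf0, hfo⟩ := hm'
  refine ⟨m, hm.1, hm.2, f, transcendental_of_ord hK P (by omega), Finsupp.ext fun Q => ?_⟩
  rw [pole_apply hK]
  rcases eq_or_ne Q P with rfl | hQ
  · rw [Finsupp.single_eq_same, hfo]; omega
  · have := (mem_L_iff hf0).1 hf Q
    rw [Finsupp.single_eq_of_ne hQ] at this ⊢
    omega

omit [IsAlgClosed k] in
/-- The number of places at which a function vanishes is at most the degree of any bound on its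
poles. -/
lemma card_zeros_le {h : K} (h0 : h ≠ 0) {D : Divisor k K} (hD : h ∈ L D) (s : Finset (Place k K))
    (hs : ∀ Q ∈ s, 0 < Q.ord h) (hsD : ∀ Q ∈ s, 0 ≤ D Q) : (s.card : ℤ) ≤ D.deg := by
  classical
  have h1 := (mem_L_iff h0).1 hD
  have hnn : ∀ Q, 0 ≤ (FunFld.div k h + D) Q := fun Q => by
    rw [Finsupp.add_apply, div_apply hK]; linarith [h1 Q]
  have hle : (∑ Q ∈ s, Finsupp.single Q 1 : Divisor k K) ≤ FunFld.div k h + D := fun R => by
    rw [Finsupp.finsetSum_apply]
    by_cases hR : R ∈ s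
    · rw [Finset.sum_eq_single R (fun Q _ hne => Finsupp.single_eq_of_ne hne.symm) (fun h => absurd hR h),
        Finsupp.single_eq_same, Finsupp.add_apply, div_apply hK]
      linarith [hs R hR, hsD R hR]
    · rw [Finset.sum_eq_zero fun Q hQ => Finsupp.single_eq_of_ne fun e => hR (by rw [e]; exact hQ)]
      exact hnn R
  have := deg_mono hle
  rw [deg_add, deg_div hK, zero_add] at this
  refine le_trans ?_ this
  show (s.card : ℤ) ≤ degHom (∑ Q ∈ s, Finsupp.single Q 1)
  rw [map_sum, Finset.cast_card]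
  refine Finset.sum_le_sum fun Q _ => ?_
  show (1 : ℤ) ≤ Divisor.deg _
  rw [deg_single, one_mul]
  exact_mod_cast deg_pos hK Q

/-- An automorphism which is not the identity moves some place. -/
lemma exists_moved (σ : K ≃ₐ[k] K) (hσ : σ ≠ AlgEquiv.refl) :
    ∃ P : Place k K, resPlace hK (σ : K →ₐ[k] K) P ≠ P := by
  classical
  by_contra h
  push Not at h
  obtain ⟨x, hx⟩ := exists_transcendental hK
  obtain ⟨P, -⟩ := exists_pole hK (x := x) fun ⟨a, ha⟩ => hx (ha ▸ isAlgebraic_algebraMap a)
  -- a function with a single pole at `P` is fixed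
  have key : ∀ f : K, σ f = f := by
    intro f
    by_contra hne
    set g := σ f - f
    have hg : g ≠ 0 := sub_ne_zero.2 hne
    -- every place without a pole of `f` is a zero of `g`
    have hz : ∀ Q : Place k K, 0 ≤ Q.ord f → 0 < Q.ord g := fun Q hQ => by
      obtain ⟨c, hc⟩ := exists_const_sub_lt (deg_eq_one hK Q) (y := f) ((v_le_one_iff Q f).2 hQ)
      have h1 : Q.1 (σ (f - algebraMap k K c)) < 1 := (isFixedPt_iff hK σ Q).2 (h Q) _ hc
      rw [← v_lt_one_iff Q hg, show g = σ (f - algebraMap k K c) - (f - algebraMap k K c) by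
        simp only [g, map_sub, σ.commutes]; ring]
      exact lt_of_le_of_lt (Q.1.map_sub _ _) (max_lt h1 hc)
    obtain ⟨D, hD⟩ : ∃ D : Divisor k K, g ∈ L D :=
      ⟨pole (k := k) g, mem_L_pole hK g⟩
    -- infinitely many places
    have hinf : ∀ m : ℕ, ∃ s : Finset (Place k K), s.card = m ∧ ∀ Q ∈ s, 0 ≤ Q.ord f ∧ 0 ≤ Q.ord g := by
      intro m
      obtain ⟨c, hc, hfin⟩ : ∃ c : Finset k, c.card = m + (pole (k := k) f).support.card +
          (pole (k := k) g).support.card ∧ True :=
        ⟨((Infinite.exists_subset_card_eq k _)).choose, (Infinite.exists_subset_card_eq k _).choose_spec, trivial⟩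
      choose Z hZ using fun a : k => exists_zero hK (x := x - algebraMap k K a)
        fun ⟨b, hb⟩ => hx (by
          rw [show x = algebraMap k K (b + a) by rw [map_add, hb, sub_add_cancel]]
          exact isAlgebraic_algebraMap _)
      have hinj : Set.InjOn Z c := fun a _ b _ e => by
        by_contra hab
        have ha := hZ a
        have hb := hZ b
        rw [← e] at hb
        have h1 : ∀ y : K, 0 < (Z a).ord y → (Z a).1 y < 1 := fun y hy =>
          (v_lt_one_iff (Z a) (fun e => by rw [e, ord_zero] at hy; omega)).2 hy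
        have h2 : (Z a).1 ((x - algebraMap k K a) - (x - algebraMap k K b)) < 1 :=
          lt_of_le_of_lt ((Z a).1.map_sub _ _) (max_lt (h1 _ ha) (h1 _ hb))
        rw [sub_sub_sub_cancel_left, ← map_sub, v_const (Z a) (sub_ne_zero.2 (Ne.symm hab))] at h2
        exact lt_irrefl _ h2
      set s := ((c.image Z) \ ((pole (k := k) f).support ∪ (pole (k := k) g).support))
      have hs : m ≤ s.card := by
        have h3 := Finset.le_card_sdiff ((pole (k := k) f).support ∪ (pole (k := k) g).support) (c.image Z)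
        rw [Finset.card_image_of_injOn hinj, hc] at h3
        have h4 := Finset.card_union_le (pole (k := k) f).support (pole (k := k) g).support
        simp only [s]
        omega
      obtain ⟨t, hts, htc⟩ := Finset.exists_subset_card_eq hs
      refine ⟨t, htc, fun Q hQ => ?_⟩
      have h5 := hts hQ
      simp only [s, Finset.mem_sdiff, Finset.mem_union, Finsupp.mem_support_iff, not_or, not_not,
        pole_apply hK.1] at h5
      omega
    obtain ⟨s, hsc, hs⟩ := hinf ((pole (k := k) g).deg.toNat + 1)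
    have := card_zeros_le hK hg (mem_L_pole hK g) s (fun Q hQ => hz Q (hs Q hQ).1)
      (fun Q _ => pole_nonneg g Q)
    omega
  exact hσ (AlgEquiv.ext key)

/-- A nontrivial automorphism fixes at most `2 g + 2` places. -/
lemma card_fixed_le (σ : K ≃ₐ[k] K) (hσ : σ ≠ AlgEquiv.refl) (s : Finset (Place k K))
    (hs : ∀ Q ∈ s, IsFixedPt (σ : K →ₐ[k] K) Q) : s.card ≤ 2 * genus k K + 2 := by
  classical
  obtain ⟨P, hP⟩ := exists_moved hK σ hσ
  obtain ⟨m, hm1, hm2, f, hf, hfp⟩ := exists_small_pole hK P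
  have hfpole : ∀ Q, max (-Q.ord f) 0 = if Q = P then (m : ℤ) else 0 := fun Q => by
    rw [← pole_apply hK f Q, hfp]
    split_ifs with h
    · rw [h, Finsupp.single_eq_same]
    · rw [Finsupp.single_eq_of_ne h]
  -- `σ f` has its pole at another place
  obtain ⟨P', hP'⟩ : ∃ P', resPlace hK (σ : K →ₐ[k] K) P' = P :=
    ⟨resPlace hK ((σ.symm : K ≃ₐ[k] K) : K →ₐ[k] K) P, by
      rw [← resPlace_mul hK σ.symm σ]
      rw [show σ.symm * σ = (AlgEquiv.refl : K ≃ₐ[k] K) from AlgEquiv.ext σ.symm_apply_apply]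
      exact resPlace_refl hK P⟩
  have hPP : P' ≠ P := fun e => hP (by rw [e] at hP'; exact hP')
  set g := σ f - f
  have hpoleσ : ∀ Q, Q ≠ P' → 0 ≤ Q.ord (σ f) := fun Q hQ => by
    rw [ord_auto hK]
    have := hfpole (resPlace hK (σ : K →ₐ[k] K) Q)
    rw [if_neg (fun e => hQ ?_)] at this
    · omega
    · have h1 := congrArg (resPlace hK ((σ.symm : K ≃ₐ[k] K) : K →ₐ[k] K)) (e.trans hP'.symm)
      rwa [← resPlace_mul hK σ σ.symm, ← resPlace_mul hK σ σ.symm,
        show σ * σ.symm = (AlgEquiv.refl : K ≃ₐ[k] K) from AlgEquiv.ext σ.apply_symm_apply,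
        resPlace_refl hK, resPlace_refl hK] at h1
  have hg : g ≠ 0 := fun e => by
    have h1 := hpoleσ P (Ne.symm hPP)
    rw [sub_eq_zero.1 e] at h1
    have := hfpole P
    rw [if_pos rfl] at this
    omega
  set D : Divisor k K := Finsupp.single P (m : ℤ) + Finsupp.single P' (m : ℤ)
  have hDnn : ∀ Q, 0 ≤ D Q := fun Q => by
    simp only [D, Finsupp.add_apply, Finsupp.single_apply]
    split_ifs <;> omega
  have hgD : g ∈ L D := by
    rw [show g = σ f + -f from sub_eq_add_neg _ _]
    refine Submodule.add_mem _ ?_ (Submodule.neg_mem _ ?_)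
    · intro Q
      rcases eq_or_ne (σ f) 0 with h | h
      · simp [h]
      rw [v_eq Q h, exp_le_exp, ord_auto hK]
      have := hfpole (resPlace hK (σ : K →ₐ[k] K) Q)
      rcases eq_or_ne Q P' with rfl | hQ
      · rw [hP', if_pos rfl] at this
        simp only [D, Finsupp.add_apply, Finsupp.single_eq_same, Finsupp.single_eq_of_ne hPP, hP']
        omega
      · have h2 := hpoleσ Q hQ
        rw [ord_auto hK] at h2
        linarith [hDnn Q]
    · intro Q
      refine (mem_L_pole hK f Q).trans (exp_le_exp.2 ?_)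
      rw [pole_apply hK, hfpole]
      simp only [D, Finsupp.add_apply, Finsupp.single_apply, eq_comm (a := Q)]
      split_ifs <;> omega
  -- the fixed places are zeros of `g`
  have hz : ∀ Q ∈ s, 0 < Q.ord g := fun Q hQ => by
    have hQP : Q ≠ P := fun e => hP (e ▸ (isFixedPt_iff hK σ Q).1 (hs Q hQ))
    have hfQ : Q.1 f ≤ 1 := by
      rw [v_le_one_iff]
      have := hfpole Q
      rw [if_neg hQP] at this
      omega
    obtain ⟨c, hc⟩ := exists_const_sub_lt (deg_eq_one hK Q) (y := f) hfQ
    rw [← v_lt_one_iff Q hg, show g = σ (f - algebraMap k K c) - (f - algebraMap k K c) by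
      simp only [g, map_sub, σ.commutes]; ring]
    exact lt_of_le_of_lt (Q.1.map_sub _ _) (max_lt (hs Q hQ _ hc) hc)
  have := card_zeros_le hK hg hgD s hz (fun Q _ => hDnn Q)
  simp only [D, deg_add, deg_single, deg_eq_one hK] at this
  omega

end Groth.Agent.FFLib
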