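import Groth.Agent.FFLib.Jumps
import Mathlib.Algebra.Polynomial.Div
import Mathlib.Algebra.Polynomial.Degree.Lemmas
import Mathlib.RingTheory.Polynomial.Basic

/-!
# A nonsingular minor of a matrix of binomial coefficients
-/

open Module Submodule Polynomial

namespace Groth.Agent.FFLib

open FunFld

variable (R : Type*) [Field R] {n : ℕ}

/-- Powers of `1 + X` with bounded exponents are detected by low coefficients, also after
multiplying by a further power of `1 + X`. -/
lemma one_add_X_pow_detect {m : ℕ} (d : Fin m → ℕ) (hd : Function.Injective d) (N j : ℕ) (hN : ∀ r, d r ≤ N)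
    (a : Fin m → R) (h : ∀ i ≤ N, ∑ r, a r * ((d r + j).choose i : R) = 0) : a = 0 := by
  set p : R[X] := ∑ r, C (a r) * (X + 1) ^ d r with hp
  have hdeg : p.natDegree ≤ N := natDegree_sum_le_of_forall_le _ _ fun r _ =>
    (natDegree_C_mul_le _ _).trans (le_trans (by
      rw [natDegree_pow, ← C_1, natDegree_X_add_C, mul_one]) (hN r))
  have hdvd : X ^ (N + 1) ∣ (X + 1) ^ j * p := by
    rw [X_pow_dvd_iff]
    intro i hi
    rw [hp, Finset.mul_sum, finsetSum_coeff]
    simp only [mul_left_comm ((X + 1 : R[X]) ^ j), coeff_C_mul, ← pow_add, coeff_X_add_one_pow]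
    simpa only [add_comm j] using h i (by omega)
  have hcop : IsCoprime ((X : R[X]) ^ (N + 1)) ((X + 1) ^ j) :=
    IsCoprime.pow ⟨-1, 1, by ring⟩
  have hp0 : p = 0 := by
    by_contra hne
    have := natDegree_le_of_dvd (hcop.dvd_of_dvd_mul_left hdvd) hne
    rw [natDegree_X_pow] at this
    omega
  funext r
  have h1 := congrArg (fun q : R[X] => (q.comp (X - 1)).coeff (d r)) hp0
  simp only [hp, sum_comp, mul_comp, C_comp, pow_comp, add_comp, X_comp, one_comp, sub_add_cancel,
    finsetSum_coeff, coeff_C_mul, coeff_X_pow, mul_ite, mul_one, mul_zero, zero_comp, coeff_zero] at h1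
  rw [Finset.sum_eq_single r (fun b _ hb => if_neg fun e => hb (hd e.symm)) (by simp), if_pos rfl] at h1
  exact h1

/-- An index sequence with nonsingular binomial matrix, below the shifted exponents. -/
theorem exists_binom_index (hn : 0 < n) (J : Fin n → ℕ) (hJ : StrictMono J) :
    ∃ I : Fin n → ℕ, StrictMono I ∧ (binomMat R J I).det ≠ 0 ∧ ∀ l, I l + J ⟨0, hn⟩ ≤ J l := by
  classical
  set j := J ⟨0, hn⟩
  have hj : ∀ l, j ≤ J l := fun l => hJ.monotone (Fin.mk_le_of_le_val (Nat.zero_le _))
  let c : ℕ → Fin (n + 1) → R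
    | 0 => Pi.single 0 1
    | i + 1 => Fin.cons 0 fun r => ((J r).choose i : R)
  -- surjectivity of the projections
  have hsurj : ∀ l : Fin n, (pre R c (J l - j + 2)).map
      (LinearMap.funLeft R R (Fin.castLE (show l.1 + 2 ≤ n + 1 by omega))) = ⊤ := by
    intro l
    by_contra hne
    obtain ⟨g, hg0, hg⟩ := Submodule.exists_le_ker_of_lt_top _ (lt_top_iff_ne_top.2 hne)
    set μ : Fin (l.1 + 2) → R := fun i => g (Pi.single i 1)
    have hgv : ∀ v, g v = ∑ i, μ i * v i := fun v => by
      conv_lhs => rw [← Finset.univ_sum_single v]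
      rw [map_sum]
      refine Finset.sum_congr rfl fun i _ => ?_
      rw [show Pi.single i (v i) = v i • (Pi.single i (1 : R) : Fin (l.1 + 2) → R) by
        rw [← Pi.single_smul', smul_eq_mul, mul_one], map_smul, smul_eq_mul, mul_comm]
    have hker : ∀ i < J l - j + 2, ∑ r, μ r * c i (Fin.castLE (by omega) r) = 0 := fun i hi => by
      have := hg (Submodule.mem_map_of_mem (mem_pre c hi))
      rw [LinearMap.mem_ker, hgv] at this
      exact this
    have hμ0 : μ 0 = 0 := by
      have := hker 0 (by omega)
      rw [Fin.sum_univ_succ] at this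
      simpa [c, Fin.castLE_succ] using this
    have hμs := one_add_X_pow_detect R (fun r : Fin (l.1 + 1) => J (Fin.castLE l.2 r) - j)
      (fun a b hab => Fin.castLE_injective _ (hJ.injective (by
        have := hj (Fin.castLE l.2 a); have := hj (Fin.castLE l.2 b); simp only at hab; omega)))
      (J l - j) j (fun r => Nat.sub_le_sub_right (hJ.monotone (by
        rw [Fin.le_def, Fin.val_castLE]; omega)) j) (fun r => μ r.succ) fun i hi => by
      have := hker (i + 1) (by omega)
      rw [Fin.sum_univ_succ, hμ0, zero_mul, zero_add] at this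
      rw [← this]
      refine Finset.sum_congr rfl fun r _ => ?_
      simp only [c, Fin.castLE_succ, Fin.cons_succ]
      rw [Nat.sub_add_cancel (hj _)]
    refine hg0 (LinearMap.ext fun v => ?_)
    rw [hgv, Fin.sum_univ_succ, hμ0]
    simp [show ∀ r, μ (Fin.succ r) = 0 from congrFun hμs]
  have hrank : ∀ l : Fin n, l.1 + 2 ≤ finrank R (pre R c (J l - j + 2)) := fun l => by
    have h1 := Submodule.finrank_map_le
      (LinearMap.funLeft R R (Fin.castLE (show l.1 + 2 ≤ n + 1 by omega))) (pre R c (J l - j + 2))
    rwa [hsurj, finrank_top, finrank_fin_fun] at h1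
  have hspan : span R (Set.range c) = ⊤ := by
    refine top_le_iff.1 (le_trans ?_ (span_mono (Set.image_subset_range c
      (Set.Iio (J ⟨n - 1, by omega⟩ - j + 2)))))
    refine (Submodule.eq_top_of_finrank_eq ?_).ge
    have h1 := hrank ⟨n - 1, by omega⟩
    have h2 := Submodule.finrank_le (pre R c (J ⟨n - 1, by omega⟩ - j + 2))
    rw [finrank_fin_fun] at h2 ⊢
    simp only at h1
    change finrank R (pre R c _) = _
    omega
  obtain ⟨I, hI, hdet⟩ := exists_isOrders (c := c) (by simp [c]) hspan
  refine ⟨I, hI.1, ?_, fun l => ?_⟩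
  · rw [Matrix.det_succ_row_zero, Fin.sum_univ_succ, Finset.sum_eq_zero fun s _ => by
      simp [colMat, cols, c]] at hdet
    have hsub : (colMat c I).submatrix Fin.succ Fin.succ = binomMat R J I := by
      ext r s
      simp [colMat, cols, c, binomMat]
    simpa [colMat, cols, c, ← hsub] using hdet
  · by_contra hlt
    have h1 := hrank l
    rw [finrank_pre] at h1
    have h2 : {i | i < J l - j + 2 ∧ IsJump R c i} ⊆
        insert 0 ((fun m : Fin l.1 => I (Fin.castLE l.2.le m) + 1) '' Set.univ) := by
      rintro i ⟨hi, hi'⟩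
      rcases i with _ | i
      · exact Set.mem_insert _ _
      · obtain ⟨m, rfl⟩ := (hI.2 i).2 hi'
        refine Set.mem_insert_of_mem _ ⟨⟨m, ?_⟩, trivial, rfl⟩
        by_contra hm
        have := hI.1.monotone (show l ≤ m from not_lt.1 hm)
        have := hj l
        omega
    have h3 := (Set.ncard_le_ncard h2 (Set.toFinite _)).trans ((Set.ncard_insert_le _ _).trans
      (Nat.add_le_add_right (Set.ncard_image_le (Set.toFinite _)) 1))
    simp [Set.ncard_univ] at h3
    omega

end Groth.Agent.FFLib
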