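import Groth.Agent.FFLib.WrDiv
import Mathlib.LinearAlgebra.Vandermonde
import Mathlib.RingTheory.Polynomial.Pochhammer

/-!
# Orders of birational maps
-/

open WithZero Module Submodule Finset Matrix

namespace Groth.Agent.FFLib

open FunFld

variable {k K : Type*} [Field k] [Field K] [Algebra k K] {n : ℕ}

/-- An endomorphism moving a birational map only by a scalar is the identity. -/
lemma eq_id_of_proportional {φ : Fin (n + 1) → K} (h0 : φ 0 ≠ 0)
    (hbir : IntermediateField.adjoin k (Set.range fun i => φ i / φ 0) = ⊤) {τ : K →ₐ[k] K} {a : K}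
    (h : ∀ i, a * τ (φ i) = φ i) : τ = AlgHom.id k K := by
  have ha : a ≠ 0 := fun e => h0 (by rw [← h 0, e, zero_mul])
  have hrat : ∀ i, τ (φ i / φ 0) = φ i / φ 0 := fun i => by
    rw [map_div₀]
    conv_rhs => rw [← h i, ← h 0, mul_div_mul_left _ _ ha]
  refine AlgHom.ext fun x => ?_
  have hx : x ∈ IntermediateField.adjoin k (Set.range fun i => φ i / φ 0) := by rw [hbir]; trivial
  induction hx using IntermediateField.adjoin_induction with
  | mem z hz => obtain ⟨i, rfl⟩ := hz; exact hrat i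
  | algebraMap c => simp
  | add a b _ _ h1 h2 => simp [h1, h2]
  | inv a _ h1 => simp [h1]
  | mul a b _ _ h1 h2 => simp [h1, h2]

/-- The first column is redundant only for the identity. -/
lemma not_isJump_one_iff {φ : Fin (n + 1) → K} (h0 : φ 0 ≠ 0)
    (hbir : IntermediateField.adjoin k (Set.range fun i => φ i / φ 0) = ⊤) (τ : K →ₐ[k] K) {s : K}
    {H : K →ₐ[k] PowerSeries K} (hH : LocRes.IsHasseFamily s H) :
    ¬ IsJump K (hcol τ H φ) 1 ↔ τ = AlgHom.id k K := by
  have hset : hcol τ H φ '' Set.Iio 1 = {hcol τ H φ 0} := by ext v; simp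
  have h1 : hcol τ H φ 1 = φ := funext fun i => by simp [hcol_succ, hH.2]
  rw [isJump_iff, not_not, pre, hset, mem_span_singleton, h1]
  constructor
  · rintro ⟨a, ha⟩
    exact eq_id_of_proportional h0 hbir (a := a) fun i => congrFun ha i
  · rintro rfl
    exact ⟨1, funext fun i => by simp [hcol_zero]⟩

lemma pre_tau (τ : K →ₐ[k] K) {s : K} {H : K →ₐ[k] PowerSeries K} (hH : LocRes.IsHasseFamily s H)
    (φ : Fin (n + 1) → K) (j : ℕ) :
    pre K (hcol τ H φ) (j + 2) = pre K (hcol (AlgHom.id k K) H φ) (j + 2) ⊔ span K {fun i => τ (φ i)} := by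
  have hsucc : ∀ i, hcol τ H φ (i + 1) = hcol (AlgHom.id k K) H φ (i + 1) := fun i => rfl
  have hz : hcol (AlgHom.id k K) H φ 0 = hcol (AlgHom.id k K) H φ 1 :=
    funext fun i => by simp [hcol_zero, hcol_succ, hH.2]
  rw [pre, pre, ← span_union]
  refine le_antisymm (span_le.2 ?_) (span_le.2 ?_)
  · rintro _ ⟨i, hi, rfl⟩
    rcases i with _ | i
    · exact subset_span (.inr rfl)
    · exact subset_span (.inl ⟨i + 1, hi, rfl⟩)
  · rintro v (⟨i, hi, rfl⟩ | rfl)
    · rcases i with _ | i
      · rw [hz]; exact subset_span ⟨1, show 1 < j + 2 by omega, rfl⟩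
      · exact subset_span ⟨i + 1, hi, rfl⟩
    · exact subset_span ⟨0, show 0 < j + 2 by omega, rfl⟩

variable [IsAlgClosed k] (hK : IsFunctionField k K)
include hK

/-- Removing one order gives the orders with respect to a nontrivial endomorphism. -/
lemma isJump_iff_of_ne_id {φ : Fin (n + 1) → K} (hφ : LinearIndependent k φ) (h0 : φ 0 ≠ 0)
    (hbir : IntermediateField.adjoin k (Set.range fun i => φ i / φ 0) = ⊤) {τ : K →ₐ[k] K}
    (hτ : τ ≠ AlgHom.id k K) {s : K} {H : K →ₐ[k] PowerSeries K} (hH : LocRes.IsHasseFamily s H)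
    {J : Fin n → ℕ} (hJ : IsOrders K (hcol (AlgHom.id k K) H φ) J) :
    ∃ m : Fin n, ∀ j : ℕ,
      IsJump K (hcol τ H φ) (j + 1) ↔ (j = 0 ∨ ∃ l, l ≠ m ∧ J l = j) := by
  classical
  set c := hcol (AlgHom.id k K) H φ with hc
  set v : Fin (n + 1) → K := fun i => τ (φ i) with hv
  have hjump1 : IsJump K (hcol τ H φ) 1 := by
    by_contra h
    exact hτ ((not_isJump_one_iff h0 hbir τ hH).1 h)
  have hex : ∃ j, v ∈ pre K c (j + 2) := by
    have hv' : v ∈ span K (Set.range c) := by rw [span_hcol _ hK hφ hH]; trivial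
    obtain ⟨T, hT, hvT⟩ := mem_span_finite_of_mem_span hv'
    choose f hf using fun x (hx : x ∈ T) => hT hx
    refine ⟨T.attach.sup fun x => f x.1 x.2, span_mono (t := c '' Set.Iio ((T.attach.sup fun x => f x.1 x.2) + 2))
      (fun x hx => ⟨f x hx, ?_, hf x hx⟩) hvT⟩
    have := Finset.le_sup (f := fun x : T => f x.1 x.2) (Finset.mem_attach T ⟨x, hx⟩)
    show f x hx < _
    simp only at this
    omega
  set j₀ := Nat.find hex
  have hnot : ∀ j < j₀, v ∉ pre K c (j + 2) := fun j hj => Nat.find_min hex hj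
  have hmem : v ∈ pre K c (j₀ + 2) := Nat.find_spec hex
  have hj0 : 0 < j₀ := by
    by_contra h
    rw [show j₀ = 0 by omega, pre] at hmem
    refine hτ ((not_isJump_one_iff h0 hbir τ hH).1 ?_)
    rw [isJump_iff, not_not]
    have h1 : hcol τ H φ 1 = φ := funext fun i => by simp [hcol_succ, hH.2]
    have hle : span K (c '' Set.Iio (0 + 2)) ≤ span K {φ} := span_le.2 (by
      rintro _ ⟨i, hi, rfl⟩
      have hi' : i < 2 := hi
      refine mem_span_singleton.2 ⟨1, funext fun a => ?_⟩
      interval_cases i <;> simp [hc, hcol_zero, hcol_succ, hH.2])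
    obtain ⟨a, ha⟩ := mem_span_singleton.1 (hle hmem)
    have hv0 : v ≠ 0 := fun e => h0 ((map_eq_zero τ.toRingHom).1 (congrFun e 0))
    have ha0 : a ≠ 0 := by rintro rfl; exact hv0 (by rw [← ha, zero_smul])
    rw [h1, pre]
    refine (congrArg (· ∈ _) (show φ = a⁻¹ • v by rw [← ha, inv_smul_smul₀ ha0])).mpr ?_
    exact smul_mem _ _ (subset_span ⟨0, Nat.zero_lt_one, rfl⟩)
  obtain ⟨m, hm⟩ : ∃ m, J m = j₀ := by
    refine (hJ.2 j₀).2 fun h => ?_
    have heq : pre K c (j₀ + 2) = pre K c (j₀ + 1) := by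
      rw [pre_succ c (j₀ + 1)]
      exact sup_eq_left.2 ((span_singleton_le_iff_mem _ _).2 h)
    rw [heq] at hmem
    refine hnot (j₀ - 1) (by omega) ?_
    rwa [show j₀ - 1 + 2 = j₀ + 1 by omega]
  refine ⟨m, fun j => ?_⟩
  rcases j with _ | j
  · simp [hjump1]
  rw [isJump_iff, pre_tau τ hH, show hcol τ H φ (j + 1 + 1) = c (j + 2) from rfl]
  simp only [Nat.succ_ne_zero, false_or]
  constructor
  · intro hne
    have hjc : c (j + 2) ∉ pre K c (j + 2) := fun h => hne (mem_sup_left h)
    obtain ⟨l, hl⟩ := (hJ.2 (j + 1)).2 hjc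
    refine ⟨l, fun e => hne ?_, hl⟩
    subst e
    have h1 : v ∈ pre K c (j + 2 + 1) := by rw [show j + 2 + 1 = j₀ + 2 by omega]; exact hmem
    rw [pre_succ, Submodule.mem_sup] at h1
    obtain ⟨p, hp, q, hq, hpq⟩ := h1
    obtain ⟨a, rfl⟩ := mem_span_singleton.1 hq
    have ha : a ≠ 0 := by
      rintro rfl
      rw [zero_smul, add_zero] at hpq
      exact hnot j (by omega) (hpq ▸ hp)
    rw [show c (j + 2) = a⁻¹ • (-p + v) by rw [← hpq, neg_add_cancel_left, inv_smul_smul₀ ha]]
    exact smul_mem _ _ (add_mem (mem_sup_left (neg_mem hp)) (mem_sup_right (mem_span_singleton_self v)))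
  · rintro ⟨l, hlm, hl⟩ hmem'
    have hjc : c (j + 2) ∉ pre K c (j + 2) := (hJ.2 (j + 1)).1 ⟨l, hl⟩
    rw [Submodule.mem_sup] at hmem'
    obtain ⟨p, hp, q, hq, hpq⟩ := hmem'
    obtain ⟨a, rfl⟩ := mem_span_singleton.1 hq
    have ha : a ≠ 0 := by
      rintro rfl
      rw [zero_smul, add_zero] at hpq
      exact hjc (hpq ▸ hp)
    have hne : J l ≠ J m := fun e => hlm (hJ.1.injective e)
    have h1 : v ∈ pre K c (j + 2 + 1) := by
      rw [show v = a⁻¹ • (-p + c (j + 2)) by rw [← hpq, neg_add_cancel_left, inv_smul_smul₀ ha]]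
      exact smul_mem _ _ (add_mem (neg_mem (pre_mono c (Nat.le_succ _) hp)) (mem_pre c (Nat.lt_succ_self _)))
    rcases lt_trichotomy (j + 1) j₀ with h | h | h
    · exact hnot (j + 1) h h1
    · omega
    · refine hjc ?_
      have h2 : v ∈ pre K c (j + 2) := pre_mono c (by omega) hmem
      rw [← hpq]
      exact add_mem hp (smul_mem _ _ h2)

omit hK [IsAlgClosed k] in
/-- Binomial minors of consecutive columns. -/
lemma binom_minors {F : Type*} [Field F] (J : Fin n → ℕ)
    (hinj : Function.Injective fun r => (J r : F)) (hfac : ∀ s : ℕ, s ≤ n → (s.factorial : F) ≠ 0) :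
    (binomMat F J (fun l => (l : ℕ))).det ≠ 0 ∧
    ((∀ r, 0 < J r) → (∀ r, (J r : F) ≠ 0) → (binomMat F J (fun l => (l : ℕ) + 1)).det ≠ 0) := by
  classical
  have key : ∀ v : Fin n → F, Function.Injective v →
      (Matrix.of fun r (s : Fin n) => (descPochhammer F (s : ℕ)).eval (v r)).det ≠ 0 := fun v hv => by
    rw [← Matrix.det_eval_matrixOfPolynomials_eq_det_vandermonde v (fun s => descPochhammer F (s : ℕ))
      (fun i => descPochhammer_natDegree F i) (fun i => monic_descPochhammer F i)]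
    exact Matrix.det_vandermonde_ne_zero_iff.2 hv
  constructor
  · intro h
    refine key (fun r => (J r : F)) hinj ?_
    rw [show (Matrix.of fun r (s : Fin n) => (descPochhammer F (s : ℕ)).eval (J r : F)) =
        binomMat F J (fun l => (l : ℕ)) * Matrix.diagonal (fun s : Fin n => ((s : ℕ).factorial : F)) by
      ext r s
      rw [Matrix.mul_diagonal, Matrix.of_apply, descPochhammer_eval_eq_descFactorial,
        Nat.descFactorial_eq_factorial_mul_choose, binomMat, Matrix.of_apply]
      push_cast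
      ring]
    rw [Matrix.det_mul, h, zero_mul]
  · intro hpos hne h
    have hinj' : Function.Injective fun r => ((J r - 1 : ℕ) : F) := fun a b e => by
      refine hinj ?_
      have ha := hpos a
      have hb := hpos b
      show (J a : F) = J b
      rw [show J a = J a - 1 + 1 by omega, show J b = J b - 1 + 1 by omega]
      simp only at e
      simp only [Nat.cast_add, e]
    refine mul_ne_zero (a := ∏ r : Fin n, (J r : F)) (Finset.prod_ne_zero_iff.2 fun r _ => hne r)
      (key _ hinj') ?_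
    rw [← Matrix.det_diagonal, ← Matrix.det_mul,
      show Matrix.diagonal (fun r => (J r : F)) *
          (Matrix.of fun r (s : Fin n) => (descPochhammer F (s : ℕ)).eval ((J r - 1 : ℕ) : F)) =
        binomMat F J (fun l => (l : ℕ) + 1) *
          Matrix.diagonal (fun s : Fin n => (((s : ℕ) + 1).factorial : F)) by
      ext r s
      rw [Matrix.mul_diagonal, Matrix.diagonal_mul, Matrix.of_apply, descPochhammer_eval_eq_descFactorial,
        binomMat, Matrix.of_apply]
      obtain ⟨i, hi⟩ := Nat.exists_eq_succ_of_ne_zero (hpos r).ne'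
      rw [hi, Nat.succ_sub_one, ← Nat.cast_mul, ← Nat.cast_mul]
      congr 1
      rw [← Nat.succ_descFactorial_succ, Nat.descFactorial_eq_factorial_mul_choose, mul_comm],
      Matrix.det_mul, h, zero_mul]

lemma orders_classical {φ : Fin (n + 1) → K} (hφ : LinearIndependent k φ) (h0 : φ 0 ≠ 0)
    (hbir : IntermediateField.adjoin k (Set.range fun i => φ i / φ 0) = ⊤)
    (hchar : ringChar k = 0 ∨ (mapDiv k φ).deg < ringChar k) (τ : K →ₐ[k] K) {s : K}
    {H : K →ₐ[k] PowerSeries K} (hH : LocRes.IsHasseFamily s H) {P : Place k K} (hP : IsFixedPt τ P) :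
    (τ = AlgHom.id k K → IsOrders K (hcol τ H φ) (fun l : Fin n => (l : ℕ) + 1)) ∧
    (τ ≠ AlgHom.id k K → IsStrongFixedPt τ P →
      IsOrders K (hcol τ H φ) (fun l : Fin n => (l : ℕ))) := by
  classical
  obtain ⟨J, hJ, -⟩ := exists_orders τ hK hφ hH
  obtain ⟨y, hy, hψ, heff, hint⟩ := exists_normalized hK hφ P
  obtain ⟨t, Ht, -, -, ht, -, hsep, hHt⟩ := exists_param hK P
  obtain ⟨Φ, hΦ, hΦt⟩ := exists_expansion (deg_eq_one hK P) ht
  have hJt : IsOrders K (hcol τ Ht (y • φ)) J :=
    ((orders_change τ hK hH hHt (y • φ)).1 J).2 (((orders_smul τ hH hy φ).1 J).2 hJ)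
  obtain ⟨J', hJ'⟩ := exists_orders_at hK hψ heff hint ht hHt
  obtain ⟨hpos, -, -⟩ := orders_le_at_fixed hK τ hP ht hHt hψ heff hint hJt hJ'
  -- the orders at `P` are at most the degree
  set D := mapDiv k φ with hD
  have hyord : P.ord y = D P := by
    have h1 := mapDiv_smul_apply hK hφ.ne_zero hy P
    rw [mapDiv_eq_zero_of_normalized hK heff hψ.ne_zero hint, ← hD] at h1
    omega
  have hbound : ∀ l, (J' l : ℤ) ≤ D.deg := fun l => by
    obtain ⟨-, w, hw, hwv⟩ :=
      (isJump_hcolAt_iff hsep hΦ hΦt hHt hint (deg_eq_one hK P) (J' l)).1 ((hJ'.2 _).1 ⟨l, rfl⟩)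
    have hw' : w ∈ (span k (Set.range φ)).map (LinearMap.mulLeft k y) := by
      rw [Submodule.map_span, ← Set.range_comp]; exact hw
    obtain ⟨f, hf, rfl⟩ := hw'
    have hf0 : f ≠ 0 := fun e => exp_ne_zero (hwv.symm.trans (by simp [e]))
    rw [LinearMap.mulLeft_apply, v_eq_exp_iff P (mul_ne_zero hy hf0), ord_mul P hy hf0, hyord, neg_neg] at hwv
    have hnn : ∀ Q, 0 ≤ (FunFld.div k f + D) Q := fun Q => by
      rw [Finsupp.add_apply, div_apply hK]
      have h := mapDiv_mono_span hK (ψ := fun _ : Fin 1 => f) (φ := φ) (fun _ => hf0) (fun _ => hf) Q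
      have h2 := neg_mapDiv_le_ord hK (fun _ : Fin 1 => f) Q 0
      rw [← hD] at h
      omega
    have hle : (Finsupp.single P (J' l : ℤ) : Divisor k K) ≤ FunFld.div k f + D := fun Q => by
      rcases eq_or_ne Q P with rfl | hQ
      · rw [Finsupp.single_eq_same, Finsupp.add_apply, div_apply hK]; omega
      · rw [Finsupp.single_eq_of_ne hQ]; exact hnn Q
    have := deg_mono hle
    rw [deg_single, deg_eq_one hK P, deg_add, deg_div hK] at this
    simpa using this
  have hcast : ∀ a b : ℕ, (a : ℤ) ≤ D.deg → (b : ℤ) ≤ D.deg → (a : k) = b → a = b := fun a b ha hb e => by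
    rcases hchar with h | h
    · have : CharP k 0 := (ringChar.eq_iff).1 h
      have := CharP.charP_to_charZero k
      exact Nat.cast_injective e
    · rw [CharP.natCast_eq_natCast k (ringChar k)] at e
      exact e.eq_of_lt_of_lt (by omega) (by omega)
  have hinj : Function.Injective fun r => (J' r : k) := fun a b e =>
    hJ'.1.injective (hcast _ _ (hbound a) (hbound b) e)
  have hn : ∀ l : Fin n, (l : ℤ) + 1 ≤ D.deg := fun l => by
    refine le_trans ?_ (hbound l)
    have : ∀ m (hm : m < n), m + 1 ≤ J' ⟨m, hm⟩ := by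
      intro m hm
      induction m with
      | zero => exact hpos _
      | succ m ih =>
        have := hJ'.1 (show (⟨m, by omega⟩ : Fin n) < ⟨m + 1, hm⟩ from Nat.lt_succ_self m)
        have := ih (by omega)
        omega
    exact_mod_cast this l l.2
  have hfac : ∀ s : ℕ, s ≤ n → (s.factorial : k) ≠ 0 := by
    intro s
    induction s with
    | zero => simp
    | succ s ih =>
      intro hs
      rw [Nat.factorial_succ, Nat.cast_mul]
      refine mul_ne_zero (fun e => ?_) (ih (by omega))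
      have h2 := hn ⟨s, by omega⟩
      simp only at h2
      have := hcast (s + 1) 0 (by push_cast; omega) (by omega) (by rw [e, Nat.cast_zero])
      omega
  have hne : ∀ r, (J' r : k) ≠ 0 := fun r e => by
    have := hbound r
    have := hcast (J' r) 0 (hbound r) (by omega) (by rw [e, Nat.cast_zero])
    have := hpos r
    omega
  obtain ⟨hb0, hb1⟩ := binom_minors J' hinj hfac
  have hbd : ∀ I : Fin n → ℕ, StrictMono I → (binomMat k J' I).det ≠ 0 →
      ((∀ l, 0 < I l) ∨ IsStrongFixedPt τ P) → ∀ l, J l ≤ I l := fun I hI hd hc => by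
    have hv := ((v_det_wrMat_fixed hK hP hψ heff hint ht hHt hJ' I).2 hc).2 hd
    have h1 : (wrMat τ Ht (y • φ) I).det ≠ 0 := fun e => exp_ne_zero (hv.symm.trans (by rw [e, map_zero]))
    rw [wrMat_eq_colMat, det_colMat_ne_zero_iff] at h1
    exact isOrders_le (hcol_zero_ne τ Ht hψ) hJt hI h1
  constructor
  · intro hid
    have hle := hbd _ (fun a b (hab : a < b) => Nat.add_lt_add_right hab 1) (hb1 hpos hne)
      (.inl fun l => Nat.succ_pos _)
    have hge : ∀ m (hm : m < n), m + 1 ≤ J ⟨m, hm⟩ := by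
      intro m hm
      induction m with
      | zero =>
        refine Nat.one_le_iff_ne_zero.2 fun e => ?_
        exact ((not_isJump_one_iff h0 hbir τ hH).2 hid) ((hJ.2 0).1 ⟨_, e⟩)
      | succ m ih =>
        have := hJ.1 (show (⟨m, by omega⟩ : Fin n) < ⟨m + 1, hm⟩ from Nat.lt_succ_self m)
        have := ih (by omega)
        omega
    rwa [show (fun l : Fin n => (l : ℕ) + 1) = J from funext fun l => le_antisymm (hge l l.2) (hle l)]
  · intro _ hs
    have hle := hbd _ (fun a b (hab : a < b) => hab) hb0 (.inr hs)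
    have hge : ∀ m (hm : m < n), m ≤ J ⟨m, hm⟩ := by
      intro m hm
      induction m with
      | zero => exact Nat.zero_le _
      | succ m ih =>
        have := hJ.1 (show (⟨m, by omega⟩ : Fin n) < ⟨m + 1, hm⟩ from Nat.lt_succ_self m)
        have := ih (by omega)
        omega
    rwa [show (fun l : Fin n => (l : ℕ)) = J from funext fun l => le_antisymm (hge l l.2) (hle l)]

end Groth.Agent.FFLib
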