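import Groth.Agent.FFLib.ExtGalois
import Groth.Agent.FFLib.RR
import Groth.Agent.FFLib.DegOne
import Mathlib.FieldTheory.Finite.Basic

/-!
# Bombieri's bound for the places with a prescribed Frobenius
-/

set_option linter.unusedSectionVars false

open WithZero Module

namespace Groth.Agent.FFLib

open FunFld

variable {k K : Type*} [Field k] [Field K] [Algebra k K]

/-- `σ` acts as the `q`-power map on the residue field of `Q`. -/
def IsFrob (q : ℕ) (σ : K ≃ₐ[k] K) (Q : Place k K) : Prop :=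
  ∀ z : K, Q.1 z ≤ 1 → Q.1 (σ z - z ^ q) < 1

/-- Transport of a place by an automorphism over `k`. -/
def placeComap (σ : K ≃ₐ[k] K) (Q : Place k K) : Place k K :=
  ⟨Q.1.comap (σ : K →+* K), fun c => by
    show Q.1 (σ (algebraMap k K c)) ≤ 1
    rw [AlgEquiv.commutes]; exact Q.2.1 c, fun z => by
    obtain ⟨y, hy⟩ := Q.2.2 z
    exact ⟨σ.symm y, by show Q.1 (σ (σ.symm y)) = z; rw [σ.apply_symm_apply]; exact hy⟩⟩

@[simp] lemma placeComap_v (σ : K ≃ₐ[k] K) (Q : Place k K) (y : K) :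
    (placeComap σ Q).1 y = Q.1 (σ y) := rfl

lemma deg_placeComap_eq_one (hL : FG1 k K) {Q : Place k K} (hQ : Q.deg = 1) (σ : K ≃ₐ[k] K) :
    (placeComap σ Q).deg = 1 := by
  refine le_antisymm ?_ (deg_pos hL _)
  set R := placeComap σ Q
  have hsurj : Function.Surjective (Algebra.linearMap k (IsLocalRing.ResidueField R.O)) := by
    intro a
    obtain ⟨⟨y, hy⟩, rfl⟩ := IsLocalRing.residue_surjective a
    obtain ⟨c, hc⟩ := exists_const_sub_lt hQ (y := σ y) hy
    refine ⟨c, ?_⟩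
    rw [Algebra.linearMap_apply, algebraMap_residue, eq_comm, ← sub_eq_zero, ← map_sub, residue_eq_zero_iff_lt]
    show Q.1 (σ (y - algebraMap k K c)) < 1
    rw [map_sub, AlgEquiv.commutes]; exact hc
  calc R.deg = finrank k (LinearMap.range (Algebra.linearMap k (IsLocalRing.ResidueField R.O))) := by
        rw [LinearMap.range_eq_top.2 hsurj, finrank_top]; rfl
    _ ≤ finrank k k := LinearMap.finrank_range_le _
    _ = 1 := finrank_self k

variable [Finite k]

/-- The one-sided bound. -/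
theorem sum_deg_frob_le (hL : IsFunctionField k K) {p a : ℕ} [Fact p.Prime] [CharP k p]
    (hq : Nat.card k = (p ^ a) ^ 2) (hbig : (genus k K + 1) ^ 2 < p ^ a)
    (Q₀ : Place k K) (hQ₀ : Q₀.deg = 1) (σ : K ≃ₐ[k] K) (T : Finset (Place k K))
    (hT : ∀ Q ∈ T, IsFrob (Nat.card k) σ Q) :
    ∑ Q ∈ T, (Q.deg : ℤ) ≤ (Nat.card k : ℤ) + (2 * (genus k K : ℤ) + 1) * (p ^ a : ℕ) + 1 := by
  classical
  have : CharP K p := charP_of_injective_algebraMap (algebraMap k K).injective p
  have : ExpChar K p := ExpChar.prime Fact.out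
  set g := genus k K with hg
  set q₀ := p ^ a with hq₀
  set n := q₀ + 2 * g with hn
  set m := q₀ - 1 with hm
  have hq₀g : g + 1 ≤ q₀ := (Nat.le_self_pow two_ne_zero _).trans hbig.le
  set S₁ : Divisor k K := Finsupp.single Q₀ (m : ℤ) with hS₁
  set S₂ : Divisor k K := Finsupp.single Q₀ (n : ℤ) with hS₂
  set S₃ : Divisor k K := Finsupp.single Q₀ ((n + m * q₀ : ℕ) : ℤ) with hS₃
  have hd1 : ∀ j : ℤ, Divisor.deg (Finsupp.single Q₀ j : Divisor k K) = j := fun j => by
    rw [deg_single, hQ₀]; simp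
  have := finiteDimensional_L hL.1 S₁
  have := finiteDimensional_L hL.1 S₂
  have := finiteDimensional_L hL.1 S₃
  obtain ⟨O, hO, hOc⟩ := exists_ord_finset hQ₀ (L S₁)
  choose u hu hu0 huord using fun i : O => (hO i.1).1 i.2
  have huv : ∀ (i : O) (R : Place k K), R.1 (u i) ≤ exp (S₁ R) := fun i => hu i
  have hord : ∀ i : O, -(m : ℤ) ≤ Q₀.ord (u i) ∧ Q₀.ord (u i) ≤ 0 := fun i => by
    have h1 := (mem_L_iff (hu0 i)).1 (hu i)
    refine ⟨by have := h1 Q₀; rw [hS₁, Finsupp.single_eq_same] at this; omega, ?_⟩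
    by_contra hpos
    have h2 : u i ∈ L (-Finsupp.single Q₀ (1 : ℤ) : Divisor k K) := (mem_L_iff (hu0 i)).2 fun R => by
      rw [Finsupp.neg_apply]
      rcases eq_or_ne R Q₀ with rfl | hR
      · rw [Finsupp.single_eq_same]; omega
      · have := h1 R
        rw [hS₁, Finsupp.single_eq_of_ne hR] at this
        rw [Finsupp.single_eq_of_ne hR]; omega
    rw [L_eq_bot_of_deg_neg hL.1 (by rw [deg_neg, hd1]; norm_num), Submodule.mem_bot] at h2
    exact hu0 i h2
  -- the linear map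
  let Ψ : (O → L S₂) →ₗ[k] K :=
    { toFun := fun v => ∑ i, (v i : K) * u i ^ q₀
      map_add' := fun v w => by simp [add_mul, Finset.sum_add_distrib]
      map_smul' := fun c v => by simp [Finset.smul_sum] }
  have hrange : ∀ v, Ψ v ∈ L S₃ := fun v R => by
    refine R.1.map_sum_le fun i _ => ?_
    rw [map_mul, map_pow]
    refine (mul_le_mul' ((v i).2 R) (pow_le_pow_left' (huv i R) q₀)).trans ?_
    rw [← exp_nsmul, ← exp_add, exp_le_exp, hS₁, hS₂, hS₃, nsmul_eq_mul]
    rcases eq_or_ne R Q₀ with rfl | hR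
    · simp only [Finsupp.single_eq_same]; push_cast; linarith
    · simp [Finsupp.single_eq_of_ne hR]
  obtain ⟨v, hv, hΨ⟩ : ∃ v : O → L S₂, v ≠ 0 ∧ Ψ v = 0 := by
    by_contra hne
    push Not at hne
    let Ψ' : (O → L S₂) →ₗ[k] L S₃ := Ψ.codRestrict (L S₃) hrange
    have hinj : Function.Injective Ψ' := by
      rw [injective_iff_map_eq_zero]
      intro v hv
      by_contra h
      exact hne v h (congrArg Subtype.val hv)
    have hle := LinearMap.finrank_le_finrank_of_injective hinj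
    rw [Module.finrank_pi_fintype, Finset.sum_const, Finset.card_univ, Fintype.card_coe, smul_eq_mul, hOc] at hle
    have h1 : ((m : ℤ) + 1 - g) ≤ ell S₁ := by
      have := riemann_ge hL S₁; rw [hS₁, hd1] at this; rw [hS₁, hg]; omega
    have h2 : ((n : ℤ) + 1 - g) ≤ ell S₂ := by
      have := riemann_ge hL S₂; rw [hS₂, hd1] at this; rw [hS₂, hg]; omega
    have h3 : (ell S₃ : ℤ) = ((n + m * q₀ : ℕ) : ℤ) + 1 - g := by
      have := ell_eq_of_deg_ge hL (D := S₃) (by rw [hS₃, hd1]; push_cast; nlinarith)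
      rw [hS₃, hd1] at this; rw [hS₃, hg]; exact this
    have hle' : ((ell S₁ : ℤ) * ell S₂) ≤ ell S₃ := by exact_mod_cast hle
    have hm' : (m : ℤ) = q₀ - 1 := by omega
    have hn' : (n : ℤ) = q₀ + 2 * g := by omega
    have hb' : ((g : ℤ) + 1) ^ 2 < q₀ := by exact_mod_cast hbig
    have hgq : (g : ℤ) + 1 ≤ q₀ := by exact_mod_cast hq₀g
    have h12 : ((m : ℤ) + 1 - g) * ((n : ℤ) + 1 - g) ≤ (ell S₁ : ℤ) * ell S₂ :=
      mul_le_mul h1 h2 (by omega) (Int.natCast_nonneg _)
    push_cast at h3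
    rw [hm', hn'] at h12 h3
    nlinarith
  set w := ∑ i, (v i : K) ^ q₀ * σ (u i) with hw
  obtain ⟨i₁, hi₁⟩ : ∃ i, (v i : K) ≠ 0 := by
    by_contra hne
    push Not at hne
    exact hv (funext fun i => Subtype.ext (hne i))
  -- `w ≠ 0`
  have hw0 : w ≠ 0 := by
    intro hw0
    set c : O → K := fun i => σ.symm (v i : K) ^ q₀ * u i with hc
    have hsum : ∑ i, c i = 0 := by
      apply σ.injective
      rw [map_sum, map_zero, ← hw0, hw]
      exact Finset.sum_congr rfl fun i _ => by simp [hc]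
    have hc1 : c i₁ ≠ 0 := mul_ne_zero (pow_ne_zero _ ((map_ne_zero σ.symm).2 hi₁)) (hu0 i₁)
    obtain ⟨j, hj, hmax⟩ := (Finset.univ.filter fun i => c i ≠ 0).exists_max_image (fun i => Q₀.1 (c i))
      ⟨i₁, Finset.mem_filter.2 ⟨Finset.mem_univ _, hc1⟩⟩
    have hj0 := (Finset.mem_filter.1 hj).2
    have h1 := v_sum_eq Q₀.1 (f := c) (Finset.mem_univ j) fun i _ hij => by
      by_cases hi : c i = 0
      · rw [hi, map_zero]; exact zero_lt_iff.2 (v_ne_zero Q₀ hj0)
      refine lt_of_le_of_ne (hmax i (Finset.mem_filter.2 ⟨Finset.mem_univ _, hi⟩)) fun e => hij ?_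
      have hord' : ∀ l, c l ≠ 0 → Q₀.ord (c l) = q₀ * Q₀.ord (σ.symm (v l : K)) + Q₀.ord (u l) := fun l hl => by
        rw [hc, ord_mul Q₀ (left_ne_zero_of_mul hl) (right_ne_zero_of_mul hl), ord_pow]
      have he : Q₀.ord (c i) = Q₀.ord (c j) := by rw [Place.ord, Place.ord, e]
      rw [hord' i hi, hord' j hj0] at he
      have hdvd : (q₀ : ℤ) ∣ Q₀.ord (u i) - Q₀.ord (u j) :=
        ⟨Q₀.ord (σ.symm (v j : K)) - Q₀.ord (σ.symm (v i : K)), by linear_combination he⟩
      have habs : |Q₀.ord (u i) - Q₀.ord (u j)| < (q₀ : ℤ) := by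
        have := hord i; have := hord j
        rw [abs_lt]; omega
      have h0 := Int.eq_zero_of_abs_lt_dvd hdvd habs
      refine Subtype.ext ?_
      rw [← huord i, ← huord j]; omega
    rw [hsum, map_zero] at h1
    exact v_ne_zero Q₀ hj0 h1.symm
  -- poles and zeros of `w`
  set Q₁ := placeComap σ.symm Q₀ with hQ₁
  have hQ₁d : Q₁.deg = 1 := deg_placeComap_eq_one hL.1 hQ₀ σ.symm
  set D : Divisor k K := Finsupp.single Q₀ ((q₀ * n : ℕ) : ℤ) + Finsupp.single Q₁ (m : ℤ) with hD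
  have hwD : w ∈ L D := fun R => by
    refine R.1.map_sum_le fun i _ => ?_
    rw [map_mul, map_pow]
    have h1 : R.1 (σ (u i)) ≤ exp ((Finsupp.single Q₁ (m : ℤ) : Divisor k K) R) := by
      refine (huv i (placeComap σ R)).trans ?_
      rw [exp_le_exp, hS₁]
      by_cases hR : placeComap σ R = Q₀
      · have : R = Q₁ := by
          rw [hQ₁, ← hR]
          exact Subtype.ext (Valuation.ext fun y => by simp)
        rw [hR, this, Finsupp.single_eq_same, Finsupp.single_eq_same]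
      · rw [Finsupp.single_eq_of_ne hR]
        exact Finsupp.single_nonneg.2 (Int.natCast_nonneg _) R
    refine (mul_le_mul' (pow_le_pow_left' ((v i).2 R) q₀) h1).trans ?_
    rw [← exp_nsmul, ← exp_add, exp_le_exp, hD, hS₂, Finsupp.add_apply, nsmul_eq_mul]
    rcases eq_or_ne R Q₀ with rfl | hR
    · simp only [Finsupp.single_eq_same]; push_cast; linarith
    · simp [Finsupp.single_eq_of_ne hR]
  set T' := T \ {Q₀, Q₁} with hT'
  have hzero : ∀ R ∈ T', R.1 w < 1 := by
    intro R hR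
    rw [hT', Finset.mem_sdiff, Finset.mem_insert, Finset.mem_singleton, not_or] at hR
    have hv1 : ∀ i, R.1 (v i : K) ≤ 1 := fun i => ((v i).2 R).trans_eq (by
      rw [hS₂, Finsupp.single_eq_of_ne hR.2.1, exp_zero])
    have hu1 : ∀ i, R.1 (u i) ≤ 1 := fun i => (huv i R).trans_eq (by
      rw [hS₁, Finsupp.single_eq_of_ne hR.2.1, exp_zero])
    have hΨ' : ∑ i, ((v i : K) ^ q₀ * u i ^ Nat.card k) = 0 := by
      have h : (∑ i, (v i : K) * u i ^ q₀) ^ q₀ = 0 := by
        rw [show ∑ i, (v i : K) * u i ^ q₀ = 0 from hΨ]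
        exact zero_pow (by omega)
      rw [hq₀, sum_pow_char_pow] at h
      refine Eq.trans (Finset.sum_congr rfl fun i _ => ?_) h
      rw [mul_pow, ← pow_mul (u i), hq, pow_two]
    rw [show w = ∑ i, (v i : K) ^ q₀ * (σ (u i) - u i ^ Nat.card k) by
      simp only [mul_sub, Finset.sum_sub_distrib, hΨ', sub_zero, hw]]
    refine R.1.map_sum_lt one_ne_zero fun i _ => ?_
    rw [map_mul, map_pow]
    exact mul_lt_one_of_nonneg_of_lt_one_right (pow_le_one' (hv1 i) _) zero_le (hT R hR.1 _ (hu1 i))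
  set E : Divisor k K := ∑ R ∈ T', Finsupp.single R (1 : ℤ) with hE
  have hEa : ∀ R, E R = if R ∈ T' then 1 else 0 := fun R => by
    rw [hE, Finsupp.finsetSum_apply]; simp [Finsupp.single_apply]
  have hwE : w ∈ L (D - E) := (mem_L_iff hw0).2 fun R => by
    rw [Finsupp.sub_apply, hEa]
    have h1 := (mem_L_iff hw0).1 hwD R
    split_ifs with hR
    · have h2 := (v_lt_one_iff R hw0).1 (hzero R hR)
      have h3 : D R = 0 := by
        rw [hT', Finset.mem_sdiff, Finset.mem_insert, Finset.mem_singleton, not_or] at hR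
        rw [hD, Finsupp.add_apply, Finsupp.single_eq_of_ne hR.2.1, Finsupp.single_eq_of_ne hR.2.2, add_zero]
      omega
    · omega
  have hdeg : 0 ≤ (D - E).deg := by
    by_contra hneg
    rw [L_eq_bot_of_deg_neg hL.1 (not_le.1 hneg), Submodule.mem_bot] at hwE
    exact hw0 hwE
  have hEd : E.deg = ∑ R ∈ T', (R.deg : ℤ) := by
    rw [hE, show Divisor.deg (∑ R ∈ T', Finsupp.single R (1 : ℤ)) =
      ∑ R ∈ T', Divisor.deg (Finsupp.single R (1 : ℤ) : Divisor k K) from map_sum degHom _ _]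
    simp only [deg_single, one_mul]
  rw [deg_sub, hD, deg_add, deg_single, deg_single, hQ₀, hQ₁d, hEd] at hdeg
  have hrest : ∑ R ∈ T, (R.deg : ℤ) ≤ ∑ R ∈ T', (R.deg : ℤ) + 2 := by
    rw [hT', ← Finset.sum_sdiff (Finset.inter_subset_left : T ∩ {Q₀, Q₁} ⊆ T), Finset.sdiff_inter_self_left]
    refine add_le_add_right ?_ _
    refine (Finset.sum_le_sum_of_subset_of_nonneg (Finset.inter_subset_right : T ∩ {Q₀, Q₁} ⊆ {Q₀, Q₁})
      fun R _ _ => Int.natCast_nonneg _).trans ?_
    rcases eq_or_ne Q₀ Q₁ with h | h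
    · rw [← h, Finset.pair_eq_singleton, Finset.sum_singleton, hQ₀]; norm_num
    · rw [Finset.sum_pair h, hQ₀, hQ₁d]; norm_num
  have hqq : (Nat.card k : ℤ) = (q₀ : ℤ) * q₀ := by rw [hq, pow_two]; push_cast; rfl
  have hn' : (n : ℤ) = q₀ + 2 * g := by omega
  have hm' : (m : ℤ) = q₀ - 1 := by omega
  push_cast at hdeg
  rw [hn', hm'] at hdeg
  rw [hqq]
  push_cast
  nlinarith

end Groth.Agent.FFLib
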