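import Groth.Agent.FFLib.WrDiv

/-!
# The bound on strong fixed points
-/

open WithZero Module Submodule Finset

namespace Groth.Agent.FFLib

open FunFld

variable {k K : Type*} [Field k] [IsAlgClosed k] [Field K] [Algebra k K]

/-- A set of naturals whose members are at most twice their rank has sum at most the square. -/
lemma sum_le_card_sq (G : Finset ℕ) (h : ∀ m ∈ G, m ≤ 2 * (G.filter (· < m)).card + 1) :
    ∑ m ∈ G, m ≤ G.card ^ 2 := by
  induction G using Finset.induction_on_max with
  | empty => simp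
  | insert a s hlt ih =>
    have ha : a ∉ s := fun h' => lt_irrefl _ (hlt a h')
    have h1 : a ≤ 2 * s.card + 1 := by
      refine (h a (mem_insert_self a s)).trans ?_
      have : ((insert a s).filter (· < a)).card ≤ s.card := card_le_card fun x hx => by
        simp only [mem_filter, Finset.mem_insert] at hx
        exact hx.1.resolve_left hx.2.ne
      omega
    have h2 := ih fun m hm => (h m (mem_insert_of_mem hm)).trans (by
      have : ((insert a s).filter (· < m)).card ≤ (s.filter (· < m)).card := card_le_card fun x hx => by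
        simp only [mem_filter, Finset.mem_insert] at hx ⊢
        refine ⟨hx.1.resolve_left fun e => ?_, hx.2⟩
        have := hlt m hm
        omega
      omega)
    rw [sum_insert ha, card_insert_of_notMem ha]
    nlinarith

lemma val_le_of_strictMono {n : ℕ} {J : Fin n → ℕ} (hJ : StrictMono J) : ∀ l : Fin n, (l : ℕ) ≤ J l := by
  rintro ⟨l, hl⟩
  induction l with
  | zero => exact Nat.zero_le _
  | succ l ih =>
    have := hJ (show (⟨l, by omega⟩ : Fin n) < ⟨l + 1, hl⟩ from Nat.lt_succ_self l)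
    have := ih (by omega)
    simp only at *
    omega

variable (hK : IsFunctionField k K)
include hK

lemma sum_orders_le {n : ℕ} (τ : K →ₐ[k] K) {P : Place k K} (hP : IsStrongFixedPt τ P)
    (hn : genus k K < n) {φ : Fin (n + 1) → K} (hφ : LinearIndependent k φ)
    (hspan : span k (Set.range φ) = L (Finsupp.single P ((n + genus k K : ℕ) : ℤ) : Divisor k K))
    {s : K} {H : K →ₐ[k] PowerSeries K} (hH : LocRes.IsHasseFamily s H) {J : Fin n → ℕ}
    (hJ : IsOrders K (hcol τ H φ) J) :
    2 * ∑ l, (J l : ℤ) ≤ (n : ℤ) * (n - 1) + 2 * (genus k K : ℤ) ^ 2 := by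
  classical
  set g := genus k K
  set N := n + g with hN
  have hn0 : 0 < n := by omega
  have hdeg := deg_eq_one hK P
  obtain ⟨y, hy, hψ, heff, hint⟩ := exists_normalized hK hφ P
  obtain ⟨t, Ht, -, -, ht, -, hsep, hHt⟩ := exists_param hK P
  obtain ⟨Φ, hΦ, hΦt⟩ := exists_expansion hdeg ht
  have hJt : IsOrders K (hcol τ Ht (y • φ)) J :=
    ((orders_change τ hK hH hHt (y • φ)).1 J).2 (((orders_smul τ hH hy φ).1 J).2 hJ)
  obtain ⟨J', hJ'⟩ := exists_orders_at hK hψ heff hint ht hHt
  have hfix : IsFixedPt τ P := fun z hz =>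
    (hP z hz).trans_lt (by rw [← exp_zero, exp_lt_exp]; norm_num)
  have hle := orders_add_le_strong hK τ hP hn0 ht hHt hψ heff hint hJt hJ'
  have hpos := (orders_le_at_fixed hK τ hfix ht hHt hψ heff hint hJt hJ').1
  -- the order of `y`
  have hy' : P.ord y = N := by
    have h1 := mapDiv_smul_apply hK hφ.ne_zero hy P
    rw [mapDiv_eq_zero_of_normalized hK heff hψ.ne_zero hint] at h1
    have h2 : mapDiv k φ P ≤ N := mapDiv_le_of_v_le hK hφ.ne_zero fun i => by
      have : φ i ∈ L (Finsupp.single P ((N : ℕ) : ℤ) : Divisor k K) := hspan ▸ subset_span ⟨i, rfl⟩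
      simpa using this P
    obtain ⟨f, hf, hfp⟩ := exists_pole_single hK P (m := N) (by omega)
    have hf0 : f ≠ 0 := fun e => hf (e ▸ isAlgebraic_zero)
    have h3 := mapDiv_mono_span hK (ψ := fun _ : Fin 1 => f) (φ := φ) (fun _ => hf0) (fun _ => by
      rw [hspan, ← hfp]; exact mem_L_pole hK f) P
    have h4 := neg_mapDiv_le_ord hK (fun _ : Fin 1 => f) P 0
    have h5 : pole (k := k) f P = N := by rw [hfp, Finsupp.single_eq_same]
    rw [pole_apply hK] at h5
    omega
  -- the orders at `P` come from nongaps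
  set T := (range N).filter fun m => ¬IsGap P m with hT
  set G := (range N).filter fun m => IsGap P m with hG
  have hmem : ∀ l, (J' l ≤ N) ∧ N - J' l ∈ T := fun l => by
    obtain ⟨-, w, hw, hwv⟩ :=
      (isJump_hcolAt_iff hsep hΦ hΦt hHt hint hdeg (J' l)).1 ((hJ'.2 _).1 ⟨l, rfl⟩)
    have hw' : w ∈ (span k (Set.range φ)).map (LinearMap.mulLeft k y) := by
      rw [Submodule.map_span, ← Set.range_comp]; exact hw
    obtain ⟨f, hf, rfl⟩ := hw'
    rw [hspan] at hf
    have hf0 : f ≠ 0 := fun e => exp_ne_zero (hwv.symm.trans (by simp [e]))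
    rw [LinearMap.mulLeft_apply, v_eq_exp_iff P (mul_ne_zero hy hf0), ord_mul P hy hf0, hy', neg_neg] at hwv
    have hf' : f ∈ L (Finsupp.single P (-P.ord f) : Divisor k K) := by
      rw [SetLike.mem_coe, mem_L_iff hf0] at hf
      refine (mem_L_iff hf0).2 fun Q => ?_
      rcases eq_or_ne Q P with rfl | hQ
      · rw [Finsupp.single_eq_same]; omega
      · rw [Finsupp.single_eq_of_ne hQ]
        simpa [Finsupp.single_eq_of_ne hQ] using hf Q
    have hle' : J' l ≤ N := by
      by_contra hlt
      rw [L_eq_bot_of_deg_neg hK (by rw [deg_single, hdeg]; omega), Submodule.mem_bot] at hf'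
      exact hf0 hf'
    have := hpos l
    refine ⟨hle', mem_filter.2 ⟨mem_range.2 (by omega), fun hgap => ?_⟩⟩
    rw [isGap_iff] at hgap
    refine hgap ⟨f, ?_, hf0, by omega⟩
    rwa [show ((N - J' l : ℕ) : ℤ) = -P.ord f by omega]
  have hcard : G.card = g := by
    have h1 := ell_add_card_gaps hK hdeg N
    have h2 := ell_eq_of_deg_ge hK (D := Finsupp.single P (N : ℤ)) (by rw [deg_single, hdeg]; omega)
    rw [deg_single, hdeg] at h2
    have hNg : ¬IsGap P N := by
      rw [isGap_iff, not_not]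
      obtain ⟨f, hf, hfp⟩ := exists_pole_single hK P (m := N) (by omega)
      refine ⟨f, hfp ▸ mem_L_pole hK f, fun e => hf (e ▸ isAlgebraic_zero), ?_⟩
      have h5 : pole (k := k) f P = N := by rw [hfp, Finsupp.single_eq_same]
      rw [pole_apply hK] at h5
      omega
    have h0 : ¬IsGap P 0 := by
      rw [isGap_iff, not_not]
      exact ⟨1, by rw [Nat.cast_zero, Finsupp.single_zero, mem_L_iff one_ne_zero]; simp, one_ne_zero, by simp⟩
    have hset : {m | 1 ≤ m ∧ m ≤ N ∧ IsGap P m} = ↑G := by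
      ext m
      simp only [hG, coe_filter, Finset.mem_range, Set.mem_setOf_eq]
      constructor
      · rintro ⟨-, h4, h5⟩
        exact ⟨lt_of_le_of_ne h4 fun e => hNg (e ▸ h5), h5⟩
      · rintro ⟨h4, h5⟩
        exact ⟨Nat.one_le_iff_ne_zero.2 fun e => h0 (e ▸ h5), h4.le, h5⟩
    rw [hset, Set.ncard_coe_finset] at h1
    omega
  have hGT : T.card = n ∧ ∑ m ∈ T, ((N : ℤ) - 1 - m) + ∑ m ∈ G, ((N : ℤ) - 1 - m) =
      ∑ m ∈ range N, ((N : ℤ) - 1 - m) := by
    constructor
    · have := Finset.card_filter_add_card_filter_not (s := range N) (fun m => IsGap P m)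
      rw [card_range] at this
      simp only [← hG, ← hT] at this
      omega
    · rw [add_comm]
      exact Finset.sum_filter_add_sum_filter_not _ _ _
  have hinj : Set.InjOn (fun l => N - J' l) (univ : Finset (Fin n)) := fun a _ b _ e => by
    have := (hmem a).1; have := (hmem b).1
    exact hJ'.1.injective (by simp only at e; omega)
  have himg : univ.image (fun l => N - J' l) = T := eq_of_subset_of_card_le
    (fun m hm => by obtain ⟨l, -, rfl⟩ := Finset.mem_image.1 hm; exact (hmem l).2)
    (by rw [card_image_of_injOn hinj, Finset.card_fin, hGT.1])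
  have h1 : ∑ l, (J l : ℤ) ≤ ∑ m ∈ T, ((N : ℤ) - 1 - m) := by
    rw [← himg, sum_image hinj]
    refine sum_le_sum fun l _ => ?_
    have := hle l; have := (hmem l).1; have := hpos ⟨0, hn0⟩
    omega
  have h2 : ∑ m ∈ G, ((N : ℤ) - 1 - m) = g * ((N : ℤ) - 1) - ∑ m ∈ G, (m : ℤ) := by
    rw [sum_sub_distrib, sum_const, hcard, nsmul_eq_mul]
  have h3 : ∀ M : ℕ, 2 * ∑ m ∈ range M, ((M : ℤ) - 1 - m) = (M : ℤ) * (M - 1) := fun M => by
    induction M with
    | zero => simp
    | succ M ih =>
      rw [sum_range_succ]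
      have : ∑ m ∈ range M, (((M + 1 : ℕ) : ℤ) - 1 - m) = ∑ m ∈ range M, ((M : ℤ) - 1 - m) + M := by
        simp only [sum_sub_distrib, sum_const, card_range, nsmul_eq_mul]
        push_cast
        ring
      rw [this]
      push_cast
      linarith
  have h4 : ∑ m ∈ G, m ≤ G.card ^ 2 := sum_le_card_sq G fun m hm => by
    simp only [hG, mem_filter, Finset.mem_range] at hm
    have h := le_two_mul_gaps m hm.2
    have hle' : {j | 1 ≤ j ∧ j < m ∧ IsGap P j}.ncard ≤ (G.filter (· < m)).card := by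
      rw [← Set.ncard_coe_finset]
      refine Set.ncard_le_ncard (fun j hj => ?_) (finite_toSet _)
      simp only [hG, coe_filter, mem_filter, Finset.mem_range, Set.mem_setOf_eq]
      exact ⟨⟨lt_trans hj.2.1 hm.1, hj.2.2⟩, hj.2.1⟩
    omega
  have h5 : ∑ m ∈ G, (m : ℤ) ≤ (g : ℤ) ^ 2 := by
    rw [hcard] at h4
    rw [← Nat.cast_sum]
    exact_mod_cast h4
  have h6 := h3 N
  rw [← hGT.2, h2] at h6
  have h7 : (N : ℤ) = n + g := by omega
  rw [h7] at h1 h6
  have h8 : (g : ℤ) ≤ g ^ 2 := by exact_mod_cast (Nat.le_self_pow two_ne_zero g)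
  linarith

/-- The bound on the number of strong fixed points. -/
theorem strongFixed_ncard_le (τ : K →ₐ[k] K) (n : ℕ) (hn : genus k K < n) :
    {P : Place k K | IsStrongFixedPt τ P}.Finite ∧
      (Set.ncard {P : Place k K | IsStrongFixedPt τ P} : ℝ) ≤
        1 + finrank τ.fieldRange K + (n + (finrank τ.fieldRange K : ℝ) / n) * genus k K +
          2 * (genus k K : ℝ) ^ 2 * (genus k K - 1) / n := by
  classical
  set g := genus k K
  set d := finrank τ.fieldRange K
  set S := {P : Place k K | IsStrongFixedPt τ P}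
  have hn0 : 0 < n := by omega
  have hnR : (0 : ℝ) < n := by exact_mod_cast hn0
  suffices h : S.Finite ∧ (n : ℤ) * (S.ncard : ℤ) ≤
      n * (1 + d + n * g) + d * g + 2 * (g : ℤ) ^ 2 * (g - 1) by
    refine ⟨h.1, ?_⟩
    have hr : (n : ℝ) * (S.ncard : ℝ) ≤ n * (1 + d + n * g) + d * g + 2 * (g : ℝ) ^ 2 * (g - 1) := by
      exact_mod_cast h.2
    refine le_of_mul_le_mul_left (hr.trans_eq ?_) hnR
    field_simp
    ring
  rcases S.eq_empty_or_nonempty with hS | ⟨P, hP⟩
  · refine ⟨hS ▸ Set.finite_empty, ?_⟩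
    rw [hS, Set.ncard_empty, Nat.cast_zero, mul_zero]
    rcases Nat.eq_zero_or_pos g with hg | hg
    · rw [hg]; simp; positivity
    · have : (0 : ℤ) ≤ (g : ℤ) - 1 := by omega
      positivity
  set D : Divisor k K := Finsupp.single P ((n + g : ℕ) : ℤ) with hD
  have := finiteDimensional_L hK D
  have hdim : finrank k (L D) = n + 1 := by
    have h := ell_eq_of_deg_ge hK (D := D) (by rw [hD, deg_single, deg_eq_one hK P]; omega)
    rw [hD, deg_single, deg_eq_one hK P, ← hD, ell] at h
    omega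
  set b := Module.finBasisOfFinrankEq k (L D) hdim
  set φ : Fin (n + 1) → K := fun i => (b i : K)
  have hφ : LinearIndependent k φ := b.linearIndependent.map' (L D).subtype (Submodule.ker_subtype _)
  have hspan : span k (Set.range φ) = L D := by
    rw [show φ = (L D).subtype ∘ b from rfl, Set.range_comp, ← Submodule.map_span, b.span_eq,
      Submodule.map_top, Submodule.range_subtype]
  obtain ⟨t, H, -, -, -, -, -, hH⟩ := exists_param hK P
  obtain ⟨J, hJ, -⟩ := exists_orders τ hK hφ hH
  obtain ⟨hfin, hb⟩ := strongFixed_card_le hK τ hφ hn0 hH hJ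
  have hdegφ : (mapDiv k φ).deg ≤ ((n + g : ℕ) : ℤ) := by
    refine (deg_mono (E := D) fun Q => mapDiv_le_of_v_le hK hφ.ne_zero fun i =>
      (b i).2 Q).trans_eq ?_
    rw [hD, deg_single, deg_eq_one hK P]
    simp
  have hup := sum_orders_le hK τ hP hn hφ hspan hH hJ
  have hlow : (n : ℤ) * (n - 1) ≤ 2 * ∑ l, (J l : ℤ) := by
    have h3 : ∀ M : ℕ, (M : ℤ) * (M - 1) = 2 * ∑ l : Fin M, (l : ℤ) := fun M => by
      induction M with
      | zero => simp
      | succ M ih =>
        rw [Fin.sum_univ_castSucc]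
        simp only [Fin.val_castSucc, Fin.val_last]
        push_cast
        linarith
    rw [h3 n]
    refine mul_le_mul_of_nonneg_left (sum_le_sum fun l _ => ?_) two_pos.le
    exact_mod_cast val_le_of_strictMono hJ.1 l
  refine ⟨hfin, hb.trans ?_⟩
  have h1 : ((n : ℤ) + d) * (mapDiv k φ).deg ≤ ((n : ℤ) + d) * ((n : ℤ) + g) := by
    refine mul_le_mul_of_nonneg_left ?_ (by positivity)
    exact_mod_cast hdegφ
  have h2 : (2 * (g : ℤ) - 2) * ∑ l, (J l : ℤ) ≤
      ((g : ℤ) - 1) * ((n : ℤ) * (n - 1)) + 2 * (g : ℤ) ^ 2 * ((g : ℤ) - 1) := by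
    rcases Nat.eq_zero_or_pos g with hg | hg
    · rw [hg]; push_cast; linarith
    · have := mul_le_mul_of_nonneg_left hup (show (0 : ℤ) ≤ (g : ℤ) - 1 by omega)
      linarith
  linarith

end Groth.Agent.FFLib
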