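import Groth.Agent.FFLib.Auto
import Groth.Agent.FFLib.Birational
import Groth.Agent.FFLib.FixedBound

/-!
# Weights of canonical maps, hyperelliptic pencils, and Weierstrass points
-/

open WithZero Module Submodule Finset

namespace Groth.Agent.FFLib

open FunFld

variable {k K : Type*} [Field k] [Field K] [Algebra k K]

/-- If `2` occurs, the bound on the sum is strict. -/
lemma sum_lt_card_sq (G : Finset ℕ) (h : ∀ m ∈ G, m ≤ 2 * (G.filter (· < m)).card + 1) (h2 : 2 ∈ G) :
    ∑ m ∈ G, m < G.card ^ 2 := by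
  induction G using Finset.induction_on_max with
  | empty => simp at h2
  | insert a s hlt ih =>
    have ha : a ∉ s := fun h' => lt_irrefl _ (hlt a h')
    have h1 : a ≤ 2 * s.card + 1 := by
      refine (h a (mem_insert_self a s)).trans ?_
      have : ((insert a s).filter (· < a)).card ≤ s.card := card_le_card fun x hx => by
        simp only [mem_filter, Finset.mem_insert] at hx
        exact hx.1.resolve_left hx.2.ne
      omega
    have hs : ∀ m ∈ s, m ≤ 2 * (s.filter (· < m)).card + 1 := fun m hm =>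
      (h m (mem_insert_of_mem hm)).trans (by
        have : ((insert a s).filter (· < m)).card ≤ (s.filter (· < m)).card := card_le_card fun x hx => by
          simp only [mem_filter, Finset.mem_insert] at hx ⊢
          refine ⟨hx.1.resolve_left fun e => ?_, hx.2⟩
          have := hlt m hm
          omega
        omega)
    rw [sum_insert ha, card_insert_of_notMem ha]
    rcases Finset.mem_insert.1 h2 with rfl | h2'
    · have hsub : s ⊆ range 2 := fun x hx => Finset.mem_range.2 (hlt x hx)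
      have hc := card_le_card hsub
      rw [card_range] at hc
      have h3 := sum_le_card_sq s hs
      rcases Nat.lt_or_ge s.card 2 with hlt2 | hge
      · interval_cases s.card <;> simp_all <;> omega
      · have : s = range 2 := eq_of_subset_of_card_le hsub (by rw [card_range]; omega)
        subst this
        simp [Finset.sum_range_succ]
    · have := ih hs h2'
      nlinarith

variable [IsAlgClosed k] (hK : IsFunctionField k K)
include hK

lemma not_gap_iff_exists_pole (P : Place k K) {m : ℕ} (hm : 1 ≤ m) :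
    ¬IsGap P m ↔ ∃ f : K, Transcendental k f ∧ pole (k := k) f = Finsupp.single P (m : ℤ) := by
  rw [isGap_iff, not_not]
  constructor
  · rintro ⟨f, hf, hf0, hfo⟩
    refine ⟨f, transcendental_of_ord hK P (by omega), Finsupp.ext fun Q => ?_⟩
    rw [pole_apply hK]
    rcases eq_or_ne Q P with rfl | hQ
    · rw [Finsupp.single_eq_same, hfo]; omega
    · have := (mem_L_iff hf0).1 hf Q
      rw [Finsupp.single_eq_of_ne hQ] at this ⊢
      omega
  · rintro ⟨f, hf, hfp⟩
    refine ⟨f, hfp ▸ mem_L_pole hK f, fun e => hf (e ▸ isAlgebraic_zero), ?_⟩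
    have h5 : pole (k := k) f P = m := by rw [hfp, Finsupp.single_eq_same]
    rw [pole_apply hK] at h5
    omega

lemma isGap_auto (σ : K ≃ₐ[k] K) (P : Place k K) (m : ℕ) :
    IsGap (resPlace hK (σ : K →ₐ[k] K) P) m ↔ IsGap P m := by
  rcases Nat.eq_zero_or_pos m with rfl | hm
  · simp [gap_zero_not hK]
  refine not_iff_not.1 ?_
  rw [not_gap_iff_exists_pole hK _ hm, not_gap_iff_exists_pole hK _ hm]
  set P' := resPlace hK (σ : K →ₐ[k] K) P
  have hinj : ∀ Q, resPlace hK (σ : K →ₐ[k] K) Q = P' → Q = P := fun Q e => place_eq_of_ord hK fun y => by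
    have h1 := ord_auto hK σ Q (σ.symm y)
    have h2 := ord_auto hK σ P (σ.symm y)
    rw [σ.apply_symm_apply] at h1 h2
    rw [h1, h2, e]
  constructor
  · rintro ⟨f, hf, hfp⟩
    refine ⟨σ f, fun h => hf ((isAlgebraic_algHom_iff (σ : K →ₐ[k] K) σ.injective).1 h), Finsupp.ext fun Q => ?_⟩
    rw [pole_apply hK, ord_auto hK, ← pole_apply hK, hfp]
    rcases eq_or_ne Q P with rfl | hQ
    · rw [Finsupp.single_eq_same, Finsupp.single_eq_same]
    · rw [Finsupp.single_eq_of_ne hQ, Finsupp.single_eq_of_ne fun e => hQ (hinj Q e)]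
  · rintro ⟨f, hf, hfp⟩
    refine ⟨σ.symm f, fun h => hf ((isAlgebraic_algHom_iff (σ.symm : K →ₐ[k] K) σ.symm.injective).1 h),
      Finsupp.ext fun Q => ?_⟩
    obtain ⟨R, rfl⟩ : ∃ R, resPlace hK (σ : K →ₐ[k] K) R = Q :=
      ⟨resPlace hK ((σ.symm : K ≃ₐ[k] K) : K →ₐ[k] K) Q, place_eq_of_ord hK fun y => by
        rw [← ord_auto hK, ← ord_auto hK, σ.symm_apply_apply]⟩
    rw [pole_apply hK, ← ord_auto hK, σ.apply_symm_apply, ← pole_apply hK, hfp]
    rcases eq_or_ne R P with rfl | hR
    · rw [Finsupp.single_eq_same, Finsupp.single_eq_same]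
    · rw [Finsupp.single_eq_of_ne hR, Finsupp.single_eq_of_ne fun e => hR (hinj R e)]

/-! ## Canonical systems -/

lemma not_gap_one (hg : 0 < genus k K) (P : Place k K) : IsGap P 1 := by
  by_contra h
  obtain ⟨f, -, hfp⟩ := (not_gap_iff_exists_pole hK P le_rfl).1 h
  have := genus_eq_zero_of_top hK (adjoin_eq_top_of_pole hK (deg_eq_one hK P) (by exact_mod_cast hfp))
  omega

lemma canonical_gap {C : Divisor k K} (hC : IsCanonical k K C) (P : Place k K) (j : ℕ) :
    (∃ f ∈ L C, f ≠ 0 ∧ P.ord f = -C P + j) ↔ IsGap P (j + 1) := by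
  classical
  set A : Divisor k K := C - Finsupp.single P (j : ℤ)
  set B : Divisor k K := C - Finsupp.single P ((j + 1 : ℕ) : ℤ)
  have hBA : B ≤ A := sub_le_sub_left (single_le_single P (by omega)) C
  have h1 := riemann_roch hK hC (Finsupp.single P (j : ℤ))
  have h2 := riemann_roch hK hC (Finsupp.single P ((j + 1 : ℕ) : ℤ))
  rw [deg_single, deg_eq_one hK P] at h1 h2
  have hA := finiteDimensional_L hK A
  have hL1 := finiteDimensional_L hK (Finsupp.single P ((j + 1 : ℕ) : ℤ))
  have hAB := ell_sub_le hK B A hBA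
  have hAB' := ell_mono hK hBA
  simp only [A, B, deg_sub, deg_single, deg_eq_one hK P] at hAB
  constructor
  · rintro ⟨f, hf, hf0, hord⟩
    have hlt : ell B < ell A := by
      refine Submodule.finrank_lt_finrank_of_lt (lt_of_le_of_ne (L_mono hBA) fun e => ?_)
      have hfA : f ∈ L A := (mem_L_iff hf0).2 fun Q => by
        simp only [A, Finsupp.sub_apply]
        rcases eq_or_ne Q P with rfl | hQ
        · rw [Finsupp.single_eq_same]; omega
        · rw [Finsupp.single_eq_of_ne hQ, sub_zero]; exact (mem_L_iff hf0).1 hf Q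
      rw [← e] at hfA
      have := (mem_L_iff hf0).1 hfA P
      simp only [B, Finsupp.sub_apply, Finsupp.single_eq_same] at this
      omega
    show L _ = L _
    rw [show (((j + 1 : ℕ) : ℤ) - 1) = (j : ℤ) by push_cast; ring]
    refine (Submodule.eq_of_le_of_finrank_le (L_mono (single_le_single P (by omega))) ?_).symm
    show ell _ ≤ ell _
    simp only [A, B] at hlt hAB hAB'
    push_cast at h1 h2 hAB hAB' hlt ⊢
    omega
  · intro hgap
    have heq : L (Finsupp.single P ((j + 1 : ℕ) : ℤ) : Divisor k K) = L (Finsupp.single P (j : ℤ) : Divisor k K) := by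
      rw [show L (Finsupp.single P ((j + 1 : ℕ) : ℤ) : Divisor k K) =
        L (Finsupp.single P (((j + 1 : ℕ) : ℤ) - 1) : Divisor k K) from hgap]
      norm_num
    have he : ell (Finsupp.single P ((j + 1 : ℕ) : ℤ) : Divisor k K) = ell (Finsupp.single P (j : ℤ) : Divisor k K) := by
      rw [ell, heq]; rfl
    obtain ⟨f, hfA, hfB⟩ : ∃ f ∈ L A, f ∉ L B := by
      by_contra h
      push Not at h
      have := finiteDimensional_L hK B
      have h3 : ell A ≤ ell B := Submodule.finrank_mono h
      simp only [A, B] at h3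
      push_cast at h1 h2 h3 he
      omega
    have hf0 : f ≠ 0 := fun e => hfB (e ▸ Submodule.zero_mem _)
    rw [mem_L_iff hf0] at hfA hfB
    refine ⟨f, (mem_L_iff hf0).2 fun Q => ?_, hf0, ?_⟩
    · have := hfA Q
      simp only [A, Finsupp.sub_apply] at this
      rcases eq_or_ne Q P with rfl | hQ
      · rw [Finsupp.single_eq_same] at this; omega
      · rw [Finsupp.single_eq_of_ne hQ, sub_zero] at this; exact this
    · by_contra hne
      refine hfB fun Q => ?_
      have := hfA Q
      simp only [A, B, Finsupp.sub_apply] at this ⊢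
      rcases eq_or_ne Q P with rfl | hQ
      · rw [Finsupp.single_eq_same] at this ⊢; omega
      · rw [Finsupp.single_eq_of_ne hQ] at this ⊢; omega

/-- The weight of a place for the canonical map. -/
lemma two_mul_weight (hg : 1 < genus k K)
    (hchar : ringChar k = 0 ∨ 2 * genus k K - 2 < ringChar k)
    {C : Divisor k K} (hC : IsCanonical k K C) {n : ℕ} {φ : Fin (n + 1) → K}
    (hφ : LinearIndependent k φ) (hspan : span k (Set.range φ) = L C)
    {s : K} {H : K →ₐ[k] PowerSeries K} (hH : LocRes.IsHasseFamily s H) {J : Fin n → ℕ}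
    (hJ : IsOrders K (hcol (AlgHom.id k K) H φ) J)
    {Φ : Place k K → (K →ₐ[k] LaurentSeries k)}
    (hΦ : ∀ P : Place k K, LocRes.IsExpansionAt P.1 (Φ P))
    (P : Place k K) {G : Finset ℕ} (hG : ∀ m, m ∈ G ↔ IsGap P m) (hGc : G.card = genus k K) :
    n + 1 = genus k K ∧ mapDiv k φ = C ∧ (∀ l : Fin n, J l = (l : ℕ) + 1) ∧
      2 * wDiv (AlgHom.id k K) H Φ s φ J P + (genus k K : ℤ) * ((genus k K : ℤ) + 1) =
        2 * ∑ m ∈ G, (m : ℤ) := by
  classical
  set g := genus k K with hgdef
  set τ := AlgHom.id k K with hτ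
  obtain ⟨hell, -⟩ := canonical_ell_deg hK hC
  have hn : n + 1 = g := by
    have := finrank_span_eq_card hφ
    rw [hspan, Fintype.card_fin] at this
    rw [← this]; exact hell
  have hmap : mapDiv k φ = C := by
    refine Finsupp.ext fun Q => le_antisymm (mapDiv_le_of_v_le hK hφ.ne_zero fun i => ?_) ?_
    · have : φ i ∈ L C := hspan ▸ subset_span ⟨i, rfl⟩
      exact this Q
    · obtain ⟨f, hf, hf0, hfo⟩ := (canonical_gap hK hC Q 0).2 (not_gap_one hK (by omega) Q)
      have h3 := mapDiv_mono_span hK (ψ := fun _ : Fin 1 => f) (φ := φ) (fun _ => hf0) (fun _ => by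
        rw [hspan]; exact hf) Q
      have h4 := neg_mapDiv_le_ord hK (fun _ : Fin 1 => f) Q 0
      push_cast at hfo
      omega
  obtain ⟨y, hy, hψ, heff, hint⟩ := exists_normalized hK hφ P
  obtain ⟨t, Ht, -, -, ht, -, hsep, hHt⟩ := exists_param hK P
  obtain ⟨Ψ, hΨ, hΨt⟩ := exists_expansion (deg_eq_one hK P) ht
  have hJψ := ((orders_smul τ hH hy φ).1 J).2 hJ
  have hJt : IsOrders K (hcol τ Ht (y • φ)) J := ((orders_change τ hK hH hHt (y • φ)).1 J).2 hJψ
  obtain ⟨J', hJ'⟩ := exists_orders_at hK hψ heff hint ht hHt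
  have hfix : IsFixedPt τ P := fun z hz => hz
  obtain ⟨hpos, -, -⟩ := orders_le_at_fixed hK τ hfix ht hHt hψ heff hint hJt hJ'
  have hyord : P.ord y = C P := by
    have h1 := mapDiv_smul_apply hK hφ.ne_zero hy P
    rw [mapDiv_eq_zero_of_normalized hK heff hψ.ne_zero hint, hmap] at h1
    omega
  have hrange : ∀ j : ℕ, j ∈ Set.range J' ↔ 0 < j ∧ IsGap P (j + 1) := fun j => by
    rw [hJ'.2 j, isJump_hcolAt_iff hsep hΨ hΨt hHt hint (deg_eq_one hK P), ← canonical_gap hK hC P j]
    refine and_congr_right fun _ => ⟨?_, ?_⟩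
    · rintro ⟨w, hw, hwv⟩
      have hw' : w ∈ (span k (Set.range φ)).map (LinearMap.mulLeft k y) := by
        rw [Submodule.map_span, ← Set.range_comp]; exact hw
      obtain ⟨f, hf, rfl⟩ := hw'
      have hf0 : f ≠ 0 := fun e => exp_ne_zero (hwv.symm.trans (by simp [e]))
      rw [LinearMap.mulLeft_apply, v_eq_exp_iff P (mul_ne_zero hy hf0), ord_mul P hy hf0, hyord, neg_neg] at hwv
      exact ⟨f, hspan ▸ hf, hf0, by omega⟩
    · rintro ⟨f, hf, hf0, hfo⟩
      refine ⟨y * f, ?_, ?_⟩
      · have : y * f ∈ (span k (Set.range φ)).map (LinearMap.mulLeft k y) := ⟨f, by rw [hspan]; exact hf, rfl⟩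
        rw [Submodule.map_span, ← Set.range_comp] at this
        exact this
      · rw [v_eq_exp_iff P (mul_ne_zero hy hf0), ord_mul P hy hf0, hyord]; omega
  have hG1 : 1 ∈ G := (hG 1).2 (not_gap_one hK (by omega) P)
  have himg : G.erase 1 = univ.image (fun l => J' l + 1) := by
    ext m
    simp only [Finset.mem_erase, Finset.mem_image, Finset.mem_univ, true_and, hG]
    constructor
    · rintro ⟨hm1, hm⟩
      have := (gap_le hK P hm).1
      obtain ⟨l, hl⟩ := (hrange (m - 1)).2 ⟨by omega, by rwa [show m - 1 + 1 = m by omega]⟩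
      exact ⟨l, by omega⟩
    · rintro ⟨l, rfl⟩
      have := (hrange (J' l)).1 ⟨l, rfl⟩
      exact ⟨by omega, this.2⟩
  have hGsum : ∑ m ∈ G, (m : ℤ) = 1 + ∑ l, ((J' l : ℤ) + 1) := by
    rw [← Finset.add_sum_erase _ _ hG1, himg, sum_image fun a _ b _ e => hJ'.1.injective (by simpa using e)]
    push_cast
    rfl
  -- gaps are at most `2g - 1`
  have hG2 : ∀ m ∈ G, m ≤ 2 * (G.filter (· < m)).card + 1 := fun m hm => by
    have h := le_two_mul_gaps m ((hG m).1 hm)
    have hle : {j | 1 ≤ j ∧ j < m ∧ IsGap P j}.ncard ≤ (G.filter (· < m)).card := by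
      rw [← Set.ncard_coe_finset]
      refine Set.ncard_le_ncard (fun j hj => ?_) (finite_toSet _)
      simp only [coe_filter, Set.mem_ofPred_eq]
      exact ⟨(hG j).2 hj.2.2, hj.2.1⟩
    omega
  have hJ'le : ∀ l, J' l ≤ 2 * g - 2 := fun l => by
    have hm : J' l + 1 ∈ G := (hG _).2 ((hrange (J' l)).1 ⟨l, rfl⟩).2
    have := hG2 _ hm
    have h2 : (G.filter (· < J' l + 1)).card ≤ g - 1 := by
      rw [← hGc, ← Finset.card_erase_of_mem hm]
      exact card_le_card fun x hx => by
        simp only [mem_filter] at hx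
        exact Finset.mem_erase.2 ⟨hx.2.ne, hx.1⟩
    omega
  have hcast : ∀ a b : ℕ, a ≤ 2 * g - 2 → b ≤ 2 * g - 2 → (a : k) = b → a = b := fun a b ha hb e => by
    rcases hchar with h | h
    · have : CharP k 0 := (ringChar.eq_iff).1 h
      have := CharP.charP_to_charZero k
      exact Nat.cast_injective e
    · rw [CharP.natCast_eq_natCast k (ringChar k)] at e
      exact e.eq_of_lt_of_lt (by omega) (by omega)
  obtain ⟨-, hb1⟩ := binom_minors J' (F := k)
    (fun a b e => hJ'.1.injective (hcast _ _ (hJ'le a) (hJ'le b) e))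
    (fun m hm => by
      induction m with
      | zero => simp
      | succ m ih =>
        rw [Nat.factorial_succ, Nat.cast_mul]
        refine mul_ne_zero (fun e => ?_) (ih (by omega))
        have := hcast (m + 1) 0 (by omega) (by omega) (by rw [e, Nat.cast_zero])
        omega)
  have hdet : (binomMat k J' (fun l => (l : ℕ) + 1)).det ≠ 0 := hb1 hpos fun r e => by
    have := hcast (J' r) 0 (hJ'le r) (by omega) (by rw [e, Nat.cast_zero])
    have := hpos r
    omega
  have hmono : StrictMono fun l : Fin n => (l : ℕ) + 1 := fun a b hab => Nat.add_lt_add_right hab 1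
  have hJle : ∀ l, J l ≤ (l : ℕ) + 1 := by
    have hv := ((v_det_wrMat_fixed hK hfix hψ heff hint ht hHt hJ' _).2 (.inl fun l => Nat.succ_pos _)).2 hdet
    have h1 : (wrMat τ Ht (y • φ) (fun l => (l : ℕ) + 1)).det ≠ 0 := fun e =>
      exp_ne_zero (hv.symm.trans (by rw [e, map_zero]))
    rw [wrMat_eq_colMat, det_colMat_ne_zero_iff] at h1
    exact isOrders_le (hcol_zero_ne τ Ht hψ) hJt hmono h1
  have hJ0 : ∀ l, 0 < J l := fun l => Nat.pos_of_ne_zero fun e => by
    refine ((hJ.2 0).1 ⟨l, e⟩) (Submodule.subset_span ⟨0, Nat.zero_lt_one, ?_⟩)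
    funext i
    simp [hτ, hcol_zero, hcol_succ, hH.2]
  have hJeq : ∀ l : Fin n, J l = (l : ℕ) + 1 := fun l => le_antisymm (hJle l) (by
    have : StrictMono fun l => J l - 1 := fun a b hab => by
      have := hJ.1 hab; have := hJ0 a
      show J a - 1 < J b - 1
      omega
    have := val_le_of_strictMono this l
    have := hJ0 l
    omega)
  refine ⟨hn, hmap, hJeq, ?_⟩
  have hW : wDiv τ Ht Φ t (y • φ) J P = ∑ l, ((J' l : ℤ) - J l) :=
    ((wDiv_fixed hK hΦ τ hfix ht hHt hψ heff hint hJt hJ').2.2 (.inl hJ0)).2 (by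
      rwa [show J = fun l : Fin n => (l : ℕ) + 1 from funext hJeq])
  rw [wDiv_change hK hΦ τ hH hHt hψ hJψ, wDiv_smul hK hΦ τ hH hφ hy hJ] at hW
  rw [hW, hGsum]
  simp only [hJeq, sum_sub_distrib, sum_add_distrib, sum_const, card_univ, Fintype.card_fin, nsmul_eq_mul]
  push_cast
  simp only [sum_add_distrib, sum_const, card_univ, Fintype.card_fin, nsmul_eq_mul]
  have h3 : ∀ M : ℕ, (M : ℤ) * (M - 1) = 2 * ∑ l : Fin M, (l : ℤ) := fun M => by
    induction M with
    | zero => simp
    | succ M ih =>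
      rw [Fin.sum_univ_castSucc]
      simp only [Fin.val_castSucc, Fin.val_last]
      push_cast
      linarith
  have := h3 n
  have hgn : (g : ℤ) = n + 1 := by omega
  rw [hgn]
  linarith

/-! ## Pencils of degree two -/

lemma L_mul_pole_two (hg : 1 < genus k K) {P : Place k K} {x : K} (hx : Transcendental k x)
    (hxp : pole (k := k) x = Finsupp.single P (2 : ℤ)) :
    IsCanonical k K (Finsupp.single P (2 * (genus k K : ℤ) - 2)) ∧
      (L (Finsupp.single P (2 * (genus k K : ℤ) - 2) : Divisor k K) : Set K) ⊆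
        IntermediateField.adjoin k ({x} : Set K) := by
  classical
  set g := genus k K
  set D : Divisor k K := Finsupp.single P (2 * (g : ℤ) - 2) with hD
  have hdeg : D.deg = 2 * (g : ℤ) - 2 := by rw [hD, deg_single, deg_eq_one hK P]; push_cast; ring
  have := finiteDimensional_L hK D
  set w : Fin g → K := fun i => x ^ (i : ℕ)
  have hli : LinearIndependent k w := by
    rw [Fintype.linearIndependent_iff]
    intro c hc i
    let p : Polynomial k := ∑ j : Fin g, Polynomial.monomial (j : ℕ) (c j)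
    have h0 : Polynomial.aeval x p = 0 := by
      rw [← hc, map_sum]
      simp only [Polynomial.aeval_monomial, Algebra.smul_def, w]
    have hp : p = 0 := by
      by_contra h
      exact hx ⟨p, h, h0⟩
    simpa [p, Polynomial.coeff_monomial, Fin.val_inj] using congrArg (fun q => q.coeff (i : ℕ)) hp
  have hle : span k (Set.range w) ≤ L D := span_le.2 (by
    rintro _ ⟨i, rfl⟩ Q
    show Q.1 (x ^ (i : ℕ)) ≤ _
    have h1 := mem_L_pole hK x Q
    rw [map_pow]
    refine (pow_le_pow_left' h1 _).trans ?_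
    rw [← WithZero.exp_nsmul, exp_le_exp, hxp, hD, nsmul_eq_mul]
    rcases eq_or_ne Q P with rfl | hQ
    · rw [Finsupp.single_eq_same, Finsupp.single_eq_same]
      have := i.2
      omega
    · rw [Finsupp.single_eq_of_ne hQ, Finsupp.single_eq_of_ne hQ]
      simp)
  have hcl := clifford hK (deg_eq_one hK P) (D := D) (by omega) (by omega)
  have hfr : finrank k (span k (Set.range w)) = g := by
    rw [finrank_span_eq_card hli, Fintype.card_fin]
  have hge := Submodule.finrank_mono hle
  have hell : ell D = g := by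
    have h1 : (finrank k (L D) : ℤ) = ell D := rfl
    omega
  refine ⟨(isCanonical_iff hK D).2 ⟨hell, hdeg⟩, fun f hf => ?_⟩
  have heq : span k (Set.range w) = L D := Submodule.eq_of_le_of_finrank_le hle (by
    rw [hfr]; exact le_of_eq hell)
  rw [SetLike.mem_coe, ← heq] at hf
  refine (Submodule.span_le (p := (IntermediateField.adjoin k ({x} : Set K)).toSubmodule)).2 ?_ hf
  rintro _ ⟨i, rfl⟩
  exact pow_mem (IntermediateField.mem_adjoin_simple_self k x) _

/-- All places with nongap `2` are branch places of one pencil. -/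
lemma branch_of_two_nongap (hg : 1 < genus k K) {P₀ P : Place k K} {x f : K}
    (hx : Transcendental k x) (hxp : pole (k := k) x = Finsupp.single P₀ (2 : ℤ))
    (hf : Transcendental k f) (hfp : pole (k := k) f = Finsupp.single P (2 : ℤ)) (hne : P ≠ P₀) :
    ∃ c : k, 0 < P.ord (x - algebraMap k K c) ∧
      ∀ Q : Place k K, 0 < Q.ord (x - algebraMap k K c) → Q = P := by
  classical
  set g := genus k K
  obtain ⟨hC0, hL0⟩ := L_mul_pole_two hK hg hx hxp
  obtain ⟨hC1, -⟩ := L_mul_pole_two hK hg hf hfp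
  set D0 : Divisor k K := Finsupp.single P₀ (2 * (g : ℤ) - 2)
  set D1 : Divisor k K := Finsupp.single P (2 * (g : ℤ) - 2)
  obtain ⟨hl1, hd1⟩ := canonical_ell_deg hK hC1
  obtain ⟨hl0, hd0⟩ := canonical_ell_deg hK hC0
  have hrr := riemann_roch hK hC0 D1
  obtain ⟨u, hu, hue⟩ := exists_eq_div_of_ell_pos hK (D := D0 - D1) (by omega)
    (by rw [deg_sub]; omega)
  have hmul : ∀ z : K, z ∈ L D1 → u⁻¹ * z ∈ IntermediateField.adjoin k ({x} : Set K) := fun z hz => by
    refine hL0 ((mul_mem_L_iff hK (inv_ne_zero hu)).2 ?_)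
    rw [div_inv hK, ← hue, show D0 + -(D0 - D1) = D1 by abel]
    exact hz
  have h1mem : (1 : K) ∈ L D1 := (mem_L_iff one_ne_zero).2 fun Q => by
    simp only [D1, ord_one, zero_add]
    rcases eq_or_ne Q P with rfl | hQ
    · rw [Finsupp.single_eq_same]; omega
    · rw [Finsupp.single_eq_of_ne hQ]
  have hfmem : f ∈ L D1 := L_mono (fun Q => by
    rw [hfp]
    simp only [D1]
    exact single_le_single P (show (2 : ℤ) ≤ 2 * (g : ℤ) - 2 by omega) Q) (mem_L_pole hK f)
  have hfx : f ∈ IntermediateField.adjoin k ({x} : Set K) := by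
    have h := IntermediateField.div_mem _ (hmul f hfmem) (hmul 1 h1mem)
    rwa [mul_one, mul_div_cancel_left₀ _ (inv_ne_zero hu)] at h
  have hfin := finite_adjoin hK hf
  have hdx : finrank (IntermediateField.adjoin k ({x} : Set K)) K = 2 := by
    have := deg_pole hK hx
    rw [hxp, deg_single, deg_eq_one hK P₀] at this
    omega
  have hdf : finrank (IntermediateField.adjoin k ({f} : Set K)) K = 2 := by
    have := deg_pole hK hf
    rw [hfp, deg_single, deg_eq_one hK P] at this
    omega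
  have heq : IntermediateField.adjoin k ({f} : Set K) = IntermediateField.adjoin k ({x} : Set K) :=
    IntermediateField.eq_of_le_of_finrank_eq' (IntermediateField.adjoin_simple_le_iff.2 hfx)
      (hdf.trans hdx.symm)
  have hxf : x ∈ IntermediateField.adjoin k ({f} : Set K) :=
    heq ▸ IntermediateField.mem_adjoin_simple_self k x
  have hxP : 0 ≤ P.ord x := by
    have := pole_apply hK x P
    rw [hxp, Finsupp.single_eq_of_ne hne] at this
    omega
  obtain ⟨c, hc⟩ := exists_const_sub_lt (deg_eq_one hK P) (y := x) ((v_le_one_iff P x).2 hxP)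
  set z := x - algebraMap k K c with hz
  have hz0 : z ≠ 0 := fun e => hx (sub_eq_zero.1 e ▸ isAlgebraic_algebraMap c)
  have hpos : 0 < P.ord z := (v_lt_one_iff P hz0).1 hc
  have hzf : z ∈ IntermediateField.adjoin k ({f} : Set K) :=
    IntermediateField.sub_mem _ hxf (IntermediateField.algebraMap_mem _ c)
  obtain ⟨p, q, hpq⟩ := (IntermediateField.mem_adjoin_simple_iff k z).1 hzf
  have hfP : P.ord f = -2 := by
    have := pole_apply hK f P
    rw [hfp, Finsupp.single_eq_same] at this
    omega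
  have hp : p ≠ 0 := fun e => hz0 (by rw [hpq, e, map_zero, zero_div])
  have hq : q ≠ 0 := fun e => hz0 (by rw [hpq, e, map_zero, div_zero])
  obtain ⟨hp0, hpo⟩ := ord_aeval_pole (R := P) (h := f) (by omega) hp
  obtain ⟨hq0, hqo⟩ := ord_aeval_pole (R := P) (h := f) (by omega) hq
  have hev : 2 ≤ P.ord z := by
    rw [hpq, div_eq_mul_inv, ord_mul P hp0 (inv_ne_zero hq0), ord_inv, hpo, hqo, hfP] at hpos ⊢
    omega
  have hzpole : z ∈ L (pole (k := k) x) := Submodule.sub_mem _ (mem_L_pole hK x)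
    (fun Q => (Q.2.1 c).trans (by rw [← exp_zero, exp_le_exp]; exact pole_nonneg x Q))
  refine ⟨c, hpos, fun Q hQ => ?_⟩
  by_contra hQP
  have hle : (Finsupp.single P 2 + Finsupp.single Q 1 : Divisor k K) ≤ FunFld.div k z + pole (k := k) x := by
    intro R
    have hR := (mem_L_iff hz0).1 hzpole R
    have hnn := pole_nonneg (k := k) x R
    simp only [Finsupp.add_apply, div_apply hK.1, Finsupp.zero_apply] at hnn ⊢
    rcases eq_or_ne R P with rfl | hRP
    · rw [Finsupp.single_eq_same, Finsupp.single_eq_of_ne (Ne.symm hQP)]; omega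
    rw [Finsupp.single_eq_of_ne hRP, zero_add]
    rcases eq_or_ne R Q with rfl | hRQ
    · rw [Finsupp.single_eq_same]; simp only [hz] at *; omega
    · rw [Finsupp.single_eq_of_ne hRQ]; omega
  have := deg_mono hle
  rw [deg_add, deg_add, deg_div hK, hxp, deg_single, deg_single, deg_single] at this
  simp only [deg_eq_one hK] at this
  omega

/-! ## The dichotomy -/

theorem weierstrass_dichotomy (hg : 1 < genus k K)
    (hchar : ringChar k = 0 ∨ 2 * genus k K - 2 < ringChar k)
    {C : Divisor k K} (hC : IsCanonical k K C) {n : ℕ} {φ : Fin (n + 1) → K}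
    (hφ : LinearIndependent k φ) (hspan : span k (Set.range φ) = L C)
    {s : K} {H : K →ₐ[k] PowerSeries K} (hH : LocRes.IsHasseFamily s H) {J : Fin n → ℕ}
    (hJ : IsOrders K (hcol (AlgHom.id k K) H φ) J)
    {Φ : Place k K → (K →ₐ[k] LaurentSeries k)}
    (hΦ : ∀ P : Place k K, LocRes.IsExpansionAt P.1 (Φ P)) :
    ((2 * genus k K + 2 < Set.ncard {P : Place k K | wDiv (AlgHom.id k K) H Φ s φ J P ≠ 0} ∧
      ∀ σ : K ≃ₐ[k] K, (∀ P : Place k K, wDiv (AlgHom.id k K) H Φ s φ J P ≠ 0 →
        IsFixedPt (σ : K →ₐ[k] K) P) → σ = AlgEquiv.refl) ∨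
    (Set.ncard {P : Place k K | wDiv (AlgHom.id k K) H Φ s φ J P ≠ 0} = 2 * genus k K + 2 ∧
      ∃ x : K, finrank (IntermediateField.adjoin k ({x} : Set K)) K = 2 ∧
        ∀ σ : K ≃ₐ[k] K, (∀ P : Place k K, wDiv (AlgHom.id k K) H Φ s φ J P ≠ 0 →
          IsFixedPt (σ : K →ₐ[k] K) P) ↔ σ x = x)) ∧
    (∀ (σ : K ≃ₐ[k] K) (P : Place k K), wDiv (AlgHom.id k K) H Φ s φ J (resPlace hK (σ : K →ₐ[k] K) P) =
      wDiv (AlgHom.id k K) H Φ s φ J P) := by
  classical
  set g := genus k K with hgdef
  set τ := AlgHom.id k K with hτ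
  set W := wDiv τ H Φ s φ J with hW
  choose G hG hGc using fun P : Place k K => exists_gapSet hK P
  have hwt := fun P => two_mul_weight hK hg hchar hC hφ hspan hH hJ hΦ P (hG P) (hGc P)
  refine ⟨?_, fun σ P => ?_⟩
  swap
  · have h1 := (hwt (resPlace hK (σ : K →ₐ[k] K) P)).2.2.2
    have h2 := (hwt P).2.2.2
    rw [show G (resPlace hK (σ : K →ₐ[k] K) P) = G P from
      Finset.ext fun m => by rw [hG, hG, isGap_auto hK]] at h1
    rw [← hτ, ← hW] at h1 h2
    omega
  have hGbd : ∀ P : Place k K, ∀ m ∈ G P, m ≤ 2 * ((G P).filter (· < m)).card + 1 := fun P m hm => by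
    have h := le_two_mul_gaps m ((hG P m).1 hm)
    have hle : {j | 1 ≤ j ∧ j < m ∧ IsGap P j}.ncard ≤ ((G P).filter (· < m)).card := by
      rw [← Set.ncard_coe_finset]
      refine Set.ncard_le_ncard (fun j hj => ?_) (finite_toSet _)
      simp only [coe_filter, Set.mem_ofPred_eq]
      exact ⟨(hG P j).2 hj.2.2, hj.2.1⟩
    omega
  have hle : ∀ P, 2 * W P ≤ (g : ℤ) * ((g : ℤ) - 1) := fun P => by
    have h := sum_le_card_sq (G P) (hGbd P)
    rw [hGc] at h
    have h2 := (hwt P).2.2.2
    rw [← hτ, ← hW] at h2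
    have h3 : ∑ m ∈ G P, (m : ℤ) ≤ (g : ℤ) ^ 2 := by rw [← Nat.cast_sum]; exact_mod_cast h
    linarith
  have hlt : ∀ P, 2 ∈ G P → 2 * W P < (g : ℤ) * ((g : ℤ) - 1) := fun P hP => by
    have h := sum_lt_card_sq (G P) (hGbd P) hP
    rw [hGc] at h
    have h2 := (hwt P).2.2.2
    rw [← hτ, ← hW] at h2
    have h3 : ∑ m ∈ G P, (m : ℤ) < (g : ℤ) ^ 2 := by rw [← Nat.cast_sum]; exact_mod_cast h
    linarith
  obtain ⟨Pa, -⟩ : ∃ P : Place k K, P = P := by
    obtain ⟨x, hx⟩ := exists_transcendental hK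
    obtain ⟨P, -⟩ := exists_pole hK (x := x) fun ⟨a, ha⟩ => hx (ha ▸ isAlgebraic_algebraMap a)
    exact ⟨P, rfl⟩
  obtain ⟨hn, hmap, hJeq, -⟩ := hwt Pa
  have hdeg : W.deg = ((g : ℤ) - 1) * g * (g + 1) := by
    rw [hW, deg_wDiv hK hΦ τ hH φ J, hmap, (canonical_ell_deg hK hC).2]
    have hid : finrank (τ.fieldRange) K = 1 := by
      rw [show τ.fieldRange = (⊤ : IntermediateField k K) from
        eq_top_iff.2 fun z _ => ⟨z, rfl⟩, IntermediateField.finrank_top]
    have h3 : ∀ M : ℕ, (M : ℤ) * (M + 1) = 2 * ∑ l : Fin M, (((l : ℕ) : ℤ) + 1) := fun M => by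
      induction M with
      | zero => simp
      | succ M ih =>
        rw [Fin.sum_univ_castSucc]
        simp only [Fin.val_castSucc, Fin.val_last]
        push_cast
        linarith
    have hs : ∑ l, (J l : ℤ) = ∑ l : Fin n, (((l : ℕ) : ℤ) + 1) :=
      Finset.sum_congr rfl fun l _ => by rw [hJeq]; push_cast; rfl
    have h4 := h3 n
    have hgn : (g : ℤ) = n + 1 := by omega
    rw [hid, hs, ← hgdef]
    push_cast
    rw [hgn] at *
    have h5 : ((n : ℤ) + 1 - 1) * (∑ l : Fin n, (((l : ℕ) : ℤ) + 1)) * 2 =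
        (n : ℤ) * ((n : ℤ) * (n + 1)) := by rw [h4]; ring
    linarith
  have hdeg' : W.deg = ∑ P ∈ W.support, W P := Finset.sum_congr rfl fun P _ => by simp [deg_eq_one hK P]
  have hset : {P : Place k K | W P ≠ 0} = ↑W.support := by ext P; simp
  rw [hset, Set.ncard_coe_finset]
  have hsum : 2 * W.deg ≤ (W.support.card : ℤ) * ((g : ℤ) * ((g : ℤ) - 1)) := by
    rw [hdeg', Finset.mul_sum]
    refine (Finset.sum_le_sum fun P _ => hle P).trans_eq ?_
    rw [sum_const, nsmul_eq_mul]
  have hpos : (0 : ℤ) < (g : ℤ) * ((g : ℤ) - 1) := mul_pos (by omega) (by omega)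
  have hN : 2 * g + 2 ≤ W.support.card := by
    rw [hdeg] at hsum
    have : ((2 * g + 2 : ℕ) : ℤ) * ((g : ℤ) * ((g : ℤ) - 1)) ≤ (W.support.card : ℤ) * ((g : ℤ) * ((g : ℤ) - 1)) := by
      push_cast; linarith
    exact_mod_cast le_of_mul_le_mul_right this hpos
  rcases eq_or_lt_of_le hN with heq | hgt
  swap
  · refine .inl ⟨hgt, fun σ hσ => ?_⟩
    by_contra hne
    have := card_fixed_le hK σ hne W.support fun P hP => hσ P (Finsupp.mem_support_iff.1 hP)
    omega
  refine .inr ⟨heq.symm, ?_⟩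
  have h2g : ∀ P ∈ W.support, ¬IsGap P 2 := fun P hP h => by
    have h1 : ∑ Q ∈ W.support, 2 * W Q < ∑ Q ∈ W.support, (g : ℤ) * ((g : ℤ) - 1) :=
      Finset.sum_lt_sum (fun Q _ => hle Q) ⟨P, hP, hlt P ((hG P 2).2 h)⟩
    rw [← Finset.mul_sum, ← hdeg', hdeg, sum_const, nsmul_eq_mul, ← heq] at h1
    push_cast at h1
    linarith
  obtain ⟨P₀, hP₀⟩ : W.support.Nonempty := Finset.card_pos.1 (by omega)
  obtain ⟨x, hx, hxp⟩ := (not_gap_iff_exists_pole hK P₀ (by norm_num)).1 (h2g P₀ hP₀)
  replace hxp : pole (k := k) x = Finsupp.single P₀ (2 : ℤ) := by exact_mod_cast hxp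
  refine ⟨x, ?_, fun σ => ⟨fun hσ => ?_, fun hσ P hP => ?_⟩⟩
  · have := deg_pole hK hx
    rw [hxp, deg_single, deg_eq_one hK P₀] at this
    omega
  · -- `σ x = a + b x`
    have hfix : ∀ P ∈ W.support, resPlace hK (σ : K →ₐ[k] K) P = P := fun P hP =>
      (isFixedPt_iff hK σ P).1 (hσ P (Finsupp.mem_support_iff.1 hP))
    have hinj : ∀ Q, resPlace hK (σ : K →ₐ[k] K) Q = P₀ → Q = P₀ := fun Q e =>
      place_eq_of_ord hK fun y => by
        have h1 := ord_auto hK σ Q (σ.symm y)
        have h2 := ord_auto hK σ P₀ (σ.symm y)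
        rw [σ.apply_symm_apply] at h1 h2
        rw [h1, h2, e, hfix P₀ hP₀]
    have hσx : σ x ∈ L (Finsupp.single P₀ (2 : ℤ) : Divisor k K) := by
      intro Q
      rcases eq_or_ne (σ x) 0 with h | h
      · simp [h]
      rw [v_eq Q h, exp_le_exp, ord_auto hK]
      have h1 := pole_apply hK x (resPlace hK (σ : K →ₐ[k] K) Q)
      rw [hxp] at h1
      rcases eq_or_ne Q P₀ with rfl | hQ
      · rw [hfix Q hP₀, Finsupp.single_eq_same] at h1
        rw [hfix Q hP₀, Finsupp.single_eq_same]; omega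
      · rw [Finsupp.single_eq_of_ne fun e => hQ (hinj Q e)] at h1
        rw [Finsupp.single_eq_of_ne hQ]; omega
    have := finiteDimensional_L hK (Finsupp.single P₀ (2 : ℤ))
    have hli : LinearIndependent k ![(1 : K), x] := by
      rw [LinearIndependent.pair_iff]
      intro a b hab
      rcases eq_or_ne b 0 with rfl | hb
      · simpa using hab
      exfalso
      refine hx ?_
      have : x = algebraMap k K (-a / b) := by
        simp only [Algebra.smul_def, mul_one] at hab
        rw [map_div₀, map_neg, eq_div_iff ((map_ne_zero _).2 hb)]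
        linear_combination hab
      rw [this]
      exact isAlgebraic_algebraMap _
    have hle2 : span k (Set.range ![(1 : K), x]) ≤ L (Finsupp.single P₀ (2 : ℤ) : Divisor k K) :=
      span_le.2 (by
        rintro _ ⟨i, rfl⟩
        fin_cases i
        · intro Q
          simp only [Matrix.cons_val_zero, Fin.zero_eta, map_one]
          rw [← exp_zero, exp_le_exp, Finsupp.single_apply]
          split_ifs <;> norm_num
        · show x ∈ L _
          rw [← hxp]; exact mem_L_pole hK x)
    have hcl := clifford hK (deg_eq_one hK P₀) (D := Finsupp.single P₀ (2 : ℤ))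
      (by rw [deg_single, deg_eq_one hK P₀]; norm_num) (by rw [deg_single, deg_eq_one hK P₀]; push_cast; omega)
    rw [deg_single, deg_eq_one hK P₀] at hcl
    have heq2 : span k (Set.range ![(1 : K), x]) = L (Finsupp.single P₀ (2 : ℤ) : Divisor k K) :=
      Submodule.eq_of_le_of_finrank_le hle2 (by
        rw [finrank_span_eq_card hli, Fintype.card_fin]
        show ell _ ≤ 2
        omega)
    rw [← heq2, mem_span_range_iff_exists_fun] at hσx
    obtain ⟨μ, hμ⟩ := hσx
    rw [Fin.sum_univ_two] at hμ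
    simp only [Matrix.cons_val_zero, Matrix.cons_val_one, Algebra.smul_def, mul_one] at hμ
    have hbr : ∀ P ∈ W.support, P ≠ P₀ → ∃ c : k, μ 0 + μ 1 * c = c ∧
        ∀ Q : Place k K, 0 < Q.ord (x - algebraMap k K c) → Q = P := fun P hP hne => by
      obtain ⟨f, hf, hfp⟩ := (not_gap_iff_exists_pole hK P (by norm_num)).1 (h2g P hP)
      obtain ⟨c, hc, hu⟩ := branch_of_two_nongap hK hg hx hxp hf (by exact_mod_cast hfp) hne
      refine ⟨c, ?_, hu⟩
      have hc' : P.1 (x - algebraMap k K c) < 1 :=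
        (v_lt_one_iff P (fun e => by rw [e, ord_zero] at hc; omega)).2 hc
      have h1 : P.1 (σ (x - algebraMap k K c)) < 1 := hσ P (Finsupp.mem_support_iff.1 hP) _ hc'
      rw [map_sub, σ.commutes, ← hμ] at h1
      by_contra hne'
      have h2 : P.1 (algebraMap k K (μ 0 + μ 1 * c - c)) < 1 := by
        rw [show algebraMap k K (μ 0 + μ 1 * c - c) =
          (algebraMap k K (μ 0) + algebraMap k K (μ 1) * x - algebraMap k K c) -
            algebraMap k K (μ 1) * (x - algebraMap k K c) by simp only [map_sub, map_add, map_mul]; ring]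
        refine lt_of_le_of_lt (P.1.map_sub _ _) (max_lt h1 ?_)
        rw [map_mul]
        exact lt_of_le_of_lt (mul_le_of_le_one_left' (P.2.1 _)) hc'
      rw [v_const P (sub_ne_zero.2 hne')] at h2
      exact lt_irrefl _ h2
    obtain ⟨P₁, hP₁, hne₁⟩ : ∃ P ∈ W.support, P ≠ P₀ :=
      Finset.exists_mem_ne (by omega) P₀
    obtain ⟨P₂, hP₂, hne₂, hne₁₂⟩ : ∃ P ∈ W.support, P ≠ P₀ ∧ P ≠ P₁ := by
      obtain ⟨P, hP, hP'⟩ : ∃ P ∈ W.support.erase P₀, P ≠ P₁ :=
        Finset.exists_mem_ne (by rw [card_erase_of_mem hP₀]; omega) P₁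
      exact ⟨P, (Finset.mem_erase.1 hP).2, (Finset.mem_erase.1 hP).1, hP'⟩
    obtain ⟨c₁, hc₁, hu₁⟩ := hbr P₁ hP₁ hne₁
    obtain ⟨c₂, hc₂, hu₂⟩ := hbr P₂ hP₂ hne₂
    have hcne : c₁ ≠ c₂ := fun e => by
      subst e
      obtain ⟨Q, hQ⟩ := exists_zero hK (x := x - algebraMap k K c₁) fun ⟨b, hb⟩ => hx (by
        rw [show x = algebraMap k K (b + c₁) by rw [map_add, hb, sub_add_cancel]]
        exact isAlgebraic_algebraMap _)
      exact hne₁₂ ((hu₂ Q hQ).symm.trans (hu₁ Q hQ))
    have hb : μ 1 = 1 := by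
      have : (μ 1 - 1) * (c₁ - c₂) = 0 := by linear_combination hc₁ - hc₂
      exact sub_eq_zero.1 ((mul_eq_zero.1 this).resolve_right (sub_ne_zero.2 hcne))
    have ha : μ 0 = 0 := by rw [hb] at hc₁; linear_combination hc₁
    rw [← hμ, hb, ha, map_zero, map_one, zero_add, one_mul]
  · rw [isFixedPt_iff hK]
    have hP' : P ∈ W.support := Finsupp.mem_support_iff.2 hP
    rcases eq_or_ne P P₀ with rfl | hne
    · by_contra h
      have h1 := pole_apply hK x (resPlace hK (σ : K →ₐ[k] K) P)
      rw [hxp, Finsupp.single_eq_of_ne h, ← ord_auto hK, hσ] at h1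
      have h2 := pole_apply hK x P
      rw [hxp, Finsupp.single_eq_same] at h2
      omega
    · obtain ⟨f, hf, hfp⟩ := (not_gap_iff_exists_pole hK P (by norm_num)).1 (h2g P hP')
      obtain ⟨c, hc, hu⟩ := branch_of_two_nongap hK hg hx hxp hf (by exact_mod_cast hfp) hne
      refine hu _ ?_
      rwa [← ord_auto hK, map_sub, σ.commutes, hσ]

/-- Finiteness of the automorphism group. -/
theorem finite_automorphisms (hg : 1 < genus k K)
    (hchar : ringChar k = 0 ∨ 2 * genus k K - 2 < ringChar k) : Finite (K ≃ₐ[k] K) := by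
  classical
  obtain ⟨C, hC⟩ := exists_canonical hK
  have := finiteDimensional_L hK C
  have hdim : finrank k (L C) = (genus k K - 1) + 1 := by
    have := (canonical_ell_deg hK hC).1
    rw [ell] at this
    omega
  set b := Module.finBasisOfFinrankEq k (L C) hdim
  set φ : Fin (genus k K - 1 + 1) → K := fun i => (b i : K)
  have hφ : LinearIndependent k φ := b.linearIndependent.map' (L C).subtype (Submodule.ker_subtype _)
  have hspan : span k (Set.range φ) = L C := by
    rw [show φ = (L C).subtype ∘ b from rfl, Set.range_comp, ← Submodule.map_span, b.span_eq,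
      Submodule.map_top, Submodule.range_subtype]
  obtain ⟨x0, hx0⟩ := exists_transcendental hK
  obtain ⟨P, -⟩ := exists_pole hK (x := x0) fun ⟨a, ha⟩ => hx0 (ha ▸ isAlgebraic_algebraMap a)
  obtain ⟨t, H, -, -, -, -, -, hH⟩ := exists_param hK P
  obtain ⟨J, hJ, -⟩ := exists_orders (AlgHom.id k K) hK hφ hH
  choose u hu using fun P : Place k K => exists_uniformizer P
  choose Φ hΦ hΦt using fun P : Place k K => exists_expansion (deg_eq_one hK P) (hu P).2.2
  obtain ⟨hdich, hinv⟩ := weierstrass_dichotomy hK hg hchar hC hφ hspan hH hJ hΦ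
  set W := wDiv (AlgHom.id k K) H Φ t φ J
  set ker := {σ : K ≃ₐ[k] K | ∀ P : Place k K, W P ≠ 0 → IsFixedPt (σ : K →ₐ[k] K) P}
  have hker : ker.Finite := by
    rcases hdich with ⟨-, h⟩ | ⟨-, x, hx, h⟩
    · exact (Set.finite_singleton AlgEquiv.refl).subset fun σ hσ => h σ hσ
    · set E := IntermediateField.adjoin k ({x} : Set K)
      have hfd : FiniteDimensional E K := Module.finite_of_finrank_pos (by rw [hx]; norm_num)
      have hfix : ∀ σ ∈ ker, ∀ e : E, σ (e : K) = e := fun σ hσ e => by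
        obtain ⟨e, he⟩ := e
        show σ e = e
        induction he using IntermediateField.adjoin_induction with
        | mem a ha => rw [Set.mem_singleton_iff.1 ha]; exact (h σ).1 hσ
        | algebraMap c => exact σ.commutes c
        | add a b _ _ h1 h2 => rw [map_add, h1, h2]
        | inv a _ h1 => rw [map_inv₀, h1]
        | mul a b _ _ h1 h2 => rw [map_mul, h1, h2]
      let f : ker → (K →ₐ[E] K) := fun σ =>
        { (σ.1 : K →+* K) with commutes' := fun e => hfix σ.1 σ.2 e }
      have hinj : Function.Injective f := fun a b e =>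
        Subtype.ext (AlgEquiv.ext fun z => DFunLike.congr_fun e z)
      exact Set.finite_coe_iff.1 (Finite.of_injective f hinj)
  set S := (W.support : Finset (Place k K))
  have hmem : ∀ (σ : K ≃ₐ[k] K) (P : S), resPlace hK (σ : K →ₐ[k] K) P ∈ S := fun σ P => by
    rw [Finsupp.mem_support_iff, hinv]
    exact Finsupp.mem_support_iff.1 P.2
  let act : (K ≃ₐ[k] K) → (S → S) := fun σ P => ⟨resPlace hK (σ : K →ₐ[k] K) P, hmem σ P⟩
  rw [← Set.finite_univ_iff]
  have hcov : (Set.univ : Set (K ≃ₐ[k] K)) ⊆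
      ⋃ τ : Set.range act, (fun σ => σ * (Classical.choose τ.2)) '' ker := by
    intro σ _
    refine Set.mem_iUnion.2 ⟨⟨act σ, σ, rfl⟩, ?_⟩
    set ρ := Classical.choose (⟨σ, rfl⟩ : act σ ∈ Set.range act)
    have hρ : act ρ = act σ := Classical.choose_spec (⟨σ, rfl⟩ : act σ ∈ Set.range act)
    refine ⟨σ * ρ.symm, fun P hP => ?_, AlgEquiv.ext fun z => ?_⟩
    · rw [isFixedPt_iff hK, resPlace_mul hK]
      have h1 : resPlace hK (ρ : K →ₐ[k] K) P = resPlace hK (σ : K →ₐ[k] K) P :=
        congrArg Subtype.val (congrFun hρ ⟨P, Finsupp.mem_support_iff.2 hP⟩)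
      rw [← h1, ← resPlace_mul hK,
        show ρ * ρ.symm = (AlgEquiv.refl : K ≃ₐ[k] K) from AlgEquiv.ext ρ.apply_symm_apply,
        resPlace_refl hK]
    · show σ (ρ.symm (ρ z)) = σ z
      rw [ρ.symm_apply_apply]
  exact (Set.finite_iUnion fun _ => hker.image _).subset hcov

end Groth.Agent.FFLib
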