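import Groth.Agent.FFLib.Quadratic
import Groth.Agent.FFLib.DegOne
import Groth.Agent.FFLib.RR

/-!
# The genus of a tame quadratic extension and its fixed places
-/

open WithZero Module

namespace Groth.Agent.FFLib

open FunFld

variable {k K K' : Type*} [Field k] [Field K] [Field K'] [Algebra k K] [Algebra K K'] [Algebra k K']
  [IsScalarTower k K K'] [FiniteDimensional K K']

lemma v_two_of_ne (h2 : (2 : k) ≠ 0) (Q : Place k K') : Q.1 (2 : K') = 1 := by
  rw [← map_ofNat (algebraMap k K') 2]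
  exact v_const Q h2

lemma quad_two_mul_ord {y : K'} {f : K} (hf : f ≠ 0) (heq : y ^ 2 = algebraMap K K' f)
    {Q : Place k K'} {P : Place k K} {e : ℕ} (hQ : IsOverWith Q P e) : 2 * Q.ord y = e * P.ord f := by
  rw [← (isOverWith_iff_ord.1 hQ).2 f hf, ← heq, ord_pow]
  norm_num

variable (hK : FG1 k K) (h2 : finrank K K' = 2) (hc : (2 : k) ≠ 0)
  {y : K'} (hy : y ∉ Set.range (algebraMap K K')) {f : K} (heq : y ^ 2 = algebraMap K K' f)

include hK h2 hc hy heq

/-- The local splitting along `1, y`. -/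
lemma quad_split (P : Place k K) (m : ℤ) (a b : K) :
    (∀ (Q : Place k K') (e : ℕ), IsOverWith Q P e →
      Q.1 (algebraMap K K' a + algebraMap K K' b * y) ≤ exp ((e : ℤ) * m)) ↔
    P.1 a ≤ exp m ∧ P.1 b ≤ exp (m + P.ord f / 2) := by
  have hy0 : y ≠ 0 := fun e0 => hy ⟨0, by rw [e0, map_zero]⟩
  have hf0 : f ≠ 0 := fun e0 => hy0 (by rw [e0, map_zero] at heq; exact (pow_eq_zero_iff two_ne_zero).1 heq)
  have hbase : ∀ {Q : Place k K'} {e : ℕ}, IsOverWith Q P e → ∀ x : K,
      Q.1 (algebraMap K K' x) ≤ exp ((e : ℤ) * m) ↔ P.1 x ≤ exp m := by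
    intro Q e hQ x
    rcases eq_or_ne x 0 with rfl | hx
    · simp
    obtain ⟨he, hord⟩ := isOverWith_iff_ord.1 hQ
    rw [v_le_exp_iff Q ((_root_.map_ne_zero _).2 hx), v_le_exp_iff P hx, hord x hx]
    have he' : (0 : ℤ) < e := by exact_mod_cast he
    constructor <;> intro h <;> nlinarith
  constructor
  · intro h
    obtain ⟨σ, hσ⟩ := exists_conj h2 hy (a := (0 : K)) (g := f) (by rw [map_zero, zero_mul, add_zero, heq])
    obtain ⟨Q, hQ⟩ := exists_overs (K' := K') hK P
    set e := underIdx hK Q with he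
    have ht := h Q e hQ
    have hst := h (placeMap σ Q) e (isOverWith_placeMap hQ σ)
    rw [placeMap_v, map_add σ, map_mul σ, AlgEquiv.commutes, AlgEquiv.commutes, hσ, map_zero, neg_zero, zero_sub] at hst
    refine ⟨(hbase hQ a).1 ?_, ?_⟩
    · have h' := (Q.1.map_add _ _).trans (max_le ht hst)
      rw [show algebraMap K K' a + algebraMap K K' b * y + (algebraMap K K' a + algebraMap K K' b * -y)
        = 2 * algebraMap K K' a by ring, map_mul, v_two_of_ne hc, one_mul] at h'
      exact h'
    · have h' := (Q.1.map_sub _ _).trans (max_le ht hst)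
      rw [show algebraMap K K' a + algebraMap K K' b * y - (algebraMap K K' a + algebraMap K K' b * -y)
        = 2 * (algebraMap K K' b * y) by ring, map_mul, v_two_of_ne hc, one_mul] at h'
      rcases eq_or_ne b 0 with rfl | hb
      · simp
      obtain ⟨hpos, hord⟩ := isOverWith_iff_ord.1 hQ
      rw [v_le_exp_iff Q (mul_ne_zero ((_root_.map_ne_zero _).2 hb) hy0), ord_mul Q ((_root_.map_ne_zero _).2 hb) hy0, hord b hb] at h'
      rw [v_le_exp_iff P hb]
      have h2y := quad_two_mul_ord hf0 heq hQ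
      have he' : (0 : ℤ) < e := by exact_mod_cast hpos
      have : 0 ≤ 2 * P.ord b + P.ord f + 2 * m := by nlinarith
      omega
  · rintro ⟨ha, hb⟩ Q e hQ
    refine (Q.1.map_add _ _).trans (max_le ((hbase hQ a).2 ha) ?_)
    rcases eq_or_ne b 0 with rfl | hb0
    · simp
    obtain ⟨hpos, hord⟩ := isOverWith_iff_ord.1 hQ
    rw [v_le_exp_iff Q (mul_ne_zero ((_root_.map_ne_zero _).2 hb0) hy0), ord_mul Q ((_root_.map_ne_zero _).2 hb0) hy0, hord b hb0]
    rw [v_le_exp_iff P hb0] at hb
    have h2y := quad_two_mul_ord hf0 heq hQ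
    have he' : (0 : ℤ) < e := by exact_mod_cast hpos
    have hge : (2 * (P.ord f / 2)) ≤ P.ord f := by omega
    nlinarith [mul_le_mul_of_nonneg_left hge he'.le, mul_nonneg he'.le (show (0 : ℤ) ≤ P.ord b + P.ord f / 2 + m by omega)]

/-- Over an algebraically closed field a place is fixed by the conjugation exactly when the radicand has odd order below. -/
lemma quad_fixed_iff [IsAlgClosed k] (hF' : IsFunctionField k K') (σ : K' ≃ₐ[K] K') (hσ : σ y = -y) (Q : Place k K') :
    placeMap σ Q = Q ↔ Odd ((underPlace hK Q).ord f) := by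
  have hy0 : y ≠ 0 := fun e0 => hy ⟨0, by rw [e0, map_zero]⟩
  have hf0 : f ≠ 0 := fun e0 => hy0 (by rw [e0, map_zero] at heq; exact (pow_eq_zero_iff two_ne_zero).1 heq)
  set P := underPlace hK Q with hP
  have hQ := isOverWith_under hK Q
  have h2y := quad_two_mul_ord hf0 heq hQ
  constructor
  · intro hfix
    by_contra hodd
    rw [Int.not_odd_iff_even] at hodd
    obtain ⟨j, hj⟩ := hodd
    obtain ⟨t, ht0, ht, -⟩ := exists_uniformizer P
    set s := t ^ j with hs
    have hs0 : s ≠ 0 := zpow_ne_zero _ ht0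
    set w := y / algebraMap K K' s with hw
    have hw0 : w ≠ 0 := div_ne_zero hy0 ((_root_.map_ne_zero _).2 hs0)
    have hwo : Q.ord w = 0 := by
      rw [hw, div_eq_mul_inv, ord_mul Q hy0 (inv_ne_zero ((_root_.map_ne_zero _).2 hs0)), ord_inv,
        (isOverWith_iff_ord.1 hQ).2 s hs0, hs, ord_zpow, ht]
      rw [hj] at h2y
      linarith
    have hwv : Q.1 w = 1 := (v_eq_one_iff Q hw0).2 hwo
    obtain ⟨c, hc'⟩ := exists_const_sub_lt (deg_eq_one hF' Q) hwv.le
    have hc0 : c ≠ 0 := fun h => by rw [h, map_zero, sub_zero, hwv] at hc'; exact lt_irrefl _ hc'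
    have hneg : Q.1 (-w - algebraMap k K' c) < 1 := by
      have : σ (w - algebraMap k K' c) = -w - algebraMap k K' c := by
        rw [map_sub, hw, map_div₀, hσ, AlgEquiv.commutes, IsScalarTower.algebraMap_apply k K K', AlgEquiv.commutes, neg_div]
      rw [← this, ← placeMap_v, hfix]
      exact hc'
    have h := lt_of_le_of_lt (Q.1.map_add _ _) (max_lt hc' hneg)
    rw [show w - algebraMap k K' c + (-w - algebraMap k K' c) = algebraMap k K' (-(2 * c)) by
      rw [map_neg, map_mul, map_ofNat]; ring, v_const Q (neg_ne_zero.2 (mul_ne_zero hc hc0))] at h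
    exact lt_irrefl _ h
  · intro hodd
    have hev : Even (underIdx hK Q) := by
      rw [← Int.even_coe_nat]
      have : Even ((underIdx hK Q : ℤ) * P.ord f) := ⟨Q.ord y, h2y.symm.trans (two_mul _)⟩
      exact (Int.even_mul.1 this).resolve_right (Int.not_even_iff_odd.2 hodd)
    have he := idx_two_of_even hK h2 hQ hev
    exact (ramified_unique hK h2 (he ▸ hQ)).2 _ ⟨_, isOverWith_placeMap hQ σ⟩

/-- **The genus formula of a tame quadratic extension.** -/
theorem quad_genus [IsAlgClosed k] (hF : IsFunctionField k K) (hF' : IsFunctionField k K') (σ : K' ≃ₐ[K] K') (hσ : σ y = -y) :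
    ∃ r : ℕ, 2 * genus k K' + 2 = 4 * genus k K + r ∧ Nat.card {Q : Place k K' // placeMap σ Q = Q} = r ∧
      {Q : Place k K' | placeMap σ Q = Q}.Finite := by
  classical
  have hy0 : y ≠ 0 := fun e0 => hy ⟨0, by rw [e0, map_zero]⟩
  have hf0 : f ≠ 0 := fun e0 => hy0 (by rw [e0, map_zero] at heq; exact (pow_eq_zero_iff two_ne_zero).1 heq)
  let D : Divisor k K := (FunFld.div k f).mapRange (fun n => n / 2) (by norm_num)
  have hD : ∀ P, D P = P.ord f / 2 := fun P => by rw [Finsupp.mapRange_apply, div_apply hK]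
  let ε : Divisor k K := FunFld.div k f - (2 : ℕ) • D
  have hε : ∀ P, ε P = P.ord f % 2 := fun P => by
    simp only [ε, Finsupp.sub_apply, Finsupp.smul_apply, hD, div_apply hK, nsmul_eq_mul]
    omega
  set S := ε.support with hS
  have hSmem : ∀ P, P ∈ S ↔ Odd (P.ord f) := fun P => by
    rw [hS, Finsupp.mem_support_iff, hε, Int.odd_iff]
    omega
  have hdegε : ε.deg = S.card := by
    rw [Divisor.deg, Finsupp.sum, Finset.card_eq_sum_ones, Nat.cast_sum]
    refine Finset.sum_congr rfl fun P hP => ?_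
    rw [deg_eq_one hF P, hε, Int.odd_iff.1 ((hSmem P).1 hP)]
    rfl
  have hdegD : (S.card : ℤ) = -2 * D.deg := by
    rw [← hdegε, deg_sub, deg_div hK, deg_nsmul]
    ring
  -- the bijection with the fixed places
  have hfixed : ∀ Q : Place k K', placeMap σ Q = Q ↔ underPlace hK Q ∈ S := fun Q => by
    rw [quad_fixed_iff hK h2 hc hy heq hF' σ hσ, hSmem]
  let Φ : {Q : Place k K' // placeMap σ Q = Q} → S := fun Q => ⟨underPlace hK Q.1, (hfixed Q.1).1 Q.2⟩
  have hΦ : Function.Bijective Φ := by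
    refine ⟨fun Q R h => Subtype.ext ?_, fun P => ?_⟩
    · have hP : underPlace hK R.1 = underPlace hK Q.1 := (congrArg Subtype.val h).symm
      have hodd := (hSmem _).1 ((hfixed Q.1).1 Q.2)
      have h2y := quad_two_mul_ord hf0 heq (isOverWith_under hK Q.1)
      have hev : Even (underIdx hK Q.1) := by
        rw [← Int.even_coe_nat]
        have : Even ((underIdx hK Q.1 : ℤ) * (underPlace hK Q.1).ord f) := ⟨Q.1.ord y, by omega⟩
        exact (Int.even_mul.1 this).resolve_right (Int.not_even_iff_odd.2 hodd)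
      have he := idx_two_of_even hK h2 (isOverWith_under hK Q.1) hev
      exact ((ramified_unique hK h2 (he ▸ isOverWith_under hK Q.1)).2 R.1 (hP ▸ ⟨_, isOverWith_under hK R.1⟩)).symm
    · obtain ⟨Q, hQ⟩ := exists_overs (K' := K') hK P.1
      have hu := (under_eq hK hQ).1
      exact ⟨⟨Q, (hfixed Q).2 (hu ▸ P.2)⟩, Subtype.ext hu⟩
  haveI : Finite {Q : Place k K' // placeMap σ Q = Q} := Finite.of_injective Φ hΦ.1
  refine ⟨S.card, ?_, by rw [Nat.card_eq_of_bijective Φ hΦ, Nat.card_eq_fintype_card, Fintype.card_coe], Set.finite_coe_iff.1 ‹_›⟩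
  -- the dimension count
  obtain ⟨P, -⟩ := exists_zero_of_tr hK hK.choose_spec.1
  set n : ℕ := 2 * genus k K + 2 * genus k K' + D.deg.natAbs + 1 with hn
  set E : Divisor k K := Finsupp.single P (n : ℤ) with hE
  have hdE : E.deg = n := by rw [hE, deg_single, deg_eq_one hF]; simp
  have hmem : ∀ a b : K, algebraMap K K' a + algebraMap K K' b * y ∈ L (conorm K' E) ↔
      a ∈ L E ∧ b ∈ L (E + D) := by
    intro a b
    constructor
    · intro hmem
      have key := fun P => (quad_split hK h2 hc hy heq P (E P) a b).1 fun Q e hQ => by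
        have := hmem Q
        rw [conorm_apply hK, (under_eq hK hQ).1, (under_eq hK hQ).2, mul_comm (E P)] at this
        exact this
      exact ⟨fun P => (key P).1, fun P => by rw [Finsupp.add_apply, hD]; exact (key P).2⟩
    · rintro ⟨ha, hb⟩ Q
      rw [conorm_apply hK, mul_comm (E _)]
      refine (quad_split hK h2 hc hy heq (underPlace hK Q) (E _) a b).2 ⟨ha _, ?_⟩ Q _ (isOverWith_under hK Q)
      have := hb (underPlace hK Q)
      rwa [Finsupp.add_apply, hD] at this
  let ψ : ↥(L E) × ↥(L (E + D)) →ₗ[k] K' :=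
    { toFun := fun z => algebraMap K K' z.1.1 + algebraMap K K' z.2.1 * y
      map_add' := fun z w => by simp only [Prod.fst_add, Prod.snd_add, Submodule.coe_add, map_add]; ring
      map_smul' := fun c z => by
        simp only [Prod.smul_fst, Prod.smul_snd, Submodule.coe_smul, Algebra.smul_def, map_mul,
          ← IsScalarTower.algebraMap_apply k K K', RingHom.id_apply]
        ring }
  have hinj : Function.Injective ψ := by
    rw [← LinearMap.ker_eq_bot, LinearMap.ker_eq_bot']
    rintro ⟨⟨a, ha⟩, ⟨b, hb⟩⟩ hz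
    change algebraMap K K' a + algebraMap K K' b * y = 0 at hz
    have hb0 : b = 0 := by
      by_contra hb0
      refine hy ⟨-a / b, ?_⟩
      rw [map_div₀, map_neg, div_eq_iff ((_root_.map_ne_zero _).2 hb0)]
      linear_combination -hz
    subst hb0
    rw [map_zero, zero_mul, add_zero, map_eq_zero] at hz
    subst hz
    rfl
  have hrange : LinearMap.range ψ = L (conorm K' E) := by
    refine le_antisymm ?_ fun t ht => ?_
    · rintro _ ⟨⟨⟨a, ha⟩, ⟨b, hb⟩⟩, rfl⟩
      exact (hmem a b).2 ⟨ha, hb⟩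
    · obtain ⟨a, b, rfl⟩ := (minpoly_quad h2 hy (a := (0 : K)) (g := f) (by rw [map_zero, zero_mul, add_zero, heq])).2.1 t
      obtain ⟨ha, hb⟩ := (hmem a b).1 ht
      exact ⟨(⟨a, ha⟩, ⟨b, hb⟩), rfl⟩
  have := finiteDimensional_L hK E
  have := finiteDimensional_L hK (E + D)
  have hsum : ell (conorm K' E) = ell E + ell (E + D) := by
    show finrank k ↥(L (conorm K' E)) = _
    rw [← hrange, LinearMap.finrank_range_of_inj hinj, finrank_prod]
    rfl
  have h1 := ell_eq_of_deg_ge hF' (D := conorm K' E) (by rw [deg_conorm hK, h2, hdE]; push_cast; omega)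
  have h2' := ell_eq_of_deg_ge hF (D := E + D) (by rw [deg_add, hdE]; omega)
  have h3 := ell_eq_of_deg_ge hF (D := E) (by rw [hdE]; omega)
  rw [deg_conorm hK, h2, hdE, hsum] at h1
  rw [deg_add, hdE] at h2'
  rw [hdE] at h3
  push_cast at h1
  omega

end Groth.Agent.FFLib
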