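import Groth.Agent.FFLib.CastelnuovoTwo
import Groth.Agent.FFLib.QuadRH

/-!
# The extremal case of the bound for two subfields of index two
-/

open WithZero Module

namespace Groth.Agent.FFLib

open FunFld

variable {k K K' : Type*} [Field k] [Field K] [Field K'] [Algebra k K] [Algebra K K'] [Algebra k K']
  [IsScalarTower k K K'] [FiniteDimensional K K']
  (hK : FG1 k K) (h2 : finrank K K' = 2) (hc : (2 : k) ≠ 0)

/-- The push-forward of divisors along an extension with trivial residue extensions. -/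
noncomputable def pushDiv (D : Divisor k K') : Divisor k K := Finsupp.mapDomain (underPlace hK) D

include hK h2 hc in
/-- The degree of the half divisor of the radicand. -/
theorem quad_half_deg [IsAlgClosed k] (hF : IsFunctionField k K) (hF' : IsFunctionField k K')
    {y : K'} (hy : y ∉ Set.range (algebraMap K K')) {f : K}
    (heq : y ^ 2 = algebraMap K K' f) :
    Divisor.deg ((FunFld.div k f).mapRange (fun n : ℤ => n / 2) (by norm_num) : Divisor k K) =
      2 * (genus k K : ℤ) - genus k K' - 1 := by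
  classical
  set D : Divisor k K := (FunFld.div k f).mapRange (fun n => n / 2) (by norm_num) with hDdef
  have hD : ∀ P, D P = P.ord f / 2 := fun P => by rw [Finsupp.mapRange_apply, div_apply hK]
  obtain ⟨P⟩ := exists_place hF
  set n : ℕ := 2 * genus k K + 2 * genus k K' + D.deg.natAbs + 1 with hn
  set E : Divisor k K := Finsupp.single P (n : ℤ) with hE
  have hdE : E.deg = n := by rw [hE, deg_single, deg_eq_one hF]; simp
  have hmem : ∀ a b : K, algebraMap K K' a + algebraMap K K' b * y ∈ L (conorm K' E) ↔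
      a ∈ L E ∧ b ∈ L (E + D) := by
    intro a b
    constructor
    · intro hmem
      have key := fun P => (quad_split hK h2 hc hy heq P (E P) a b).1 fun Q e hQ => by
        have := hmem Q
        rw [conorm_apply hK, (under_eq hK hQ).1, (under_eq hK hQ).2, mul_comm (E P)] at this
        exact this
      exact ⟨fun P => (key P).1, fun P => by rw [Finsupp.add_apply, hD]; exact (key P).2⟩
    · rintro ⟨ha, hb⟩ Q
      rw [conorm_apply hK, mul_comm (E _)]
      refine (quad_split hK h2 hc hy heq (underPlace hK Q) (E _) a b).2 ⟨ha _, ?_⟩ Q _ (isOverWith_under hK Q)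
      have := hb (underPlace hK Q)
      rwa [Finsupp.add_apply, hD] at this
  let ψ : ↥(L E) × ↥(L (E + D)) →ₗ[k] K' :=
    { toFun := fun z => algebraMap K K' z.1.1 + algebraMap K K' z.2.1 * y
      map_add' := fun z w => by simp only [Prod.fst_add, Prod.snd_add, Submodule.coe_add, map_add]; ring
      map_smul' := fun c z => by
        simp only [Prod.smul_fst, Prod.smul_snd, Submodule.coe_smul, Algebra.smul_def, map_mul,
          ← IsScalarTower.algebraMap_apply k K K', RingHom.id_apply]
        ring }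
  have hinj : Function.Injective ψ := by
    rw [← LinearMap.ker_eq_bot, LinearMap.ker_eq_bot']
    rintro ⟨⟨a, ha⟩, ⟨b, hb⟩⟩ hz
    change algebraMap K K' a + algebraMap K K' b * y = 0 at hz
    have hb0 : b = 0 := by
      by_contra hb0
      refine hy ⟨-a / b, ?_⟩
      rw [map_div₀, map_neg, div_eq_iff ((_root_.map_ne_zero _).2 hb0)]
      linear_combination -hz
    subst hb0
    rw [map_zero, zero_mul, add_zero, map_eq_zero] at hz
    subst hz
    rfl
  have hrange : LinearMap.range ψ = L (conorm K' E) := by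
    refine le_antisymm ?_ fun t ht => ?_
    · rintro _ ⟨⟨⟨a, ha⟩, ⟨b, hb⟩⟩, rfl⟩
      exact (hmem a b).2 ⟨ha, hb⟩
    · obtain ⟨a, b, rfl⟩ := (minpoly_quad h2 hy (a := (0 : K)) (g := f) (by rw [map_zero, zero_mul, add_zero, heq])).2.1 t
      obtain ⟨ha, hb⟩ := (hmem a b).1 ht
      exact ⟨(⟨a, ha⟩, ⟨b, hb⟩), rfl⟩
  have := finiteDimensional_L hK E
  have := finiteDimensional_L hK (E + D)
  have hsum : ell (conorm K' E) = ell E + ell (E + D) := by
    show finrank k ↥(L (conorm K' E)) = _
    rw [← hrange, LinearMap.finrank_range_of_inj hinj, finrank_prod]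
    rfl
  have h1 := ell_eq_of_deg_ge hF' (D := conorm K' E) (by rw [deg_conorm hK, h2, hdE]; push_cast; omega)
  have h2' := ell_eq_of_deg_ge hF (D := E + D) (by rw [deg_add, hdE]; omega)
  have h3 := ell_eq_of_deg_ge hF (D := E) (by rw [hdE]; omega)
  rw [deg_conorm hK, h2, hdE, hsum] at h1
  rw [deg_add, hdE] at h2'
  rw [hdE] at h3
  push_cast at h1
  omega

include h2 hc in
/-- In the extremal case the push-forward of the poles is principal up to a fixed divisor. -/
theorem push_eq_half [IsAlgClosed k] (hF : IsFunctionField k K) (hF' : IsFunctionField k K')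
    {y : K'} (hy : y ∉ Set.range (algebraMap K K')) {f : K} (heq : y ^ 2 = algebraMap K K' f)
    {B : Divisor k K'} (hB : 0 ≤ B) {a b : K} (hb : b ≠ 0) (hx : algebraMap K K' a + algebraMap K K' b * y ∈ L B)
    (heqg : (genus k K' : ℤ) + 1 = 2 * genus k K + B.deg) (P : Place k K) :
    P.ord (b ^ 2 * f) / 2 = -pushDiv hK B P := by
  classical
  obtain ⟨σ, hσ⟩ := exists_conj h2 hy (a := (0 : K)) (g := f) (by rw [map_zero, zero_mul, add_zero, heq])
  rw [map_zero, neg_zero, zero_sub] at hσ
  set y' := algebraMap K K' b * y with hy'def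
  have hy'r : y' ∉ Set.range (algebraMap K K') := fun ⟨c, hc'⟩ => hy ⟨c / b, by
    rw [map_div₀, hc', hy'def, mul_div_cancel_left₀ _ ((_root_.map_ne_zero _).2 hb)]⟩
  have heq' : y' ^ 2 = algebraMap K K' (b ^ 2 * f) := by rw [hy'def, mul_pow, heq, map_mul, map_pow]
  have hy0 : y' ≠ 0 := fun e => hy'r ⟨0, by rw [e, map_zero]⟩
  have hf0 : b ^ 2 * f ≠ 0 := fun e => hy0 (by
    rw [e, map_zero] at heq'
    exact (pow_eq_zero_iff two_ne_zero).1 heq')
  have hσy' : σ y' = -y' := by rw [hy'def, map_mul, AlgEquiv.commutes, hσ, mul_neg]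
  have hN : ∀ Q : Place k K', -pushDiv hK B (underPlace hK Q) ≤ (underPlace hK Q).ord (b ^ 2 * f) / 2 := by
    intro Q
    have hQ := isOverWith_under hK Q
    have h2y := quad_two_mul_ord hf0 heq' hQ
    set T := B.support ∪ {Q, placeMap σ Q} with hT
    have hsum : pushDiv hK B (underPlace hK Q) =
        ∑ R ∈ T.filter (fun R => underPlace hK R = underPlace hK Q), B R := by
      rw [pushDiv, Finsupp.mapDomain, Finsupp.sum, Finsupp.finsetSum_apply, Finset.sum_filter]
      rw [Finset.sum_subset (Finset.subset_union_left : B.support ⊆ T) (fun R _ hR => by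
        rw [Finsupp.notMem_support_iff.1 hR, Finsupp.single_zero, Finsupp.zero_apply])]
      exact Finset.sum_congr rfl fun R _ => Finsupp.single_apply
    have hσu : underPlace hK (placeMap σ Q) = underPlace hK Q := (under_eq hK (isOverWith_placeMap hQ σ)).1
    have hv : Q.1 y' ≤ exp (max (B Q) (B (placeMap σ Q))) := by
      have h1 : Q.1 (algebraMap K K' a + y') ≤ exp (B Q) := hx Q
      have h2' : Q.1 (algebraMap K K' a - y') ≤ exp (B (placeMap σ Q)) := by
        have := hx (placeMap σ Q)
        rw [placeMap_v, map_add, AlgEquiv.commutes, hσy', ← sub_eq_add_neg] at this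
        exact this
      have h3 := (Q.1.map_sub _ _).trans (max_le_max h1 h2')
      rw [show algebraMap K K' a + y' - (algebraMap K K' a - y') = 2 * y' by ring, map_mul, v_two_of_ne hc, one_mul] at h3
      exact h3.trans (max_le (exp_le_exp.2 (le_max_left _ _)) (exp_le_exp.2 (le_max_right _ _)))
    rw [v_le_exp_iff Q hy0] at hv
    have hnn : ∀ R, (0 : ℤ) ≤ B R := fun R => hB R
    by_cases hfix : placeMap σ Q = Q
    · have hodd := (quad_fixed_iff hK h2 hc hy'r heq' hF' σ hσy' Q).1 hfix
      have hev : Even (underIdx hK Q) := by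
        rw [← Int.even_coe_nat]
        have : Even ((underIdx hK Q : ℤ) * (underPlace hK Q).ord (b ^ 2 * f)) := ⟨Q.ord y', by omega⟩
        exact (Int.even_mul.1 this).resolve_right (Int.not_even_iff_odd.2 hodd)
      have he := idx_two_of_even hK h2 hQ hev
      have hle : B Q ≤ pushDiv hK B (underPlace hK Q) := by
        rw [hsum]
        exact Finset.single_le_sum (f := fun R => B R) (fun R _ => hnn R) (by simp [hT])
      rw [hfix, max_self] at hv
      rw [he] at h2y
      push_cast at h2y
      have := hnn Q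
      omega
    · have he : underIdx hK Q = 1 := by
        obtain ⟨-, -, hle⟩ := idx_deg_le hK h2 hQ
        have hpos := underIdx_pos hK Q
        by_contra h
        exact hfix ((ramified_unique hK h2 ((show underIdx hK Q = 2 by omega) ▸ hQ)).2 _
          ⟨_, isOverWith_placeMap hQ σ⟩)
      have hle : B Q + B (placeMap σ Q) ≤ pushDiv hK B (underPlace hK Q) := by
        rw [hsum, ← Finset.sum_pair (f := fun R => B R) (Ne.symm hfix)]
        refine Finset.sum_le_sum_of_subset_of_nonneg ?_ (fun R _ _ => hnn R)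
        intro R hR
        rw [Finset.mem_insert, Finset.mem_singleton] at hR
        rw [Finset.mem_filter]
        rcases hR with rfl | rfl
        · exact ⟨by simp [hT], rfl⟩
        · exact ⟨by simp [hT], hσu⟩
      have h01 := hnn Q
      have h02 := hnn (placeMap σ Q)
      rw [he] at h2y
      push_cast at h2y
      rcases le_total (B Q) (B (placeMap σ Q)) with h | h
      · rw [max_eq_right h] at hv; omega
      · rw [max_eq_left h] at hv; omega
  have hN' : ∀ R : Place k K, -pushDiv hK B R ≤ R.ord (b ^ 2 * f) / 2 := fun R => by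
    obtain ⟨Q, hQ⟩ := exists_overs (K' := K') hK R
    rw [← (under_eq hK hQ).1]
    exact hN Q
  set D₀ : Divisor k K := (FunFld.div k (b ^ 2 * f)).mapRange (fun n => n / 2) (by norm_num) with hD₀
  have hd := quad_half_deg hK h2 hc hF hF' hy'r heq'
  have hpd : (pushDiv hK B).deg = B.deg := by
    rw [pushDiv, Finsupp.mapDomain, Finsupp.sum, show Divisor.deg (∑ R ∈ B.support, Finsupp.single (underPlace hK R) (B R)) =
      ∑ R ∈ B.support, Divisor.deg (Finsupp.single (underPlace hK R) (B R)) from map_sum degHom _ _]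
    exact Finset.sum_congr rfl fun R _ => by simp [deg_single, deg_eq_one hF, deg_eq_one hF' R]
  have hzero := eq_zero_of_deg_eq_zero hF (D := D₀ + pushDiv hK B) (fun R => by
      rw [Finsupp.zero_apply, Finsupp.add_apply, hD₀, Finsupp.mapRange_apply, div_apply hK]
      have := hN' R
      omega)
    (by rw [deg_add, hpd, hd]; omega)
  have hP := DFunLike.congr_fun hzero P
  rw [Finsupp.add_apply, Finsupp.zero_apply, hD₀, Finsupp.mapRange_apply, div_apply hK] at hP
  omega

section Two

variable {k K : Type*} [Field k] [IsAlgClosed k] [Field K] [Algebra k K]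

open IntermediateField

/-- **In the extremal case the small subfields carry a pencil of degree two.** -/
theorem exists_pencil_of_extremal (hK : IsFunctionField k K) (hc : (2 : k) ≠ 0) {F₁ F₂ : IntermediateField k K}
    (h₁ : finrank F₁ K = 2) (h₂ : finrank F₂ K = 2) (hne : F₁ ≠ F₂)
    (hg : 2 * genus k F₁ + 2 * genus k F₂ + 1 = genus k K) :
    ∃ A : Divisor k F₁, A.deg = 2 ∧ 2 ≤ ell A := by
  classical
  haveI : FiniteDimensional F₁ K := Module.finite_of_finrank_eq_succ h₁
  haveI : FiniteDimensional F₂ K := Module.finite_of_finrank_eq_succ h₂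
  have hF₁ : IsFunctionField k F₁ := isFunctionField_below hK
  have hF₂ : IsFunctionField k F₂ := isFunctionField_below hK
  haveI := infinite_places hF₂
  set G : IntermediateField k F₂ := F₁.comap F₂.val with hG
  have hGtop : G ≠ ⊤ := fun h => hne (IntermediateField.eq_of_le_of_finrank_eq' (F := F₂) (E := F₁)
    (fun a ha => by
      have h' : (⟨a, ha⟩ : F₂) ∈ G := by rw [h]; trivial
      exact h') (by omega)).symm
  -- places in general position with respect to `G`
  obtain ⟨f, hf, hgen⟩ : ∃ f : ℕ → Place k F₂, Function.Injective f ∧ ∀ s : Finset ℕ, ∀ x : F₂,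
      x ∈ G → x ∈ L (∑ i ∈ s, Finsupp.single (f i) (1 : ℤ)) → x ∈ Set.range (algebraMap k F₂) := by
    by_cases halg : ∀ a : F₂, a ∈ G → IsAlgebraic k a
    · exact ⟨Infinite.natEmbedding _, (Infinite.natEmbedding _).injective, fun _ x hxG _ => hF₂.2 x (halg x hxG)⟩
    push Not at halg
    obtain ⟨x₀, hx₀G, hx₀⟩ := halg
    haveI := finite_adjoin hF₂.1 hx₀
    have hle : IntermediateField.adjoin k ({x₀} : Set F₂) ≤ G :=
      IntermediateField.adjoin_le_iff.2 (Set.singleton_subset_iff.2 hx₀G)
    haveI : FiniteDimensional G F₂ := Module.finite_of_finrank_pos (Nat.pos_of_ne_zero fun h => by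
      have hmul := IntermediateField.relfinrank_mul_finrank_top hle
      rw [h, mul_zero] at hmul
      exact (Module.finrank_pos (R := IntermediateField.adjoin k ({x₀} : Set F₂)) (M := F₂)).ne hmul)
    have hm : 2 ≤ finrank G F₂ := by
      have h1 : finrank G F₂ ≠ 1 := fun h => hGtop (IntermediateField.finrank_eq_one_iff_eq_top.1 h)
      have h2 : 0 < finrank G F₂ := finrank_pos
      omega
    have hGF : IsFunctionField k G := isFunctionField_below hF₂
    haveI := infinite_places hGF
    let φ : ℕ ↪ Place k G := Infinite.natEmbedding _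
    choose f hfo using fun i : ℕ => exists_overs (K' := F₂) hGF.1 (φ i)
    have hfu : ∀ i, underPlace hGF.1 (f i) = φ i := fun i => (under_eq hGF.1 (hfo i)).1
    have hfi : Function.Injective f := fun i j h => φ.injective (by rw [← hfu i, h, hfu j])
    refine ⟨f, hfi, fun s x hxG hxD => ?_⟩
    by_contra hxc
    let a : G := ⟨x, hxG⟩
    have hac : a ∉ Set.range (algebraMap k G) := fun ⟨c, hc'⟩ => hxc ⟨c, congrArg Subtype.val hc'⟩
    obtain ⟨P, hP⟩ := exists_pole hGF hac
    have ha0 : a ≠ 0 := fun h => hac ⟨0, by rw [map_zero, h]⟩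
    have hx0 : x ≠ 0 := fun h => ha0 (Subtype.ext h)
    have hover : ∀ R : Place k F₂, IsOver R P → ∃ i, f i = R ∧ underIdx hGF.1 R = 1 ∧ φ i = P := by
      intro R hR
      have hu := (isOver_iff hGF.1 R P).1 hR
      have ho : R.ord x = underIdx hGF.1 R * P.ord a := by
        rw [← hu]
        exact ord_algebraMap hGF.1 R a
      have hp : (1 : ℤ) ≤ underIdx hGF.1 R := by exact_mod_cast underIdx_pos hGF.1 R
      have hle' := (mem_L_iff hx0).1 hxD R
      rw [Finsupp.finsetSum_apply] at hle'
      simp only [Finsupp.single_apply] at hle'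
      by_cases hi : ∃ i ∈ s, f i = R
      · obtain ⟨i, his, hi⟩ := hi
        rw [Finset.sum_eq_single_of_mem i his (fun j _ hj => if_neg fun h => hj (hfi (h.trans hi.symm))),
          if_pos hi, ho] at hle'
        refine ⟨i, hi, ?_, by rw [← hu, ← hi, hfu]⟩
        have : (underIdx hGF.1 R : ℤ) ≤ 1 := by nlinarith
        omega
      · push Not at hi
        rw [Finset.sum_eq_zero fun j hj => if_neg (hi j hj), ho] at hle'
        nlinarith
    obtain ⟨R₀, hR₀⟩ := exists_overs (K' := F₂) hGF.1 P
    obtain ⟨i, hiQ, hie, hiP⟩ := hover R₀ ⟨_, hR₀⟩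
    have hsum := sum_idx_mul_deg hGF.1 P ({R₀} : Finset (Place k F₂)) fun R => by
      rw [Finset.mem_singleton]
      refine ⟨fun h => h ▸ ⟨_, hR₀⟩, fun h => ?_⟩
      obtain ⟨j, hjQ, -, hjP⟩ := hover R h
      rw [← hjQ, ← hiQ, φ.injective (hjP.trans hiP.symm)]
    rw [Finset.sum_singleton, hie, deg_eq_one hF₂, deg_eq_one hGF] at hsum
    omega
  let N : Place k F₂ → Divisor k F₁ := fun v => pushDiv hF₁.1 (conorm K (Finsupp.single v (1 : ℤ)))
  have hN0 : ∀ v : Place k F₂, 0 ≤ conorm K (Finsupp.single v (1 : ℤ)) := fun v Q => by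
    rw [conorm_apply hF₂.1, Finsupp.zero_apply]
    exact mul_nonneg (Finsupp.single_nonneg.2 zero_le_one _) (Int.natCast_nonneg _)
  have hpushdeg : ∀ B : Divisor k K, (pushDiv hF₁.1 B).deg = B.deg := fun B => by
    rw [pushDiv, Finsupp.mapDomain, Finsupp.sum,
      show Divisor.deg (∑ R ∈ B.support, Finsupp.single (underPlace hF₁.1 R) (B R)) =
      ∑ R ∈ B.support, Divisor.deg (Finsupp.single (underPlace hF₁.1 R) (B R)) from map_sum degHom _ _]
    exact Finset.sum_congr rfl fun R _ => by simp [deg_single, deg_eq_one hF₁, deg_eq_one hK R]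
  have hNdeg : ∀ v, (N v).deg = 2 := fun v => by
    rw [hpushdeg, deg_conorm hF₂.1, h₂, deg_single, deg_eq_one hF₂]
    norm_num
  have hpush0 : ∀ B : Divisor k K, 0 ≤ B → 0 ≤ pushDiv hF₁.1 B := fun B hB => by
    rw [pushDiv, Finsupp.mapDomain, Finsupp.sum]
    exact Finset.sum_nonneg fun R _ => Finsupp.single_nonneg.2 (hB R)
  -- a second place with another image
  obtain ⟨n, hn0, hn⟩ : ∃ n : ℕ, n ≠ 0 ∧ N (f n) ≠ N (f 0) := by
    by_contra hcon
    push Not at hcon
    have hfin : {Q : Place k K | underPlace hF₁.1 Q ∈ (N (f 0)).support}.Finite := by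
      refine ((N (f 0)).support.finite_toSet.biUnion fun P _ => finite_over (K' := K) hF₁.1 P).subset fun Q hQ => ?_
      simp only [Set.mem_iUnion]
      exact ⟨underPlace hF₁.1 Q, hQ, (isOver_iff hF₁.1 Q _).2 rfl⟩
    refine Set.infinite_range_of_injective hf ((hfin.image (underPlace hF₂.1)).subset ?_)
    rintro _ ⟨m, rfl⟩
    obtain ⟨Q, hQ⟩ := exists_overs (K' := K) hF₂.1 (f m)
    refine ⟨Q, ?_, (under_eq hF₂.1 hQ).1⟩
    have hm : N (f m) = N (f 0) := by
      rcases eq_or_ne m 0 with rfl | h
      · rfl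
      · exact hcon m h
    show underPlace hF₁.1 Q ∈ (N (f 0)).support
    rw [← hm, Finsupp.mem_support_iff]
    have hQ1 : (1 : ℤ) ≤ conorm K (Finsupp.single (f m) (1 : ℤ)) Q := by
      rw [conorm_apply hF₂.1, (under_eq hF₂.1 hQ).1, Finsupp.single_eq_same, one_mul]
      exact_mod_cast underIdx_pos hF₂.1 Q
    have hle : Finsupp.single Q (1 : ℤ) ≤ conorm K (Finsupp.single (f m) (1 : ℤ)) := fun R => by
      rcases eq_or_ne R Q with rfl | hR
      · rw [Finsupp.single_eq_same]; exact hQ1
      · rw [Finsupp.single_eq_of_ne hR]; exact hN0 (f m) R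
    have h1 := hpush0 _ (sub_nonneg.2 hle) (underPlace hF₁.1 Q)
    simp only [pushDiv, Finsupp.mapDomain_sub, Finsupp.mapDomain_single, Finsupp.zero_apply, Finsupp.sub_apply,
      Finsupp.single_eq_same] at h1
    intro h0
    change Finsupp.mapDomain _ _ _ = 0 at h0
    omega
  -- the two divisors
  obtain ⟨y, v, hy, hv⟩ := exists_sqrt h₁ (by
    rw [← map_ofNat (algebraMap k F₁) 2]; exact (_root_.map_ne_zero _).2 hc)
  have hrep := (minpoly_quad h₁ hy (a := (0 : F₁)) (g := v) (by rw [map_zero, zero_mul, add_zero, hv])).2.1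
  let s₀ : Finset ℕ := Finset.Ico (n + 1) (n + 1 + genus k F₂)
  have key : ∀ i, i ∉ s₀ → ∃ b : F₁, b ≠ 0 ∧ ∀ P : Place k F₁, P.ord (b ^ 2 * v) / 2 =
      -(pushDiv hF₁.1 (conorm K (∑ j ∈ s₀, Finsupp.single (f j) (1 : ℤ))) + N (f i)) P := by
    intro i hi
    set D : Divisor k F₂ := ∑ j ∈ insert i s₀, Finsupp.single (f j) (1 : ℤ) with hD
    have hD0 : 0 ≤ D := Finset.sum_nonneg fun j _ => Finsupp.single_nonneg.2 zero_le_one
    have hDd : D.deg = (genus k F₂ : ℤ) + 1 := by
      rw [hD, show Divisor.deg (∑ j ∈ insert i s₀, Finsupp.single (f j) (1 : ℤ)) =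
        ∑ j ∈ insert i s₀, Divisor.deg (Finsupp.single (f j) (1 : ℤ)) from map_sum degHom _ _]
      simp [deg_single, deg_eq_one hF₂, Finset.card_insert_of_notMem hi, s₀]
    obtain ⟨x, hxD, hxc⟩ : ∃ x ∈ L D, x ∉ Set.range (algebraMap k F₂) := by
      by_contra hh
      push Not at hh
      haveI := finiteDimensional_L hF₂ (0 : Divisor k F₂)
      have h1 := Submodule.finrank_mono (show L D ≤ L (0 : Divisor k F₂) from fun z hz => by
        rw [L_zero hF₂, Submodule.mem_one]
        exact hh z hz)
      have h2 : ell (0 : Divisor k F₂) = 1 := ell_zero hF₂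
      have h3 := riemann_ge hF₂ D
      unfold ell at h2 h3
      omega
    have hxF : (x : K) ∉ F₁ := fun h => hxc (hgen _ x h hxD)
    obtain ⟨a, b, hab⟩ := hrep (x : K)
    have hb : b ≠ 0 := fun h => hxF (by rw [hab, h, map_zero, zero_mul, add_zero]; exact a.2)
    have hB : 0 ≤ conorm K D := fun Q => by
      rw [conorm_apply hF₂.1, Finsupp.zero_apply]
      exact mul_nonneg (hD0 _) (Int.natCast_nonneg _)
    have hmem := algebraMap_mem_conorm (K' := K) hF₂.1 hxD
    rw [show algebraMap F₂ K x = (x : K) from rfl, hab] at hmem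
    refine ⟨b, hb, fun P => ?_⟩
    rw [push_eq_half hF₁.1 h₁ hc hF₁ hK hy hv hB hb hmem
      (by rw [deg_conorm hF₂.1, h₂, hDd]; omega) P, hD, Finset.sum_insert hi]
    simp only [N, pushDiv]
    rw [← Finsupp.mapDomain_add, ← map_add_conorm (hF := hF₂.1), add_comm (Finsupp.single (f i) (1 : ℤ))]
  obtain ⟨b₀, hb₀, hP₀⟩ := key 0 (by simp [s₀])
  obtain ⟨b₁, hb₁, hP₁⟩ := key n (by simp [s₀])
  have hdiv : N (f n) = N (f 0) + FunFld.div k (b₀ / b₁) := by
    ext P
    have e₀ := hP₀ P
    have e₁ := hP₁ P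
    have hv0 : v ≠ 0 := fun h => hy ⟨0, by rw [h, map_zero] at hv; rw [map_zero, (pow_eq_zero_iff two_ne_zero).1 hv]⟩
    rw [Finsupp.add_apply, ord_mul P (pow_ne_zero _ hb₀) hv0, ord_pow] at e₀
    rw [Finsupp.add_apply, ord_mul P (pow_ne_zero _ hb₁) hv0, ord_pow] at e₁
    rw [Finsupp.add_apply, div_apply hF₁.1, div_eq_mul_inv, ord_mul P hb₀ (inv_ne_zero hb₁), ord_inv]
    push_cast at e₀ e₁
    omega
  refine ⟨N (f 0), hNdeg _, ?_⟩
  set z := b₀ / b₁ with hz
  have hz0 : z ≠ 0 := div_ne_zero hb₀ hb₁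
  have hzc : z ∉ Set.range (algebraMap k F₁) := fun ⟨c, hc'⟩ => hn (by
    rw [hdiv, ← hc', div_const hF₁.1 c, add_zero])
  have hzL : z ∈ L (N (f 0)) := (mem_L_iff hz0).2 fun P => by
    have h1 := DFunLike.congr_fun hdiv P
    rw [Finsupp.add_apply, div_apply hF₁.1] at h1
    have h2 : 0 ≤ N (f n) P := hpush0 _ (hN0 _) P
    omega
  have h1L : (1 : F₁) ∈ L (N (f 0)) := fun P => by
    rw [map_one, ← exp_zero, exp_le_exp]
    exact hpush0 _ (hN0 _) P
  by_contra hlt
  haveI := finiteDimensional_L hF₁ (N (f 0))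
  have hli : LinearIndependent k ![(1 : F₁), z] := by
    rw [LinearIndependent.pair_iff]
    intro a b h
    by_cases hb : b = 0
    · subst hb; simp_all
    · refine absurd ⟨-(a / b), ?_⟩ hzc
      rw [Algebra.smul_def, Algebra.smul_def, mul_one] at h
      rw [map_neg, map_div₀, neg_eq_iff_eq_neg, div_eq_iff ((_root_.map_ne_zero _).2 hb)]
      linear_combination h
  have hsp : Submodule.span k (Set.range ![(1 : F₁), z]) ≤ L (N (f 0)) := by
    rw [Submodule.span_le, Matrix.range_cons_cons_empty]
    rintro w (rfl | rfl)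
    exacts [h1L, hzL]
  have := Submodule.finrank_mono hsp
  rw [finrank_span_eq_card hli, Fintype.card_fin] at this
  exact hlt this
where
  map_add_conorm {F : IntermediateField k K} [FiniteDimensional F K] {hF : FG1 k F} {A B : Divisor k F} :
      conorm K (A + B) = conorm K A + conorm K B := Finsupp.ext fun Q => by
    rw [Finsupp.add_apply, conorm_apply hF, conorm_apply hF, conorm_apply hF, Finsupp.add_apply, add_mul]

end Two

end Groth.Agent.FFLib
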