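import Groth.Agent.FFLib.CastelnuovoEq

/-!
# The local rings in the extremal case of two subfields of index two
-/

open WithZero Module

namespace Groth.Agent.FFLib

open FunFld

variable {k K : Type*} [Field k] [IsAlgClosed k] [Field K] [Algebra k K]

/-- Places in general position with respect to a proper subfield. -/
theorem exists_general_places {F : Type*} [Field F] [Algebra k F] (hF : IsFunctionField k F)
    {G : IntermediateField k F} (hG : G ≠ ⊤) : ∃ f : ℕ → Place k F, Function.Injective f ∧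
      ∀ s : Finset ℕ, ∀ x : F, x ∈ G → x ∈ L (∑ i ∈ s, Finsupp.single (f i) (1 : ℤ)) →
        x ∈ Set.range (algebraMap k F) := by
  classical
  haveI := infinite_places hF
  by_cases halg : ∀ a : F, a ∈ G → IsAlgebraic k a
  · exact ⟨Infinite.natEmbedding _, (Infinite.natEmbedding _).injective, fun _ x hxG _ => hF.2 x (halg x hxG)⟩
  push Not at halg
  obtain ⟨x₀, hx₀G, hx₀⟩ := halg
  haveI := finite_adjoin hF.1 hx₀
  have hle : IntermediateField.adjoin k ({x₀} : Set F) ≤ G :=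
    IntermediateField.adjoin_le_iff.2 (Set.singleton_subset_iff.2 hx₀G)
  haveI : FiniteDimensional G F := Module.finite_of_finrank_pos (Nat.pos_of_ne_zero fun h => by
    have hmul := IntermediateField.relfinrank_mul_finrank_top hle
    rw [h, mul_zero] at hmul
    exact (Module.finrank_pos (R := IntermediateField.adjoin k ({x₀} : Set F)) (M := F)).ne hmul)
  have hm : 2 ≤ finrank G F := by
    have h1 : finrank G F ≠ 1 := fun h => hG (IntermediateField.finrank_eq_one_iff_eq_top.1 h)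
    have h2 : 0 < finrank G F := finrank_pos
    omega
  have hGF : IsFunctionField k G := isFunctionField_below hF
  haveI := infinite_places hGF
  let φ : ℕ ↪ Place k G := Infinite.natEmbedding _
  choose f hfo using fun i : ℕ => exists_overs (K' := F) hGF.1 (φ i)
  have hfu : ∀ i, underPlace hGF.1 (f i) = φ i := fun i => (under_eq hGF.1 (hfo i)).1
  have hfi : Function.Injective f := fun i j h => φ.injective (by rw [← hfu i, h, hfu j])
  refine ⟨f, hfi, fun s x hxG hxD => ?_⟩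
  by_contra hxc
  let a : G := ⟨x, hxG⟩
  have hac : a ∉ Set.range (algebraMap k G) := fun ⟨c, hc'⟩ => hxc ⟨c, congrArg Subtype.val hc'⟩
  obtain ⟨P, hP⟩ := exists_pole hGF hac
  have ha0 : a ≠ 0 := fun h => hac ⟨0, by rw [map_zero, h]⟩
  have hx0 : x ≠ 0 := fun h => ha0 (Subtype.ext h)
  have hover : ∀ R : Place k F, IsOver R P → ∃ i, f i = R ∧ underIdx hGF.1 R = 1 ∧ φ i = P := by
    intro R hR
    have hu := (isOver_iff hGF.1 R P).1 hR
    have ho : R.ord x = underIdx hGF.1 R * P.ord a := by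
      rw [← hu]
      exact ord_algebraMap hGF.1 R a
    have hp : (1 : ℤ) ≤ underIdx hGF.1 R := by exact_mod_cast underIdx_pos hGF.1 R
    have hle' := (mem_L_iff hx0).1 hxD R
    rw [Finsupp.finsetSum_apply] at hle'
    simp only [Finsupp.single_apply] at hle'
    by_cases hi : ∃ i ∈ s, f i = R
    · obtain ⟨i, his, hi⟩ := hi
      rw [Finset.sum_eq_single_of_mem i his (fun j _ hj => if_neg fun h => hj (hfi (h.trans hi.symm))),
        if_pos hi, ho] at hle'
      refine ⟨i, hi, ?_, by rw [← hu, ← hi, hfu]⟩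
      have : (underIdx hGF.1 R : ℤ) ≤ 1 := by nlinarith
      omega
    · push Not at hi
      rw [Finset.sum_eq_zero fun j hj => if_neg (hi j hj), ho] at hle'
      nlinarith
  obtain ⟨R₀, hR₀⟩ := exists_overs (K' := F) hGF.1 P
  obtain ⟨i, hiQ, hie, hiP⟩ := hover R₀ ⟨_, hR₀⟩
  have hsum := sum_idx_mul_deg hGF.1 P ({R₀} : Finset (Place k F)) fun R => by
    rw [Finset.mem_singleton]
    refine ⟨fun h => h ▸ ⟨_, hR₀⟩, fun h => ?_⟩
    obtain ⟨j, hjQ, -, hjP⟩ := hover R h
    rw [← hjQ, ← hiQ, φ.injective (hjP.trans hiP.symm)]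
  rw [Finset.sum_singleton, hie, deg_eq_one hF, deg_eq_one hGF] at hsum
  omega

variable (hK : IsFunctionField k K) (hc : (2 : k) ≠ 0) {F₁ F₂ : IntermediateField k K}
  (h₁ : finrank F₁ K = 2) (h₂ : finrank F₂ K = 2) (hne : F₁ ≠ F₂)
  (hg : 2 * genus k F₁ + 2 * genus k F₂ + 1 = genus k K)

include hK hc h₁ h₂ hne hg in
/-- Over each place of the first subfield a function of the second one gives an integral basis. -/
theorem exists_local_generator (Q : Place k K) :
    ∃ x : F₂, (∀ Q' : Place k K, (∀ a : F₁, Q'.1 (a : K) ≤ 1 ↔ Q.1 (a : K) ≤ 1) → Q'.1 (x : K) ≤ 1) ∧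
      ∀ z : K, (∀ Q' : Place k K, (∀ a : F₁, Q'.1 (a : K) ≤ 1 ↔ Q.1 (a : K) ≤ 1) → Q'.1 z ≤ 1) →
        ∃ a b : F₁, Q.1 (a : K) ≤ 1 ∧ Q.1 (b : K) ≤ 1 ∧ z = (a : K) + (b : K) * (x : K) := by
  classical
  haveI : FiniteDimensional F₁ K := Module.finite_of_finrank_eq_succ h₁
  haveI : FiniteDimensional F₂ K := Module.finite_of_finrank_eq_succ h₂
  have hF₁ : IsFunctionField k F₁ := isFunctionField_below hK
  have hF₂ : IsFunctionField k F₂ := isFunctionField_below hK
  obtain ⟨f, hf, hgen⟩ := exists_general_places hF₂ (G := F₁.comap F₂.val) fun h =>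
    hne (IntermediateField.eq_of_le_of_finrank_eq' (F := F₂) (E := F₁)
      (fun a ha => by
        have h' : (⟨a, ha⟩ : F₂) ∈ F₁.comap F₂.val := by rw [h]; trivial
        exact h') (by omega)).symm
  set P := underPlace hF₁.1 Q with hP
  have hQ := isOverWith_under hF₁.1 Q
  have hsame : ∀ Q' : Place k K, (∀ a : F₁, Q'.1 (a : K) ≤ 1 ↔ Q.1 (a : K) ≤ 1) ↔ underPlace hF₁.1 Q' = P :=
    fun Q' => ⟨fun h => place_ext_of_le _ _ fun a ha =>
      (isOverWith_le_one_iff hQ a).1 ((h a).1 ((isOverWith_le_one_iff (isOverWith_under hF₁.1 Q') a).2 ha)),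
      fun h a => by
        rw [show (a : K) = algebraMap F₁ K a from rfl, isOverWith_le_one_iff (isOverWith_under hF₁.1 Q') a,
          isOverWith_le_one_iff hQ a, h]⟩
  have hT := finite_over (K' := K) hF₁.1 P
  have hbad : {j : ℕ | f j ∈ hT.toFinset.image (underPlace hF₂.1)}.Finite :=
    (Finset.finite_toSet _).preimage hf.injOn
  obtain ⟨s, hs, hscard⟩ := hbad.infinite_compl.exists_subset_card_eq (genus k F₂ + 1)
  set D : Divisor k F₂ := ∑ j ∈ s, Finsupp.single (f j) (1 : ℤ) with hD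
  have hD0 : 0 ≤ D := Finset.sum_nonneg fun j _ => Finsupp.single_nonneg.2 zero_le_one
  have hDd : D.deg = (genus k F₂ : ℤ) + 1 := by
    rw [hD, show Divisor.deg (∑ j ∈ s, Finsupp.single (f j) (1 : ℤ)) =
      ∑ j ∈ s, Divisor.deg (Finsupp.single (f j) (1 : ℤ)) from map_sum degHom _ _]
    simp [deg_single, deg_eq_one hF₂, hscard]
  have hDzero : ∀ Q' : Place k K, underPlace hF₁.1 Q' = P → D (underPlace hF₂.1 Q') = 0 := by
    intro Q' hQ'
    rw [hD, Finsupp.finsetSum_apply]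
    refine Finset.sum_eq_zero fun j hj => Finsupp.single_eq_of_ne fun e => ?_
    refine hs (Finset.mem_coe.2 hj) ?_
    show f j ∈ hT.toFinset.image (underPlace hF₂.1)
    rw [← e, Finset.mem_image]
    exact ⟨Q', hT.mem_toFinset.2 ((isOver_iff hF₁.1 Q' P).2 hQ'), rfl⟩
  obtain ⟨x, hxD, hxc⟩ : ∃ x ∈ L D, x ∉ Set.range (algebraMap k F₂) := by
    by_contra hh
    push Not at hh
    haveI := finiteDimensional_L hF₂ (0 : Divisor k F₂)
    have e1 := Submodule.finrank_mono (show L D ≤ L (0 : Divisor k F₂) from fun z hz => by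
      rw [L_zero hF₂, Submodule.mem_one]
      exact hh z hz)
    have e2 : ell (0 : Divisor k F₂) = 1 := ell_zero hF₂
    have e3 := riemann_ge hF₂ D
    unfold ell at e2 e3
    omega
  have hreg : ∀ Q' : Place k K, underPlace hF₁.1 Q' = P → Q'.1 (x : K) ≤ 1 := by
    intro Q' hQ'
    rw [show (x : K) = algebraMap F₂ K x from rfl, isOverWith_le_one_iff (isOverWith_under hF₂.1 Q') x]
    have := hxD (underPlace hF₂.1 Q')
    rwa [hDzero Q' hQ', exp_zero] at this
  have hxF : (x : K) ∉ F₁ := fun h => hxc (hgen _ x h hxD)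
  obtain ⟨y, v, hy, hv⟩ := exists_sqrt h₁ (by
    rw [← map_ofNat (algebraMap k F₁) 2]; exact (_root_.map_ne_zero _).2 hc)
  have hrep := (minpoly_quad h₁ hy (a := (0 : F₁)) (g := v) (by rw [map_zero, zero_mul, add_zero, hv])).2.1
  obtain ⟨a₀, b₀, hab⟩ := hrep (x : K)
  have hb₀ : b₀ ≠ 0 := fun h => hxF (by rw [hab, h, map_zero, zero_mul, add_zero]; exact a₀.2)
  have hB : 0 ≤ conorm K D := fun R => by
    rw [conorm_apply hF₂.1, Finsupp.zero_apply]
    exact mul_nonneg (hD0 _) (Int.natCast_nonneg _)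
  have hmem := algebraMap_mem_conorm (K' := K) hF₂.1 hxD
  rw [show algebraMap F₂ K x = (x : K) from rfl, hab] at hmem
  have hhalf := push_eq_half hF₁.1 h₁ hc hF₁ hK hy hv hB hb₀ hmem
    (by rw [deg_conorm hF₂.1, h₂, hDd]; omega) P
  have hpush : pushDiv hF₁.1 (conorm K D) P = 0 := by
    rw [pushDiv, Finsupp.mapDomain, Finsupp.sum, Finsupp.finsetSum_apply]
    refine Finset.sum_eq_zero fun R _ => ?_
    rw [Finsupp.single_apply]
    split_ifs with h
    · rw [conorm_apply hF₂.1, hDzero R h, zero_mul]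
    · rfl
  rw [hpush, neg_zero] at hhalf
  set y' := algebraMap F₁ K b₀ * y with hy'
  have hy'r : y' ∉ Set.range (algebraMap F₁ K) := fun ⟨c, hc'⟩ => hy ⟨c / b₀, by
    rw [map_div₀, hc', hy', mul_div_cancel_left₀ _ ((_root_.map_ne_zero _).2 hb₀)]⟩
  have heq' : y' ^ 2 = algebraMap F₁ K (b₀ ^ 2 * v) := by rw [hy', mul_pow, hv, map_mul, map_pow]
  have hsplit := quad_split hF₁.1 h₁ hc hy'r heq' P 0
  have hxsplit := (hsplit a₀ 1).1 fun R e hR => by
    rw [map_one, one_mul, mul_zero, exp_zero, ← hab]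
    exact hreg R (under_eq hF₁.1 hR).1
  refine ⟨x, fun Q' h => hreg Q' ((hsame Q').1 h), fun z hz => ?_⟩
  obtain ⟨u, w, huw⟩ := hrep z
  have hzsplit := (hsplit u (w / b₀)).1 fun R e hR => by
    rw [mul_zero, exp_zero, hy', map_div₀, ← mul_assoc, div_mul_cancel₀ _ ((_root_.map_ne_zero _).2 hb₀), ← huw]
    exact hz R ((hsame R).2 (under_eq hF₁.1 hR).1)
  rw [hhalf, add_zero, exp_zero] at hxsplit hzsplit
  refine ⟨u - w / b₀ * a₀, w / b₀, ?_, ?_, ?_⟩
  · rw [show ((u - w / b₀ * a₀ : F₁) : K) = algebraMap F₁ K (u - w / b₀ * a₀) from rfl, isOverWith_le_one_iff hQ]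
    refine (P.1.map_sub _ _).trans (max_le hzsplit.1 ?_)
    rw [map_mul]
    exact mul_le_one' hzsplit.2 hxsplit.1
  · rw [show ((w / b₀ : F₁) : K) = algebraMap F₁ K (w / b₀) from rfl, isOverWith_le_one_iff hQ]
    exact hzsplit.2
  · have hb' : algebraMap F₁ K b₀ ≠ 0 := (_root_.map_ne_zero _).2 hb₀
    rw [huw, hab]
    show _ = algebraMap F₁ K (u - w / b₀ * a₀) + algebraMap F₁ K (w / b₀) * _
    rw [map_sub, map_mul, map_div₀]
    field_simp
    ring

include hK hc h₁ h₂ hne hg in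
/-- Two places with the same restrictions to both subfields coincide. -/
theorem place_eq_of_same (Q Q' : Place k K) (hs₁ : ∀ a : F₁, Q'.1 (a : K) ≤ 1 ↔ Q.1 (a : K) ≤ 1)
    (hs₂ : ∀ a : F₂, Q'.1 (a : K) ≤ 1 ↔ Q.1 (a : K) ≤ 1) : Q = Q' := by
  classical
  haveI : FiniteDimensional F₁ K := Module.finite_of_finrank_eq_succ h₁
  haveI : FiniteDimensional F₂ K := Module.finite_of_finrank_eq_succ h₂
  have hF₁ : IsFunctionField k F₁ := isFunctionField_below hK
  have hF₂ : IsFunctionField k F₂ := isFunctionField_below hK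
  obtain ⟨x, hreg, hbasis⟩ := exists_local_generator hK hc h₁ h₂ hne hg Q
  by_contra hQQ
  have key : ∀ {F : IntermediateField k K} [FiniteDimensional F K] (_ : IsFunctionField k F),
      (∀ a : F, Q'.1 (a : K) ≤ 1 ↔ Q.1 (a : K) ≤ 1) → ∀ a : F, Q.1 (a : K) ≤ 1 →
        ∃ c : k, Q.1 ((a : K) - algebraMap k K c) < 1 ∧ Q'.1 ((a : K) - algebraMap k K c) < 1 := by
    intro F _ hF h a ha
    have hR : underPlace hF.1 Q' = underPlace hF.1 Q := place_ext_of_le _ _ fun b hb =>
      (isOverWith_le_one_iff (isOverWith_under hF.1 Q) b).1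
        ((h b).1 ((isOverWith_le_one_iff (isOverWith_under hF.1 Q') b).2 hb))
    obtain ⟨c, hc'⟩ := exists_const_sub_lt (deg_eq_one hF (underPlace hF.1 Q))
      ((isOverWith_le_one_iff (isOverWith_under hF.1 Q) a).1 ha)
    exact ⟨c, (isOverWith_lt_one_iff (isOverWith_under hF.1 Q) _).2 hc',
      (isOverWith_lt_one_iff (isOverWith_under hF.1 Q') _).2 (hR ▸ hc')⟩
  obtain ⟨c, hc1, hc2⟩ := key hF₂ hs₂ x (hreg Q fun _ => Iff.rfl)
  set P := underPlace hF₁.1 Q with hP
  have hT := finite_over (K' := K) hF₁.1 P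
  obtain ⟨e, he⟩ := weak_approx (hT.toFinset ∪ {Q, Q'}) (fun R => if R = Q then 1 else 0) (fun _ => 1)
  have hlt : exp (-(1 : ℤ)) < (1 : WithZero (Multiplicative ℤ)) := by rw [← exp_zero, exp_lt_exp]; norm_num
  have heQ : Q.1 (e - 1) < 1 := by
    have := he Q (by simp)
    rw [if_pos rfl] at this
    exact this.trans_lt hlt
  have heQ' : Q'.1 e < 1 := by
    have := he Q' (by simp)
    rw [if_neg (Ne.symm hQQ), sub_zero] at this
    exact this.trans_lt hlt
  obtain ⟨a, b, ha, hb, hab⟩ := hbasis e fun R hR => by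
    have hRP : underPlace hF₁.1 R = P := place_ext_of_le _ _ fun b hb =>
      (isOverWith_le_one_iff (isOverWith_under hF₁.1 Q) b).1
        ((hR b).1 ((isOverWith_le_one_iff (isOverWith_under hF₁.1 R) b).2 hb))
    have := he R (Finset.mem_union_left _ (hT.mem_toFinset.2 ((isOver_iff hF₁.1 R P).2 hRP)))
    split_ifs at this with h
    · have h' := (R.1.map_add (e - 1) 1).trans (max_le (this.trans hlt.le) R.1.map_one.le)
      rwa [sub_add_cancel] at h'
    · rw [sub_zero] at this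
      exact this.trans hlt.le
  obtain ⟨ca, ha1, ha2⟩ := key hF₁ hs₁ a ha
  obtain ⟨cb, hb1, hb2⟩ := key hF₁ hs₁ b hb
  have hres : ∀ R : Place k K, R.1 ((a : K) - algebraMap k K ca) < 1 → R.1 ((b : K) - algebraMap k K cb) < 1 →
      R.1 ((x : K) - algebraMap k K c) < 1 → R.1 (e - algebraMap k K (ca + cb * c)) < 1 := by
    intro R e1 e2 e3
    rw [hab, show (a : K) + b * x - algebraMap k K (ca + cb * c) = ((a : K) - algebraMap k K ca) +
      (((b : K) - algebraMap k K cb) * ((x : K) - algebraMap k K c) +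
        (((b : K) - algebraMap k K cb) * algebraMap k K c + algebraMap k K cb * ((x : K) - algebraMap k K c))) by
      rw [map_add, map_mul]; ring]
    refine (R.1.map_add _ _).trans_lt (max_lt e1 ((R.1.map_add _ _).trans_lt (max_lt ?_ ((R.1.map_add _ _).trans_lt (max_lt ?_ ?_)))))
    · rw [map_mul]; exact mul_lt_one_of_nonneg_of_lt_one_left zero_le e2 e3.le
    · rw [map_mul]; exact mul_lt_one_of_nonneg_of_lt_one_left zero_le e2 (R.2.1 c)
    · rw [map_mul, mul_comm]; exact mul_lt_one_of_nonneg_of_lt_one_left zero_le e3 (R.2.1 cb)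
  have hQe := hres Q ha1 hb1 hc1
  have hQ'e := hres Q' ha2 hb2 hc2
  have h1 : Q.1 (algebraMap k K (1 - (ca + cb * c))) < 1 := by
    rw [show algebraMap k K (1 - (ca + cb * c)) = (e - algebraMap k K (ca + cb * c)) - (e - 1) by
      rw [map_sub, map_one]; ring]
    exact (Q.1.map_sub _ _).trans_lt (max_lt hQe heQ)
  have h2 : Q'.1 (algebraMap k K (ca + cb * c)) < 1 := by
    rw [show algebraMap k K (ca + cb * c) = e - (e - algebraMap k K (ca + cb * c)) by ring]
    exact (Q'.1.map_sub _ _).trans_lt (max_lt heQ' hQ'e)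
  by_cases h : ca + cb * c = 0
  · rw [h, sub_zero, v_const Q one_ne_zero] at h1
    exact lt_irrefl _ h1
  · rw [v_const Q' h] at h2
    exact lt_irrefl _ h2

include hK hc h₁ h₂ hne hg in
/-- The local ring of a place is generated by those of its restrictions. -/
theorem exists_fraction (Q : Place k K) (z : K) (hz : Q.1 z ≤ 1) :
    ∃ (x : F₂) (a b c d : F₁), Q.1 (x : K) ≤ 1 ∧ Q.1 (a : K) ≤ 1 ∧ Q.1 (b : K) ≤ 1 ∧ Q.1 (c : K) ≤ 1 ∧
      Q.1 (d : K) ≤ 1 ∧ Q.1 ((c : K) + d * x) = 1 ∧ z * ((c : K) + d * x) = (a : K) + b * x := by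
  classical
  haveI : FiniteDimensional F₁ K := Module.finite_of_finrank_eq_succ h₁
  have hF₁ : IsFunctionField k F₁ := isFunctionField_below hK
  obtain ⟨x, hreg, hbasis⟩ := exists_local_generator hK hc h₁ h₂ hne hg Q
  have hxQ : Q.1 (x : K) ≤ 1 := hreg Q fun _ => Iff.rfl
  by_cases hall : ∀ R : Place k K, (∀ a : F₁, R.1 (a : K) ≤ 1 ↔ Q.1 (a : K) ≤ 1) → R = Q
  · obtain ⟨a, b, ha, hb, hab⟩ := hbasis z fun R hR => by rw [hall R hR]; exact hz
    exact ⟨x, a, b, 1, 0, hxQ, ha, hb, by simp, by simp, by simp, by simp [hab]⟩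
  push Not at hall
  obtain ⟨Q', hQ', hne'⟩ := hall
  set P := underPlace hF₁.1 Q with hP
  have hunder : ∀ R : Place k K, (∀ a : F₁, R.1 (a : K) ≤ 1 ↔ Q.1 (a : K) ≤ 1) → underPlace hF₁.1 R = P :=
    fun R hR => place_ext_of_le _ _ fun b hb =>
      (isOverWith_le_one_iff (isOverWith_under hF₁.1 Q) b).1
        ((hR b).1 ((isOverWith_le_one_iff (isOverWith_under hF₁.1 R) b).2 hb))
  have hT := finite_over (K' := K) hF₁.1 P
  have htwo : ∀ R : Place k K, underPlace hF₁.1 R = P → R = Q ∨ R = Q' := by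
    intro R hR
    by_contra hh
    push Not at hh
    have hsum := sum_idx_mul_deg hF₁.1 P hT.toFinset fun S => hT.mem_toFinset
    have hsub : ({R, Q, Q'} : Finset (Place k K)) ⊆ hT.toFinset := by
      intro S hS
      simp only [Finset.mem_insert, Finset.mem_singleton] at hS
      rw [hT.mem_toFinset]
      rcases hS with rfl | rfl | rfl
      exacts [(isOver_iff hF₁.1 _ P).2 hR, (isOver_iff hF₁.1 _ P).2 rfl, (isOver_iff hF₁.1 _ P).2 (hunder _ hQ')]
    have h3 : ({R, Q, Q'} : Finset (Place k K)).card = 3 :=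
      Finset.card_eq_three.2 ⟨R, Q, Q', hh.1, hh.2, hne'.symm, rfl⟩
    have hcard := Finset.card_le_card hsub
    have hle : hT.toFinset.card ≤ ∑ S ∈ hT.toFinset, underIdx hF₁.1 S * S.deg := by
      rw [Finset.card_eq_sum_ones]
      refine Finset.sum_le_sum fun S _ => ?_
      rw [deg_eq_one hK, mul_one]
      exact underIdx_pos hF₁.1 S
    rw [hsum, h₁, deg_eq_one hF₁] at hle
    omega
  obtain ⟨c', hc'⟩ := exists_const_sub_lt (deg_eq_one hK Q') (hreg Q' hQ')
  set s : K := (x : K) - algebraMap k K c' with hs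
  have hsle : Q.1 s ≤ 1 := (Q.1.map_sub _ _).trans (max_le hxQ (Q.2.1 c'))
  have hs1 : Q.1 s = 1 := by
    refine le_antisymm hsle (not_lt.1 fun hlt => hne' ?_)
    by_contra hQQ
    obtain ⟨e, he⟩ := weak_approx ({Q, Q'} : Finset (Place k K)) (fun R => if R = Q then 1 else 0) (fun _ => 1)
    have hlt1 : exp (-(1 : ℤ)) < (1 : WithZero (Multiplicative ℤ)) := by rw [← exp_zero, exp_lt_exp]; norm_num
    have heQ : Q.1 (e - 1) < 1 := by
      have := he Q (by simp)
      rw [if_pos rfl] at this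
      exact this.trans_lt hlt1
    have heQ' : Q'.1 e < 1 := by
      have := he Q' (by simp)
      rw [if_neg hQQ, sub_zero] at this
      exact this.trans_lt hlt1
    have heT : ∀ R : Place k K, (∀ a : F₁, R.1 (a : K) ≤ 1 ↔ Q.1 (a : K) ≤ 1) → R.1 e ≤ 1 := by
      intro R hR
      rcases htwo R (hunder R hR) with rfl | rfl
      · have h' := (R.1.map_add (e - 1) 1).trans (max_le heQ.le R.1.map_one.le)
        rwa [sub_add_cancel] at h'
      · exact heQ'.le
    obtain ⟨a, b, ha, hb, hab⟩ := hbasis e heT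
    have key : ∀ a : F₁, Q.1 (a : K) ≤ 1 →
        ∃ c : k, Q.1 ((a : K) - algebraMap k K c) < 1 ∧ Q'.1 ((a : K) - algebraMap k K c) < 1 := by
      intro a ha
      obtain ⟨c, hc''⟩ := exists_const_sub_lt (deg_eq_one hF₁ P)
        ((isOverWith_le_one_iff (isOverWith_under hF₁.1 Q) a).1 ha)
      exact ⟨c, (isOverWith_lt_one_iff (isOverWith_under hF₁.1 Q) _).2 hc'',
        (isOverWith_lt_one_iff (isOverWith_under hF₁.1 Q') _).2 ((hunder Q' hQ').symm ▸ hc'')⟩
    obtain ⟨ca, ha1, ha2⟩ := key a ha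
    obtain ⟨cb, hb1, hb2⟩ := key b hb
    have hres : ∀ R : Place k K, R.1 ((a : K) - algebraMap k K ca) < 1 → R.1 ((b : K) - algebraMap k K cb) < 1 →
        R.1 s < 1 → R.1 (e - algebraMap k K (ca + cb * c')) < 1 := by
      intro R e1 e2 e3
      rw [hab, show (a : K) + b * x - algebraMap k K (ca + cb * c') = ((a : K) - algebraMap k K ca) +
        (((b : K) - algebraMap k K cb) * s +
          (((b : K) - algebraMap k K cb) * algebraMap k K c' + algebraMap k K cb * s)) by
        rw [hs, map_add, map_mul]; ring]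
      refine (R.1.map_add _ _).trans_lt (max_lt e1 ((R.1.map_add _ _).trans_lt (max_lt ?_ ((R.1.map_add _ _).trans_lt (max_lt ?_ ?_)))))
      · rw [map_mul]; exact mul_lt_one_of_nonneg_of_lt_one_left zero_le e2 e3.le
      · rw [map_mul]; exact mul_lt_one_of_nonneg_of_lt_one_left zero_le e2 (R.2.1 c')
      · rw [map_mul, mul_comm]; exact mul_lt_one_of_nonneg_of_lt_one_left zero_le e3 (R.2.1 cb)
    have hQe := hres Q ha1 hb1 hlt
    have hQ'e := hres Q' ha2 hb2 hc'
    have e1 : Q.1 (algebraMap k K (1 - (ca + cb * c'))) < 1 := by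
      rw [show algebraMap k K (1 - (ca + cb * c')) = (e - algebraMap k K (ca + cb * c')) - (e - 1) by
        rw [map_sub, map_one]; ring]
      exact (Q.1.map_sub _ _).trans_lt (max_lt hQe heQ)
    have e2 : Q'.1 (algebraMap k K (ca + cb * c')) < 1 := by
      rw [show algebraMap k K (ca + cb * c') = e - (e - algebraMap k K (ca + cb * c')) by ring]
      exact (Q'.1.map_sub _ _).trans_lt (max_lt heQ' hQ'e)
    by_cases h : ca + cb * c' = 0
    · rw [h, sub_zero, v_const Q one_ne_zero] at e1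
      exact lt_irrefl _ e1
    · rw [v_const Q' h] at e2
      exact lt_irrefl _ e2
  set n := (-Q'.ord z).toNat with hn
  have hQ's : ∀ m : ℕ, (n ≤ m) → Q'.1 (z * s ^ m) ≤ 1 := by
    intro m hm
    rcases eq_or_ne z 0 with rfl | hz0
    · simp
    have hs0 : s ≠ 0 := fun h => by rw [h, map_zero] at hs1; exact zero_ne_one hs1
    rw [v_le_one_iff, ord_mul Q' hz0 (pow_ne_zero _ hs0), ord_pow]
    have h1 : 0 < Q'.ord s := (v_lt_one_iff Q' hs0).1 hc'
    have h2 : (-Q'.ord z) ≤ n := Int.self_le_toNat _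
    have h3 : (n : ℤ) ≤ m := by exact_mod_cast hm
    have h4 : (0 : ℤ) ≤ m := Int.natCast_nonneg m
    nlinarith
  have hT' : ∀ (w : K), Q.1 w ≤ 1 → Q'.1 w ≤ 1 →
      ∀ R : Place k K, (∀ a : F₁, R.1 (a : K) ≤ 1 ↔ Q.1 (a : K) ≤ 1) → R.1 w ≤ 1 := fun w hw hw' R hR => by
    rcases htwo R (hunder R hR) with h | h <;> rw [h] <;> assumption
  have hspow : Q.1 (s ^ n) = 1 := by rw [map_pow, hs1, one_pow]
  obtain ⟨c, d, hc1, hd1, hcd⟩ := hbasis (s ^ n) (hT' _ hspow.le (by rw [map_pow]; exact pow_le_one' hc'.le n))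
  obtain ⟨a, b, ha1, hb1, hab⟩ := hbasis (z * s ^ n) (hT' _ (by rw [map_mul, hspow, mul_one]; exact hz) (hQ's n le_rfl))
  exact ⟨x, a, b, c, d, hxQ, ha1, hb1, hc1, hd1, hcd ▸ hspow, by rw [← hcd]; exact hab⟩

end Groth.Agent.FFLib
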