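import Groth.Agent.FFLib.DegOne
import Groth.Prelude.Def_Curves

/-!
# A function field of genus zero over a `C₁` field is rational
-/

open WithZero Module Polynomial

namespace Groth.Agent.FFLib

open FunFld

variable {k K : Type*} [Field k] [Field K] [Algebra k K]

/-- The value of a polynomial at an element with a simple pole. -/
lemma v_aeval_of_pole {P : Place k K} {x : K} (hx : P.1 x = exp (1 : ℤ)) {p : k[X]} (hp : p ≠ 0) :
    P.1 (aeval x p) = exp (p.natDegree : ℤ) := by
  classical
  have hx0 : x ≠ 0 := fun e => by rw [e, map_zero] at hx; exact exp_ne_zero hx.symm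
  have hterm : ∀ i ∈ p.support, P.1 (p.coeff i • x ^ i) = exp (i : ℤ) := fun i hi => by
    rw [v_smul P (mem_support_iff.1 hi), map_pow, hx, ← exp_nsmul, nsmul_eq_mul, mul_one]
  rw [aeval_eq_sum_range, ← Finset.sum_filter_of_ne (p := fun i => i ∈ p.support)
    fun i _ hne => mem_support_iff.2 fun e => hne (by rw [e, zero_smul])]
  have hmem : p.natDegree ∈ (Finset.range (p.natDegree + 1)).filter (· ∈ p.support) :=
    Finset.mem_filter.2 ⟨Finset.self_mem_range_succ _, natDegree_mem_support_of_nonzero hp⟩
  rw [v_sum_eq P.1 (f := fun i => p.coeff i • x ^ i) hmem fun l hl hne => ?_]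
  · exact hterm _ (Finset.mem_filter.1 hmem).2
  · obtain ⟨hlr, hls⟩ := Finset.mem_filter.1 hl
    rw [hterm l hls, hterm _ (Finset.mem_filter.1 hmem).2, exp_lt_exp]
    have := Finset.mem_range.1 hlr
    omega

variable (hK : IsFunctionField k K)
include hK

/-- In genus zero there is a place of degree one or an effective place divisor of degree two. -/
lemma exists_place_deg_le_two (hg : genus k K = 0) :
    ∃ P : Place k K, P.deg = 1 ∨ P.deg = 2 := by
  classical
  obtain ⟨C, hC⟩ := exists_canonical hK
  have hCd := (canonical_ell_deg hK hC).2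
  rw [hg] at hCd
  have hD : (0 - C).deg = 2 := by rw [deg_sub, deg_zero]; omega
  have hl := ell_eq_of_deg_ge hK (D := 0 - C) (by omega)
  rw [hg, hD] at hl
  obtain ⟨x, hx, hx0⟩ : ∃ x ∈ L (0 - C), x ≠ (0 : K) := by
    by_contra hh
    push Not at hh
    have : L (0 - C) = ⊥ := (Submodule.eq_bot_iff _).2 hh
    rw [ell, this, finrank_bot] at hl
    omega
  have h0 : 0 ≤ 0 - C + FunFld.div k x := fun P => by
    rw [Finsupp.add_apply, div_apply hK, Finsupp.zero_apply]
    have := (mem_L_iff hx0).1 hx P
    omega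
  have hd : (0 - C + FunFld.div k x).deg = 2 := by rw [deg_add, deg_div hK]; omega
  obtain ⟨P, hP⟩ : ∃ P, 0 < (0 - C + FunFld.div k x) P := by
    by_contra hh
    push Not at hh
    have : 0 - C + FunFld.div k x = 0 := Finsupp.ext fun P => le_antisymm (hh P) (h0 P)
    rw [this, deg_zero] at hd
    omega
  have hle : Finsupp.single P 1 ≤ 0 - C + FunFld.div k x := fun Q => by
    rw [Finsupp.single_apply]
    split_ifs with h
    · subst h; omega
    · exact h0 Q
  have := deg_mono hle
  rw [deg_single, hd] at this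
  have := deg_pos hK P
  exact ⟨P, by omega⟩

/-- A function field of genus zero over a `C₁` field is rational. -/
theorem exists_generator_of_genus_zero_C1 (hg : genus k K = 0) (hC1 : Curves.IsCi k 1) :
    ∃ z : K, IntermediateField.adjoin k ({z} : Set K) = ⊤ := by
  classical
  obtain ⟨P, hP | hP⟩ := exists_place_deg_le_two hK hg
  · refine exists_generator_of_ell hK hP ?_
    have := riemann_ge hK (Finsupp.single P 1 : Divisor k K)
    rw [deg_single, hP, hg] at this
    omega
  set D : Divisor k K := Finsupp.single P 1 with hDdef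
  have hDd : D.deg = 2 := by rw [hDdef, deg_single, hP]; rfl
  have hl : ell D = 3 := by
    have := ell_eq_of_deg_ge hK (D := D) (by omega)
    omega
  haveI := finiteDimensional_L hK D
  have hD0 : 0 ≤ D := fun Q => by rw [hDdef, Finsupp.single_apply]; split_ifs <;> simp
  have hone : (1 : K) ∈ L D := L_mono hD0 (by rw [L_zero hK]; exact Submodule.one_le.1 le_rfl)
  have hconst : ∀ w ∈ L D, P.1 w ≤ 1 → w ∈ Set.range (algebraMap k K) := by
    intro w hw hwP
    have : w ∈ L (0 : Divisor k K) := fun Q => by
      rcases eq_or_ne Q P with rfl | hQ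
      · simpa using hwP
      · simpa [hDdef, Finsupp.single_apply, hQ.symm] using hw Q
    rw [L_zero hK] at this
    exact Submodule.mem_one.1 this
  obtain ⟨x, hxD, hxk⟩ : ∃ x ∈ L D, x ∉ Submodule.span k ({1} : Set K) := by
    by_contra hh
    push Not at hh
    have h1 := Submodule.finrank_mono (show L D ≤ Submodule.span k ({1} : Set K) from hh)
    rw [finrank_span_singleton (one_ne_zero (α := K))] at h1
    exact absurd hl (by rw [ell]; omega)
  have hx0 : x ≠ 0 := fun e => hxk (e ▸ zero_mem _)
  have hxr : x ∉ Set.range (algebraMap k K) := by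
    rintro ⟨a, rfl⟩
    exact hxk (Submodule.mem_span_singleton.2 ⟨a, by rw [Algebra.smul_def, mul_one]⟩)
  obtain ⟨y, hyD, hyk⟩ : ∃ y ∈ L D, y ∉ Submodule.span k ({1, x} : Set K) := by
    by_contra hh
    push Not at hh
    haveI : FiniteDimensional k (Submodule.span k ({1, x} : Set K)) :=
      FiniteDimensional.span_of_finite k (Set.toFinite _)
    have h1 := Submodule.finrank_mono (show L D ≤ Submodule.span k ({1, x} : Set K) from hh)
    have h2 : finrank k (Submodule.span k ({1, x} : Set K)) ≤ 2 := by
      refine le_trans ?_ (Finset.card_le_two (a := (1 : K)) (b := x))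
      have := finrank_span_finset_le_card (R := k) ({1, x} : Finset K)
      rwa [Set.finrank, Finset.coe_insert, Finset.coe_singleton] at this
    exact absurd hl (by rw [ell]; omega)
  have hspan : ∀ a b : k, algebraMap k K a + algebraMap k K b * x ∈ Submodule.span k ({1, x} : Set K) := fun a b => by
    rw [← Algebra.smul_def, Algebra.algebraMap_eq_smul_one]
    exact add_mem (Submodule.smul_mem _ _ (Submodule.subset_span (by simp)))
      (Submodule.smul_mem _ _ (Submodule.subset_span (by simp)))
  have hxv : P.1 x = exp (1 : ℤ) := by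
    have h1 := hxD P
    rw [hDdef, Finsupp.single_eq_same] at h1
    refine le_antisymm h1 (not_lt.1 fun h => hxr (hconst x hxD ?_))
    rw [v_le_one_iff]
    have hne := v_ne_zero P hx0
    have h2 : P.1 x = exp (log (P.1 x)) := (exp_log hne).symm
    rw [h2, exp_lt_exp] at h
    show 0 ≤ -log (P.1 x)
    omega
  have hxt : Transcendental k x := transcendental_of_v_ne_one P.1 (fun _ hc => v_const P hc) hx0 (by rw [hxv, ← exp_zero]; exact fun e => absurd (exp_injective e) one_ne_zero)
  have hpole : pole (k := k) x = D := Finsupp.ext fun Q => by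
    rw [pole_apply hK]
    have hQ := (mem_L_iff hx0).1 hxD Q
    rcases eq_or_ne Q P with rfl | hne
    · rw [hDdef, Finsupp.single_eq_same] at hQ ⊢
      rw [show Q.ord x = -1 by rw [Place.ord, hxv, log_exp]]
      rfl
    · rw [hDdef, Finsupp.single_apply, if_neg hne.symm] at hQ ⊢
      omega
  have hdeg2 : finrank (IntermediateField.adjoin k ({x} : Set K)) K = 2 := by
    have h1 := deg_pole hK hxt
    rw [hpole, hDd] at h1
    exact_mod_cast h1.symm
  have hy : y ∉ IntermediateField.adjoin k ({x} : Set K) := by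
    intro hy
    obtain ⟨a, b, hab⟩ := (IntermediateField.mem_adjoin_simple_iff k y).1 hy
    have hy0 : y ≠ 0 := fun e => hyk (e ▸ zero_mem _)
    have ha : a ≠ 0 := fun e => hy0 (by rw [hab, e, map_zero, zero_div])
    have hb : b ≠ 0 := fun e => hy0 (by rw [hab, e, map_zero, div_zero])
    have hyv : P.1 y = exp ((a.natDegree : ℤ) - b.natDegree) := by
      rw [hab, map_div₀, v_aeval_of_pole hxv ha, v_aeval_of_pole hxv hb, ← exp_sub]
    have h1 := hyD P
    rw [hDdef, Finsupp.single_eq_same, hyv, exp_le_exp] at h1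
    rcases le_or_gt a.natDegree b.natDegree with hle | hlt
    · obtain ⟨e, he⟩ := hconst y hyD (by rw [hyv, ← exp_zero, exp_le_exp]; omega)
      exact hyk (he ▸ by simpa using hspan e 0)
    have hdeg : a.natDegree = b.natDegree + 1 := by omega
    set c := a.leadingCoeff / b.leadingCoeff with hc
    have hbd : (C c * X * b).coeff a.natDegree = a.leadingCoeff := by
      rw [mul_assoc, coeff_C_mul, hdeg, coeff_X_mul, hc]
      exact div_mul_cancel₀ _ (leadingCoeff_ne_zero.2 hb)
    have hw : P.1 (y - algebraMap k K c * x) ≤ 1 := by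
      have he : y - algebraMap k K c * x = aeval x (a - C c * X * b) / aeval x b := by
        have : aeval x b ≠ 0 := fun e => hxt ⟨b, hb, e⟩
        rw [hab]
        simp only [map_sub, map_mul, aeval_C, aeval_X]
        field_simp
      rw [he]
      rcases eq_or_ne (a - C c * X * b) 0 with h0 | h0
      · rw [h0, map_zero, zero_div, map_zero]
        exact zero_le
      rw [map_div₀, v_aeval_of_pole hxv h0, v_aeval_of_pole hxv hb, ← exp_sub, ← exp_zero, exp_le_exp]
      have hle : (a - C c * X * b).natDegree ≤ b.natDegree := by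
        refine natDegree_le_iff_coeff_eq_zero.2 fun N hN => ?_
        rcases Nat.eq_or_lt_of_le (Nat.succ_le_of_lt hN) with h | h
        · rw [← h, Nat.succ_eq_add_one, ← hdeg, coeff_sub, hbd]
          exact sub_self _
        · rw [coeff_sub, coeff_eq_zero_of_natDegree_lt (by omega), mul_assoc, coeff_C_mul,
            coeff_eq_zero_of_natDegree_lt (p := X * b) (by rw [natDegree_X_mul hb]; omega), mul_zero, sub_zero]
      omega
    obtain ⟨e, he⟩ := hconst _ (sub_mem hyD (by rw [← Algebra.smul_def]; exact Submodule.smul_mem _ _ hxD)) hw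
    exact hyk (by rw [show y = algebraMap k K e + algebraMap k K c * x by rw [he]; ring]; exact hspan e c)
  have htop : ∀ z : K, x ∈ IntermediateField.adjoin k ({z} : Set K) → y ∈ IntermediateField.adjoin k ({z} : Set K) →
      IntermediateField.adjoin k ({z} : Set K) = ⊤ := by
    intro z hxz hyz
    haveI := finite_adjoin hK hxt
    have hle : IntermediateField.adjoin k ({x} : Set K) ≤ IntermediateField.adjoin k ({z} : Set K) :=
      IntermediateField.adjoin_simple_le_iff.2 hxz
    set F := IntermediateField.extendScalars hle with hF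
    have hFy : y ∈ F := (IntermediateField.mem_extendScalars hle).2 hyz
    have hFtop : F = ⊤ := by
      rcases (Nat.dvd_prime Nat.prime_two).1 (hdeg2 ▸ Dvd.intro _ (finrank_mul_finrank
          (IntermediateField.adjoin k ({x} : Set K)) F K)) with h | h
      · rw [IntermediateField.finrank_eq_one_iff] at h
        rw [h, IntermediateField.mem_bot] at hFy
        obtain ⟨w, hw⟩ := hFy
        exact absurd (hw ▸ w.2) hy
      · exact IntermediateField.eq_of_le_of_finrank_eq le_top (by rw [IntermediateField.finrank_top', hdeg2, h])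
    rw [eq_top_iff]
    intro w _
    refine (IntermediateField.mem_extendScalars hle).1 ?_
    rw [← hF, hFtop]
    exact IntermediateField.mem_top
  -- the quadratic relation
  let m : Fin 6 → K := ![1, x, y, x * x, x * y, y * y]
  have hmem : ∀ a b : K, a ∈ L D → b ∈ L D → a * b ∈ L (D + D) := fun a b ha hb Q => by
    rw [map_mul, Finsupp.add_apply, exp_add]
    exact mul_le_mul' (ha Q) (hb Q)
  have hm : ∀ i, m i ∈ L (D + D) := by
    intro i
    fin_cases i
    · simpa [m] using hmem 1 1 hone hone
    · simpa [m] using hmem 1 x hone hxD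
    · simpa [m] using hmem 1 y hone hyD
    · simpa [m] using hmem x x hxD hxD
    · simpa [m] using hmem x y hxD hyD
    · simpa [m] using hmem y y hyD hyD
  have hnli : ¬ LinearIndependent k m := fun h => by
    haveI := finiteDimensional_L hK (D + D)
    have h1 := (LinearIndependent.of_comp (L (D + D)).subtype
      (v := fun i => (⟨m i, hm i⟩ : L (D + D))) h).fintype_card_le_finrank
    have h2 := ell_eq_of_deg_ge hK (D := D + D) (by rw [deg_add]; omega)
    rw [deg_add, hDd, hg, ell] at h2
    simp only [Fintype.card_fin] at h1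
    omega
  obtain ⟨c, hc, i₀, hi₀⟩ := Fintype.not_linearIndependent_iff.1 hnli
  let φ := algebraMap k K
  have hrel : φ (c 0) + φ (c 1) * x + φ (c 2) * y + φ (c 3) * (x * x) + φ (c 4) * (x * y) + φ (c 5) * (y * y) = 0 := by
    rw [← hc]
    simp [Fin.sum_univ_six, m, Algebra.smul_def, φ]
  let q : MvPolynomial (Fin 3) k :=
    MvPolynomial.C (c 0) * (MvPolynomial.X 0 * MvPolynomial.X 0) + MvPolynomial.C (c 1) * (MvPolynomial.X 0 * MvPolynomial.X 1) +
    MvPolynomial.C (c 2) * (MvPolynomial.X 0 * MvPolynomial.X 2) + MvPolynomial.C (c 3) * (MvPolynomial.X 1 * MvPolynomial.X 1) +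
    MvPolynomial.C (c 4) * (MvPolynomial.X 1 * MvPolynomial.X 2) + MvPolynomial.C (c 5) * (MvPolynomial.X 2 * MvPolynomial.X 2)
  have hqh : q.IsHomogeneous 2 := by
    have h : ∀ (a : k) (i j : Fin 3),
        (MvPolynomial.C a * (MvPolynomial.X i * MvPolynomial.X j)).IsHomogeneous 2 := fun a i j =>
      ((MvPolynomial.isHomogeneous_X k i).mul (MvPolynomial.isHomogeneous_X k j)).C_mul a
    exact ((((((h _ _ _).add (h _ _ _)).add (h _ _ _)).add (h _ _ _)).add (h _ _ _)).add (h _ _ _))
  obtain ⟨v, hv, hqv'⟩ := hC1 1 3 (fun _ => q) (fun _ => 2) (fun _ => hqh) (fun _ => two_pos) (by simp)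
  have hqv : c 0 * (v 0 * v 0) + c 1 * (v 0 * v 1) + c 2 * (v 0 * v 2) + c 3 * (v 1 * v 1) + c 4 * (v 1 * v 2) +
      c 5 * (v 2 * v 2) = 0 := by simpa [q] using hqv' 0
  have hqK := congrArg φ hqv
  simp only [map_add, map_mul, map_zero] at hqK
  -- projection from the zero
  have key : ∀ (z : K), z ∉ Set.range φ → ∀ (s : K) (a₀ a₁ b₀ b₁ b₂ : k),
      s * (φ a₀ + φ a₁ * z) + (φ b₀ + φ b₁ * z + φ b₂ * (z * z)) = 0 →
      (a₀ = 0 ∧ a₁ = 0 ∧ b₀ = 0 ∧ b₁ = 0 ∧ b₂ = 0) ∨ s ∈ IntermediateField.adjoin k ({z} : Set K) := by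
    intro z hz s a₀ a₁ b₀ b₁ b₂ h
    have hzt := transcendental_of_notMem hK hz
    have hzero : ∀ e₀ e₁ e₂ : k, φ e₀ + φ e₁ * z + φ e₂ * (z * z) = 0 → e₀ = 0 ∧ e₁ = 0 ∧ e₂ = 0 := by
      intro e₀ e₁ e₂ he
      by_contra hne
      refine hzt ⟨Polynomial.C e₀ + Polynomial.C e₁ * Polynomial.X + Polynomial.C e₂ * (Polynomial.X * Polynomial.X),
        fun h0 => hne ⟨?_, ?_, ?_⟩, by simpa [φ] using he⟩
      · simpa using congrArg (fun p : k[X] => p.coeff 0) h0
      · simpa [Polynomial.coeff_X_mul, mul_assoc] using congrArg (fun p : k[X] => p.coeff 1) h0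
      · simpa [Polynomial.coeff_X_mul, mul_assoc, coeff_X, coeff_C] using congrArg (fun p : k[X] => p.coeff 2) h0
    by_cases ha : φ a₀ + φ a₁ * z = 0
    · left
      obtain ⟨r₀, r₁, -⟩ := hzero a₀ a₁ 0 (by simpa using ha)
      obtain ⟨r₂, r₃, r₄⟩ := hzero b₀ b₁ b₂ (by simpa [ha] using h)
      exact ⟨r₀, r₁, r₂, r₃, r₄⟩
    · right
      have hmz := IntermediateField.mem_adjoin_simple_self k z
      have hm' : ∀ e : k, φ e ∈ IntermediateField.adjoin k ({z} : Set K) := fun e => IntermediateField.algebraMap_mem _ e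
      have hs : s = -(φ b₀ + φ b₁ * z + φ b₂ * (z * z)) / (φ a₀ + φ a₁ * z) := by
        rw [eq_div_iff ha]; linear_combination h
      rw [hs]
      exact div_mem (neg_mem (add_mem (add_mem (hm' _) (mul_mem (hm' _) hmz)) (mul_mem (hm' _) (mul_mem hmz hmz))))
        (add_mem (hm' _) (mul_mem (hm' _) hmz))
  have hm' : ∀ (z : K) (e : k), φ e ∈ IntermediateField.adjoin k ({z} : Set K) := fun z e =>
    IntermediateField.algebraMap_mem _ e
  by_cases h0 : v 0 = 0
  · by_cases h1 : v 1 = 0
    · have h2 : v 2 ≠ 0 := fun h2 => hv (funext fun i => by fin_cases i <;> assumption)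
      rcases key x hxr (y / φ (v 2)) (c 2 * v 2) (c 4 * v 2) (c 0) (c 1) (c 3) (by
          have h2' : φ (v 2) ≠ 0 := (map_ne_zero φ).2 h2
          have hc5 : φ (c 5) = 0 := by
            rw [h0, h1] at hqv
            simp [h2] at hqv
            rw [hqv, map_zero]
          rw [hc5] at hrel
          rw [map_mul, map_mul]
          field_simp
          linear_combination hrel) with ⟨e2, e4, e0, e1, e3⟩ | hs
      · have e2' : c 2 = 0 := by simpa [h2] using e2
        have e4' : c 4 = 0 := by simpa [h2] using e4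
        have e5 : c 5 = 0 := by rw [h0, h1] at hqv; simpa [h2] using hqv
        exact absurd (by fin_cases i₀ <;> assumption) hi₀
      · refine absurd ?_ hy
        have := mul_mem hs (hm' x (v 2))
        rwa [div_mul_cancel₀ _ ((map_ne_zero φ).2 h2)] at this
    · let u : K := y - φ (v 2 / v 1) * x
      have hu : u ∉ Set.range φ := by
        rintro ⟨e, he⟩
        exact hyk (by rw [show y = φ e + φ (v 2 / v 1) * x by rw [he]; ring]; exact hspan _ _)
      have h1' : φ (v 1) ≠ 0 := (map_ne_zero φ).2 h1
      rcases key u hu (x / φ (v 1)) (c 1 * v 1 + c 2 * v 2) (c 4 * v 1 + 2 * (c 5 * v 2)) (c 0) (c 2) (c 5) (by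
          rw [h0] at hqK
          simp only [map_zero, zero_mul, mul_zero, zero_add] at hqK
          simp only [u, map_add, map_mul, map_div₀, map_ofNat]
          field_simp
          linear_combination φ (v 1) * φ (v 1) * hrel - x * x * hqK) with ⟨e1, e4, e0, e2, e5⟩ | hs
      · have e1' : c 1 = 0 := by simpa [e2, h1] using e1
        have e4' : c 4 = 0 := by simpa [e5, h1] using e4
        have e3 : c 3 = 0 := by simpa [h0, e4', e5, h1] using hqv
        exact absurd (by fin_cases i₀ <;> assumption) hi₀
      · have hx' : x ∈ IntermediateField.adjoin k ({u} : Set K) := by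
          have := mul_mem hs (hm' u (v 1))
          rwa [div_mul_cancel₀ _ h1'] at this
        refine ⟨u, htop u hx' ?_⟩
        have := add_mem (IntermediateField.mem_adjoin_simple_self k u) (mul_mem (hm' u (v 2 / v 1)) hx')
        simpa [u] using this
  · let t : K := x - φ (v 1 / v 0)
    let u : K := y - φ (v 2 / v 0)
    have ht : t ≠ 0 := fun e => hxr ⟨v 1 / v 0, (sub_eq_zero.1 e).symm⟩
    have hz : u / t ∉ Set.range φ := by
      rintro ⟨e, he⟩
      rw [eq_div_iff ht] at he
      refine hyk ?_
      rw [show y = φ (v 2 / v 0 - e * (v 1 / v 0)) + φ e * x by rw [map_sub, map_mul]; linear_combination -he]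
      exact hspan _ _
    have h0' : φ (v 0) ≠ 0 := (map_ne_zero φ).2 h0
    rcases key (u / t) hz (1 / (φ (v 0) * t)) (c 1 * v 0 + 2 * (c 3 * v 1) + c 4 * v 2)
        (c 2 * v 0 + c 4 * v 1 + 2 * (c 5 * v 2)) (c 3) (c 4) (c 5) (by
        have hxt' : x = t + φ (v 1) / φ (v 0) := by simp [t]
        have hyu' : y = u + φ (v 2) / φ (v 0) := by simp [u]
        rw [hxt', hyu'] at hrel
        simp only [map_add, map_mul, map_ofNat]
        clear_value t u
        field_simp
        field_simp at hrel
        apply mul_left_cancel₀ h0'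
        linear_combination hrel - hqK) with ⟨e1, e2, e3, e4, e5⟩ | hs
    · have e1' : c 1 = 0 := by simpa [e3, e4, h0] using e1
      have e2' : c 2 = 0 := by simpa [e4, e5, h0] using e2
      have e0 : c 0 = 0 := by simpa [e1', e2', e3, e4, e5, h0] using hqv
      exact absurd (by fin_cases i₀ <;> assumption) hi₀
    · have ht' : t ∈ IntermediateField.adjoin k ({u / t} : Set K) := by
        have := inv_mem (mul_mem hs (hm' (u / t) (v 0)))
        rwa [show (1 / (φ (v 0) * t) * φ (v 0))⁻¹ = t by field_simp] at this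
      refine ⟨u / t, htop _ ?_ ?_⟩
      · have := add_mem ht' (hm' (u / t) (v 1 / v 0))
        simpa [t] using this
      · have := add_mem (mul_mem (IntermediateField.mem_adjoin_simple_self k (u / t)) ht') (hm' (u / t) (v 2 / v 0))
        rwa [div_mul_cancel₀ _ ht, show u + φ (v 2 / v 0) = y by simp [u]] at this

end Groth.Agent.FFLib
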