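import Groth.Agent.FFLib.ExtGalois
import Mathlib.RingTheory.IntegralDomain
import Mathlib.Algebra.CharP.Basic

/-!
# Higher ramification groups and the inertia field
-/

set_option linter.unusedSectionVars false

open WithZero Module

namespace Groth.Agent.FFLib

open FunFld

variable {k K K' : Type*} [Field k] [Field K] [Field K'] [Algebra k K] [Algebra K K'] [Algebra k K']
  [IsScalarTower k K K'] [FiniteDimensional K K']

/-- `σ` is in the `i`-th ramification group at `Q`. -/
def InG (Q : Place k K') (i : ℕ) (σ : K' ≃ₐ[K] K') : Prop :=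
  ∀ x : K', Q.1 x ≤ 1 → Q.1 (σ x - x) ≤ exp (-(i : ℤ))

omit [FiniteDimensional K K'] [IsScalarTower k K K'] in
lemma InG.mono {Q : Place k K'} {i j : ℕ} (h : i ≤ j) {σ : K' ≃ₐ[K] K'} (hσ : InG Q j σ) : InG Q i σ :=
  fun x hx => (hσ x hx).trans (by rw [exp_le_exp]; omega)

omit [FiniteDimensional K K'] [IsScalarTower k K K'] in
lemma exp_neg_le_one (i : ℕ) : (exp (-(i : ℤ)) : WithZero (Multiplicative ℤ)) ≤ 1 := by
  rw [← exp_zero, exp_le_exp]; omega

omit [FiniteDimensional K K'] [IsScalarTower k K K'] in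
lemma InG.v_le {Q : Place k K'} {i : ℕ} {σ : K' ≃ₐ[K] K'} (hσ : InG Q i σ) {x : K'} (hx : Q.1 x ≤ 1) :
    Q.1 (σ x) ≤ 1 := by
  rw [show σ x = (σ x - x) + x by ring]
  exact (Q.1.map_add _ _).trans (max_le ((hσ x hx).trans (exp_neg_le_one i)) hx)

omit [FiniteDimensional K K'] in
lemma InG.placeMap_eq {Q : Place k K'} {i : ℕ} {σ : K' ≃ₐ[K] K'} (hσ : InG Q i σ) : placeMap σ Q = Q :=
  (place_ext_of_le Q (placeMap σ Q) fun _ hy => hσ.v_le hy).symm

omit [FiniteDimensional K K'] in
lemma InG.v_eq {Q : Place k K'} {i : ℕ} {σ : K' ≃ₐ[K] K'} (hσ : InG Q i σ) (x : K') :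
    Q.1 (σ x) = Q.1 x := by
  conv_rhs => rw [← hσ.placeMap_eq]
  rfl

omit [FiniteDimensional K K'] [IsScalarTower k K K'] in
lemma inG_one (Q : Place k K') (i : ℕ) : InG Q i (1 : K' ≃ₐ[K] K') := fun x _ => by
  simp [AlgEquiv.one_apply]

omit [FiniteDimensional K K'] in
lemma InG.mul {Q : Place k K'} {i : ℕ} {σ τ : K' ≃ₐ[K] K'} (hσ : InG Q i σ) (hτ : InG Q i τ) :
    InG Q i (σ * τ) := fun x hx => by
  rw [AlgEquiv.mul_apply, show σ (τ x) - x = (σ (τ x) - τ x) + (τ x - x) by ring]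
  exact (Q.1.map_add _ _).trans (max_le (hσ _ (hτ.v_le hx)) (hτ x hx))

omit [FiniteDimensional K K'] in
lemma InG.inv {Q : Place k K'} {i : ℕ} {σ : K' ≃ₐ[K] K'} (hσ : InG Q i σ) : InG Q i σ⁻¹ := fun x hx => by
  have h1 : σ (σ⁻¹ x) = x := by rw [← AlgEquiv.mul_apply, mul_inv_cancel, AlgEquiv.one_apply]
  have h2 : Q.1 (σ⁻¹ x) ≤ 1 := by rw [← hσ.v_eq, h1]; exact hx
  have := hσ _ h2
  rwa [h1, Valuation.map_sub_swap] at this

omit [FiniteDimensional K K'] in
/-- The ramification group as a subgroup. -/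
def ramGroup (Q : Place k K') (i : ℕ) : Subgroup (K' ≃ₐ[K] K') where
  carrier := {σ | InG Q i σ}
  mul_mem' := InG.mul
  one_mem' := inG_one Q i
  inv_mem' := InG.inv

omit [FiniteDimensional K K'] in
@[simp] lemma mem_ramGroup {Q : Place k K'} {i : ℕ} {σ : K' ≃ₐ[K] K'} :
    σ ∈ ramGroup Q i ↔ InG Q i σ := Iff.rfl

omit [FiniteDimensional K K'] in
lemma inertia_map_eq (Q : Place k K') :
    (Q.O.inertiaSubgroup K).map (Q.O.decompositionSubgroup K).subtype = ramGroup Q 1 := by
  ext σ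
  simp only [Subgroup.mem_map, Subgroup.coe_subtype, mem_ramGroup, ValuationSubring.inertiaSubgroup,
    MonoidHom.mem_ker]
  have key : ∀ (τ : Q.O.decompositionSubgroup K) (x : Q.O),
      Q.1 ((τ : K' ≃ₐ[K] K') x - x) ≤ exp (-1) ↔
        τ • IsLocalRing.residue Q.O x = IsLocalRing.residue Q.O x := fun τ x => by
    rw [← IsLocalRing.ResidueField.residue_smul, ← sub_eq_zero, ← map_sub, residue_eq_zero_iff_lt]
    show _ ↔ Q.1 ((τ : K' ≃ₐ[K] K') x - x) < 1
    constructor
    · exact fun h => h.trans_lt (by rw [← exp_zero, exp_lt_exp]; norm_num)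
    · intro h
      rcases eq_or_ne ((τ : K' ≃ₐ[K] K') x - x) 0 with h0 | h0
      · rw [h0, map_zero]; exact zero_le
      rw [v_le_exp_iff Q h0]
      have := (v_lt_one_iff Q h0).1 h
      omega
  constructor
  · rintro ⟨τ, hτ, rfl⟩ x hx
    refine (key τ ⟨x, hx⟩).2 ?_
    exact DFunLike.congr_fun hτ (IsLocalRing.residue Q.O ⟨x, hx⟩)
  · intro h
    refine ⟨⟨σ, (mem_decomposition_iff σ Q).2 h.placeMap_eq⟩, ?_, rfl⟩
    refine RingEquiv.ext fun a => ?_
    obtain ⟨x, rfl⟩ := IsLocalRing.residue_surjective a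
    exact (key _ x).1 (h x x.2)

variable (hK : FG1 k K) [IsGalois K K']
include hK

lemma card_ramGroup_one (Q : Place k K') [Algebra.IsSeparable k (IsLocalRing.ResidueField Q.O)] :
    Nat.card (ramGroup (K := K) Q 1) = underIdx hK Q := by
  rw [← card_inertia hK (Q := Q), ← inertia_map_eq,
    Subgroup.card_map_of_injective (Subgroup.subtype_injective _)]

omit hK in
/-- Every residue class contains an element fixed by the inertia group. -/
lemma exists_fixed_lift (Q : Place k K') [Algebra.IsSeparable k (IsLocalRing.ResidueField Q.O)]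
    {u : K'} (hu : Q.1 u ≤ 1) :
    ∃ w : K', (∀ σ : K' ≃ₐ[K] K', InG Q 1 σ → σ w = w) ∧ Q.1 w ≤ 1 ∧ Q.1 (u - w) < 1 := by
  classical
  set F := IsLocalRing.ResidueField Q.O
  set res := IsLocalRing.residue Q.O
  let S : Subalgebra k Q.O :=
    { carrier := {x | ∀ σ : K' ≃ₐ[K] K', InG Q 1 σ → σ (x : K') = x}
      mul_mem' := fun {a b} ha hb σ hσ => by
        show σ ((a : K') * b) = _
        rw [map_mul, ha σ hσ, hb σ hσ]; rfl
      add_mem' := fun {a b} ha hb σ hσ => by
        show σ ((a : K') + b) = _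
        rw [map_add, ha σ hσ, hb σ hσ]; rfl
      algebraMap_mem' := fun c σ _ => by
        show σ (algebraMap k K' c) = _
        rw [IsScalarTower.algebraMap_apply k K K', AlgEquiv.commutes, ← IsScalarTower.algebraMap_apply]
        rfl }
  let resAlg : Q.O →ₐ[k] F := { res with commutes' := fun _ => rfl }
  let L : IntermediateField k F := (S.map resAlg).toIntermediateField (by
    rintro _ ⟨x, hx, rfl⟩
    rcases eq_or_ne (res x) 0 with h0 | h0
    · show (res x)⁻¹ ∈ _
      rw [h0, inv_zero]; exact zero_mem _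
    have hv : Q.1 (x : K') = 1 := le_antisymm x.2 (not_lt.1 fun h => h0 ((residue_eq_zero_iff_lt Q x).2 h))
    refine ⟨⟨(x : K')⁻¹, by show Q.1 _ ≤ 1; rw [map_inv₀, hv, inv_one]⟩, fun σ hσ => ?_, ?_⟩
    · show σ (x : K')⁻¹ = _
      rw [map_inv₀, hx σ hσ]
    · refine eq_inv_of_mul_eq_one_left ?_
      show res _ * res x = 1
      rw [← map_mul, ← map_one res]
      refine congrArg res (Subtype.ext ?_)
      show (x : K')⁻¹ * x = 1
      exact inv_mul_cancel₀ (fun e => by rw [e, map_zero] at hv; exact zero_ne_one hv))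
  suffices h : res ⟨u, hu⟩ ∈ L by
    obtain ⟨w, hw, hwu⟩ := h
    refine ⟨w, hw, w.2, ?_⟩
    have : res (⟨u, hu⟩ - w) = 0 := by rw [map_sub, sub_eq_zero]; exact hwu.symm
    exact (residue_eq_zero_iff_lt Q _).1 this
  set I := ramGroup (K := K) Q 1 with hI
  let z : I → Q.O := fun σ => ⟨(σ : K' ≃ₐ[K] K') u, (σ.2).v_le hu⟩
  set p : Polynomial Q.O := ∏ σ : I, (Polynomial.X - Polynomial.C (z σ)) with hp
  have hfix : ∀ n, p.coeff n ∈ S := by
    intro n τ hτ
    have hinv : (p.map Q.O.subtype).map (τ : K' →+* K') = p.map Q.O.subtype := by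
      rw [hp, Polynomial.map_prod, Polynomial.map_prod]
      refine Fintype.prod_equiv (Equiv.mulLeft ⟨τ, hτ⟩) _ _ fun σ => ?_
      simp only [Polynomial.map_sub, Polynomial.map_X, Polynomial.map_C]
      rfl
    have := congrArg (fun q => Polynomial.coeff q n) hinv
    simpa [Polynomial.coeff_map] using this
  obtain ⟨q, hq⟩ : ∃ q : Polynomial L, q.map (algebraMap L F) = p.map res := by
    refine (Polynomial.mem_lifts _).1 ((Polynomial.lifts_iff_coeff_lifts _).2 fun n => ?_)
    refine ⟨⟨res (p.coeff n), p.coeff n, hfix n, rfl⟩, ?_⟩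
    rw [Polynomial.coeff_map]; rfl
  set α := res ⟨u, hu⟩ with hα
  have hpm : p.map res = (Polynomial.X - Polynomial.C α) ^ Fintype.card I := by
    rw [hp, Polynomial.map_prod]
    refine Finset.prod_eq_pow_card fun σ _ => ?_
    rw [Polynomial.map_sub, Polynomial.map_X, Polynomial.map_C]
    congr 2
    rw [hα, ← sub_eq_zero, ← map_sub, residue_eq_zero_iff_lt]
    exact (σ.2 u hu).trans_lt (by rw [← exp_zero, exp_lt_exp]; norm_num)
  have hq0 : Polynomial.aeval α q = 0 := by
    rw [← Polynomial.eval_map_algebraMap, hq, hpm]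
    simp [zero_pow Fintype.card_ne_zero]
  have hsep : IsSeparable L α := IsSeparable.tower_top L (Algebra.IsSeparable.isSeparable k α)
  obtain ⟨l, -, hl⟩ := (dvd_prime_pow (Polynomial.prime_X_sub_C α) _).1
    (hpm ▸ hq ▸ Polynomial.map_dvd (algebraMap L F) (minpoly.dvd L α hq0))
  have hsq : Squarefree ((Polynomial.X - Polynomial.C α) ^ l) :=
    Squarefree.squarefree_of_dvd hl.symm.dvd (Polynomial.Separable.squarefree (Polynomial.Separable.map hsep))
  have hl1 : l ≤ 1 := by
    by_contra hgt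
    have : (Polynomial.X - Polynomial.C α) * (Polynomial.X - Polynomial.C α) ∣
        (Polynomial.X - Polynomial.C α) ^ l := by
      rw [← pow_two]; exact pow_dvd_pow _ (by omega)
    exact (Polynomial.prime_X_sub_C α).not_isUnit (hsq _ this)
  have hdeg : (minpoly L α).natDegree ≤ 1 := by
    rw [← Polynomial.natDegree_map (algebraMap L F),
      Polynomial.natDegree_eq_of_degree_eq (Polynomial.degree_eq_degree_of_associated hl),
      Polynomial.natDegree_pow, Polynomial.natDegree_X_sub_C]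
    omega
  obtain ⟨w, hw⟩ := minpoly.natDegree_eq_one_iff.1
    (le_antisymm hdeg (minpoly.natDegree_pos hsep.isIntegral))
  rw [← hw]; exact w.2

omit hK in
/-- Membership in a ramification group is decided by a uniformizer. -/
lemma inG_iff (Q : Place k K') [Algebra.IsSeparable k (IsLocalRing.ResidueField Q.O)]
    {σ : K' ≃ₐ[K] K'} (hσ : InG Q 1 σ) {t : K'} (ht : Q.1 t = exp (-1)) {j : ℕ} (hj : 1 ≤ j) :
    InG Q j σ ↔ Q.1 (σ t - t) ≤ exp (-(j : ℤ)) := by
  refine ⟨fun h => h t (by rw [ht, ← exp_zero, exp_le_exp]; norm_num), fun h => ?_⟩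
  induction j, hj using Nat.le_induction with
  | base => exact hσ
  | succ j hj ih =>
    have hj' := ih (h.trans (by rw [exp_le_exp]; omega))
    intro x hx
    obtain ⟨w, hw, hw1, hxw⟩ := exists_fixed_lift (K := K) Q hx
    have ht0 : t ≠ 0 := by rintro rfl; rw [map_zero] at ht; exact exp_ne_zero ht.symm
    set x' := (x - w) / t with hx'
    have hx'1 : Q.1 x' ≤ 1 := by
      rw [hx', map_div₀, ht, div_le_one₀ exp_pos]
      rcases eq_or_ne (x - w) 0 with h0 | h0
      · rw [h0, map_zero]; exact zero_le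
      rw [v_le_exp_iff Q h0]; have := (v_lt_one_iff Q h0).1 hxw; omega
    have hdec : σ x - x = (σ t - t) * σ x' + t * (σ x' - x') := by
      have hxe : x = w + t * x' := by rw [hx', mul_div_cancel₀ _ ht0]; ring
      rw [hxe, map_add, map_mul, hw σ hσ]; ring
    rw [hdec]
    refine (Q.1.map_add _ _).trans (max_le ?_ ?_)
    · rw [map_mul]; exact mul_le_of_le_of_le_one h (hσ.v_le hx'1)
    · rw [map_mul, ht]
      refine (mul_le_mul' le_rfl (hj' x' hx'1)).trans ?_
      rw [← exp_add, exp_le_exp]; push_cast; omega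

omit hK [IsGalois K K'] [FiniteDimensional K K'] in
/-- The second ramification group moves `m_Q^m` into `m_Q^(m+1)`. -/
lemma inG_two_shift {Q : Place k K'} {σ : K' ≃ₐ[K] K'} (hσ : InG Q 2 σ) {t : K'} (ht : Q.1 t = exp (-1)) :
    ∀ (m : ℕ) (b : K'), Q.1 b ≤ exp (-(m : ℤ)) → Q.1 (σ b - b) ≤ exp (-((m : ℤ) + 1)) := by
  have ht0 : t ≠ 0 := by rintro rfl; rw [map_zero] at ht; exact exp_ne_zero ht.symm
  intro m
  induction m with
  | zero => intro b hb; exact (hσ.mono (by norm_num : 1 ≤ 2)) b (by simpa using hb)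
  | succ m ih =>
    intro b hb
    set b' := b / t with hb'
    have hb'1 : Q.1 b' ≤ exp (-(m : ℤ)) := by
      rw [hb', map_div₀, ht, div_le_iff₀ exp_pos, ← exp_add]
      exact hb.trans (by rw [exp_le_exp]; push_cast; omega)
    have hdec : σ b - b = (σ t - t) * σ b' + t * (σ b' - b') := by
      have hbe : b = t * b' := by rw [hb', mul_div_cancel₀ _ ht0]
      rw [hbe, map_mul]; ring
    rw [hdec]
    refine (Q.1.map_add _ _).trans (max_le ?_ ?_)
    · rw [map_mul, hσ.v_eq]
      refine (mul_le_mul' (hσ t (by rw [ht, ← exp_zero, exp_le_exp]; norm_num)) hb'1).trans ?_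
      rw [← exp_add, exp_le_exp]; push_cast; omega
    · rw [map_mul, ht]
      refine (mul_le_mul' le_rfl (ih b' hb'1)).trans ?_
      rw [← exp_add, exp_le_exp]; push_cast; omega

omit hK [IsGalois K K'] [FiniteDimensional K K'] in
/-- `σ ↦ σ t - t` is additive on the `i`-th group modulo `m_Q^(i+1)`. -/
lemma shift_mul {Q : Place k K'} {i : ℕ} (hi : 2 ≤ i) {σ τ : K' ≃ₐ[K] K'} (hσ : InG Q i σ)
    (hτ : InG Q i τ) {t : K'} (ht : Q.1 t = exp (-1)) :
    Q.1 (((σ * τ) t - t) - ((σ t - t) + (τ t - t))) ≤ exp (-((i : ℤ) + 1)) := by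
  rw [show ((σ * τ) t - t) - ((σ t - t) + (τ t - t)) = σ (τ t - t) - (τ t - t) by
    rw [AlgEquiv.mul_apply, map_sub]; ring]
  exact inG_two_shift (hσ.mono hi) ht i _ (hτ t (by rw [ht, ← exp_zero, exp_le_exp]; norm_num))

omit hK [IsGalois K K'] [FiniteDimensional K K'] in
lemma shift_pow {Q : Place k K'} {i : ℕ} (hi : 2 ≤ i) {σ : K' ≃ₐ[K] K'} (hσ : InG Q i σ)
    {t : K'} (ht : Q.1 t = exp (-1)) (n : ℕ) :
    Q.1 (((σ ^ n) t - t) - (n : K') * (σ t - t)) ≤ exp (-((i : ℤ) + 1)) := by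
  induction n with
  | zero => simp [AlgEquiv.one_apply]
  | succ n ih =>
    have hn : InG Q i (σ ^ n) := by
      have := pow_mem (show σ ∈ ramGroup Q i from hσ) n
      exact this
    have h := shift_mul hi hn hσ ht
    rw [← pow_succ] at h
    rw [show ((σ ^ (n + 1)) t - t) - ((n + 1 : ℕ) : K') * (σ t - t) =
      (((σ ^ (n + 1)) t - t) - (((σ ^ n) t - t) + (σ t - t))) +
        (((σ ^ n) t - t) - (n : K') * (σ t - t)) by push_cast; ring]
    exact (Q.1.map_add _ _).trans (max_le h ih)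

lemma underIdx_mid {E : Type*} [Field E] [Algebra k E] [Algebra K E] [Algebra E K']
    [IsScalarTower k K E] [IsScalarTower k E K'] [IsScalarTower K E K'] [FiniteDimensional K E]
    [FiniteDimensional E K'] [IsGalois E K']
    (Q : Place k K') [Algebra.IsSeparable k (IsLocalRing.ResidueField Q.O)] :
    underIdx (K := E) (fg1_ext hK) Q =
      Nat.card {σ : K' ≃ₐ[K] K' // InG Q 1 σ ∧ ∀ x : E, σ (algebraMap E K' x) = algebraMap E K' x} := by
  rw [← card_ramGroup_one (K := E) (fg1_ext hK) Q]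
  refine Nat.card_congr (Equiv.ofBijective
    (fun τ => ⟨(τ.1).restrictScalars K, fun x hx => τ.2 x hx, fun x => τ.1.commutes x⟩) ⟨?_, ?_⟩)
  · intro τ τ' h
    exact Subtype.ext (AlgEquiv.ext fun x => DFunLike.congr_fun (congrArg Subtype.val h) x)
  · rintro ⟨σ, h1, h2⟩
    exact ⟨⟨AlgEquiv.ofRingEquiv (f := σ.toRingEquiv) h2, fun x hx => h1 x hx⟩,
      Subtype.ext (AlgEquiv.ext fun _ => rfl)⟩

omit [IsGalois K K'] in
lemma range_comap_eq_iff {E : Type*} [Field E] [Algebra k E] [Algebra K E] [Algebra E K']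
    [IsScalarTower k K E] [IsScalarTower k E K'] [IsScalarTower K E K'] [FiniteDimensional K E]
    [FiniteDimensional E K'] (Q : Place k K') :
    Set.range (Q.1.comap (algebraMap E K')) = Set.range (Q.1.comap (algebraMap K K')) ↔
      underIdx (K := E) (fg1_ext hK) Q = underIdx hK Q := by
  set eE := underIdx (K := E) (fg1_ext hK) Q
  set e := underIdx hK Q
  have hE := isOverWith_under (K := E) (fg1_ext hK) Q
  have hP := isOverWith_under hK Q
  have hdvd : eE ∣ e := by
    obtain ⟨t, ht0, ht1, -⟩ := exists_uniformizer (underPlace hK Q)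
    have h1 := ord_algebraMap hK Q t
    rw [ht1, mul_one, IsScalarTower.algebraMap_apply K E K', ord_algebraMap (fg1_ext hK) Q] at h1
    exact Int.natCast_dvd_natCast.1 ⟨_, h1.symm⟩
  constructor
  · intro h
    refine Nat.dvd_antisymm hdvd ?_
    obtain ⟨t, ht0, ht1, -⟩ := exists_uniformizer (underPlace (K := E) (fg1_ext hK) Q)
    obtain ⟨y, hy⟩ : Q.1 (algebraMap E K' t) ∈ Set.range (Q.1.comap (algebraMap K K')) := h ▸ ⟨t, rfl⟩
    change Q.1 (algebraMap K K' y) = _ at hy
    have hy0 : y ≠ 0 := by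
      rintro rfl
      rw [map_zero, map_zero] at hy
      exact v_ne_zero Q ((map_ne_zero _).2 ht0) hy.symm
    rw [v_eq Q ((map_ne_zero _).2 hy0), v_eq Q ((map_ne_zero _).2 ht0), exp_inj, neg_inj,
      ord_algebraMap hK, ord_algebraMap (fg1_ext hK), ht1, mul_one] at hy
    exact Int.natCast_dvd_natCast.1 ⟨_, hy.symm⟩
  · intro h
    ext z
    constructor
    · rintro ⟨x, rfl⟩
      obtain ⟨y, hy⟩ := (underPlace hK Q).2.2 ((underPlace (K := E) (fg1_ext hK) Q).1 x)
      refine ⟨y, ?_⟩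
      show Q.1 (algebraMap K K' y) = Q.1 (algebraMap E K' x)
      rw [hE x, hP y, hy, show underIdx (K := E) (fg1_ext hK) Q = underIdx hK Q from h]
    · rintro ⟨y, rfl⟩
      exact ⟨algebraMap K E y, by
        show Q.1 (algebraMap E K' (algebraMap K E y)) = Q.1 (algebraMap K K' y)
        rw [← IsScalarTower.algebraMap_apply]⟩

end Groth.Agent.FFLib
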