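import Groth.Agent.FFLib.RR
import Groth.Prelude.Def_W4bk4goldsch45
import Mathlib.FieldTheory.Finite.Basic
import Mathlib.GroupTheory.QuotientGroup.Basic
import Mathlib.LinearAlgebra.FreeModule.Finite.CardQuotient

/-!
# Counting effective divisors over a finite constant field
-/

set_option linter.unusedSimpArgs false

open WithZero Module

namespace Groth.Agent.FFLib

open FunFld

variable {k K : Type*} [Field k] [Field K] [Algebra k K]

lemma degHom_apply (D : Divisor k K) : FunFld.degHom k K D = D.deg := by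
  rw [FunFld.degHom, Finsupp.liftAddHom_apply]; rfl

lemma one_lt_card [Finite k] : 1 < Nat.card k := Finite.one_lt_card

variable [Finite k] (hK : IsFunctionField k K)
include hK

/-- Places of bounded degree are finite in number. -/
lemma finite_places_deg_le (n : ℕ) : {P : Place k K | P.deg ≤ n}.Finite := by
  classical
  obtain ⟨x, hx, -⟩ := id hK.1
  have hg : ∀ d : ℕ, 1 ≤ d → x ^ (Nat.card k ^ d) - x ≠ 0 := by
    intro d hd h
    refine hx ⟨Polynomial.X ^ (Nat.card k ^ d) - Polynomial.X, ?_, by simp [h]⟩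
    exact FiniteField.X_pow_card_pow_sub_X_ne_zero k (by omega) one_lt_card
  refine ((finite_support_ord hK.1 x).union ((Set.finite_Iic n).biUnion fun d _ =>
    finite_support_ord hK.1 (x ^ (Nat.card k ^ d) - x))).subset fun P (hP : P.deg ≤ n) => ?_
  by_cases hxP : P.ord x = 0
  · refine Or.inr (Set.mem_biUnion (Set.mem_Iic.2 hP) ?_)
    have := finiteDimensional_residue hK.1 P
    have : Finite (IsLocalRing.ResidueField P.O) := Module.finite_of_finite k
    have := Fintype.ofFinite (IsLocalRing.ResidueField P.O)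
    set a : P.O := ⟨x, (v_le_one_iff P x).2 hxP.ge⟩
    have hc : Fintype.card (IsLocalRing.ResidueField P.O) = Nat.card k ^ P.deg := by
      rw [← Nat.card_eq_fintype_card, Module.natCard_eq_pow_finrank (K := k)]; rfl
    have h1 : IsLocalRing.residue P.O (a ^ (Nat.card k ^ P.deg) - a) = 0 := by
      rw [map_sub, map_pow, ← hc, FiniteField.pow_card, sub_self]
    have h2 : P.1 (x ^ (Nat.card k ^ P.deg) - x) < 1 := (residue_eq_zero_iff_lt P _).1 h1
    have h3 := (v_lt_one_iff P (hg P.deg (deg_pos hK.1 P))).1 h2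
    exact (ne_of_gt h3)
  · exact Or.inl hxP

omit [Finite k] hK in
lemma deg_ge_of_eff {D : Divisor k K} (h : 0 ≤ D) (P : Place k K) : D P * P.deg ≤ D.deg := by
  classical
  have h1 : Finsupp.single P (D P) ≤ D := fun Q => by
    rcases eq_or_ne Q P with rfl | hQ
    · rw [Finsupp.single_eq_same]
    · rw [Finsupp.single_eq_of_ne hQ]; exact h Q
  simpa [deg_single] using deg_mono h1

lemma finite_eff (n : ℤ) : {D : Divisor k K | 0 ≤ D ∧ D.deg = n}.Finite := by
  classical
  set S := (finite_places_deg_le hK n.toNat).toFinset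
  have hb : ∀ D : Divisor k K, 0 ≤ D → D.deg = n → ∀ P, D P ≠ 0 → P ∈ S ∧ 0 ≤ D P ∧ D P ≤ n := by
    intro D hD hn P hP
    have h0 : 0 ≤ D P := hD P
    have hge := deg_ge_of_eff hD P
    have hd := deg_pos hK.1 P
    have h2 : D P ≤ D P * P.deg := le_mul_of_one_le_right h0 (by omega)
    have h3 : (P.deg : ℤ) ≤ D P * P.deg := le_mul_of_one_le_left (Int.natCast_nonneg _) (by omega)
    refine ⟨(Set.Finite.mem_toFinset _).2 ?_, h0, by omega⟩
    show P.deg ≤ n.toNat
    omega
  refine Set.Finite.of_finite_image (f := fun D : Divisor k K => fun P : S => D P.1)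
    ((Set.Finite.pi (t := fun _ : S => Set.Icc (0 : ℤ) (max n 0)) fun _ => Set.finite_Icc _ _).subset ?_) ?_
  · rintro _ ⟨D, ⟨hD, hn⟩, rfl⟩ P -
    refine ⟨hD P.1, ?_⟩
    rcases eq_or_ne (D P.1) 0 with h | h
    · simp [h]
    · exact (hb D hD hn P.1 h).2.2.trans (le_max_left _ _)
  · rintro D ⟨hD, hn⟩ E ⟨hE, hn'⟩ h
    ext P
    by_cases hP : P ∈ S
    · exact congrFun h ⟨P, hP⟩
    · rcases eq_or_ne (D P) 0 with h1 | h1
      · rcases eq_or_ne (E P) 0 with h2 | h2
        · rw [h1, h2]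
        · exact absurd (hb E hE hn' P h2).1 hP
      · exact absurd (hb D hD hn P h1).1 hP

omit [Finite k] in
lemma mem_prinDivs {D : Divisor k K} :
    D ∈ prinDivs k K ↔ ∃ x : K, x ≠ 0 ∧ D = FunFld.div k x := by
  constructor
  · intro h
    induction h using AddSubgroup.closure_induction with
    | mem _ hy =>
      obtain ⟨x, rfl⟩ := hy
      rcases eq_or_ne x 0 with rfl | hx
      · exact ⟨1, one_ne_zero, Finsupp.ext fun P => by simp [div_apply hK.1, Place.ord]⟩
      · exact ⟨x, hx, rfl⟩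
    | zero => exact ⟨1, one_ne_zero, by rw [← map_one (algebraMap k K), div_const hK.1]⟩
    | add _ _ _ _ hy hz =>
      obtain ⟨a, ha, rfl⟩ := hy
      obtain ⟨b, hb, rfl⟩ := hz
      exact ⟨a * b, mul_ne_zero ha hb, (div_mul hK.1 ha hb).symm⟩
    | neg _ _ hy =>
      obtain ⟨a, ha, rfl⟩ := hy
      exact ⟨a⁻¹, inv_ne_zero ha, (div_inv hK.1 a).symm⟩
  · rintro ⟨x, -, rfl⟩
    exact AddSubgroup.subset_closure ⟨x, rfl⟩

/-- The degree zero divisor classes. -/
abbrev Cl0 (k K : Type*) [Field k] [Field K] [Algebra k K] : Type _ :=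
  (FunFld.degHom k K).ker ⧸ (prinDivs k K).addSubgroupOf (FunFld.degHom k K).ker

omit hK [Finite k] in
lemma deg_ker (D : (FunFld.degHom k K).ker) : (D : Divisor k K).deg = 0 := by
  rw [← degHom_apply]; exact D.2

omit [Finite k] in
lemma mk_eq_iff (D E : (FunFld.degHom k K).ker) :
    (QuotientAddGroup.mk D : Cl0 k K) = QuotientAddGroup.mk E ↔
      ∃ x : K, x ≠ 0 ∧ (E : Divisor k K) = D + FunFld.div k x := by
  rw [QuotientAddGroup.eq, AddSubgroup.mem_addSubgroupOf, mem_prinDivs hK]
  refine exists_congr fun x => and_congr_right fun _ => ?_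
  rw [AddSubgroup.coe_add, AddSubgroup.coe_neg, neg_add_eq_iff_eq_add]

omit hK [Finite k] in
/-- Degree zero class of `D - E` for two divisors of equal degree. -/
noncomputable def clMk (D E : Divisor k K) (h : D.deg = E.deg) : Cl0 k K :=
  QuotientAddGroup.mk ⟨D - E, by rw [AddMonoidHom.mem_ker, map_sub, degHom_apply, degHom_apply, h, sub_self]⟩

/-- A representative of a class. -/
noncomputable def clRep (c : Cl0 k K) : Divisor k K := (c.out : (FunFld.degHom k K).ker)

omit hK [Finite k] in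
lemma deg_clRep (c : Cl0 k K) : (clRep c).deg = 0 := deg_ker _

omit [Finite k] in
lemma clMk_eq_iff {D E : Divisor k K} (h : D.deg = E.deg) (c : Cl0 k K) :
    clMk D E h = c ↔ ∃ x : K, x ≠ 0 ∧ D = E + clRep c + FunFld.div k x := by
  conv_lhs => rw [← QuotientAddGroup.out_eq' c]
  rw [clMk, mk_eq_iff hK]
  constructor
  · rintro ⟨x, hx, he⟩
    refine ⟨x⁻¹, inv_ne_zero hx, ?_⟩
    rw [div_inv hK.1, clRep, he]
    show D = E + ((D - E) + FunFld.div k x) + -FunFld.div k x
    abel
  · rintro ⟨x, hx, he⟩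
    refine ⟨x⁻¹, inv_ne_zero hx, ?_⟩
    rw [div_inv hK.1]
    show clRep c = (D - E) + -FunFld.div k x
    rw [he]; abel

lemma finite_Cl0 : Finite (Cl0 k K) := by
  obtain ⟨P⟩ := exists_place hK
  have hd := deg_pos hK.1 P
  set E : Divisor k K := Finsupp.single P (genus k K : ℤ) with hE
  have hEd : (genus k K : ℤ) ≤ E.deg := by
    rw [hE, deg_single]; exact le_mul_of_one_le_right (Int.natCast_nonneg _) (by omega)
  have := (finite_eff hK E.deg).to_subtype
  refine Finite.of_surjective (α := {D : Divisor k K | 0 ≤ D ∧ D.deg = E.deg})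
    (fun D => clMk D.1 E D.2.2) fun c => ?_
  have hr := riemann_ge hK (E + clRep c)
  rw [deg_add, deg_clRep] at hr
  obtain ⟨x, hx, hxD⟩ := exists_effective_of_ell_pos hK.1 (D := E + clRep c) (by omega)
  refine ⟨⟨_, hxD, ?_⟩, ?_⟩
  · rw [deg_add, deg_add, deg_clRep, deg_div hK.1, add_zero, add_zero]
  · exact (clMk_eq_iff hK _ c).2 ⟨x, hx, rfl⟩

lemma card_fibre (C : Divisor k K) :
    (Nat.card {D : Divisor k K // ∃ x : K, x ≠ 0 ∧ 0 ≤ D ∧ D = C + FunFld.div k x}) * (Nat.card k - 1) =
      Nat.card k ^ ell C - 1 := by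
  classical
  have := finiteDimensional_L hK.1 C
  have : Finite (L C) := Module.finite_of_finite k
  set T := {D : Divisor k K // ∃ x : K, x ≠ 0 ∧ 0 ≤ D ∧ D = C + FunFld.div k x}
  choose f hf0 hfpos hf using fun D : T => D.2
  have hmem : ∀ x : K, x ≠ 0 → (x ∈ L C ↔ 0 ≤ C + FunFld.div k x) := fun x hx => by
    rw [mem_L_iff hx]
    refine forall_congr' fun P => ?_
    rw [Finsupp.zero_apply, Finsupp.add_apply, div_apply hK.1]
    omega
  let g : T × kˣ → {x : L C // x ≠ 0} := fun p =>
    ⟨⟨(p.2 : k) • f p.1, (L C).smul_mem _ ((hmem _ (hf0 p.1)).2 (hf p.1 ▸ hfpos p.1))⟩, fun h =>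
      smul_ne_zero p.2.ne_zero (hf0 p.1) (congrArg Subtype.val h)⟩
  have hg : Function.Bijective g := by
    refine ⟨fun p p' h => ?_, fun y => ?_⟩
    · have h1 : (p.2 : k) • f p.1 = (p'.2 : k) • f p'.1 := congrArg (fun z => (z.1 : K)) h
      have h2 : p.1 = p'.1 := by
        apply Subtype.ext
        rw [hf p.1, hf p'.1]
        have := congrArg (FunFld.div k) h1
        rw [Algebra.smul_def, Algebra.smul_def, div_mul hK.1 (by simp) (hf0 _),
          div_mul hK.1 (by simp) (hf0 _), div_const hK.1, div_const hK.1, zero_add, zero_add] at this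
        rw [this]
      rw [h2] at h1
      exact Prod.ext h2 (Units.ext (smul_left_injective k (hf0 _) h1))
    · have hy0 : (y.1 : K) ≠ 0 := fun e => y.2 (Subtype.ext e)
      let D : T := ⟨C + FunFld.div k (y.1 : K), y.1, hy0, (hmem _ hy0).1 y.1.2, rfl⟩
      have hdiv : FunFld.div k ((y.1 : K) * (f D)⁻¹) = 0 := by
        rw [div_mul hK.1 hy0 (inv_ne_zero (hf0 _)), div_inv hK.1, ← sub_eq_add_neg, sub_eq_zero]
        exact add_left_cancel (hf D)
      have hL : (y.1 : K) * (f D)⁻¹ ∈ L (0 : Divisor k K) := by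
        rw [mem_L_iff (mul_ne_zero hy0 (inv_ne_zero (hf0 _)))]
        intro P
        have := congrArg (fun E : Divisor k K => E P) hdiv
        simp only [div_apply hK.1, Finsupp.zero_apply] at this
        simp [this]
      rw [L_zero hK, Submodule.mem_one] at hL
      obtain ⟨c, hc⟩ := hL
      have hc0 : c ≠ 0 := by
        rintro rfl
        rw [map_zero] at hc
        exact mul_ne_zero hy0 (inv_ne_zero (hf0 _)) hc.symm
      refine ⟨⟨D, Units.mk0 c hc0⟩, Subtype.ext (Subtype.ext ?_)⟩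
      show c • f D = y.1
      rw [Algebra.smul_def, hc, inv_mul_cancel_right₀ (hf0 _)]
  have hcard := Nat.card_congr (Equiv.ofBijective g hg)
  rw [Nat.card_prod, Nat.card_units] at hcard
  rw [hcard]
  have := Fintype.ofFinite (L C)
  rw [Nat.card_eq_fintype_card, Fintype.card_subtype_compl, Fintype.card_subtype_eq,
    ← Nat.card_eq_fintype_card, Module.natCard_eq_pow_finrank (K := k)]
  rfl

/-- The number of effective divisors in terms of the classes. -/
theorem effCount_formula [Fintype (Cl0 k K)] (E : Divisor k K) (n : ℕ) (hE : E.deg = n) :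
    ((Nat.card k : ℤ) - 1) * effDivCount k K n =
      ∑ c : Cl0 k K, ((Nat.card k : ℤ) ^ ell (E + clRep c) - 1) := by
  classical
  have := (finite_eff hK (n : ℤ)).to_subtype
  have : Finite {D : Divisor k K // 0 ≤ D ∧ D.deg = (n : ℤ)} := this
  let e : {D : Divisor k K // 0 ≤ D ∧ D.deg = (n : ℤ)} ≃
      Σ c : Cl0 k K, {D : Divisor k K // ∃ x : K, x ≠ 0 ∧ 0 ≤ D ∧ D = (E + clRep c) + FunFld.div k x} :=
    { toFun := fun D => ⟨clMk D.1 E (D.2.2.trans hE.symm), D.1, by
        obtain ⟨x, hx, he⟩ := (clMk_eq_iff hK (D.2.2.trans hE.symm) _).1 rfl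
        exact ⟨x, hx, D.2.1, he⟩⟩
      invFun := fun s => ⟨s.2.1, by
        obtain ⟨x, hx, h0, he⟩ := s.2.2
        refine ⟨h0, ?_⟩
        rw [he, deg_add, deg_add, deg_clRep, deg_div hK.1, add_zero, add_zero, hE]⟩
      left_inv := fun D => rfl
      right_inv := fun s => by
        obtain ⟨c, D, hD⟩ := s
        obtain ⟨x, hx, h0, he⟩ := id hD
        have hd : D.deg = E.deg := by rw [he, deg_add, deg_add, deg_clRep, deg_div hK.1, add_zero, add_zero]
        have hc : clMk D E hd = c := (clMk_eq_iff hK _ c).2 ⟨x, hx, he⟩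
        subst hc
        rfl }
  have hfin : ∀ c : Cl0 k K, Finite {D : Divisor k K // ∃ x : K, x ≠ 0 ∧ 0 ≤ D ∧
      D = (E + clRep c) + FunFld.div k x} := fun c =>
    Finite.of_injective (fun D => e.symm ⟨c, D⟩) fun a b h => by
      simpa using e.symm.injective h
  rw [effDivCount, Nat.card_congr e, Nat.card_sigma, Nat.cast_sum, Finset.mul_sum]
  refine Finset.sum_congr rfl fun c _ => ?_
  have h := card_fibre hK (E + clRep c)
  have h1 := one_lt_card (k := k)
  have h2 : 1 ≤ Nat.card k ^ ell (E + clRep c) := Nat.one_le_pow _ _ (by omega)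
  zify [h2, h1.le] at h
  rw [← h]; ring

omit [Finite k] in
lemma effDivCount_zero : effDivCount k K 0 = 1 := by
  rw [effDivCount, Nat.card_eq_one_iff_unique]
  refine ⟨⟨fun D E => Subtype.ext ?_⟩, ⟨⟨0, le_rfl, by simp⟩⟩⟩
  rw [eq_zero_of_deg_eq_zero hK D.2.1 (by simpa using D.2.2),
    eq_zero_of_deg_eq_zero hK E.2.1 (by simpa using E.2.2)]

/-- The places whose degree divides `m`. -/
noncomputable def placesDvd (m : ℕ) : Finset (Place k K) :=
  (finite_places_deg_le hK m).toFinset.filter fun P => P.deg ∣ m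

lemma mem_placesDvd {m : ℕ} (hm : 0 < m) {P : Place k K} : P ∈ placesDvd hK m ↔ P.deg ∣ m := by
  rw [placesDvd, Finset.mem_filter, Set.Finite.mem_toFinset]
  exact ⟨fun h => h.2, fun h => ⟨Nat.le_of_dvd hm h, h⟩⟩

/-- `N_m = Σ_{deg P ∣ m} deg P`, the number of points over the extension of degree `m`. -/
noncomputable def pointCount (m : ℕ) : ℤ := ∑ P ∈ placesDvd hK m, (P.deg : ℤ)

/-- The recurrence `n a_n = Σ N_m a_{n-m}`. -/
theorem effDivCount_recurrence (n : ℕ) :
    (n : ℤ) * effDivCount k K n =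
      ∑ m ∈ Finset.Icc 1 n, pointCount hK m * effDivCount k K (n - m) := by
  classical
  set S := (finite_places_deg_le hK n).toFinset
  set E : ℕ → Finset (Divisor k K) := fun m => (finite_eff hK (m : ℤ)).toFinset with hE'
  have hEc : ∀ m, (effDivCount k K m : ℤ) = (E m).card := fun m => by
    rw [effDivCount, ← Nat.card_eq_card_finite_toFinset (finite_eff hK (m : ℤ))]; rfl
  have hsum : ∀ D ∈ E n, (n : ℤ) = ∑ P ∈ S, D P * P.deg := by
    intro D hD
    obtain ⟨h0, hd⟩ := (Set.Finite.mem_toFinset _).1 hD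
    rw [← hd, Divisor.deg, Finsupp.sum]
    refine Finset.sum_subset (fun P hP => ?_) fun P _ hP => by
      rw [Finsupp.notMem_support_iff.1 hP, zero_mul]
    rw [Finsupp.mem_support_iff] at hP
    refine (Set.Finite.mem_toFinset _).2 ?_
    show P.deg ≤ n
    have hge := deg_ge_of_eff h0 P
    have : 0 ≤ D P := h0 P
    have h3 : (P.deg : ℤ) ≤ D P * P.deg := le_mul_of_one_le_left (Int.natCast_nonneg _) (by omega)
    omega
  have hA : ∀ (P : Place k K) (j : ℕ), j * P.deg ≤ n →
      ((E n).filter fun D => (j : ℤ) ≤ D P).card = (E (n - j * P.deg)).card := by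
    intro P j hj
    refine Finset.card_bij (fun D _ => D - Finsupp.single P (j : ℤ)) ?_ ?_ ?_
    · intro D hD
      rw [Finset.mem_filter] at hD
      obtain ⟨h0, hd⟩ := (Set.Finite.mem_toFinset _).1 hD.1
      refine (Set.Finite.mem_toFinset _).2 ⟨fun Q => ?_, ?_⟩
      · rw [Finsupp.sub_apply, Finsupp.zero_apply]
        rcases eq_or_ne Q P with rfl | hQ
        · rw [Finsupp.single_eq_same]; omega
        · rw [Finsupp.single_eq_of_ne hQ, sub_zero]; exact h0 Q
      · rw [deg_sub, deg_single, hd]; push_cast [hj]; ring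
    · intro a _ b _ h
      exact sub_left_injective h
    · intro D hD
      obtain ⟨h0, hd⟩ := (Set.Finite.mem_toFinset _).1 hD
      refine ⟨D + Finsupp.single P (j : ℤ), ?_, add_sub_cancel_right _ _⟩
      rw [Finset.mem_filter]
      refine ⟨(Set.Finite.mem_toFinset _).2
        ⟨add_nonneg h0 (Finsupp.single_nonneg.2 (Int.natCast_nonneg _)), ?_⟩, ?_⟩
      · rw [deg_add, deg_single, hd]; push_cast [hj]; ring
      · rw [Finsupp.add_apply, Finsupp.single_eq_same]
        have : 0 ≤ D P := h0 P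
        omega
  have hfib : ∀ P ∈ S, ∑ D ∈ E n, D P =
      ∑ j ∈ Finset.Icc 1 (n / P.deg), ((E (n - j * P.deg)).card : ℤ) := by
    intro P _
    have hd := deg_pos hK.1 P
    have h1 : ∀ D ∈ E n, D P = ∑ j ∈ Finset.Icc 1 (n / P.deg), if (j : ℤ) ≤ D P then (1 : ℤ) else 0 := by
      intro D hD
      obtain ⟨h0, hdd⟩ := (Set.Finite.mem_toFinset _).1 hD
      have hP0 : 0 ≤ D P := h0 P
      obtain ⟨a, ha⟩ := Int.eq_ofNat_of_zero_le hP0
      have hle : a ≤ n / P.deg := by
        rw [Nat.le_div_iff_mul_le hd]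
        have := deg_ge_of_eff h0 P
        rw [ha, hdd] at this
        exact_mod_cast this
      rw [Finset.sum_ite, Finset.sum_const_zero, add_zero, Finset.sum_const, nsmul_eq_mul, mul_one, ha]
      norm_cast
      rw [show (Finset.Icc 1 (n / P.deg)).filter (fun j => j ≤ a) = Finset.Icc 1 a from ?_, Nat.card_Icc]
      · omega
      · ext j; simp only [Finset.mem_filter, Finset.mem_Icc]; omega
    rw [Finset.sum_congr rfl h1, Finset.sum_comm]
    refine Finset.sum_congr rfl fun j hj => ?_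
    rw [← hA P j ((Nat.le_div_iff_mul_le hd).1 (Finset.mem_Icc.1 hj).2), Finset.sum_boole]
  have hmain : (n : ℤ) * (E n).card = ∑ P ∈ S, (P.deg : ℤ) *
      ∑ j ∈ Finset.Icc 1 (n / P.deg), ((E (n - j * P.deg)).card : ℤ) := by
    rw [mul_comm, ← nsmul_eq_mul, ← Finset.sum_const, Finset.sum_congr rfl hsum, Finset.sum_comm]
    refine Finset.sum_congr rfl fun P hP => ?_
    rw [← hfib P hP, Finset.mul_sum]
    exact Finset.sum_congr rfl fun D _ => mul_comm _ _
  simp only [hEc]
  rw [hmain]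
  have hright : ∀ m ∈ Finset.Icc 1 n, pointCount hK m * ((E (n - m)).card : ℤ) =
      ∑ P ∈ S, if P.deg ∣ m then (P.deg : ℤ) * ((E (n - m)).card : ℤ) else 0 := by
    intro m hm
    rw [Finset.mem_Icc] at hm
    rw [pointCount, Finset.sum_mul, ← Finset.sum_filter]
    refine Finset.sum_congr ?_ fun _ _ => rfl
    ext P
    rw [mem_placesDvd hK (by omega), Finset.mem_filter, Set.Finite.mem_toFinset]
    exact ⟨fun h => ⟨(Nat.le_of_dvd (by omega) h).trans hm.2, h⟩, fun h => h.2⟩
  rw [Finset.sum_congr rfl hright, Finset.sum_comm]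
  refine Finset.sum_congr rfl fun P _ => ?_
  have hd := deg_pos hK.1 P
  rw [← Finset.sum_filter, Finset.mul_sum]
  refine Finset.sum_nbij' (fun j => j * P.deg) (fun m => m / P.deg) ?_ ?_ ?_ ?_ ?_
  · intro j hj
    simp only [Finset.coe_filter, Finset.mem_Icc, Set.mem_ofPred_eq, Finset.mem_filter, Finset.coe_Icc, Set.mem_Icc] at hj ⊢
    exact ⟨⟨Nat.mul_pos hj.1 hd, (Nat.le_div_iff_mul_le hd).1 hj.2⟩, dvd_mul_left _ _⟩
  · intro m hm
    simp only [Finset.coe_filter, Finset.mem_Icc, Set.mem_ofPred_eq, Finset.mem_filter, Finset.coe_Icc, Set.mem_Icc] at hm ⊢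
    exact ⟨Nat.div_pos (Nat.le_of_dvd (by omega) hm.2) hd, Nat.div_le_div_right hm.1.2⟩
  · intro j _; exact Nat.mul_div_cancel _ hd
  · intro m hm
    simp only [Finset.coe_filter, Finset.mem_Icc, Set.mem_ofPred_eq, Finset.mem_filter] at hm
    exact Nat.div_mul_cancel hm.2
  · intro j _; rfl

end Groth.Agent.FFLib
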