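import Groth.Agent.FFLib.ExtGalois
import Groth.Agent.FFLib.ExtRam
import Groth.Agent.FFLib.ZetaCount
import Mathlib.FieldTheory.Finite.Extension
import Mathlib.RingTheory.Polynomial.IsIntegral

/-!
# Constant field extensions over a finite field
-/

set_option linter.unusedSectionVars false

open WithZero Module

namespace Groth.Agent.FFLib

open FunFld

variable {k K : Type*} [Field k] [Field K] [Algebra k K]

/-- If `k` is algebraically closed in `K`, an element algebraic over `k` has the same minimal
polynomial over `K`. -/
lemma minpoly_map_eq (hc : ∀ y : K, IsAlgebraic k y → y ∈ Set.range (algebraMap k K))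
    {Ω : Type*} [Field Ω] [Algebra k Ω] [Algebra K Ω] [IsScalarTower k K Ω] {y : Ω}
    (hy : IsIntegral k y) : minpoly K y = (minpoly k y).map (algebraMap k K) := by
  have hyK : IsIntegral K y := hy.tower_top
  have hdvd : minpoly K y ∣ (minpoly k y).map (algebraMap k K) :=
    minpoly.dvd_map_of_isScalarTower k K y
  have hlift : minpoly K y ∈ Polynomial.lifts (algebraMap k K) := by
    rw [Polynomial.lifts_iff_coeff_lifts]
    exact fun n => hc _ (Polynomial.isIntegral_coeff_of_dvd _ _ (minpoly.monic hy) (minpoly.monic hyK) hdvd n).isAlgebraic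
  obtain ⟨p, hp, hpdeg, hpmon⟩ := Polynomial.lifts_and_natDegree_eq_and_monic hlift (minpoly.monic hyK)
  have h0 : Polynomial.aeval y p = 0 := by
    rw [← Polynomial.aeval_map_algebraMap K, hp]; exact minpoly.aeval K y
  refine (Polynomial.eq_of_monic_of_dvd_of_natDegree_le (minpoly.monic hyK) ((minpoly.monic hy).map _) hdvd ?_).symm
  rw [Polynomial.natDegree_map, ← hpdeg]
  exact Polynomial.natDegree_le_of_dvd (minpoly.dvd k y h0) hpmon.ne_zero

/-- The minimal degree of a primitive element survives. -/
lemma finrank_adjoin_of_const (hc : ∀ y : K, IsAlgebraic k y → y ∈ Set.range (algebraMap k K))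
    {Ω : Type*} [Field Ω] [Algebra k Ω] [Algebra K Ω] [IsScalarTower k K Ω] {y : Ω}
    (hy : IsIntegral k y) :
    finrank K (IntermediateField.adjoin K ({y} : Set Ω)) =
      finrank k (IntermediateField.adjoin k ({y} : Set Ω)) := by
  rw [IntermediateField.adjoin.finrank hy.tower_top, IntermediateField.adjoin.finrank hy,
    minpoly_map_eq hc hy, Polynomial.natDegree_map]

section Bridge

variable {k' K' : Type*} [Field k'] [Finite k'] [Field K'] [Algebra k' K'] [Algebra k k'] [Algebra k K']
  [IsScalarTower k k' K']

omit [Algebra k K'] [IsScalarTower k k' K'] [Algebra k k'] [Field k] in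
/-- A valuation is trivial on a finite field. -/
lemma v_finite_field_le (v : Valuation K' (WithZero (Multiplicative ℤ))) (c : k') :
    v (algebraMap k' K' c) ≤ 1 := by
  have := Fintype.ofFinite k'
  rcases eq_or_ne c 0 with rfl | hc
  · simp
  have h1 : c ^ (Fintype.card k' - 1) = 1 := FiniteField.pow_card_sub_one_eq_one c hc
  have h2 : v (algebraMap k' K' c) ^ (Fintype.card k' - 1) = 1 := by
    rw [← map_pow, ← map_pow, h1, map_one, map_one]
  exact (pow_le_one_iff (by have := Fintype.one_lt_card (α := k'); omega)).1 h2.le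

/-- Places over `k'` are the places over `k`. -/
def placeEquiv : Place k' K' ≃ Place k K' where
  toFun Q := ⟨Q.1, fun c => by rw [IsScalarTower.algebraMap_apply k k' K']; exact Q.2.1 _, Q.2.2⟩
  invFun Q := ⟨Q.1, fun c => v_finite_field_le Q.1 c, Q.2.2⟩
  left_inv _ := rfl
  right_inv _ := rfl

lemma placeEquiv_v (Q : Place k' K') : (placeEquiv (k := k) Q).1 = Q.1 := rfl

lemma deg_placeEquiv [Finite k] (hK : FG1 k K') (hK' : FG1 k' K') (Q : Place k' K') :
    (placeEquiv (k := k) Q).deg = finrank k k' * Q.deg := by
  have := Module.Finite.of_finite (R := k) (M := k')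
  have := finiteDimensional_residue hK (placeEquiv (k := k) Q)
  have := finiteDimensional_residue hK' Q
  have h1 : Nat.card (IsLocalRing.ResidueField (placeEquiv (k := k) Q).O) =
      Nat.card k ^ (placeEquiv (k := k) Q).deg := Module.natCard_eq_pow_finrank
  have h2 : Nat.card (IsLocalRing.ResidueField Q.O) = Nat.card k' ^ Q.deg := Module.natCard_eq_pow_finrank
  rw [Module.natCard_eq_pow_finrank (K := k) (V := k'), ← pow_mul] at h2
  have h3 : Nat.card k ^ (placeEquiv (k := k) Q).deg = Nat.card k ^ (finrank k k' * Q.deg) := by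
    rw [← h1, ← h2]; rfl
  exact Nat.pow_right_injective (one_lt_card (k := k)) h3

end Bridge

variable {k' K' : Type*} [Field k'] [Finite k'] [Field K'] [Algebra k k'] [Algebra K K'] [Algebra k' K']
  [Algebra k K'] [IsScalarTower k k' K'] [IsScalarTower k K K']
variable [Finite k] (hK : IsFunctionField k K)
  (hgen : Algebra.adjoin K (Set.range (algebraMap k' K')) = ⊤) (hrk : finrank K K' = finrank k k')

include hrk in
lemma ConstExt.finite : FiniteDimensional K K' :=
  have := Module.Finite.of_finite (R := k) (M := k')
  Module.finite_of_finrank_pos (hrk ▸ finrank_pos)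

include hgen hrk in
lemma ConstExt.isGalois : IsGalois K K' := by
  classical
  have := ConstExt.finite (K := K) (K' := K') hrk
  have := Fintype.ofFinite k'
  set Q := Fintype.card k' with hQ
  have hsep : (Polynomial.X ^ Q - Polynomial.X : Polynomial K).Separable := by
    obtain ⟨p, hp⟩ := CharP.exists K
    have hdvd : p ∣ Q := by
      have h1 : ((Q : ℕ) : k') = 0 := Nat.cast_card_eq_zero k'
      have h2 : ((Q : ℕ) : K') = 0 := by rw [← map_natCast (algebraMap k' K'), h1, map_zero]
      rw [← CharP.cast_eq_zero_iff K p, ← (algebraMap K K').injective.eq_iff, map_natCast, h2, map_zero]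
    exact galois_poly_separable p Q hdvd
  have hroot : ∀ c : k', algebraMap k' K' c ∈
      (Polynomial.X ^ Q - Polynomial.X : Polynomial K).rootSet K' := fun c => by
    rw [Polynomial.mem_rootSet_of_ne (FiniteField.X_pow_card_sub_X_ne_zero K Fintype.one_lt_card)]
    rw [map_sub, map_pow, Polynomial.aeval_X, ← map_pow, FiniteField.pow_card, sub_self]
  have hsplit : ((Polynomial.X ^ Q - Polynomial.X : Polynomial K).map (algebraMap K K')).Splits := by
    have h : (Polynomial.X ^ Q - Polynomial.X : Polynomial k').Splits := by
      rw [Polynomial.splits_iff_card_roots, hQ, FiniteField.roots_X_pow_card_sub_X,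
        FiniteField.X_pow_card_sub_X_natDegree_eq k' Fintype.one_lt_card]
      rfl
    have h' := h.map (algebraMap k' K')
    simpa [Polynomial.map_sub] using h'
  have : (Polynomial.X ^ Q - Polynomial.X : Polynomial K).IsSplittingField K K' :=
    ⟨hsplit, top_le_iff.1 (hgen ▸ Algebra.adjoin_mono (by rintro _ ⟨c, rfl⟩; exact hroot c))⟩
  exact IsGalois.of_separable_splitting_field hsep

/-- Restriction of an automorphism to the constants. -/
noncomputable def ConstExt.res : (K' ≃ₐ[K] K') →* (k' ≃ₐ[k] k') :=
  haveI := Module.Finite.of_finite (R := k) (M := k')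
  (AlgEquiv.restrictNormalHom k').comp
    { toFun := fun σ => σ.restrictScalars k
      map_one' := AlgEquiv.ext fun _ => rfl
      map_mul' := fun _ _ => AlgEquiv.ext fun _ => rfl }

lemma ConstExt.res_commutes (σ : K' ≃ₐ[K] K') (c : k') :
    σ (algebraMap k' K' c) = algebraMap k' K' (ConstExt.res (k := k) σ c) :=
  haveI := Module.Finite.of_finite (R := k) (M := k')
  (AlgEquiv.restrictNormal_commutes (σ.restrictScalars k) k' c).symm

include hgen in
lemma ConstExt.res_injective : Function.Injective (ConstExt.res (k := k) (k' := k') (K := K) (K' := K')) := by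
  intro σ τ h
  have heq : (σ : K' →ₐ[K] K') = τ := by
    refine AlgHom.ext_of_adjoin_eq_top hgen ?_
    rintro _ ⟨c, rfl⟩
    show σ (algebraMap k' K' c) = τ (algebraMap k' K' c)
    rw [ConstExt.res_commutes (k := k), ConstExt.res_commutes (k := k) τ, h]
  exact AlgEquiv.ext fun x => DFunLike.congr_fun heq x

include hgen hrk in
lemma ConstExt.res_bijective : Function.Bijective (ConstExt.res (k := k) (k' := k') (K := K) (K' := K')) := by
  have := ConstExt.finite (K := K) (K' := K') hrk
  have := ConstExt.isGalois hgen hrk
  have := Module.Finite.of_finite (R := k) (M := k')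
  refine (ConstExt.res_injective hgen).bijective_of_nat_card_le ?_
  rw [IsGalois.card_aut_eq_finrank, IsGalois.card_aut_eq_finrank, hrk]

include hK hgen hrk in
/-- The extended field has constant field `k'`. -/
lemma ConstExt.isFunctionField : IsFunctionField k' K' := by
  have := ConstExt.finite (K := K) (K' := K') hrk
  have hfin := Module.Finite.of_finite (R := k) (M := k')
  refine ⟨?_, fun y hy => ?_⟩
  · obtain ⟨x, hx, -⟩ := fg1_ext (K' := K') hK.1
    have hxfin := finite_adjoin (fg1_ext (K' := K') hK.1) hx
    have hx' : Transcendental k' x := fun h => hx (h.restrictScalars k)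
    refine ⟨x, hx', ?_⟩
    have hle : IntermediateField.adjoin k ({x} : Set K') ≤
        (IntermediateField.adjoin k' ({x} : Set K')).restrictScalars k := by
      rw [IntermediateField.adjoin_simple_le_iff]
      exact IntermediateField.mem_adjoin_simple_self k' x
    let _ : Algebra (IntermediateField.adjoin k ({x} : Set K')) (IntermediateField.adjoin k' ({x} : Set K')) :=
      (IntermediateField.inclusion hle).toRingHom.toAlgebra
    have : IsScalarTower (IntermediateField.adjoin k ({x} : Set K')) (IntermediateField.adjoin k' ({x} : Set K')) K' :=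
      IsScalarTower.of_algebraMap_eq fun _ => rfl
    exact Module.Finite.of_restrictScalars_finite (IntermediateField.adjoin k ({x} : Set K')) _ _
  · classical
    have := Fintype.ofFinite k'
    have hyk : IsIntegral k y := (hy.restrictScalars k).isIntegral
    obtain ⟨θ, hθ⟩ : ∃ θ : k', IntermediateField.adjoin k ({θ} : Set k') = ⊤ :=
      Field.exists_primitive_element_of_finite_top k k'
    set θ' := algebraMap k' K' θ with hθ'
    have hθi : IsIntegral k θ' := (Algebra.IsIntegral.isIntegral θ).map (IsScalarTower.toAlgHom k k' K')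
    set M := IntermediateField.adjoin k ({θ', y} : Set K') with hM
    have : FiniteDimensional k M := IntermediateField.finiteDimensional_adjoin (by
      rintro z (rfl | rfl)
      · exact hθi
      · exact hyk)
    have : Finite M := Module.finite_of_finite k
    obtain ⟨η, hη⟩ : ∃ η : M, IntermediateField.adjoin k ({η} : Set M) = ⊤ :=
      Field.exists_primitive_element_of_finite_top k M
    have hη' : IntermediateField.adjoin k ({(η : K')} : Set K') = M := by
      have := congrArg (IntermediateField.map M.val) hη
      rwa [IntermediateField.adjoin_map, Set.image_singleton, ← AlgHom.fieldRange_eq_map,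
        IntermediateField.fieldRange_val] at this
    have h2 : finrank k M ≤ finrank k k' := by
      rw [← hη', ← finrank_adjoin_of_const hK.2 (y := (η : K')) ((Algebra.IsIntegral.isIntegral (R := k) η).map M.val), ← hrk]
      exact Submodule.finrank_le (IntermediateField.adjoin K ({(η : K')} : Set K')).toSubalgebra.toSubmodule
    set R := (IsScalarTower.toAlgHom k k' K').fieldRange with hR
    have hR' : R ≤ M := by
      rw [hR, AlgHom.fieldRange_eq_map, ← hθ, IntermediateField.adjoin_map, Set.image_singleton]
      exact IntermediateField.adjoin.mono k _ _ (Set.singleton_subset_iff.2 (Set.mem_insert _ _))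
    have hRk : finrank k R = finrank k k' :=
      (AlgEquiv.ofInjectiveField (IsScalarTower.toAlgHom k k' K')).toLinearEquiv.finrank_eq.symm
    have heq : R = M := IntermediateField.eq_of_le_of_finrank_le hR' (hRk ▸ h2)
    have : y ∈ R := heq ▸ IntermediateField.subset_adjoin k _ (Set.mem_insert_of_mem _ rfl)
    exact this

include hK hgen hrk in
/-- Splitting of a place in the constant extension. -/
theorem ConstExt.splitting (P : Place k K) [FiniteDimensional K K'] :
    (∀ Q ∈ overs (K' := K') hK.1 P, Q.deg = Nat.lcm P.deg (finrank k k')) ∧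
      (overs (K' := K') hK.1 P).card = Nat.gcd P.deg (finrank k k') := by
  classical
  have := ConstExt.isGalois hgen hrk
  have hfin := Module.Finite.of_finite (R := k) (M := k')
  have hgal : IsGalois k k' := inferInstance
  set n := finrank k k' with hn
  have hn0 : 0 < n := finrank_pos
  set d := P.deg with hd
  have hd0 : 0 < d := deg_pos hK.1 P
  have hK' := ConstExt.isFunctionField hK hgen hrk
  have key : ∀ Q ∈ overs (K' := K') hK.1 P, Q.deg = Nat.lcm d n ∧
      (overs (K' := K') hK.1 P).card * Nat.lcm d n = n * d := by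
    intro Q hQ
    have hKK' := fg1_ext (K' := K') hK.1
    have := finiteDimensional_residue hKK' Q
    have hfF : Finite (IsLocalRing.ResidueField Q.O) := Module.finite_of_finite k
    set D := Q.O.decompositionSubgroup K with hD
    have he : underIdx hK.1 Q = 1 := by
      rw [← card_ramGroup_one hK.1 Q, Nat.card_eq_one_iff_unique]
      refine ⟨⟨fun σ τ => Subtype.ext ?_⟩, ⟨1⟩⟩
      have : ∀ ρ : ramGroup (K := K) Q 1, (ρ : K' ≃ₐ[K] K') = 1 := fun ρ => by
        refine ConstExt.res_injective (k := k) hgen ?_
        rw [map_one]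
        refine AlgEquiv.ext fun c => ?_
        have h := ρ.2 (algebraMap k' K' c) (v_finite_field_le Q.1 c)
        rw [ConstExt.res_commutes (k := k), ← map_sub] at h
        by_contra hne
        have hne' : ConstExt.res (k := k) (ρ : K' ≃ₐ[K] K') c - c ≠ 0 := sub_ne_zero.2 hne
        have h1 := v_finite_field_le Q.1 (ConstExt.res (k := k) (ρ : K' ≃ₐ[K] K') c - c)⁻¹
        rw [map_inv₀, map_inv₀] at h1
        have h2 : Q.1 (algebraMap k' K' (ConstExt.res (k := k) (ρ : K' ≃ₐ[K] K') c - c)) < 1 :=
          h.trans_lt (by rw [← exp_zero, exp_lt_exp]; norm_num)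
        exact absurd h1 (not_le.2 ((one_lt_inv₀ (zero_lt_iff.2 (v_ne_zero Q ((map_ne_zero _).2 hne')))).2 h2))
      rw [this σ, this τ]
    have hcD := card_decomposition hK.1 hQ
    rw [he, one_mul, ← hd, ← hD] at hcD
    have hQ' := deg_placeEquiv (k := k) hKK' hK'.1 (placeEquiv.symm Q)
    rw [Equiv.apply_symm_apply, ← hn] at hQ'
    have hdvd : Nat.lcm d n ∣ Q.deg := Nat.lcm_dvd ⟨_, hcD ▸ mul_comm _ _⟩ ⟨_, hQ'⟩
    have := Fintype.ofFinite k
    let Fr := FiniteField.frobeniusAlgEquivOfAlgebraic k k'
    set H := Subgroup.zpowers (Fr ^ Nat.gcd d n) with hH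
    have hHc : Nat.card H = n / Nat.gcd d n := by
      rw [hH, Nat.card_zpowers, orderOf_pow' _ (Nat.gcd_pos_of_pos_right d hn0).ne',
        FiniteField.orderOf_frobeniusAlgEquivOfAlgebraic, ← hn, Nat.gcd_eq_right (Nat.gcd_dvd_right d n)]
    have hDle : Nat.card D ≤ Nat.card H := by
      refine Nat.card_le_card_of_injective
        (fun σ : D => (⟨ConstExt.res (k := k) (σ : K' ≃ₐ[K] K'), ?_⟩ : H))
        fun a b h => Subtype.ext (ConstExt.res_injective (k := k) hgen (congrArg Subtype.val h))
      rw [← IntermediateField.fixingSubgroup_fixedField H, IntermediateField.mem_fixingSubgroup_iff]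
      intro c hc
      rw [IntermediateField.mem_fixedField_iff] at hc
      have hcg : c ^ (Fintype.card k ^ d) = c := by
        have hg : ∀ j : ℕ, (Fr ^ j) c = c ^ (Fintype.card k ^ j) := fun j => by
          rw [AlgEquiv.coe_pow]
          exact congrFun (FiniteField.coe_frobeniusAlgEquivOfAlgebraic_iterate k k' j) c
        rw [← hg]
        obtain ⟨m, hm⟩ := Nat.gcd_dvd_left d n
        rw [hm, pow_mul]
        exact hc _ (pow_mem (Subgroup.mem_zpowers _) m)
      have hover := isOverWith_under hK.1 Q
      rw [(mem_overs' hK.1).1 hQ] at hover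
      have hPfin := finiteDimensional_residue hK.1 P
      have : Finite (IsLocalRing.ResidueField P.O) := Module.finite_of_finite k
      have := Fintype.ofFinite (IsLocalRing.ResidueField P.O)
      -- roots of `X^(q^d) - X` in the residue field of `Q` come from `P`
      let i : P.O →+* Q.O := ((algebraMap K K').comp P.O.subtype).codRestrict Q.O.toSubring
        fun a => (isOverWith_le_one_iff hover (a : K)).2 a.2
      set u : Q.O := ⟨algebraMap k' K' c, v_finite_field_le Q.1 c⟩ with hu
      obtain ⟨a, ha⟩ : ∃ a : P.O, IsLocalRing.residue Q.O (i a) = IsLocalRing.residue Q.O u := by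
        by_contra hne
        push Not at hne
        set N := Fintype.card k ^ d with hN
        have hN1 : 1 < N := Nat.one_lt_pow hd0.ne' Fintype.one_lt_card
        have hcP : Fintype.card (IsLocalRing.ResidueField P.O) = N := by
          rw [← Nat.card_eq_fintype_card, hN, ← Nat.card_eq_fintype_card (α := k)]
          exact Module.natCard_eq_pow_finrank
        choose lift hlift using IsLocalRing.residue_surjective (R := P.O)
        set f : Option (IsLocalRing.ResidueField P.O) → IsLocalRing.ResidueField Q.O :=
          fun o => o.elim (IsLocalRing.residue Q.O u) fun b => IsLocalRing.residue Q.O (i (lift b)) with hf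
        have hfinj : Function.Injective f := by
          have hinj : ∀ b b', IsLocalRing.residue Q.O (i (lift b)) = IsLocalRing.residue Q.O (i (lift b')) → b = b' := by
            intro b b' h
            rw [← sub_eq_zero, ← map_sub, ← map_sub, residue_eq_zero_iff_lt] at h
            rw [← hlift b, ← hlift b', ← sub_eq_zero, ← map_sub, residue_eq_zero_iff_lt]
            exact (isOverWith_lt_one_iff hover _).1 h
          rintro (_ | b) (_ | b') h
          · rfl
          · exact absurd h.symm (hne _)
          · exact absurd h (hne _)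
          · exact congrArg some (hinj b b' h)
        have hroot : ∀ o, f o ^ N = f o := by
          rintro (_ | b)
          · show IsLocalRing.residue Q.O u ^ N = _
            rw [← map_pow]
            refine congrArg _ (Subtype.ext ?_)
            show (algebraMap k' K' c) ^ N = algebraMap k' K' c
            rw [← map_pow, hcg]
          · show IsLocalRing.residue Q.O (i (lift b)) ^ N = IsLocalRing.residue Q.O (i (lift b))
            rw [← map_pow, ← map_pow, ← sub_eq_zero, ← map_sub, ← map_sub, residue_eq_zero_iff_lt]
            refine (isOverWith_lt_one_iff hover _).2 ?_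
            refine (residue_eq_zero_iff_lt P (lift b ^ N - lift b)).1 ?_
            rw [map_sub, map_pow, hlift, ← hcP, FiniteField.pow_card, sub_self]
        have hle := Polynomial.card_le_degree_of_subset_roots
          (p := (Polynomial.X ^ N - Polynomial.X : Polynomial (IsLocalRing.ResidueField Q.O)))
          (Z := Finset.univ.image f) (fun z hz => by
            obtain ⟨o, -, rfl⟩ := Finset.mem_image.1 hz
            rw [Polynomial.mem_roots (FiniteField.X_pow_card_sub_X_ne_zero _ hN1)]
            simp [hroot o])
        rw [Finset.card_image_of_injective _ hfinj, Finset.card_univ, Fintype.card_option, hcP,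
          FiniteField.X_pow_card_sub_X_natDegree_eq _ hN1] at hle
        omega
      -- a decomposition element fixes the residue of `c`
      set w : k' := ConstExt.res (k := k) (σ : K' ≃ₐ[K] K') c with hw
      by_contra hne
      have hne' : w - c ≠ 0 := sub_ne_zero.2 hne
      have h1 : IsLocalRing.residue Q.O (σ • u) = IsLocalRing.residue Q.O u := by
        rw [IsLocalRing.ResidueField.residue_smul, ← ha, ← IsLocalRing.ResidueField.residue_smul]
        refine congrArg _ (Subtype.ext ?_)
        show (σ : K' ≃ₐ[K] K') (algebraMap K K' (a : K)) = _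
        rw [AlgEquiv.commutes]; rfl
      rw [← sub_eq_zero, ← map_sub, residue_eq_zero_iff_lt] at h1
      have h2 : Q.1 (algebraMap k' K' (w - c)) < 1 := by
        rw [map_sub, hw, ← ConstExt.res_commutes (k := k)]; exact h1
      have h3 := v_finite_field_le Q.1 (w - c)⁻¹
      rw [map_inv₀, map_inv₀] at h3
      exact absurd h3 (not_le.2 ((one_lt_inv₀ (zero_lt_iff.2 (v_ne_zero Q ((map_ne_zero _).2 hne')))).2 h2))
    have hle : Q.deg ≤ Nat.lcm d n := by
      rw [← hcD, show Nat.lcm d n = (n / Nat.gcd d n) * d by
        rw [Nat.lcm, mul_comm d n, Nat.mul_div_right_comm (Nat.gcd_dvd_right d n)]]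
      exact Nat.mul_le_mul_right _ (hHc ▸ hDle)
    have hQl : Q.deg = Nat.lcm d n :=
      le_antisymm hle (Nat.le_of_dvd (deg_pos hKK' Q) hdvd)
    refine ⟨hQl, ?_⟩
    have h := card_decomposition_mul_card_overs hK.1 hQ
    rw [hrk] at h
    rw [← hQl, ← hcD, ← mul_assoc, h]
  obtain ⟨Q₀, hQ₀⟩ : ∃ Q, Q ∈ overs (K' := K') hK.1 P := by
    by_contra hne
    push Not at hne
    have h := sum_idx_deg_overs (K' := K') hK.1 P
    rw [Finset.eq_empty_of_forall_notMem hne, Finset.sum_empty, hrk, ← hd] at h
    exact (Nat.mul_pos hn0 hd0).ne h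
  refine ⟨fun Q hQ => (key Q hQ).1, ?_⟩
  have h := (key Q₀ hQ₀).2
  have h2 := Nat.gcd_mul_lcm d n
  exact Nat.eq_of_mul_eq_mul_right (Nat.lcm_pos hd0 hn0) (by rw [h, h2, mul_comm])

include hK hgen hrk in
/-- `N_m(K') = N_{nm}(K)`. -/
theorem ConstExt.pointCount_eq (hK' : IsFunctionField k' K') {m : ℕ} (hm : 0 < m) :
    pointCount hK' m = pointCount hK (finrank k k' * m) := by
  classical
  have := ConstExt.finite (K := K) (K' := K') hrk
  have hfin := Module.Finite.of_finite (R := k) (M := k')
  have hKK' := fg1_ext (K' := K') hK.1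
  set n := finrank k k' with hn
  have hn0 : 0 < n := finrank_pos
  rw [pointCount, pointCount]
  have hdeg : ∀ Q : Place k' K', n * Q.deg = Nat.lcm (underPlace hK.1 (placeEquiv (k := k) Q)).deg n := fun Q => by
    rw [← deg_placeEquiv (k := k) hKK' hK'.1 Q]
    exact (ConstExt.splitting hK hgen hrk _).1 _ ((mem_overs' hK.1).2 rfl)
  have hmem : ∀ Q : Place k' K', Q ∈ placesDvd hK' m ↔
      underPlace hK.1 (placeEquiv (k := k) Q) ∈ placesDvd hK (n * m) := fun Q => by
    rw [mem_placesDvd hK' hm, mem_placesDvd hK (Nat.mul_pos hn0 hm), ← Nat.mul_dvd_mul_iff_left hn0, hdeg,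
      Nat.lcm_dvd_iff]
    exact ⟨fun h => h.1, fun h => ⟨h, dvd_mul_right n m⟩⟩
  rw [← Finset.sum_fiberwise_of_maps_to (t := placesDvd hK (n * m))
    (g := fun Q => underPlace hK.1 (placeEquiv (k := k) Q)) (fun Q hQ => (hmem Q).1 hQ)]
  refine Finset.sum_congr rfl fun P hP => ?_
  obtain ⟨hl, hc⟩ := ConstExt.splitting (K' := K') hK hgen hrk P
  have hbij : ((placesDvd hK' m).filter fun Q => underPlace hK.1 (placeEquiv (k := k) Q) = P).card =
      (overs (K' := K') hK.1 P).card := by
    refine Finset.card_bij (fun Q _ => placeEquiv (k := k) Q) ?_ ?_ ?_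
    · intro Q hQ; exact (mem_overs' hK.1).2 (Finset.mem_filter.1 hQ).2
    · intro a _ b _ h; exact placeEquiv.injective h
    · intro R hR
      refine ⟨placeEquiv.symm R, Finset.mem_filter.2 ⟨(hmem _).2 ?_, ?_⟩, Equiv.apply_symm_apply _ _⟩
      · rw [Equiv.apply_symm_apply, (mem_overs' hK.1).1 hR]; exact hP
      · rw [Equiv.apply_symm_apply]; exact (mem_overs' hK.1).1 hR
  have hconst : ∀ Q ∈ (placesDvd hK' m).filter (fun Q => underPlace hK.1 (placeEquiv (k := k) Q) = P),
      (Q.deg : ℤ) = ((Nat.lcm P.deg n / n : ℕ) : ℤ) := fun Q hQ => by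
    rw [← (Finset.mem_filter.1 hQ).2, ← hdeg Q, Nat.mul_div_cancel_left _ hn0]
  rw [Finset.sum_congr rfl hconst, Finset.sum_const, hbij, hc, nsmul_eq_mul, ← Nat.cast_mul]
  congr 1
  rw [← Nat.mul_div_assoc _ (Nat.dvd_lcm_right _ _), Nat.gcd_mul_lcm, Nat.mul_div_cancel _ hn0]

end Groth.Agent.FFLib
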