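import Mathlib.RingTheory.MvPolynomial.Homogeneous
import Mathlib.RingTheory.MvPolynomial.EulerIdentity
import Mathlib.RingTheory.Kaehler.Basic
import Mathlib.Algebra.MvPolynomial.PDeriv
import Mathlib.LinearAlgebra.Matrix.Determinant.Basic
import Groth.Agent.FFLib.LocNonsing

/-!
# Change of coordinates for plane differentials
-/

open MvPolynomial

namespace Groth.Agent.FFLib

/-- The chain rule for polynomial expressions. -/
lemma derivation_aeval {k R M σ : Type*} [CommRing k] [CommRing R] [Algebra k R] [AddCommGroup M]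
    [Module R M] [Module k M] [Fintype σ] (δ : Derivation k R M) (v : σ → R) (p : MvPolynomial σ k) :
    δ (aeval v p) = ∑ i, aeval v (pderiv i p) • δ (v i) := by
  classical
  induction p using MvPolynomial.induction_on with
  | C c => simp
  | add p q hp hq => simp only [map_add, hp, hq, add_smul, Finset.sum_add_distrib]
  | mul_X p l hp =>
    rw [map_mul, aeval_X, δ.leibniz, hp, Finset.smul_sum]
    simp only [pderiv_mul, map_add, map_mul, aeval_X, add_smul, Finset.sum_add_distrib, smul_smul]
    rw [add_comm]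
    congr 1
    · exact Finset.sum_congr rfl fun i _ => by rw [mul_comm]
    · rw [Finset.sum_eq_single l (fun i _ hi => by simp [pderiv_X_of_ne (Ne.symm hi)]) (by simp)]
      simp

variable {k K : Type*} [Field k] [Field K] [Algebra k K]

/-- The differential `dx/f_y` under a projective change of coordinates. -/
theorem inv_pderiv_smul_D_eq {f : MvPolynomial (Fin 3) k} {e : ℕ} (hf : f.IsHomogeneous e) (x y : K)
    (hfxy : aeval ![(1 : K), x, y] f = 0) (A : Matrix (Fin 3) (Fin 3) k)
    (u : Fin 3 → K) (hu : ∀ i, ∑ j, algebraMap k K (A i j) * u j = ![(1 : K), x, y] i) (hu0 : u 0 ≠ 0)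
    (hfy : aeval ![(1 : K), x, y] (pderiv 2 f) ≠ 0)
    (hfy' : aeval ![(1 : K), u 1 / u 0, u 2 / u 0]
      (pderiv 2 (aeval (fun i : Fin 3 => ∑ j, C (A i j) * X j) f)) ≠ 0) :
    (aeval ![(1 : K), x, y] (pderiv 2 f))⁻¹ • KaehlerDifferential.D k K x =
      (algebraMap k K A.det * (u 0)⁻¹ ^ ((e : ℤ) - 3) *
        (aeval ![(1 : K), u 1 / u 0, u 2 / u 0]
          (pderiv 2 (aeval (fun i : Fin 3 => ∑ j, C (A i j) * X j) f)))⁻¹) •
        KaehlerDifferential.D k K (u 1 / u 0) := by
  classical
  set Lf : Fin 3 → MvPolynomial (Fin 3) k := fun i => ∑ j, C (A i j) * X j with hLf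
  set f' := aeval Lf f with hf'
  set x' := u 1 / u 0 with hx'
  set y' := u 2 / u 0 with hy'
  set w := ![(1 : K), x', y'] with hw
  set z := (u 0)⁻¹ with hz
  set a : Fin 3 → Fin 3 → K := fun i j => algebraMap k K (A i j) with ha
  have hwu : ∀ j, w j = z * u j := by
    intro j; fin_cases j <;> simp [hw, hx', hy', hz, div_eq_inv_mul, hu0]
  have hl : ∀ i, a i 0 + a i 1 * x' + a i 2 * y' = z * ![(1 : K), x, y] i := fun i => by
    rw [← hu i, Fin.sum_univ_three, hx', hy', hz]
    simp only [ha]
    field_simp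
  have hLw : ∀ i, aeval w (Lf i) = z * ![(1 : K), x, y] i := fun i => by
    rw [← hu i, Finset.mul_sum, hLf]
    simp only [map_sum, map_mul, aeval_C, aeval_X, hwu]
    exact Finset.sum_congr rfl fun j _ => by ring
  set φ := ![(1 : K), x, y] with hφ
  set Z := z ^ (e - 1) with hZ
  have hscale : ∀ i, aeval w (aeval Lf (pderiv i f)) = Z * aeval φ (pderiv i f) := fun i => by
    rw [← AlgHom.comp_apply, comp_aeval, show (fun i => aeval w (Lf i)) = fun i => z * φ i from funext hLw,
      aeval_scale hf.pderiv]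
  have hg : ∀ j, aeval w (pderiv j f') = Z * ∑ i, a i j * aeval φ (pderiv i f) := fun j => by
    rw [hf', derivation_aeval, map_sum, Finset.mul_sum]
    refine Finset.sum_congr rfl fun i _ => ?_
    rw [smul_eq_mul, map_mul, hscale]
    have : pderiv j (Lf i) = C (A i j) := by
      simp only [hLf, map_sum, pderiv_C_mul, pderiv_X, Pi.single_apply, smul_eq_mul]
      simp
    rw [this, aeval_C]; ring
  set f0 := aeval φ (pderiv 0 f)
  set f1 := aeval φ (pderiv 1 f)
  set f2 := aeval φ (pderiv 2 f)
  set g1 := aeval w (pderiv 1 f')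
  set g2 := aeval w (pderiv 2 f')
  have heul : f0 + x * f1 + y * f2 = 0 := by
    have h := congrArg (aeval φ) hf.sum_X_mul_pderiv
    rw [map_sum, map_nsmul, hfxy, nsmul_zero, Fin.sum_univ_three] at h
    simp only [map_mul, aeval_X, show φ 0 = 1 from rfl, show φ 1 = x from rfl, show φ 2 = y from rfl,
      one_mul] at h
    linear_combination h
  have hg1 : g1 = Z * (a 0 1 * f0 + a 1 1 * f1 + a 2 1 * f2) := by rw [← Fin.sum_univ_three (f := fun i => a i 1 * aeval φ (pderiv i f))]; exact hg 1
  have hg2 : g2 = Z * (a 0 2 * f0 + a 1 2 * f1 + a 2 2 * f2) := by rw [← Fin.sum_univ_three (f := fun i => a i 2 * aeval φ (pderiv i f))]; exact hg 2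
  have hf'w : aeval w f' = 0 := by
    rw [hf', ← AlgHom.comp_apply, comp_aeval, show (fun i => aeval w (Lf i)) = fun i => z * φ i from funext hLw,
      aeval_scale hf, hfxy, mul_zero]
  set d := KaehlerDifferential.D k K with hd
  have hd' : g1 • d x' + g2 • d y' = 0 := by
    have h := derivation_aeval d w f'
    rw [hf'w, map_zero, Fin.sum_univ_three] at h
    simp only [hw, Matrix.cons_val_zero, Matrix.cons_val_one, Matrix.cons_val, Derivation.map_one_eq_zero,
      smul_zero, zero_add] at h
    exact h.symm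
  have hl0 : a 0 0 + a 0 1 * x' + a 0 2 * y' = z := by simpa [hφ] using hl 0
  have hl1 : a 1 0 + a 1 1 * x' + a 1 2 * y' = z * x := by simpa [hφ] using hl 1
  have hl2 : a 2 0 + a 2 1 * x' + a 2 2 * y' = z * y := by simpa [hφ] using hl 2
  set M := (a 1 1 - x * a 0 1) * (a 2 2 - y * a 0 2) - (a 1 2 - x * a 0 2) * (a 2 1 - y * a 0 1) with hM
  have hdet : algebraMap k K A.det = z * M := by
    rw [Matrix.det_fin_three]
    simp only [map_sub, map_add, map_mul]
    simp only [ha] at hl0 hl1 hl2 hM ⊢
    rw [hM]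
    linear_combination (algebraMap k K (A 1 1) * algebraMap k K (A 2 2) - algebraMap k K (A 1 2) * algebraMap k K (A 2 1)) * hl0 +
      -(algebraMap k K (A 0 1) * algebraMap k K (A 2 2) - algebraMap k K (A 0 2) * algebraMap k K (A 2 1)) * hl1 +
      (algebraMap k K (A 0 1) * algebraMap k K (A 1 2) - algebraMap k K (A 0 2) * algebraMap k K (A 1 1)) * hl2
  have hdx : z • d x = (a 1 1 - x * a 0 1) • d x' + (a 1 2 - x * a 0 2) • d y' := by
    have e1 := congrArg d hl1
    have e0 := congrArg d hl0
    simp only [map_add, Derivation.leibniz, ha, Derivation.map_algebraMap, smul_zero, add_zero, zero_add] at e1 e0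
    simp only [ha]
    rw [← e0] at e1
    linear_combination (norm := module) -e1
  have hkey : (g2 * z) • d x = (Z * f2 * M) • d x' := by
    rw [mul_smul, hdx, smul_add, smul_smul, smul_smul, mul_comm g2 (a 1 2 - x * a 0 2), mul_smul _ g2 (d y'),
      eq_neg_of_add_eq_zero_right hd', smul_neg, smul_smul, ← sub_eq_add_neg, ← sub_smul]
    congr 1
    rw [hM, hg1, hg2]
    linear_combination (Z * (a 0 2 * (a 1 1 - x * a 0 1) - a 0 1 * (a 1 2 - x * a 0 2))) * heul
  have hz0 : z ≠ 0 := inv_ne_zero hu0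
  have hpow : z ^ ((e : ℤ) - 3) * (z * z) = Z := by
    have he : 1 ≤ e := by
      rcases Nat.eq_zero_or_pos e with h0 | h0
      · exfalso
        apply hfy
        show aeval φ (pderiv 2 f) = 0
        subst h0
        rw [(totalDegree_eq_zero_iff_eq_C.1 (le_antisymm hf.totalDegree_le zero_le))]
        simp
      · exact h0
    rw [hZ, ← zpow_natCast z (e - 1), Nat.cast_sub he, ← zpow_two, ← zpow_add₀ hz0]
    congr 1
    push_cast; ring
  have h1 : d x = ((g2 * z)⁻¹ * (Z * f2 * M)) • d x' := by
    rw [mul_smul, ← hkey, smul_smul, inv_mul_cancel₀ (mul_ne_zero hfy' hz0), one_smul]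
  rw [h1, smul_smul]
  congr 1
  rw [hdet, ← hpow]
  field_simp

end Groth.Agent.FFLib
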