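import Groth.Agent.FFLib.CoordChange
import Groth.Agent.FFLib.PlaneModel
import Groth.Agent.FFLib.DiffDiv
import Groth.Prelude.Def_W4bk4goldsch45p2
import Mathlib.LinearAlgebra.Matrix.NonsingularInverse

/-!
# Invariance of the adjoint divisor under a change of coordinates
-/

open WithZero Module

namespace Groth.Agent.FFLib

open FunFld

variable {k K : Type*} [Field k] [Field K] [Algebra k K]

lemma mapDiv_plane_le_iff (hK : IsFunctionField k K) (x y : K) (P : Place k K) (n : ℤ) :
    mapDiv k ![(1 : K), x, y] P ≤ n ↔ ∀ i, P.1 (![(1 : K), x, y] i) ≤ exp n := by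
  have h := mapDiv_plane hK x y P
  have key : ∀ a : K, 0 ≤ n → (-P.ord a ≤ n ↔ P.1 a ≤ exp n) := fun a hn => by
    rcases eq_or_ne a 0 with rfl | ha
    · simp [hn]
    · rw [v_le_exp_iff P ha]; omega
  constructor
  · intro hle i
    fin_cases i
    · show P.1 1 ≤ _; rw [map_one, ← exp_zero, exp_le_exp]; omega
    · exact (key x (by omega)).1 (by omega)
    · exact (key y (by omega)).1 (by omega)
  · intro hi
    have hn : 0 ≤ n := by
      have := hi 0
      rw [show ![(1 : K), x, y] 0 = 1 from rfl, map_one, ← exp_zero, exp_le_exp] at this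
      exact this
    have h1 := (key x hn).2 (hi 1)
    have h2 := (key y hn).2 (hi 2)
    omega

/-- The divisor of a plane map in new coordinates. -/
lemma mapDiv_coord_change (hK : IsFunctionField k K) (x y : K) (A : Matrix (Fin 3) (Fin 3) k) (hA : A.det ≠ 0)
    (u : Fin 3 → K) (hu : ∀ i, ∑ j, algebraMap k K (A i j) * u j = ![(1 : K), x, y] i) (hu0 : u 0 ≠ 0)
    (P : Place k K) : mapDiv k ![(1 : K), u 1 / u 0, u 2 / u 0] P =
      mapDiv k ![(1 : K), x, y] P + P.ord (u 0) := by
  classical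
  have hw : ∀ i, ![(1 : K), u 1 / u 0, u 2 / u 0] i = u i / u 0 := fun i => by
    fin_cases i <;> simp [hu0]
  refine le_antisymm ?_ ?_
  · rw [mapDiv_plane_le_iff hK]
    intro i
    have hui : u i = ∑ l, algebraMap k K (A⁻¹ i l) * ![(1 : K), x, y] l := by
      simp only [← hu, Finset.mul_sum, ← mul_assoc, ← map_mul]
      rw [Finset.sum_comm]
      simp only [← Finset.sum_mul, ← map_sum, ← Matrix.mul_apply,
        Matrix.nonsing_inv_mul A (Ne.isUnit hA)]
      simp [Matrix.one_apply, apply_ite (algebraMap k K), ite_mul]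
    rw [hw, map_div₀, v_eq P hu0, div_le_iff₀ exp_pos, ← exp_add, hui]
    refine (P.1.map_sum_le fun l _ => ?_)
    rw [map_mul]
    refine (mul_le_of_le_one_left' (P.2.1 _)).trans ?_
    refine ((mapDiv_plane_le_iff hK x y P _).1 le_rfl l).trans ?_
    rw [exp_le_exp]; omega
  · rw [← le_sub_iff_add_le, mapDiv_plane_le_iff hK]
    intro i
    rw [← hu i]
    refine P.1.map_sum_le fun l _ => ?_
    rw [map_mul]
    refine (mul_le_of_le_one_left' (P.2.1 _)).trans ?_
    have h := (mapDiv_plane_le_iff hK (u 1 / u 0) (u 2 / u 0) P _).1 le_rfl l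
    rw [hw, map_div₀, v_eq P hu0, div_le_iff₀ exp_pos, ← exp_add] at h
    exact h.trans (by rw [exp_le_exp]; omega)

variable [IsAlgClosed k] (hK : IsFunctionField k K)
include hK

/-- A variable with nonzero differential is separating. -/
lemma separating_of_D_ne_zero {x : K} (hdx : KaehlerDifferential.D k K x ≠ 0) :
    Transcendental k x ∧ Algebra.IsSeparable (IntermediateField.adjoin k ({x} : Set K)) K := by
  have htr : Transcendental k x := transcendental_of_notMem hK fun ⟨c, hc⟩ => hdx (by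
    rw [← hc, Derivation.map_algebraMap])
  obtain ⟨p, hp⟩ := ExpChar.exists K
  refine ⟨htr, isSeparable_adjoin hK p htr ?_⟩
  rcases ‹ExpChar K p› with _ | hprime
  · exact .inl rfl
  refine .inr fun w hw => hdx ?_
  rw [← hw, Derivation.leibniz_pow, ← Nat.cast_smul_eq_nsmul K, CharP.cast_eq_zero, zero_smul]

omit [IsAlgClosed k] hK in
/-- Pushing an equality of differentials to a derivation. -/
lemma derivation_congr (δ : Derivation k K K) {a b x z : K}
    (h : a • KaehlerDifferential.D k K x = b • KaehlerDifferential.D k K z) : a * δ x = b * δ z := by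
  have := congrArg δ.liftKaehlerDifferential h
  simpa [Derivation.liftKaehlerDifferential_comp_D] using this

/-- The coefficients of the adjoint divisor are invariant. -/
theorem adjoint_coord_change {f : MvPolynomial (Fin 3) k} {e : ℕ} (hf : f.IsHomogeneous e) (x y : K)
    (hfxy : MvPolynomial.aeval ![(1 : K), x, y] f = 0) (hdx : KaehlerDifferential.D k K x ≠ 0)
    (he : (mapDiv k ![(1 : K), x, y]).deg = e) (A : Matrix (Fin 3) (Fin 3) k) (hA : A.det ≠ 0)
    (u : Fin 3 → K) (hu : ∀ i, ∑ j, algebraMap k K (A i j) * u j = ![(1 : K), x, y] i) (hu0 : u 0 ≠ 0)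
    (hfy : MvPolynomial.aeval ![(1 : K), x, y] (MvPolynomial.pderiv 2 f) ≠ 0)
    (hfy' : MvPolynomial.aeval ![(1 : K), u 1 / u 0, u 2 / u 0]
      (MvPolynomial.pderiv 2 (MvPolynomial.aeval (fun i : Fin 3 => ∑ j, MvPolynomial.C (A i j) * MvPolynomial.X j) f)) ≠ 0)
    (Φ : Place k K → (K →ₐ[k] LaurentSeries k)) (hΦ : ∀ P : Place k K, LocRes.IsExpansionAt P.1 (Φ P)) :
    ((mapDiv k ![(1 : K), x, y]).deg - 3) • mapDiv k ![(1 : K), x, y] -
        divDiff Φ (MvPolynomial.aeval ![(1 : K), x, y] (MvPolynomial.pderiv 2 f))⁻¹ x =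
      ((mapDiv k ![(1 : K), u 1 / u 0, u 2 / u 0]).deg - 3) • mapDiv k ![(1 : K), u 1 / u 0, u 2 / u 0] -
        divDiff Φ (MvPolynomial.aeval ![(1 : K), u 1 / u 0, u 2 / u 0]
          (MvPolynomial.pderiv 2 (MvPolynomial.aeval (fun i : Fin 3 => ∑ j, MvPolynomial.C (A i j) * MvPolynomial.X j) f)))⁻¹
          (u 1 / u 0) := by
  classical
  have heq := inv_pderiv_smul_D_eq hf x y hfxy A u hu hu0 hfy hfy'
  set F2 := MvPolynomial.aeval ![(1 : K), x, y] (MvPolynomial.pderiv 2 f)
  set x' := u 1 / u 0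
  set G2 := MvPolynomial.aeval ![(1 : K), x', u 2 / u 0]
    (MvPolynomial.pderiv 2 (MvPolynomial.aeval (fun i : Fin 3 => ∑ j, MvPolynomial.C (A i j) * MvPolynomial.X j) f))
  obtain ⟨htr, hsep⟩ := separating_of_D_ne_zero hK hdx
  have hdx' : KaehlerDifferential.D k K x' ≠ 0 := fun h => by
    rw [h, smul_zero, smul_eq_zero] at heq
    exact heq.elim (inv_ne_zero hfy) hdx
  obtain ⟨htr', hsep'⟩ := separating_of_D_ne_zero hK hdx'
  have hord : ∀ P, LocRes.ordDiff (Φ P) F2⁻¹ x = dOrd hK x P - P.ord F2 ∧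
      LocRes.ordDiff (Φ P) G2⁻¹ x' = dOrd hK x' P - P.ord G2 ∧
      dOrd hK x P - P.ord F2 = ((e : ℤ) - 3) * (-P.ord (u 0)) + (dOrd hK x' P - P.ord G2) := by
    intro P
    obtain ⟨t, H, ht, hH, hd⟩ := dOrd_spec hK P
    have h1 := hasseD_ne_zero_of_sep hK htr hsep hH
    have h2 := hasseD_ne_zero_of_sep hK htr' hsep' hH
    refine ⟨?_, ?_, ?_⟩
    · rw [ordDiff_eq hK (hΦ P) ht hH, ord_mul P (inv_ne_zero hfy) h1, ord_inv, hd]; ring
    · rw [ordDiff_eq hK (hΦ P) ht hH, ord_mul P (inv_ne_zero hfy') h2, ord_inv, hd]; ring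
    · have h := congrArg P.ord (derivation_congr (hasseDer H hH) heq)
      simp only [hasseDer_apply] at h
      have hdet : algebraMap k K A.det ≠ 0 := (map_ne_zero _).2 hA
      have hz : (u 0)⁻¹ ^ ((e : ℤ) - 3) ≠ 0 := zpow_ne_zero _ (inv_ne_zero hu0)
      rw [ord_mul P (inv_ne_zero hfy) h1, ord_mul P (mul_ne_zero (mul_ne_zero hdet hz) (inv_ne_zero hfy')) h2,
        ord_mul P (mul_ne_zero hdet hz) (inv_ne_zero hfy'), ord_mul P hdet hz, ord_const, ord_zpow,
        ord_inv, ord_inv, ord_inv] at h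
      rw [hd, hd]
      linarith
  have hmap : mapDiv k ![(1 : K), x', u 2 / u 0] = mapDiv k ![(1 : K), x, y] + FunFld.div k (u 0) :=
    Finsupp.ext fun P => by
      rw [Finsupp.add_apply, div_apply hK]
      exact mapDiv_coord_change hK x y A hA u hu hu0 P
  have he' : (mapDiv k ![(1 : K), x', u 2 / u 0]).deg = e := by
    rw [hmap, deg_add, deg_div hK, add_zero, he]
  have hdd : ∀ (a b : K), (∀ P, LocRes.ordDiff (Φ P) a b = dOrd hK b P - P.ord a⁻¹) →
      Algebra.IsSeparable (IntermediateField.adjoin k ({b} : Set K)) K → Transcendental k b →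
      ∀ P, divDiff Φ a b P = LocRes.ordDiff (Φ P) a b := by
    intro a b hab hs ht P
    obtain ⟨C, hC, -⟩ := exists_canonical_dOrd hK ht hs
    rw [divDiff, dif_pos, Finsupp.ofSupportFinite_coe]
    refine (C.support.finite_toSet.union (finite_support_ord hK a⁻¹)).subset fun R hR => ?_
    rw [Function.mem_support, hab] at hR
    by_contra hn
    simp only [Set.mem_union, Finset.mem_coe, Finsupp.mem_support_iff, Function.mem_support, not_or,
      not_not, hC] at hn
    omega
  refine Finsupp.ext fun P => ?_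
  rw [he, he', Finsupp.sub_apply, Finsupp.sub_apply, Finsupp.smul_apply, Finsupp.smul_apply,
    hdd _ _ (fun R => by rw [(hord R).1, inv_inv]) hsep htr,
    hdd _ _ (fun R => by rw [(hord R).2.1, inv_inv]) hsep' htr', (hord P).1, (hord P).2.1, (hord P).2.2,
    hmap, Finsupp.add_apply, div_apply hK, smul_eq_mul, smul_eq_mul]
  ring

end Groth.Agent.FFLib
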