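import Groth.Agent.FFLib.Wronsk
import Mathlib.RingTheory.Derivation.Basic

/-!
# The order of an exact differential at a rational place
-/

open WithZero Module LaurentSeries

namespace Groth.Agent.FFLib

open FunFld

variable {k K : Type*} [Field k] [Field K] [Algebra k K]

/-- The first Hasse derivative as a derivation. -/
noncomputable def hasseDer {s : K} (H : K →ₐ[k] PowerSeries K) (hH : LocRes.IsHasseFamily s H) :
    Derivation k K K where
  toFun f := LocRes.hasseD H 1 f
  map_add' a b := by simp
  map_smul' c a := by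
    rw [RingHom.id_apply, Algebra.smul_def, LocRes.hasseD_apply, map_mul, AlgHom.commutes,
      PowerSeries.algebraMap_apply, PowerSeries.coeff_C_mul, Algebra.smul_def]
    rfl
  map_one_eq_zero' := by simp [PowerSeries.coeff_one]
  leibniz' a b := by
    show LocRes.hasseD H 1 (a * b) = a * LocRes.hasseD H 1 b + b * LocRes.hasseD H 1 a
    rw [LocRes.hasseD_apply, map_mul, PowerSeries.coeff_mul,
      Finset.Nat.sum_antidiagonal_eq_sum_range_succ_mk, Finset.sum_range_succ, Finset.sum_range_one,
      Nat.sub_zero, Nat.sub_self, PowerSeries.coeff_zero_eq_constantCoeff, hH.2, hH.2]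
    simp only [LocRes.hasseD_apply]
    ring

@[simp] lemma hasseDer_apply {s : K} (H : K →ₐ[k] PowerSeries K) (hH : LocRes.IsHasseFamily s H)
    (f : K) : hasseDer H hH f = LocRes.hasseD H 1 f := rfl

lemma hasseD_self {s : K} {H : K →ₐ[k] PowerSeries K} (hH : LocRes.IsHasseFamily s H) :
    LocRes.hasseD H 1 s = 1 := by
  rw [LocRes.hasseD_apply, hH.1]; simp

/-- The chain rule through an expansion. -/
lemma deriv_map (hK : IsFunctionField k K) [PerfectField k] {F : Type*} [Field F] [Algebra k F]
    (Φ : K →ₐ[k] LaurentSeries F) {s : K} {H : K →ₐ[k] PowerSeries K}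
    (hH : LocRes.IsHasseFamily s H) (f : K) :
    LocRes.D F (Φ f) = Φ (LocRes.hasseD H 1 f) * LocRes.D F (Φ s) := by
  obtain ⟨htr, hsep⟩ := hasse_separating hK hH
  set E := IntermediateField.adjoin k ({s} : Set K)
  let δ : K →+ LaurentSeries F :=
    { toFun := fun a => LocRes.D F (Φ a) - Φ (LocRes.hasseD H 1 a) * LocRes.D F (Φ s)
      map_zero' := by simp
      map_add' := fun a b => by simp only [map_add, LocRes.hasseD_apply]; ring }
  have hmul : ∀ a b, δ (a * b) = Φ a * δ b + Φ b * δ a := fun a b => by
    have := (hasseDer H hH).leibniz a b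
    simp only [hasseDer_apply, smul_eq_mul] at this
    show LocRes.D F (Φ (a * b)) - Φ (LocRes.hasseD H 1 (a * b)) * _ = _ * (LocRes.D F (Φ b) - _) + _ * (LocRes.D F (Φ a) - _)
    rw [this, map_mul Φ, map_add Φ, map_mul Φ, map_mul Φ, Derivation.leibniz, smul_eq_mul, smul_eq_mul]
    ring
  have h1 : δ 1 = 0 := by
    have := hmul 1 1
    simp only [mul_one, map_one, one_mul] at this
    exact right_eq_add.1 this
  have hinv : ∀ a, δ a = 0 → δ a⁻¹ = 0 := fun a ha => by
    rcases eq_or_ne a 0 with rfl | h0
    · simp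
    · have := hmul a a⁻¹
      rw [mul_inv_cancel₀ h0, h1, ha, mul_zero, add_zero] at this
      exact (mul_eq_zero.1 this.symm).resolve_left ((map_ne_zero Φ.toRingHom).2 h0)
  have hE : ∀ a ∈ E, δ a = 0 := fun a ha => by
    induction ha using IntermediateField.adjoin_induction with
    | mem a ha =>
      rw [Set.mem_singleton_iff.1 ha]
      show LocRes.D F (Φ s) - Φ (LocRes.hasseD H 1 s) * _ = 0
      rw [hasseD_self hH, map_one, one_mul, sub_self]
    | algebraMap c =>
      show LocRes.D F (Φ (algebraMap k K c)) - Φ (LocRes.hasseD H 1 (algebraMap k K c)) * _ = 0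
      rw [show LocRes.hasseD H 1 (algebraMap k K c) = 0 from (hasseDer H hH).map_algebraMap c,
        map_zero, zero_mul, sub_zero, LocRes.map_algebraMap, LocRes.D_apply, LocRes.derivative_C]
    | add a b _ _ h h' => rw [map_add, h, h', add_zero]
    | inv a _ h => exact hinv a h
    | mul a b _ _ h h' => rw [hmul, h, h', mul_zero, mul_zero, add_zero]
  have hpow : ∀ (p : Polynomial E), δ (Polynomial.aeval f p) =
      Φ (Polynomial.aeval f p.derivative) * δ f := fun p => by
    induction p using Polynomial.induction_on' with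
    | add p q h h' => simp only [map_add, h, h']; ring
    | monomial i c =>
      have hp : ∀ i : ℕ, δ (f ^ i) = (i : LaurentSeries F) * Φ (f ^ (i - 1)) * δ f := fun i => by
        induction i with
        | zero => simp [h1]
        | succ i ih =>
          rw [pow_succ, hmul, ih]
          rcases i with _ | i
          · simp
          · simp only [Nat.add_sub_cancel]
            simp only [map_pow]
            push_cast
            ring
      have hc : δ (algebraMap E K c) = 0 := hE c c.2
      rw [Polynomial.aeval_monomial, hmul, hc, mul_zero, add_zero, hp,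
        Polynomial.derivative_monomial, Polynomial.aeval_monomial, map_mul, map_mul, map_natCast,
        map_mul, map_natCast]
      ring
  have hy := hpow (minpoly E f)
  rw [minpoly.aeval, map_zero] at hy
  exact sub_eq_zero.1 ((mul_eq_zero.1 hy.symm).resolve_left ((map_ne_zero Φ.toRingHom).2
    ((Algebra.IsSeparable.isSeparable E f).aeval_derivative_ne_zero (minpoly.aeval E f))))

variable (hK : IsFunctionField k K) [PerfectField k] {P : Place k K}

omit [PerfectField k] in
/-- The derivative of the image of a uniformizer is a unit. -/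
lemma v_deriv_uniformizer {Φ : K →ₐ[k] LaurentSeries k} (hΦ : LocRes.IsExpansionAt P.1 Φ) {t : K}
    (ht : P.1 t = exp (-1 : ℤ)) : Valued.v (LocRes.D k (Φ t)) = 1 := by
  have h1 : ∀ m < (1 : ℤ), (Φ t).coeff m = 0 :=
    (ord_le_iff_coeff hΦ t 1).1 (by rw [ht])
  have h2 : (Φ t).coeff 1 ≠ 0 := fun h => by
    have := (ord_le_iff_coeff hΦ t 2).2 fun m hm => by
      rcases eq_or_lt_of_le (show m ≤ 1 by omega) with rfl | h'
      · exact h
      · exact h1 m h'
    rw [ht, exp_le_exp] at this
    omega
  refine le_antisymm ?_ ?_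
  · rw [← exp_zero, show (0 : ℤ) = -0 by norm_num]
    refine (LaurentSeries.valuation_le_iff_coeff_lt_eq_zero k).2 fun m hm => ?_
    rw [LocRes.D_coeff, h1 _ (by omega), smul_zero]
  · by_contra hlt
    have h := LaurentSeries.coeff_zero_of_lt_valuation k (n := 0) (D := 1)
      (le_exp_neg_one_of_lt_one (not_le.1 hlt)) zero_lt_one
    rw [LocRes.D_coeff, zero_add, one_smul] at h
    exact h2 h

include hK in
/-- The order of `u dv` read through any expansion at `P`. -/
lemma vDiff_eq {Φ : K →ₐ[k] LaurentSeries k} (hΦ : LocRes.IsExpansionAt P.1 Φ) {t : K}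
    (ht : P.1 t = exp (-1 : ℤ)) {H : K →ₐ[k] PowerSeries K} (hH : LocRes.IsHasseFamily t H) (u v : K) :
    LocRes.vDiff Φ u v = P.1 (u * LocRes.hasseD H 1 v) := by
  rw [LocRes.vDiff, deriv_map hK Φ hH, ← mul_assoc, map_mul, v_deriv_uniformizer hΦ ht, mul_one,
    ← map_mul, hΦ.1]

include hK in
lemma ordDiff_eq {Φ : K →ₐ[k] LaurentSeries k} (hΦ : LocRes.IsExpansionAt P.1 Φ) {t : K}
    (ht : P.1 t = exp (-1 : ℤ)) {H : K →ₐ[k] PowerSeries K} (hH : LocRes.IsHasseFamily t H) (u v : K) :
    LocRes.ordDiff Φ u v = P.ord (u * LocRes.hasseD H 1 v) := by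
  rw [LocRes.ordDiff, vDiff_eq hK hΦ ht hH]
  rfl

include hK in
/-- A uniformizer with its Hasse family. -/
lemma exists_param (P : Place k K) :
    ∃ (t : K) (H : K →ₐ[k] PowerSeries K), t ≠ 0 ∧ P.ord t = 1 ∧ P.1 t = exp (-1 : ℤ) ∧
      Transcendental k t ∧ Algebra.IsSeparable (IntermediateField.adjoin k ({t} : Set K)) K ∧
      LocRes.IsHasseFamily t H := by
  obtain ⟨t, h0, h1, h2⟩ := exists_uniformizer P
  have htr := transcendental_of_ord hK P (show P.ord t ≠ 0 by omega)
  have hsep := isSeparable_adjoin_uniformizer hK h1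
  obtain ⟨H, hH⟩ := exists_hasse hK htr hsep
  exact ⟨t, H, h0, h1, h2, htr, hsep, hH⟩

end Groth.Agent.FFLib
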