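import Groth.Agent.FFLib.ExtGalois
import Mathlib.FieldTheory.Minpoly.Field
import Mathlib.RingTheory.PowerBasis
import Mathlib.Tactic

/-!
# Places in quadratic extensions
-/

open WithZero Module Polynomial

namespace Groth.Agent.FFLib

open FunFld

variable {k K K' : Type*} [Field k] [Field K] [Field K'] [Algebra k K] [Algebra K K'] [Algebra k K']
  [IsScalarTower k K K'] [FiniteDimensional K K'] (hK : FG1 k K)
include hK

/-- The degree cannot drop upstairs. -/
lemma deg_under_le {Q : Place k K'} : (underPlace hK Q).deg ≤ Q.deg := by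
  set P := underPlace hK Q with hP
  have hover := isOverWith_under hK Q
  let i : P.O →ₐ[k] Q.O :=
    { toFun := fun c => ⟨algebraMap K K' c, (isOverWith_le_one_iff hover (c : K)).2 c.2⟩
      map_one' := Subtype.ext (map_one (algebraMap K K'))
      map_mul' := fun a b => Subtype.ext (map_mul (algebraMap K K') (a : K) b)
      map_zero' := Subtype.ext (map_zero (algebraMap K K'))
      map_add' := fun a b => Subtype.ext (map_add (algebraMap K K') (a : K) b)
      commutes' := fun c => Subtype.ext (IsScalarTower.algebraMap_apply k K K' c).symm }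
  have hiloc : IsLocalHom i.toRingHom := ⟨fun c hc => by
    by_contra hnu
    have h1 : P.1 (c : K) < 1 := (residue_eq_zero_iff_lt P c).1 ((IsLocalRing.residue_eq_zero_iff c).2 hnu)
    have h2 := (isOverWith_lt_one_iff hover (c : K)).2 h1
    exact (IsLocalRing.mem_maximalIdeal _).1 ((IsLocalRing.residue_eq_zero_iff _).1
      ((residue_eq_zero_iff_lt Q (i c)).2 h2)) hc⟩
  let ι : IsLocalRing.ResidueField P.O →ₐ[k] IsLocalRing.ResidueField Q.O :=
    { IsLocalRing.ResidueField.map i.toRingHom with
      commutes' := fun c => by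
        show IsLocalRing.ResidueField.map i.toRingHom (IsLocalRing.residue P.O (algebraMap k P.O c)) = _
        rw [IsLocalRing.ResidueField.map_residue]
        exact congrArg (IsLocalRing.residue Q.O) (i.commutes c) }
  have := finiteDimensional_residue (fg1_ext (K' := K') hK) Q
  exact LinearMap.finrank_le_finrank_of_injective (f := ι.toLinearMap) ι.toRingHom.injective

lemma exists_overs (P : Place k K) : ∃ Q : Place k K', IsOverWith Q P (underIdx hK Q) := by
  classical
  have h := sum_idx_deg_overs (K' := K') hK P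
  obtain ⟨Q, hQ⟩ : (overs (K' := K') hK P).Nonempty := by
    by_contra he
    rw [Finset.not_nonempty_iff_eq_empty.1 he, Finset.sum_empty] at h
    exact (Nat.mul_pos finrank_pos (deg_pos hK P)).ne h
  refine ⟨Q, ?_⟩
  have := isOverWith_under hK Q
  rwa [(isOver_iff hK Q P).1 ((mem_overs hK).1 hQ)] at this

variable (h2 : finrank K K' = 2)
include h2

lemma idx_deg_le {Q : Place k K'} {P : Place k K} {e : ℕ} (hQ : IsOverWith Q P e) :
    e * Q.deg ≤ 2 * P.deg ∧ P.deg ≤ Q.deg ∧ e ≤ 2 := by
  classical
  obtain ⟨hu, he⟩ := under_eq hK hQ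
  have h := sum_idx_deg_overs (K' := K') hK P
  have hle := Finset.single_le_sum (f := fun R : Place k K' => underIdx hK R * R.deg) (fun _ _ => Nat.zero_le _)
    ((mem_overs hK).2 ⟨e, hQ⟩)
  rw [h, h2, he] at hle
  have hd : P.deg ≤ Q.deg := by
    have := deg_under_le hK (Q := Q)
    rwa [hu] at this
  refine ⟨hle, hd, ?_⟩
  have := deg_pos hK P
  nlinarith

/-- A ramified place is the only one above its place, of the same degree. -/
lemma ramified_unique {Q : Place k K'} {P : Place k K} (hQ : IsOverWith Q P 2) :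
    Q.deg = P.deg ∧ ∀ R : Place k K', IsOver R P → R = Q := by
  classical
  obtain ⟨hle, hd, -⟩ := idx_deg_le hK h2 hQ
  refine ⟨by omega, fun R hR => ?_⟩
  by_contra hne
  obtain ⟨hu, he⟩ := under_eq hK hQ
  have h := sum_idx_deg_overs (K' := K') hK P
  rw [h2, ← Finset.add_sum_erase _ _ ((mem_overs hK).2 ⟨2, hQ⟩), he] at h
  have hR' : R ∈ (overs (K' := K') hK P).erase Q := Finset.mem_erase.2 ⟨hne, (mem_overs hK).2 hR⟩
  have := Finset.single_le_sum (f := fun S : Place k K' => underIdx hK S * S.deg) (fun _ _ => Nat.zero_le _) hR'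
  have h1 := underIdx_pos hK R
  have h3 := deg_pos (fg1_ext (K' := K') hK) R
  have := Nat.mul_pos h1 h3
  omega

/-- An even index means exact ramification. -/
lemma idx_two_of_even {Q : Place k K'} {P : Place k K} {e : ℕ} (hQ : IsOverWith Q P e) (he : Even e) : e = 2 := by
  obtain ⟨-, -, hle⟩ := idx_deg_le hK h2 hQ
  have := isOverWith_pos hQ
  obtain ⟨r, rfl⟩ := he
  omega

omit hK in
lemma minpoly_quad {y : K'} (hy : y ∉ Set.range (algebraMap K K')) {a g : K}
    (heq : y ^ 2 + algebraMap K K' a * y = algebraMap K K' g) :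
    minpoly K y = X ^ 2 + C a * X - C g ∧ (∀ t : K', ∃ u v : K, t = algebraMap K K' u + algebraMap K K' v * y) ∧
      IntermediateField.adjoin K ({y} : Set K') = ⊤ := by
  have hint : IsIntegral K y := Algebra.IsIntegral.isIntegral y
  have hmon : (X ^ 2 + C a * X - C g : K[X]).Monic := by monicity!
  have hd2 : 2 ≤ (minpoly K y).natDegree := (minpoly.two_le_natDegree_iff hint).2 hy
  have heq' : minpoly K y = X ^ 2 + C a * X - C g := by
    refine Polynomial.eq_of_monic_of_dvd_of_natDegree_le (minpoly.monic hint) hmon (minpoly.dvd K y (by simp [heq])) ?_ |>.symm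
    exact le_trans (by compute_degree) hd2
  have htop : IntermediateField.adjoin K ({y} : Set K') = ⊤ := by
    refine IntermediateField.eq_of_le_of_finrank_eq le_top ?_
    rw [IntermediateField.adjoin.finrank hint, IntermediateField.finrank_top', h2, heq']
    compute_degree!
  refine ⟨heq', fun t => ?_, htop⟩
  have hli : LinearIndependent K ![(1 : K'), y] := by
    rw [LinearIndependent.pair_iff]
    intro s r h
    by_cases hr : r = 0
    · subst hr; simp_all
    · refine absurd ⟨-(s / r), ?_⟩ hy
      rw [Algebra.smul_def, Algebra.smul_def, mul_one] at h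
      rw [map_neg, map_div₀, neg_eq_iff_eq_neg, div_eq_iff ((_root_.map_ne_zero _).2 hr)]
      linear_combination h
  have hspan := hli.span_eq_top_of_card_eq_finrank (by simp [h2])
  have ht : t ∈ Submodule.span K (Set.range ![(1 : K'), y]) := hspan ▸ Submodule.mem_top
  rw [Matrix.range_cons_cons_empty, Submodule.mem_span_pair] at ht
  obtain ⟨u, v, rfl⟩ := ht
  exact ⟨u, v, by rw [Algebra.smul_def, Algebra.smul_def, mul_one]⟩

omit hK in
lemma exists_conj {y : K'} (hy : y ∉ Set.range (algebraMap K K')) {a g : K}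
    (heq : y ^ 2 + algebraMap K K' a * y = algebraMap K K' g) :
    ∃ σ : K' ≃ₐ[K] K', σ y = -algebraMap K K' a - y := by
  obtain ⟨hmin, -, htop⟩ := minpoly_quad h2 hy heq
  have hint : IsIntegral K y := Algebra.IsIntegral.isIntegral y
  have htop' : Algebra.adjoin K ({y} : Set K') = ⊤ := by
    rw [← IntermediateField.adjoin_simple_toSubalgebra_of_isAlgebraic hint.isAlgebraic, htop]
    rfl
  set pb := PowerBasis.ofAdjoinEqTop hint htop' with hpb
  have hgen : pb.gen = y := PowerBasis.ofAdjoinEqTop_gen _ _
  have hroot : aeval (-algebraMap K K' a - y) (minpoly K pb.gen) = 0 := by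
    rw [hgen, hmin, map_sub, map_add, map_pow, map_mul, aeval_X, aeval_C, aeval_C]
    linear_combination heq
  refine ⟨AlgEquiv.ofBijective (pb.lift _ hroot) (AlgHom.bijective _), ?_⟩
  show pb.lift _ hroot y = _
  exact (congrArg (pb.lift _ hroot) hgen.symm).trans (pb.lift_gen _ hroot)

/-- An integral generator with a unit discriminant gives no ramification. -/
lemma idx_one_of_unit {y : K'} (hy : y ∉ Set.range (algebraMap K K')) {a g : K}
    (heq : y ^ 2 + algebraMap K K' a * y = algebraMap K K' g) {Q : Place k K'} {P : Place k K} {e : ℕ}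
    (hQ : IsOverWith Q P e) (hy1 : Q.1 y ≤ 1)
    (hdisc : Q.1 (2 * y + algebraMap K K' a) = 1) : e = 1 := by
  obtain ⟨-, -, hle⟩ := idx_deg_le hK h2 hQ
  have hpos := isOverWith_pos hQ
  by_contra hne
  obtain rfl : e = 2 := by omega
  obtain ⟨-, huniq⟩ := ramified_unique hK h2 hQ
  obtain ⟨σ, hσ⟩ := exists_conj h2 hy heq
  have hσQ : placeMap σ Q = Q := huniq _ ⟨2, isOverWith_placeMap hQ σ⟩
  obtain ⟨t, -, -, htv⟩ := exists_uniformizer Q
  obtain ⟨u, v, rfl⟩ := (minpoly_quad h2 hy heq).2.1 t
  have hst : Q.1 (σ (algebraMap K K' u + algebraMap K K' v * y)) = exp (-1) := by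
    rw [← placeMap_v, hσQ, htv]
  have hstep : ∀ x : K, Q.1 (algebraMap K K' x) ≤ exp (-1 : ℤ) → Q.1 (algebraMap K K' x) ≤ exp (-2 : ℤ) := by
    intro x hx
    rcases eq_or_ne x 0 with rfl | hx0
    · rw [map_zero, map_zero]; exact zero_le
    · have hx1 : algebraMap K K' x ≠ 0 := (_root_.map_ne_zero _).2 hx0
      have ho := (isOverWith_iff_ord.1 hQ).2 x hx0
      rw [v_le_exp_iff Q hx1] at hx ⊢
      push_cast at ho
      omega
  have hdv : Q.1 (algebraMap K K' v) ≤ exp (-1 : ℤ) := by
    have he : algebraMap K K' v * (2 * y + algebraMap K K' a) =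
        (algebraMap K K' u + algebraMap K K' v * y) - σ (algebraMap K K' u + algebraMap K K' v * y) := by
      rw [map_add, map_mul, AlgEquiv.commutes, AlgEquiv.commutes, hσ]; ring
    have := congrArg Q.1 he
    rw [map_mul, hdisc, mul_one] at this
    rw [this]
    exact (Q.1.map_sub _ _).trans (max_le htv.le hst.le)
  have hvy : Q.1 (algebraMap K K' v * y) ≤ exp (-2 : ℤ) := by
    rw [map_mul]
    exact (mul_le_mul' (hstep v hdv) hy1).trans_eq (mul_one _)
  have hu : Q.1 (algebraMap K K' u) ≤ exp (-1 : ℤ) := by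
    rw [show algebraMap K K' u = (algebraMap K K' u + algebraMap K K' v * y) - algebraMap K K' v * y by ring]
    exact (Q.1.map_sub _ _).trans (max_le htv.le (hvy.trans (exp_le_exp.2 (by norm_num))))
  have := (Q.1.map_add _ _).trans (max_le (hstep u hu) hvy)
  rw [htv, exp_le_exp] at this
  omega

end Groth.Agent.FFLib
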