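import Groth.Agent.FFLib.DiffExp
import Groth.Agent.FFLib.Quadratic
import Mathlib.RingTheory.Trace.Basic
import Mathlib.RingTheory.Unramified.Field

/-!
# Separability of coefficient fields of expansions, totally ramified different exponents
-/

open WithZero Polynomial

namespace Groth.Agent.FFLib.DiffExp

open FunFld LocRes

universe u

variable {k : Type u} {K K' : Type*} [Field k] [Field K] [Field K'] [Algebra k K] [Algebra K K'] [Algebra k K']
  [IsScalarTower k K K']

section Coeff

variable {F : Type*} [Field F] [Algebra k F]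

lemma smul_eq_C_mul (c : k) (f : LaurentSeries F) : c • f = HahnSeries.C (algebraMap k F c) * f := by
  rw [HahnSeries.C_mul_eq_smul, algebraMap_smul]

/-- A derivation of the coefficients acting coefficientwise on Laurent series. -/
noncomputable def coeffDer (δ : Derivation k F F) : Derivation k (LaurentSeries F) (LaurentSeries F) where
  toFun f := f.map δ
  map_add' f g := by
    ext n
    show δ ((f + g).coeff n) = (f.map δ + g.map δ).coeff n
    rw [HahnSeries.coeff_add, map_add, HahnSeries.coeff_add]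
    rfl
  map_smul' c f := by
    ext n
    rw [RingHom.id_apply, Algebra.smul_def, HahnSeries.algebraMap_apply', PowerSeries.algebraMap_apply,
      HahnSeries.ofPowerSeries_C, HahnSeries.C_mul_eq_smul]
    simp [Derivation.map_smul]
  map_one_eq_zero' := by
    show (1 : LaurentSeries F).map δ = 0
    ext n
    rcases eq_or_ne n 0 with rfl | h
    · simp
    · simp [HahnSeries.coeff_one, h]
  leibniz' f g := by
    show (f * g).map δ = f * g.map δ + g * f.map δ
    have hg : (g.map δ).support ⊆ g.support := Function.support_comp_subset (map_zero δ) _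
    have hf : (f.map δ).support ⊆ f.support := Function.support_comp_subset (map_zero δ) _
    ext n
    rw [HahnSeries.coeff_add, mul_comm g (f.map δ), HahnSeries.coeff_mul_right' g.isPWO_support hg,
      HahnSeries.coeff_mul_left' f.isPWO_support hf, ← Finset.sum_add_distrib]
    simp only [HahnSeries.map_coeff, HahnSeries.coeff_mul, map_sum, Derivation.leibniz, smul_eq_mul]
    exact Finset.sum_congr rfl fun ij _ => by ring

@[simp] lemma coeffDer_coeff (δ : Derivation k F F) (f : LaurentSeries F) (n : ℤ) :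
    (coeffDer δ f).coeff n = δ (f.coeff n) := rfl

lemma v_coeffDer_le (δ : Derivation k F F) {f : LaurentSeries F} {n : ℤ} (hf : Valued.v f ≤ exp (-n)) :
    Valued.v (coeffDer δ f) ≤ exp (-n) := by
  rw [LaurentSeries.valuation_le_iff_coeff_lt_eq_zero] at hf ⊢
  intro i hi
  rw [coeffDer_coeff, hf i hi, map_zero]

omit [Algebra K K'] [IsScalarTower k K K'] in
/-- Any derivation of Laurent series, pulled back, respects proportional differentials. -/
lemma der_eq (Δ : Derivation k (LaurentSeries F) (LaurentSeries F)) (φ : K →ₐ[k] LaurentSeries F) {a x h : K}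
    (hd : KaehlerDifferential.D k K a = h • KaehlerDifferential.D k K x) :
    Δ (φ a) = φ h * Δ (φ x) := by
  let _i := φ.toRingHom.toAlgebra
  have : IsScalarTower k K (LaurentSeries F) := isScalarTower_exp φ
  let d : Derivation k K (LaurentSeries F) :=
    { toFun := fun y => Δ (φ y)
      map_add' := fun y z => show Δ (φ (y + z)) = Δ (φ y) + Δ (φ z) by rw [map_add, map_add]
      map_smul' := fun c y => show Δ (φ (c • y)) = c • Δ (φ y) by
        rw [Algebra.smul_def, map_mul, Derivation.leibniz, φ.commutes, Derivation.map_algebraMap, smul_zero,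
          add_zero, smul_eq_mul, ← φ.commutes, LocRes.map_algebraMap, ← smul_eq_C_mul]
      map_one_eq_zero' := show Δ (φ 1) = 0 by rw [map_one, Derivation.map_one_eq_zero]
      leibniz' := fun y z => show Δ (φ (y * z)) = φ y * Δ (φ z) + φ z * Δ (φ y) by
        rw [map_mul, Derivation.leibniz, smul_eq_mul, smul_eq_mul] }
  have h1 := congrArg d.liftKaehlerDifferential hd
  rw [map_smul, Derivation.liftKaehlerDifferential_comp_D, Derivation.liftKaehlerDifferential_comp_D] at h1
  exact h1

end Coeff

variable (hK : IsFunctionField k K) (hg : IsGeometric k K)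
  {F F' : Type*} [Field F] [Algebra k F] [Field F'] [Algebra k F']
  {P : Place k K} {φ : K →ₐ[k] LaurentSeries F} (hφ : IsExpansionAt P.1 φ)

include hφ

omit [Algebra K K'] [IsScalarTower k K K'] in
/-- Derivations of the coefficient field over the constants vanish. -/
theorem derivation_eq_zero_gen (hspan : ∀ {x : K}, vDiff φ 1 x ≠ 0 → ∀ a,
    ∃ h : K, KaehlerDifferential.D k K a = h • KaehlerDifferential.D k K x) (δ : Derivation k F F) : δ = 0 := by
  refine Derivation.ext fun a => ?_
  obtain ⟨y, hy, rfl⟩ := hφ.2.1 a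
  obtain ⟨t, -, -, ht⟩ := exists_uniformizer P
  have h1 := vDiff_uniformizer hφ ht
  obtain ⟨h, hd⟩ := hspan (h1 ▸ one_ne_zero : vDiff φ 1 t ≠ 0) y
  have hΔ := der_eq (coeffDer δ) φ hd
  have hD := deriv_eq φ hd
  have hy' : Valued.v (φ y) ≤ exp (-(0 : ℤ)) := by rw [hφ.1, neg_zero, exp_zero]; exact hy
  have hφh : P.1 h ≤ exp (1 : ℤ) := by
    have h2 := congrArg Valued.v hD
    simp only [map_mul, hφ.1] at h2
    rw [← vDiff_one φ t, h1, mul_one] at h2
    exact h2 ▸ (v_D_le hy').trans_eq (by norm_num)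
  have hle : Valued.v (coeffDer δ (φ y)) ≤ exp (-(0 : ℤ)) := by
    rw [hΔ, map_mul, hφ.1]
    refine (mul_le_mul' hφh (v_coeffDer_le δ (n := 1) (by rw [hφ.1, ht]))).trans_eq ?_
    rw [← exp_add]
    norm_num
  have hDy : Valued.v (D F (φ y)) ≤ exp (-(0 : ℤ)) := by
    rw [LaurentSeries.valuation_le_iff_coeff_lt_eq_zero]
    intro i hi
    rw [D_coeff]
    rcases lt_or_eq_of_le (show i + 1 ≤ 0 by omega) with h' | h'
    · rw [LaurentSeries.coeff_zero_of_lt_valuation F hy' h', smul_zero]
    · rw [h', zero_smul]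
  have hφh' : P.1 h ≤ 1 := by
    have h2 := congrArg Valued.v hD
    simp only [map_mul, hφ.1] at h2
    rw [← vDiff_one φ t, h1, mul_one] at h2
    rw [← h2]
    simpa using hDy
  have hlt : Valued.v (coeffDer δ (φ y)) ≤ exp (-(1 : ℤ)) := by
    rw [hΔ, map_mul, hφ.1]
    exact (mul_le_mul' hφh' (v_coeffDer_le δ (n := 1) (by rw [hφ.1, ht]))).trans_eq (one_mul _)
  have := LaurentSeries.coeff_zero_of_lt_valuation F hlt zero_lt_one
  rw [coeffDer_coeff] at this
  rw [this]
  rfl

omit [Algebra K K'] [IsScalarTower k K K'] in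
/-- The coefficient field of an expansion is separable over the constants. -/
theorem isSeparable_coeffField_gen (hspan : ∀ {x : K}, vDiff φ 1 x ≠ 0 → ∀ a,
    ∃ h : K, KaehlerDifferential.D k K a = h • KaehlerDifferential.D k K x) [FiniteDimensional k F] :
    Algebra.IsSeparable k F := by
  have : Subsingleton (KaehlerDifferential k F) := by
    by_contra hne
    rw [not_subsingleton_iff_nontrivial] at hne
    obtain ⟨w, hw⟩ := exists_ne (0 : KaehlerDifferential k F)
    obtain ⟨f, hf⟩ := Module.Projective.exists_dual_ne_zero F hw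
    have h0 := derivation_eq_zero_gen hφ hspan ((KaehlerDifferential.linearMapEquivDerivation k F) f)
    rw [LinearEquiv.map_eq_zero_iff] at h0
    exact hf (by rw [h0, LinearMap.zero_apply])
  have : Algebra.FormallyUnramified k F := ⟨this⟩
  exact Algebra.FormallyUnramified.isSeparable k F

include hK hg

omit [Algebra K K'] [IsScalarTower k K K'] in
/-- Derivations of the coefficient field of an expansion of a geometric function field vanish. -/
theorem derivation_eq_zero (δ : Derivation k F F) : δ = 0 :=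
  derivation_eq_zero_gen hφ (fun hx a => exists_smul hK hg hx a) δ

omit [Algebra K K'] [IsScalarTower k K K'] in
/-- The coefficient field of an expansion of a geometric function field is separable over the constants. -/
theorem isSeparable_coeffField [FiniteDimensional k F] : Algebra.IsSeparable k F :=
  isSeparable_coeffField_gen hφ fun hx a => exists_smul hK hg hx a

omit [Algebra K K'] [IsScalarTower k K K'] in
/-- Residues against a separating differential take every value. -/
theorem exists_locRes_ne_zero [FiniteDimensional k F] {x : K} (hx : KaehlerDifferential.D k K x ≠ 0) :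
    ∃ y : K, locRes φ y x ≠ 0 := by
  obtain ⟨t, ht0, -, ht⟩ := exists_uniformizer P
  have h1 := vDiff_uniformizer hφ ht
  have hDx : Valued.v (D F (φ x)) ≠ 0 := by
    intro h0
    obtain ⟨c, hc⟩ := (finrank_eq_one_iff_of_nonzero' _ hx).1
      (GeomFFLib.finrank_kaehler hK hg) (KaehlerDifferential.D k K t)
    rw [vDiff_one, deriv_eq φ hc.symm, map_mul, h0, mul_zero] at h1
    exact zero_ne_one h1
  have := isSeparable_coeffField hK hg hφ
  obtain ⟨b, hb⟩ : ∃ b : F, Algebra.trace k F b ≠ 0 := by
    by_contra hall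
    push Not at hall
    exact Algebra.trace_ne_zero k F (LinearMap.ext fun b => by rw [hall b, LinearMap.zero_apply])
  set m : ℤ := log (Valued.v (D F (φ x))) with hm
  set n : ℤ := m - 1 with hn
  set W : LaurentSeries F := φ (t ^ n) * D F (φ x) with hWdef
  have hW : Valued.v W = exp (1 : ℤ) := by
    rw [hWdef, map_mul, hφ.1, map_zpow₀, ht, ← exp_zsmul, ← exp_log hDx, ← exp_add, ← hm, hn, smul_eq_mul]
    ring_nf
  have hc : W.coeff (-1) ≠ 0 := fun h0 => by
    have h' : Valued.v W ≤ exp (-(0 : ℤ)) := by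
      rw [LaurentSeries.valuation_le_iff_coeff_lt_eq_zero]
      intro i hi
      rcases lt_or_eq_of_le (show i ≤ -1 by omega) with h' | h'
      · exact LaurentSeries.coeff_zero_of_lt_valuation F (D := -1) (by rw [hW, neg_neg]) h'
      · rw [h', h0]
    rw [hW, exp_le_exp] at h'
    omega
  obtain ⟨z, hz, hz0⟩ := hφ.2.1 (b / W.coeff (-1))
  refine ⟨z * t ^ n, ?_⟩
  rw [locRes, resExp, map_mul φ, mul_assoc, ← hWdef, res_apply]
  suffices (φ z * W).coeff (-1) = b by rwa [this]
  have hzv : Valued.v (φ z) ≤ exp (-(0 : ℤ)) := by rw [hφ.1, neg_zero, exp_zero]; exact hz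
  have hr : Valued.v (φ z - HahnSeries.C ((φ z).coeff 0)) ≤ exp (-(1 : ℤ)) := by
    rw [LaurentSeries.valuation_le_iff_coeff_lt_eq_zero]
    intro i hi
    rw [HahnSeries.coeff_sub]
    rcases lt_or_eq_of_le (show i ≤ 0 by omega) with h' | h'
    · rw [LaurentSeries.coeff_zero_of_lt_valuation F hzv h', HahnSeries.C_apply,
        HahnSeries.coeff_single_of_ne h'.ne, sub_zero]
    · rw [h', HahnSeries.C_apply, HahnSeries.coeff_single_same, sub_self]
  have hrW : Valued.v ((φ z - HahnSeries.C ((φ z).coeff 0)) * W) ≤ exp (-(0 : ℤ)) := by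
    rw [map_mul, hW]
    exact (mul_le_mul' hr le_rfl).trans_eq (by rw [← exp_add]; norm_num)
  have h0 := LaurentSeries.coeff_zero_of_lt_valuation F hrW (show (-1 : ℤ) < 0 by norm_num)
  rw [sub_mul, HahnSeries.coeff_sub, sub_eq_zero, HahnSeries.C_mul_eq_smul, HahnSeries.coeff_smul,
    smul_eq_mul, hz0, div_mul_cancel₀ _ hc] at h0
  exact h0

variable {Q : Place k K'} {e : ℕ} (he : IsOverWith Q P e) {ψ : K' →ₐ[k] LaurentSeries F'} (hψ : IsExpansionAt Q.1 ψ)
include he hψ

/-- Totally ramified places: the derivative of the minimal polynomial of a uniformizer. -/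
theorem ord_derivative_minpoly [FiniteDimensional K K'] {x : K} (hx : vDiff φ 1 x ≠ 0)
    (hx' : vDiff ψ 1 (algebraMap K K' x) ≠ 0) (hn : e = Module.finrank K K') {s : K'} (hs : Q.1 s = exp (-1 : ℤ)) :
    Q.ord (aeval s (derivative (minpoly K s))) = diffExp φ ψ e x := by
  classical
  have hint := Algebra.IsIntegral.isIntegral (R := K) s
  set p := minpoly K s with hp
  set m := p.natDegree with hm
  set c : ℕ → K := p.coeff with hc
  have hme : m ≤ e := hn ▸ minpoly.natDegree_le s
  have hs0 : s ≠ 0 := fun h => by rw [h, map_zero] at hs; exact exp_ne_zero hs.symm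
  have hmonic : p.Monic := minpoly.monic hint
  have hrel : ∑ i ∈ Finset.range m, algebraMap K K' (c i) * s ^ i = -(s ^ m) := by
    have h0 : aeval s p = 0 := minpoly.aeval K s
    conv_lhs at h0 => rw [hmonic.as_sum]
    rw [map_add, map_sum, map_pow, aeval_X] at h0
    simp only [map_mul, aeval_C, map_pow, aeval_X] at h0
    rw [eq_neg_iff_add_eq_zero, add_comm]
    exact h0
  have hterm : ∀ i, c i ≠ 0 → Q.1 (algebraMap K K' (c i) * s ^ i) = exp (-((e : ℤ) * P.ord (c i) + i)) := by
    intro i hi
    rw [map_mul, map_pow, he, v_eq P hi, hs, ← exp_nsmul, ← exp_nsmul, ← exp_add]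
    simp only [nsmul_eq_mul]
    ring_nf
  set T := (Finset.range m).filter fun i => c i ≠ 0 with hT
  have hsum : ∑ i ∈ T, algebraMap K K' (c i) * s ^ i = -(s ^ m) := by
    rw [← hrel]
    refine Finset.sum_subset (Finset.filter_subset _ _) fun i hi hni => ?_
    rw [show c i = 0 by simpa [hT, hi] using hni, map_zero, zero_mul]
  have hTne : T.Nonempty := by
    by_contra h
    rw [Finset.not_nonempty_iff_eq_empty.1 h, Finset.sum_empty, eq_comm, neg_eq_zero] at hsum
    exact pow_ne_zero _ hs0 hsum
  obtain ⟨j, hjT, hjmin⟩ := Finset.exists_min_image T (fun i => (e : ℤ) * P.ord (c i) + i) hTne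
  have hmem : ∀ {i}, i ∈ T → i < m ∧ c i ≠ 0 := fun hi => by simpa [hT] using hi
  have hinj : ∀ i ∈ T, (e : ℤ) * P.ord (c i) + i = e * P.ord (c j) + j → i = j := fun i hi h => by
    have h1 := (hmem hi).1
    have h2 := (hmem hjT).1
    have h3 : (e : ℤ) * (P.ord (c i) - P.ord (c j)) = (j : ℤ) - i := by linarith
    have h4 : |(j : ℤ) - i| < e := by rw [abs_lt]; omega
    rw [← h3, abs_mul, Nat.abs_cast] at h4
    have h5 : |P.ord (c i) - P.ord (c j)| < 1 := by
      by_contra h5
      rw [not_lt] at h5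
      nlinarith
    rw [abs_lt] at h5
    have h6 : P.ord (c i) - P.ord (c j) = 0 := by omega
    rw [h6, mul_zero] at h3
    omega
  have hv := Q.1.map_sum_eq_of_lt (f := fun i => algebraMap K K' (c i) * s ^ i) hjT fun i hi => by
    rw [Finset.mem_sdiff, Finset.mem_singleton] at hi
    rw [hterm i (hmem hi.1).2, hterm j (hmem hjT).2, exp_lt_exp, neg_lt_neg_iff]
    exact lt_of_le_of_ne (hjmin i hi.1) fun h => hi.2 (hinj i hi.1 h.symm)
  rw [hsum, Valuation.map_neg, map_pow, hs, hterm j (hmem hjT).2, ← exp_nsmul, exp_inj, nsmul_eq_mul] at hv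
  have hjm := (hmem hjT).1
  have hepos : (0 : ℤ) < e := by exact_mod_cast isOverWith_pos he
  obtain ⟨hj0, hord1, hmeq⟩ : j = 0 ∧ P.ord (c j) = 1 ∧ m = e := by
    have h1 : (e : ℤ) * P.ord (c j) = (m : ℤ) - j := by push_cast at hv; linarith
    have ho : P.ord (c j) = 1 := by
      have h2 : 0 < (e : ℤ) * P.ord (c j) ∧ (e : ℤ) * P.ord (c j) ≤ e := by rw [h1]; omega
      have := pos_of_mul_pos_right h2.1 hepos.le
      nlinarith
    rw [ho, mul_one] at h1
    exact ⟨by omega, ho, by omega⟩
  subst hj0
  have hc0 : c 0 ≠ 0 := (hmem hjT).2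
  have hci : ∀ i ∈ Finset.range m, P.1 (c i) ≤ exp (-1 : ℤ) := fun i hi => by
    rcases eq_or_ne (c i) 0 with h0 | h0
    · rw [h0, map_zero]; exact zero_le
    have hiT : i ∈ T := by rw [hT, Finset.mem_filter]; exact ⟨hi, h0⟩
    rw [v_le_exp_iff P h0]
    have h1 := hjmin i hiT
    rw [hord1] at h1
    have h2 := Finset.mem_range.1 hi
    by_contra hlt
    have : P.ord (c i) ≤ 0 := by omega
    nlinarith
  obtain ⟨t, -, -, ht⟩ := exists_uniformizer P
  have h1t := vDiff_uniformizer hφ ht
  have hd : ∀ i, ∃ h : K, KaehlerDifferential.D k K (c i) = h • KaehlerDifferential.D k K t :=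
    fun i => exists_smul hK hg (h1t ▸ one_ne_zero : vDiff φ 1 t ≠ 0) (c i)
  choose h hh using hd
  have hvh : ∀ i, P.1 (h i) = Valued.v (D F (φ (c i))) := fun i => by
    rw [deriv_eq φ (hh i), map_mul, hφ.1, ← vDiff_one φ t, h1t, mul_one]
  have hhle : ∀ i ∈ Finset.range m, P.1 (h i) ≤ 1 := fun i hi => by
    rw [hvh i]
    exact (v_D_le (n := 1) (by rw [hφ.1]; exact hci i hi)).trans_eq (by norm_num)
  have hh0 : P.1 (h 0) = 1 := by
    rw [hvh 0, v_D_eq (n := 1) (by rw [hφ.1, v_eq P hc0, hord1]) (by simp)]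
    norm_num
  set Sh := ∑ i ∈ Finset.range m, algebraMap K K' (h i) * s ^ i with hSh
  have h0m : 0 ∈ Finset.range m := Finset.mem_range.2 (by omega)
  have hSv : Q.1 Sh = 1 := by
    rw [hSh, Q.1.map_sum_eq_of_lt h0m]
    · rw [pow_zero, mul_one, he, hh0, one_pow]
    intro i hi
    rw [Finset.mem_sdiff, Finset.mem_singleton] at hi
    rw [pow_zero, mul_one, he (h 0), hh0, one_pow, map_mul, map_pow, he, hs, ← exp_nsmul]
    refine (mul_le_mul' (pow_le_one' (hhle i hi.1) e) le_rfl).trans_lt ?_
    rw [one_mul, ← exp_zero, exp_lt_exp, nsmul_eq_mul]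
    have : 0 < i := Nat.pos_of_ne_zero hi.2
    omega
  -- differentiate the relation
  let ψ₀ : K →ₐ[k] LaurentSeries F' := ψ.comp (IsScalarTower.toAlgHom k K K')
  set Dt := D F' (ψ (algebraMap K K' t)) with hDt
  set Ds := D F' (ψ s) with hDs
  have hDc : ∀ i, D F' (ψ (algebraMap K K' (c i))) = ψ (algebraMap K K' (h i)) * Dt := fun i => deriv_eq ψ₀ (hh i)
  have hp' : aeval s (derivative p) = (m : K') * s ^ (m - 1) +
      ∑ i ∈ Finset.range m, algebraMap K K' (c i) * ((i : K') * s ^ (i - 1)) := by
    conv_lhs => rw [hmonic.as_sum]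
    rw [derivative_add, derivative_sum, map_add, map_sum]
    simp only [derivative_X_pow, derivative_C_mul, map_mul, map_pow, aeval_X, aeval_C, map_natCast]
    rfl
  have hzero : s ^ m + ∑ i ∈ Finset.range m, algebraMap K K' (c i) * s ^ i = 0 := by
    rw [hrel, add_neg_cancel]
  have key : ψ (aeval s (derivative p)) * Ds + ψ Sh * Dt = 0 := by
    have h2 := congrArg (fun z => D F' (ψ z)) hzero
    simp only [map_zero, map_add, map_sum, map_mul, map_pow, Derivation.leibniz, Derivation.leibniz_pow,
      smul_eq_mul, nsmul_eq_mul, hDc, ← hDs, Finset.sum_add_distrib] at h2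
    rw [hp', hSh]
    simp only [map_add, map_sum, map_mul, map_pow, map_natCast, add_mul, Finset.sum_mul]
    rw [← h2]
    rw [add_assoc]
    congr 1
    · ring
    congr 1
    · exact Finset.sum_congr rfl fun i _ => by ring
    · exact Finset.sum_congr rfl fun i _ => by ring
  have hDs1 : Valued.v Ds = 1 := by
    rw [hDs, v_D_eq (n := 1) (by rw [hψ.1, hs]) (by simp)]
    norm_num
  have hfin := congrArg Valued.v (eq_neg_of_add_eq_zero_left key)
  have hDtv : Valued.v Dt = exp (-(diffExp φ ψ e x)) := diffExp_eq_uniformizer hK hg he hφ hψ hx hx' ht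
  rw [Valuation.map_neg, map_mul, map_mul, hψ.1, hψ.1, hDs1, hSv, mul_one, one_mul, hDtv] at hfin
  rw [Place.ord, hfin, log_exp, neg_neg]

end Groth.Agent.FFLib.DiffExp
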