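import Groth.Agent.FFLib.DiffExp2
import Groth.Agent.FFLib.ExtRam
import Groth.Agent.FFLib.Expand

/-!
# Different exponents in Galois extensions
-/

open WithZero Module Polynomial

namespace Groth.Agent.FFLib.DiffExp

open FunFld LocRes

universe u

section Residue

variable {k : Type u} {K : Type*} [Field k] [Field K] [Algebra k K] (hK : FG1 k K)
  {F : Type*} [Field F] [Algebra k F] {P : Place k K} {φ : K →ₐ[k] LaurentSeries F} (hφ : IsExpansionAt P.1 φ)

lemma v_C_le (a : F) : Valued.v (HahnSeries.C a : LaurentSeries F) ≤ 1 := by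
  rw [show (1 : WithZero (Multiplicative ℤ)) = exp (-(0 : ℤ)) by simp, LaurentSeries.valuation_le_iff_coeff_lt_eq_zero]
  intro i hi
  rw [HahnSeries.C_apply, HahnSeries.coeff_single_of_ne hi.ne]

omit [Algebra k F] in
/-- Evaluation of a constant polynomial near a constant. -/
lemma v_aeval_sub_le (p : F[X]) (a : F) {x : LaurentSeries F} (hx : Valued.v x ≤ 1) :
    Valued.v (aeval x p - HahnSeries.C (p.eval a)) ≤ Valued.v (x - HahnSeries.C a) := by
  obtain ⟨r, hr⟩ := X_sub_C_dvd_sub_C_eval (p := p) (a := a)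
  have h := congrArg (aeval x) hr
  simp only [map_sub, map_mul, aeval_X, aeval_C, algebraMap_eq_C] at h
  rw [h, map_mul]
  refine mul_le_of_le_one_right' ?_
  rw [aeval_eq_sum_range]
  refine Valuation.map_sum_le _ fun i _ => ?_
  rw [Algebra.smul_def, algebraMap_eq_C, map_mul, map_pow]
  exact mul_le_one' (v_C_le _) (pow_le_one' hx i)

omit [Algebra k F] in
/-- Near a simple root a polynomial has the size of the distance to the root. -/
lemma v_aeval_eq (p : F[X]) {a : F} (ha : p.eval a = 0) (ha' : (derivative p).eval a ≠ 0) {x : LaurentSeries F}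
    (hx : Valued.v (x - HahnSeries.C a) < 1) : Valued.v (aeval x p) = Valued.v (x - HahnSeries.C a) := by
  have hx1 : Valued.v x ≤ 1 := by
    rw [show x = (x - HahnSeries.C a) + HahnSeries.C a by ring]
    exact (Valuation.map_add _ _ _).trans (max_le hx.le (v_C_le a))
  obtain ⟨r, hr⟩ := dvd_iff_isRoot.2 (show p.IsRoot a from ha)
  have hra : r.eval a ≠ 0 := by
    rw [hr, Polynomial.derivative_mul] at ha'
    simpa using ha'
  have hC : Valued.v (HahnSeries.C (r.eval a) : LaurentSeries F) = 1 := by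
    refine le_antisymm (v_C_le _) ?_
    have h1 := v_C_le (r.eval a)⁻¹
    rw [map_inv₀, map_inv₀, inv_le_one₀ (zero_lt_iff.2 (by simpa using hra))] at h1
    exact h1
  have hr1 : Valued.v (aeval x r) = 1 := by
    rw [show aeval x r = HahnSeries.C (r.eval a) + (aeval x r - HahnSeries.C (r.eval a)) by ring,
      Valuation.map_add_eq_of_lt_left _ (by rw [hC]; exact (v_aeval_sub_le r a hx1).trans_lt hx), hC]
  rw [hr, map_mul, map_mul, map_sub, aeval_X, aeval_C, algebraMap_eq_C, hr1, mul_one]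

include hφ in
lemma constTerm_lt {x : K} (hx : P.1 x ≤ 1) :
    Valued.v (φ x - HahnSeries.C ((φ x).coeff 0)) < 1 := by
  have hv : Valued.v (φ x) ≤ exp (-(0 : ℤ)) := by rw [hφ.1, neg_zero, exp_zero]; exact hx
  refine lt_of_le_of_lt (b := exp (-(1 : ℤ))) ?_ (by rw [← exp_zero, exp_lt_exp]; norm_num)
  rw [LaurentSeries.valuation_le_iff_coeff_lt_eq_zero]
  intro i hi
  rw [HahnSeries.coeff_sub]
  rcases lt_or_eq_of_le (show i ≤ 0 by omega) with h' | h'
  · rw [LaurentSeries.coeff_zero_of_lt_valuation F hv h', HahnSeries.C_apply,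
      HahnSeries.coeff_single_of_ne h'.ne, sub_zero]
  · rw [h', HahnSeries.C_apply, HahnSeries.coeff_single_same, sub_self]

include hK hφ in
/-- The residue field of a place with an expansion is separable. -/
theorem isSeparable_residue (hspan : ∀ {x : K}, vDiff φ 1 x ≠ 0 → ∀ a,
    ∃ h : K, KaehlerDifferential.D k K a = h • KaehlerDifferential.D k K x) :
    Algebra.IsSeparable k (IsLocalRing.ResidueField P.O) ∧ Algebra.IsSeparable k F := by
  let c : P.O →+* F :=
    { toFun := fun x => (φ x).coeff 0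
      map_one' := by simp
      map_zero' := by simp
      map_add' := fun x y => by simp
      map_mul' := fun x y => by
        have hx := constTerm_lt hφ x.2
        have hy := constTerm_lt hφ y.2
        have hxy := constTerm_lt hφ (x * y).2
        have h : Valued.v (φ ((x : K) * y) - HahnSeries.C ((φ x).coeff 0 * (φ y).coeff 0)) < 1 := by
          rw [map_mul φ, map_mul HahnSeries.C,
            show φ (x : K) * φ y - HahnSeries.C ((φ x).coeff 0) * HahnSeries.C ((φ y).coeff 0) =
              (φ (x : K) - HahnSeries.C ((φ x).coeff 0)) * φ y +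
                HahnSeries.C ((φ x).coeff 0) * (φ y - HahnSeries.C ((φ y).coeff 0)) by ring]
          refine Valuation.map_add_lt _ ?_ ?_ <;> rw [map_mul]
          · exact lt_of_le_of_lt (mul_le_of_le_one_right' (by rw [hφ.1]; exact y.2)) hx
          · exact lt_of_le_of_lt (mul_le_of_le_one_left' (v_C_le _)) hy
        have h' := (Valuation.map_sub _ _ _).trans_lt (max_lt h hxy)
        rw [show φ ((x : K) * y) - HahnSeries.C ((φ x).coeff 0 * (φ y).coeff 0) -
          (φ ((x * y : P.O) : K) - HahnSeries.C ((φ ((x * y : P.O) : K)).coeff 0)) =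
            HahnSeries.C ((φ ((x * y : P.O) : K)).coeff 0 - (φ x).coeff 0 * (φ y).coeff 0) by
          rw [map_sub]; push_cast; ring] at h'
        have h'' : ((φ ((x * y : P.O) : K)).coeff 0 - (φ x).coeff 0 * (φ y).coeff 0) = 0 := by
          by_contra hne
          refine absurd h' (not_lt.2 ?_)
          have h1 := v_C_le ((φ ((x * y : P.O) : K)).coeff 0 - (φ x).coeff 0 * (φ y).coeff 0)⁻¹
          rw [map_inv₀, map_inv₀, inv_le_one₀ (zero_lt_iff.2 (Valued.v.ne_zero_iff.2 ((map_ne_zero_iff _ HahnSeries.C_injective).2 hne)))] at h1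
          exact h1
        exact sub_eq_zero.1 h'' }
  have : IsLocalHom c := ⟨fun x hx => by
    by_contra hnu
    have hlt : P.1 (x : K) < 1 := (residue_eq_zero_iff_lt P x).1 ((IsLocalRing.residue_eq_zero_iff x).2 hnu)
    refine hx.ne_zero ?_
    show (φ (x : K)).coeff 0 = 0
    refine LaurentSeries.coeff_zero_of_lt_valuation F (D := 1) ?_ zero_lt_one
    rw [hφ.1]
    exact le_exp_neg_one_of_lt_one hlt⟩
  let cb : IsLocalRing.ResidueField P.O →+* F := IsLocalRing.ResidueField.lift c
  let ι : IsLocalRing.ResidueField P.O →ₐ[k] F :=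
    { cb with
      commutes' := fun a => by
        show cb (IsLocalRing.residue P.O (algebraMap k P.O a)) = algebraMap k F a
        rw [IsLocalRing.ResidueField.lift_residue_apply]
        show (φ (algebraMap k K a)).coeff 0 = _
        rw [LocRes.map_algebraMap, HahnSeries.C_apply, HahnSeries.coeff_single_same] }
  have hsurj : Function.Surjective ι := fun a => by
    obtain ⟨f, hf, rfl⟩ := hφ.2.1 a
    exact ⟨IsLocalRing.residue P.O ⟨f, hf⟩, IsLocalRing.ResidueField.lift_residue_apply c _⟩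
  have hfd := finiteDimensional_residue (k := k) (K := K) hK P
  let : Module k (IsLocalRing.ResidueField P.O) := Algebra.toModule
  have : Module.Finite k (IsLocalRing.ResidueField P.O) := by
    convert hfd
    exact Module.ext' _ _ fun c x => by
      obtain ⟨y, rfl⟩ := IsLocalRing.residue_surjective x
      exact Algebra.smul_def c (IsLocalRing.residue P.O y)
  have : FiniteDimensional k F := Module.Finite.of_surjective ι.toLinearMap hsurj
  have hF := isSeparable_coeffField_gen hφ hspan
  exact ⟨Algebra.IsSeparable.of_algHom k F ι, hF⟩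

omit [Algebra k F] in
lemma aeval_map_laurent {k' : Type*} [CommRing k'] [Algebra k' F] (p : k'[X]) (x : LaurentSeries F) :
    aeval x (p.map (algebraMap k' F)) = aeval x p := by
  rw [aeval_def, aeval_def, eval₂_map]
  congr 1
  exact RingHom.ext fun c => by
    rw [RingHom.comp_apply, algebraMap_eq_C, HahnSeries.algebraMap_apply', PowerSeries.algebraMap_apply,
      HahnSeries.ofPowerSeries_C]

omit [Algebra k F] in
lemma prod_exp {ι : Type*} (S : Finset ι) (f : ι → ℤ) : ∏ i ∈ S, exp (f i) = exp (∑ i ∈ S, f i) := by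
  classical
  induction S using Finset.induction_on with
  | empty => simp
  | insert a S ha ih => rw [Finset.prod_insert ha, Finset.sum_insert ha, ih, exp_add]

end Residue

variable {k : Type u} {K K' : Type*} [Field k] [Field K] [Field K'] [Algebra k K] [Algebra K K'] [Algebra k K']
  [IsScalarTower k K K'] [FiniteDimensional K K'] [IsGalois K K']
  (hK : IsFunctionField k K) (hg : IsGeometric k K)
  {F F' : Type*} [Field F] [Algebra k F] [Field F'] [Algebra k F']
  {P : Place k K} {Q : Place k K'} {e : ℕ} (he : IsOverWith Q P e)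
  {φ : K →ₐ[k] LaurentSeries F} (hφ : IsExpansionAt P.1 φ)
  {ψ : K' →ₐ[k] LaurentSeries F'} (hψ : IsExpansionAt Q.1 ψ)

/-- Elements of the inertia field. -/
def Fixd (K : Type*) {k K' : Type*} [Field k] [Field K] [Field K'] [Algebra K K'] [Algebra k K'] (Q : Place k K')
    (c : K') : Prop :=
  ∀ σ : K' ≃ₐ[K] K', InG Q 1 σ → σ c = c

include hK he in
lemma ord_dvd_of_fixd [Algebra.IsSeparable k (IsLocalRing.ResidueField Q.O)] {c : K'} (hc : Fixd K Q c) :
    (e : ℤ) ∣ Q.ord c := by
  set T : IntermediateField K K' := IntermediateField.fixedField (ramGroup Q 1) with hT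
  have : IsScalarTower k T K' := IsScalarTower.of_algebraMap_eq fun x => rfl
  have hidx : underIdx (K := T) (fg1_ext hK.1) Q = e := by
    rw [underIdx_mid hK.1, ← (under_eq hK.1 he).2, ← card_ramGroup_one hK.1 Q]
    refine Nat.card_congr (Equiv.subtypeEquivRight fun σ => ?_)
    rw [mem_ramGroup]
    exact ⟨fun h => h.1, fun h => ⟨h, fun x => (IntermediateField.mem_fixedField_iff _ _).1 x.2 σ h⟩⟩
  let c' : T := ⟨c, (IntermediateField.mem_fixedField_iff _ _).2 fun σ hσ => hc σ hσ⟩
  exact ⟨_, (ord_algebraMap (fg1_ext hK.1) Q c').trans (by rw [hidx])⟩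

include hK hg in
/-- Differentials of a separable extension are proportional to a differential from below. -/
lemma exists_smul_ext {x₀ : K} (hx : KaehlerDifferential.D k K x₀ ≠ 0) (a : K') :
    ∃ h : K', KaehlerDifferential.D k K' a = h • KaehlerDifferential.D k K' (algebraMap K K' x₀) := by
  have : Algebra.FormallyUnramified K K' := Algebra.FormallyUnramified.of_isSeparable K K'
  obtain ⟨z, hz⟩ := (KaehlerDifferential.exact_mapBaseChange_map k K K' (KaehlerDifferential.D k K' a)).1
    (Subsingleton.elim _ _)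
  rw [← hz]
  clear hz
  induction z using TensorProduct.induction_on with
  | zero => exact ⟨0, by rw [map_zero, zero_smul]⟩
  | add a b ha hb =>
    obtain ⟨h₁, e₁⟩ := ha
    obtain ⟨h₂, e₂⟩ := hb
    exact ⟨h₁ + h₂, by rw [map_add, e₁, e₂, add_smul]⟩
  | tmul c w =>
    obtain ⟨d, rfl⟩ := (finrank_eq_one_iff_of_nonzero' _ hx).1 (GeomFFLib.finrank_kaehler hK hg) w
    exact ⟨c * algebraMap K K' d, by
      rw [KaehlerDifferential.mapBaseChange_tmul, map_smul, KaehlerDifferential.map_D,
        ← algebraMap_smul K' d, mul_smul]⟩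

include hK hg hψ in
lemma isSeparable_residue_ext :
    Algebra.IsSeparable k (IsLocalRing.ResidueField Q.O) ∧ Algebra.IsSeparable k F' := by
  refine isSeparable_residue (fg1_ext hK.1) hψ fun {x} hx a => ?_
  obtain ⟨x₀, hx₀⟩ : ∃ x₀ : K, KaehlerDifferential.D k K x₀ ≠ 0 := by
    obtain ⟨x, hx⟩ := GeomFFLib.exists_separating hK hg
    exact ⟨x, (GeomFFLib.D_ne_zero_of_sep hK hx).1⟩
  obtain ⟨a', ha'⟩ := exists_smul_ext (K' := K') hK hg hx₀ x
  obtain ⟨b, hb⟩ := exists_smul_ext (K' := K') hK hg hx₀ a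
  have ha0 : a' ≠ 0 := fun h0 => D_ne_zero_of_vDiff hx (by rw [ha', h0, zero_smul])
  exact ⟨b / a', by rw [hb, ha', smul_smul, div_mul_cancel₀ _ ha0]⟩

include hK hg he hψ in
/-- Constants are approximated by elements fixed by inertia. -/
lemma exists_fixd_const (a : F') {n : ℕ} (hn : 1 ≤ n) :
    ∃ θ : K', Fixd K Q θ ∧ Q.1 θ ≤ 1 ∧ Valued.v (ψ θ - HahnSeries.C a) ≤ exp (-((e : ℤ) * n)) := by
  obtain ⟨hsepQ, hsepF⟩ := isSeparable_residue_ext hK hg hψ
  have hasep := Algebra.IsSeparable.isSeparable k a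
  set h := minpoly k a with hh
  set hF := h.map (algebraMap k F') with hhF
  have haev : ∀ θ : K', ψ (aeval θ h) = aeval (ψ θ) hF := fun θ => by
    rw [← Polynomial.aeval_algHom_apply, hhF, aeval_map_laurent]
  have hroot : hF.eval a = 0 := by rw [hhF, eval_map, ← aeval_def, hh, minpoly.aeval]
  have hder : (derivative hF).eval a ≠ 0 := by
    rw [hhF, derivative_map, eval_map, ← aeval_def]
    exact hasep.aeval_derivative_ne_zero (minpoly.aeval k a)
  have hfix : ∀ {θ : K'}, Fixd K Q θ → ∀ p : k[X], Fixd K Q (aeval θ p) := fun {θ} hθ p σ hσ => by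
    rw [show σ (aeval θ p) = (σ.toAlgHom.restrictScalars k) (aeval θ p) from rfl, ← Polynomial.aeval_algHom_apply]
    exact congrArg (fun z => aeval z p) (hθ σ hσ)
  have hint : ∀ {θ : K'}, Q.1 θ ≤ 1 → ∀ p : k[X], Q.1 (aeval θ p) ≤ 1 := fun hθ p => by
    rw [aeval_eq_sum_range]
    refine Valuation.map_sum_le _ fun i _ => ?_
    rw [Algebra.smul_def, map_mul, map_pow]
    exact mul_le_one' (Q.2.1 _) (pow_le_one' hθ i)
  have hsize : ∀ {θ : K'}, Valued.v (ψ θ - HahnSeries.C a) < 1 →
      Valued.v (ψ θ - HahnSeries.C a) = Q.1 (aeval θ h) := fun {θ} hθ => by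
    rw [← v_aeval_eq hF hroot hder hθ, ← haev, hψ.1]
  have hpos : (1 : ℤ) ≤ e := by exact_mod_cast isOverWith_pos he
  have hexp : ∀ m : ℕ, 1 ≤ m → (exp (-((e : ℤ) * m)) : WithZero (Multiplicative ℤ)) < 1 := fun m hm => by
    rw [← exp_zero, exp_lt_exp]
    have : (1 : ℤ) ≤ m := by exact_mod_cast hm
    nlinarith
  induction n, hn using Nat.le_induction with
  | base =>
    obtain ⟨f, hf, hfa⟩ := hψ.2.1 a
    obtain ⟨w, hw, hw1, hfw⟩ := exists_fixed_lift (K := K) Q hf
    have hlt : Valued.v (ψ w - HahnSeries.C a) < 1 := by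
      rw [show ψ w - HahnSeries.C a = (ψ f - HahnSeries.C a) - ψ (f - w) by rw [map_sub]; ring]
      refine (Valuation.map_sub _ _ _).trans_lt (max_lt (hfa ▸ constTerm_lt hψ hf) ?_)
      rw [hψ.1]; exact hfw
    refine ⟨w, hw, hw1, ?_⟩
    rw [hsize hlt]
    replace hlt : Q.1 (aeval w h) < 1 := (hsize hlt).symm.trans_lt hlt
    rcases eq_or_ne (aeval w h) 0 with h0 | h0
    · rw [h0, map_zero]; exact zero_le
    rw [v_le_exp_iff Q h0]
    obtain ⟨j, hj⟩ := ord_dvd_of_fixd hK he (hfix hw h)
    have hpos' := (v_lt_one_iff Q h0).1 hlt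
    rw [hj] at hpos' ⊢
    have : 0 < j := pos_of_mul_pos_right hpos' (by omega)
    push_cast
    nlinarith
  | succ n hn ih =>
    obtain ⟨θ, hθ, hθ1, hθn⟩ := ih
    have hlt := hθn.trans_lt (hexp n hn)
    rw [hsize hlt] at hθn
    have hd1 : Q.1 (aeval θ (derivative h)) = 1 := by
      refine le_antisymm (hint hθ1 _) (not_lt.1 fun hc => hder ?_)
      have h1 := v_aeval_sub_le (derivative hF) a (x := ψ θ) (by rw [hψ.1]; exact hθ1)
      have h2 : Valued.v (aeval (ψ θ) (derivative hF)) < 1 := by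
        rwa [hhF, derivative_map, aeval_map_laurent, Polynomial.aeval_algHom_apply, hψ.1]
      have h3 := (Valuation.map_sub _ _ _).trans_lt (max_lt h2 (h1.trans_lt hlt))
      rw [show aeval (ψ θ) (derivative hF) - (aeval (ψ θ) (derivative hF) - HahnSeries.C ((derivative hF).eval a)) =
        HahnSeries.C ((derivative hF).eval a) by ring] at h3
      by_contra hne
      have h4 := v_C_le ((derivative hF).eval a)⁻¹
      rw [map_inv₀, map_inv₀, inv_le_one₀ (zero_lt_iff.2 (Valued.v.ne_zero_iff.2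
        ((map_ne_zero_iff _ HahnSeries.C_injective).2 hne)))] at h4
      exact absurd h3 (not_lt.2 h4)
    set ε := aeval θ h / aeval θ (derivative h) with hε
    have hεn : Q.1 ε ≤ exp (-((e : ℤ) * n)) := by rw [hε, map_div₀, hd1, div_one]; exact hθn
    have hε1 : Q.1 ε < 1 := hεn.trans_lt (hexp n hn)
    set θ' := θ - ε with hθ'
    have hθ'1 : Q.1 θ' ≤ 1 := (Q.1.map_sub _ _).trans (max_le hθ1 hε1.le)
    have hlt' : Valued.v (ψ θ' - HahnSeries.C a) < 1 := by
      rw [hθ', map_sub ψ, show ψ θ - ψ ε - HahnSeries.C a = (ψ θ - HahnSeries.C a) - ψ ε by ring]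
      exact (Valuation.map_sub _ _ _).trans_lt (max_lt hlt (by rw [hψ.1]; exact hε1))
    refine ⟨θ', fun σ hσ => ?_, hθ'1, ?_⟩
    · rw [hθ', hε, map_sub, map_div₀, hθ σ hσ, hfix hθ h σ hσ, hfix hθ (derivative h) σ hσ]
    rw [hsize hlt']
    have he' : aeval θ h + aeval θ (derivative h) * -ε = 0 := by
      rw [hε, mul_neg, mul_div_cancel₀ _ (fun h0 => by rw [h0, map_zero] at hd1; exact zero_ne_one hd1), add_neg_cancel]
    obtain ⟨z, hz⟩ := Polynomial.binomExpansion (h.map (algebraMap k Q.O)) (⟨θ, hθ1⟩ : Q.O) (⟨-ε, by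
      show Q.1 (-ε) ≤ 1
      rw [Valuation.map_neg]; exact hε1.le⟩ : Q.O)
    have hz' := congrArg (algebraMap Q.O K') hz
    have hmap : ∀ (p : k[X]) (x : Q.O), algebraMap Q.O K' ((p.map (algebraMap k Q.O)).eval x) = aeval (x : K') p :=
      fun p x => by
        rw [eval_map, hom_eval₂, aeval_def]
        rfl
    rw [map_add, map_add, map_mul, map_mul, map_pow, derivative_map, hmap, hmap, hmap] at hz'
    change aeval (θ + -ε) h = aeval θ h + aeval θ (derivative h) * -ε + (z : K') * (-ε) ^ 2 at hz'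
    rw [he', zero_add, ← sub_eq_add_neg] at hz'
    rw [hθ', hz', map_mul, map_pow, Valuation.map_neg, sq]
    refine (mul_le_of_le_one_left' z.2).trans ((mul_le_mul' hεn hεn).trans ?_)
    rw [← exp_add, exp_le_exp]
    have : (1 : ℤ) ≤ n := by exact_mod_cast hn
    push_cast
    nlinarith

include hK hg he hψ in
/-- Inertia-fixed integral elements are polynomials in the parameter from below up to high order. -/
lemma exists_poly_approx {t : K} (ht : P.1 t = exp (-1 : ℤ)) (n : ℕ) {c : K'} (hc : Fixd K Q c) (hc1 : Q.1 c ≤ 1) :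
    ∃ p : F'[X], Valued.v (ψ c - aeval (ψ (algebraMap K K' t)) p) ≤ exp (-((e : ℤ) * n)) := by
  have hsep := (isSeparable_residue_ext hK hg hψ).1
  induction n generalizing c with
  | zero => exact ⟨0, by simpa [hψ.1] using hc1⟩
  | succ n ih =>
    obtain ⟨θ, hθ, hθ1, hθn⟩ := exists_fixd_const hK hg he hψ ((ψ c).coeff 0) (n := n + 1) (by omega)
    have hlt : Q.1 (c - θ) < 1 := by
      rw [← hψ.1, map_sub, show ψ c - ψ θ = (ψ c - HahnSeries.C ((ψ c).coeff 0)) - (ψ θ - HahnSeries.C ((ψ c).coeff 0)) by ring]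
      refine (Valuation.map_sub _ _ _).trans_lt (max_lt (constTerm_lt hψ hc1) (hθn.trans_lt ?_))
      rw [← exp_zero, exp_lt_exp]
      have : (1 : ℤ) ≤ e := by exact_mod_cast isOverWith_pos he
      push_cast
      nlinarith
    have hfix : Fixd K Q (c - θ) := fun σ hσ => by rw [map_sub, hc σ hσ, hθ σ hσ]
    have hT : Q.1 (algebraMap K K' t) = exp (-(e : ℤ)) := by
      rw [he, ht, ← exp_nsmul, nsmul_eq_mul, mul_neg, mul_one]
    set c' := (c - θ) / algebraMap K K' t with hc'
    have hle : Q.1 (c - θ) ≤ exp (-(e : ℤ)) := by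
      rcases eq_or_ne (c - θ) 0 with h0 | h0
      · rw [h0, map_zero]; exact zero_le
      obtain ⟨j, hj⟩ := ord_dvd_of_fixd hK he hfix
      have hpos := (v_lt_one_iff Q h0).1 hlt
      rw [v_le_exp_iff Q h0, neg_neg]
      rw [hj] at hpos ⊢
      have : 0 < j := pos_of_mul_pos_right hpos (by omega)
      nlinarith
    have hc'1 : Q.1 c' ≤ 1 := by
      rw [hc', map_div₀, hT]
      exact div_le_one_of_le₀ hle zero_le
    obtain ⟨p, hp⟩ := ih (c := c') (fun σ hσ => by rw [hc', map_div₀, hfix σ hσ, AlgEquiv.commutes]) hc'1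
    generalize ha : (ψ c).coeff 0 = a at hθn
    refine ⟨C a + X * p, ?_⟩
    have ht0 : algebraMap K K' t ≠ 0 := fun h0 => by rw [h0, map_zero] at hT; exact exp_ne_zero hT.symm
    rw [map_add, map_mul, aeval_C, aeval_X, algebraMap_eq_C,
      show ψ c = ψ θ + ψ (algebraMap K K' t) * ψ c' by
        rw [← map_mul, ← map_add, hc', mul_div_cancel₀ _ ht0, add_sub_cancel]]
    rw [show ψ θ + ψ (algebraMap K K' t) * ψ c' - (HahnSeries.C a + ψ (algebraMap K K' t) * aeval (ψ (algebraMap K K' t)) p) =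
      (ψ θ - HahnSeries.C a) + ψ (algebraMap K K' t) * (ψ c' - aeval (ψ (algebraMap K K' t)) p) by ring]
    refine (Valuation.map_add _ _ _).trans (max_le hθn ?_)
    rw [map_mul, hψ.1, hT]
    refine (mul_le_mul' le_rfl hp).trans_eq ?_
    rw [← exp_add]
    push_cast
    ring_nf

include hK hg he hψ in
/-- Derivatives of inertia-fixed integral elements. -/
lemma v_D_fixd {t : K} (ht : P.1 t = exp (-1 : ℤ)) {d : ℤ}
    (hd : Valued.v (D F' (ψ (algebraMap K K' t))) = exp (-d)) {c : K'} (hc : Fixd K Q c) (hc1 : Q.1 c ≤ 1) :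
    Valued.v (D F' (ψ c)) ≤ exp (-d) := by
  have hpos : (1 : ℤ) ≤ e := by exact_mod_cast isOverWith_pos he
  set n : ℕ := d.natAbs + 1 with hn
  obtain ⟨p, hp⟩ := exists_poly_approx hK hg he hψ ht n hc hc1
  have hτ : Valued.v (ψ (algebraMap K K' t)) ≤ 1 := by
    rw [hψ.1, he, ht]
    exact pow_le_one' (by rw [← exp_zero, exp_le_exp]; norm_num) e
  rw [show ψ c = (ψ c - aeval (ψ (algebraMap K K' t)) p) + aeval (ψ (algebraMap K K' t)) p by ring, map_add (D F')]
  refine (Valuation.map_add _ _ _).trans (max_le ((v_D_le hp).trans ?_) ?_)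
  · rw [exp_le_exp]
    push_cast [hn]
    have : d ≤ |d| := le_abs_self d
    nlinarith
  · rw [Derivation.map_aeval, smul_eq_mul, map_mul, hd]
    refine mul_le_of_le_one_left' ?_
    rw [aeval_eq_sum_range]
    refine Valuation.map_sum_le _ fun i _ => ?_
    rw [Algebra.smul_def, algebraMap_eq_C, map_mul, map_pow]
    exact mul_le_one' (v_C_le _) (pow_le_one' hτ i)

include hK hg he hφ hψ in
/-- The different exponent through the conjugates of a uniformizer. -/
theorem diffExp_galois {x : K} (hx : vDiff φ 1 x ≠ 0) (hx' : vDiff ψ 1 (algebraMap K K' x) ≠ 0)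
    [Fintype (ramGroup (K := K) Q 1)] [DecidableEq (ramGroup (K := K) Q 1)] {s : K'} (hs : Q.1 s = exp (-1 : ℤ)) :
    diffExp φ ψ e x = ∑ σ ∈ (Finset.univ : Finset (ramGroup (K := K) Q 1)).erase 1,
      Q.ord ((σ : K' ≃ₐ[K] K') s - s) := by
  classical
  have hsep := (isSeparable_residue_ext hK hg hψ).1
  obtain ⟨t, -, -, ht⟩ := exists_uniformizer P
  set d := diffExp φ ψ e x with hdd
  have hd := diffExp_eq_uniformizer hK hg he hφ hψ hx hx' ht
  have hpos : (1 : ℤ) ≤ e := by exact_mod_cast isOverWith_pos he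
  have hcard : Fintype.card (ramGroup (K := K) Q 1) = e := by
    rw [← Nat.card_eq_fintype_card, card_ramGroup_one hK.1, (under_eq hK.1 he).2]
  set g : K'[X] := ∏ σ : ramGroup (K := K) Q 1, (X - C ((σ : K' ≃ₐ[K] K') s)) with hg'
  have hvσ : ∀ σ : ramGroup (K := K) Q 1, Q.1 ((σ : K' ≃ₐ[K] K') s) = exp (-1 : ℤ) := fun σ => by
    rw [σ.2.v_eq, hs]
  have hfix : ∀ i, Fixd K Q (g.coeff i) := by
    intro i τ hτ
    have hinv : g.map (τ : K' →+* K') = g := by
      rw [hg', Polynomial.map_prod]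
      refine Fintype.prod_equiv (Equiv.mulLeft ⟨τ, hτ⟩) _ _ fun σ => ?_
      rw [Polynomial.map_sub, Polynomial.map_X, Polynomial.map_C]
      rfl
    have := congrArg (fun q => Polynomial.coeff q i) hinv
    simpa [Polynomial.coeff_map] using this
  have hgdeg : g.natDegree = e := by rw [hg', natDegree_finsetProd_X_sub_C_eq_card, Finset.card_univ, hcard]
  have hgm : g.Monic := monic_prod_of_monic _ _ fun σ _ => monic_X_sub_C _
  have hlow : ∀ i, i < e → Q.1 (g.coeff i) < 1 := by
    have key : ∀ S : Finset (ramGroup (K := K) Q 1),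
        (∀ j, Q.1 ((∏ σ ∈ S, (X - C ((σ : K' ≃ₐ[K] K') s))).coeff j) ≤ 1) ∧
        ∀ j, j < S.card → Q.1 ((∏ σ ∈ S, (X - C ((σ : K' ≃ₐ[K] K') s))).coeff j) < 1 := by
      intro S
      induction S using Finset.induction_on with
      | empty =>
        refine ⟨fun j => ?_, fun j hj => absurd hj (by simp)⟩
        rw [Finset.prod_empty, coeff_one]
        split_ifs <;> simp
      | insert a S ha ih =>
        obtain ⟨h1, h2⟩ := ih
        have hv : Q.1 ((a : K' ≃ₐ[K] K') s) < 1 := by rw [hvσ, ← exp_zero, exp_lt_exp]; norm_num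
        rw [Finset.prod_insert ha, Finset.card_insert_of_notMem ha]
        have hm : ∀ j, Q.1 ((a : K' ≃ₐ[K] K') s * (∏ σ ∈ S, (X - C ((σ : K' ≃ₐ[K] K') s))).coeff j) < 1 := fun j => by
          rw [map_mul]
          exact mul_lt_one_of_nonneg_of_lt_one_left zero_le hv (h1 j)
        refine ⟨fun j => ?_, fun j hj => ?_⟩
        · rw [sub_mul, coeff_sub, coeff_C_mul]
          refine (Valuation.map_sub _ _ _).trans (max_le ?_ (hm j).le)
          rcases j with _ | j
          · simp
          · rw [coeff_X_mul]; exact h1 j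
        · rw [sub_mul, coeff_sub, coeff_C_mul]
          refine (Valuation.map_sub _ _ _).trans_lt (max_lt ?_ (hm j))
          rcases j with _ | j
          · simp
          · rw [coeff_X_mul]; exact h2 j (by omega)
    intro i hi
    exact (key Finset.univ).2 i (by rw [Finset.card_univ, hcard]; exact hi)
  have hc0 : Q.1 (g.coeff 0) = exp (-(e : ℤ)) := by
    rw [coeff_zero_eq_eval_zero, hg', eval_prod, map_prod]
    simp only [eval_sub, eval_X, eval_C, zero_sub, Valuation.map_neg, hvσ]
    rw [Finset.prod_const, Finset.card_univ, hcard, ← exp_nsmul, nsmul_eq_mul, mul_neg, mul_one]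
  have hT : Q.1 (algebraMap K K' t) = exp (-(e : ℤ)) := by
    rw [he, ht, ← exp_nsmul, nsmul_eq_mul, mul_neg, mul_one]
  have ht0 : algebraMap K K' t ≠ 0 := fun h0 => by rw [h0, map_zero] at hT; exact exp_ne_zero hT.symm
  have hdiv : ∀ i, i < e → ∃ c : K', g.coeff i = algebraMap K K' t * c ∧ Fixd K Q c ∧ Q.1 c ≤ 1 := fun i hi => by
    refine ⟨g.coeff i / algebraMap K K' t, (mul_div_cancel₀ _ ht0).symm, fun σ hσ => ?_, ?_⟩
    · rw [map_div₀, hfix i σ hσ, AlgEquiv.commutes]
    rw [map_div₀, hT]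
    refine div_le_one_of_le₀ ?_ zero_le
    rcases eq_or_ne (g.coeff i) 0 with h0 | h0
    · rw [h0, map_zero]; exact zero_le
    obtain ⟨j, hj⟩ := ord_dvd_of_fixd hK he (hfix i)
    have hpos' := (v_lt_one_iff Q h0).1 (hlow i hi)
    rw [v_le_exp_iff Q h0, neg_neg]
    rw [hj] at hpos' ⊢
    have : 0 < j := pos_of_mul_pos_right hpos' (by omega)
    nlinarith
  have hτ : Valued.v (ψ (algebraMap K K' t)) = exp (-(e : ℤ)) := by rw [hψ.1, hT]
  have hDc : ∀ i, i < e → Valued.v (D F' (ψ (g.coeff i))) ≤ exp (-d) := fun i hi => by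
    obtain ⟨c, hc, hcf, hc1⟩ := hdiv i hi
    rw [hc, map_mul, Derivation.leibniz, smul_eq_mul, smul_eq_mul]
    refine (Valuation.map_add _ _ _).trans (max_le ?_ ?_) <;> rw [map_mul]
    · rw [hτ]
      refine (mul_le_mul' le_rfl (v_D_fixd hK hg he hψ ht hd hcf hc1)).trans ?_
      rw [← exp_add, exp_le_exp]; omega
    · rw [hd]; exact mul_le_of_le_one_left' (by rw [hψ.1]; exact hc1)
  have hDc0 : Valued.v (D F' (ψ (g.coeff 0))) = exp (-d) := by
    obtain ⟨c, hc, hcf, hc1⟩ := hdiv 0 (by omega)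
    have hv1 : Q.1 c = 1 := by
      have h0 := hc0
      rw [hc, map_mul, hT] at h0
      exact mul_left_cancel₀ exp_ne_zero (h0.trans (mul_one _).symm)
    have hb : Valued.v (ψ c * D F' (ψ (algebraMap K K' t))) = exp (-d) := by
      rw [map_mul, hψ.1, hv1, one_mul, hd]
    rw [hc, map_mul, Derivation.leibniz, smul_eq_mul, smul_eq_mul, Valuation.map_add_eq_of_lt_right _ ?_, hb]
    rw [hb, map_mul, hτ]
    refine (mul_le_mul' le_rfl (v_D_fixd hK hg he hψ ht hd hcf hc1)).trans_lt ?_
    rw [← exp_add, exp_lt_exp]; omega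
  -- differentiate `g (s) = 0`
  set σ' := D F' (ψ s) with hσ'
  have hσ1 : Valued.v σ' = 1 := by
    rw [hσ', v_D_eq (n := 1) (by rw [hψ.1, hs]) (by simp)]
    norm_num
  set S := ∑ i ∈ Finset.range e, ψ s ^ i * D F' (ψ (g.coeff i)) with hSdef
  have hS : Valued.v S = exp (-d) := by
    have h0 : 0 ∈ Finset.range e := Finset.mem_range.2 (by omega)
    rw [hSdef, Valued.v.map_sum_eq_of_lt h0]
    · rw [pow_zero, one_mul, hDc0]
    intro i hi
    rw [Finset.mem_sdiff, Finset.mem_singleton, Finset.mem_range] at hi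
    rw [pow_zero, one_mul, hDc0, map_mul, map_pow, hψ.1, hs, ← exp_nsmul, nsmul_eq_mul]
    refine (mul_le_mul' le_rfl (hDc i hi.1)).trans_lt ?_
    rw [← exp_add, exp_lt_exp]
    have : 0 < i := Nat.pos_of_ne_zero hi.2
    omega
  have hg0 : g.eval s = 0 := by
    rw [hg', eval_prod]
    exact Finset.prod_eq_zero (Finset.mem_univ 1) (by simp [AlgEquiv.one_apply])
  have hdg : g.derivative.eval s = ∏ σ ∈ (Finset.univ : Finset (ramGroup (K := K) Q 1)).erase 1,
      (s - (σ : K' ≃ₐ[K] K') s) := by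
    rw [hg', ← Finset.mul_prod_erase _ _ (Finset.mem_univ (1 : ramGroup (K := K) Q 1)), Polynomial.derivative_mul,
      derivative_X_sub_C, eval_add, eval_mul, eval_mul, eval_one, one_mul, eval_prod]
    simp [AlgEquiv.one_apply]
  have key : ψ (g.derivative.eval s) * σ' + S = 0 := by
    have hzero : s ^ e + ∑ i ∈ Finset.range e, g.coeff i * s ^ i = 0 := by
      have h := hg0
      rw [hgm.as_sum, hgdeg] at h
      simpa [eval_finsetSum] using h
    have hder : g.derivative.eval s = (e : K') * s ^ (e - 1) +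
        ∑ i ∈ Finset.range e, g.coeff i * ((i : K') * s ^ (i - 1)) := by
      conv_lhs => rw [hgm.as_sum, hgdeg]
      rw [derivative_add, derivative_sum, eval_add, eval_finsetSum]
      simp [derivative_X_pow]
    have h2 := congrArg (fun z => D F' (ψ z)) hzero
    simp only [map_zero, map_add, map_sum, map_mul, map_pow, Derivation.leibniz, Derivation.leibniz_pow,
      smul_eq_mul, nsmul_eq_mul, ← hσ', Finset.sum_add_distrib] at h2
    rw [hder, hSdef]
    simp only [map_add, map_sum, map_mul, map_pow, map_natCast, add_mul, Finset.sum_mul]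
    rw [← h2]
    rw [add_assoc]
    congr 1
    · ring
    congr 1
    exact Finset.sum_congr rfl fun i _ => by ring
  have hfin := congrArg Valued.v (eq_neg_of_add_eq_zero_left key)
  rw [Valuation.map_neg, map_mul, hψ.1, hσ1, mul_one, hS, hdg, map_prod] at hfin
  have hne : ∀ σ ∈ (Finset.univ : Finset (ramGroup (K := K) Q 1)).erase 1, (σ : K' ≃ₐ[K] K') s - s ≠ 0 := by
    intro σ hσ h0
    refine exp_ne_zero (hfin.symm.trans (Finset.prod_eq_zero hσ ?_))
    rw [← Valuation.map_sub_swap, h0, map_zero]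
  rw [Finset.prod_congr rfl fun σ hσ => (Valuation.map_sub_swap Q.1 _ _).trans (v_eq Q (hne σ hσ)), prod_exp,
    exp_inj, Finset.sum_neg_distrib, neg_inj] at hfin
  exact hfin.symm

end Groth.Agent.FFLib.DiffExp
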