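import Groth.Agent.FFLib.ExtNorm
import Mathlib.FieldTheory.Galois.Basic
import Mathlib.RingTheory.Valuation.RamificationGroup

/-!
# Places in a Galois extension
-/

open WithZero Module
open scoped Pointwise

namespace Groth.Agent.FFLib

open FunFld

variable {k K K' : Type*} [Field k] [Field K] [Field K'] [Algebra k K] [Algebra K K'] [Algebra k K']
  [IsScalarTower k K K'] [FiniteDimensional K K']

/-- Pulling back a place along an automorphism. -/
def placeMap (σ : K' ≃ₐ[K] K') (Q : Place k K') : Place k K' :=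
  ⟨Q.1.comap (σ : K' →+* K'), fun c => by
    show Q.1 (σ (algebraMap k K' c)) ≤ 1
    rw [IsScalarTower.algebraMap_apply k K K', AlgEquiv.commutes, ← IsScalarTower.algebraMap_apply]
    exact Q.2.1 c, fun z => by
    obtain ⟨y, hy⟩ := Q.2.2 z
    exact ⟨σ.symm y, by show Q.1 (σ (σ.symm y)) = z; rw [σ.apply_symm_apply]; exact hy⟩⟩

omit [FiniteDimensional K K'] in
@[simp] lemma placeMap_v (σ : K' ≃ₐ[K] K') (Q : Place k K') (y : K') :
    (placeMap σ Q).1 y = Q.1 (σ y) := rfl

omit [FiniteDimensional K K'] in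
@[simp] lemma placeMap_ord (σ : K' ≃ₐ[K] K') (Q : Place k K') (y : K') :
    (placeMap σ Q).ord y = Q.ord (σ y) := rfl

omit [FiniteDimensional K K'] in
lemma placeMap_comp (σ τ : K' ≃ₐ[K] K') (Q : Place k K') :
    placeMap σ (placeMap τ Q) = placeMap (σ.trans τ) Q :=
  Subtype.ext (Valuation.ext fun _ => rfl)

omit [FiniteDimensional K K'] in
@[simp] lemma placeMap_refl (Q : Place k K') : placeMap (AlgEquiv.refl : K' ≃ₐ[K] K') Q = Q :=
  Subtype.ext (Valuation.ext fun _ => rfl)

omit [FiniteDimensional K K'] in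
lemma placeMap_injective (σ : K' ≃ₐ[K] K') : Function.Injective (placeMap (k := k) σ) := fun Q R h => by
  have := congrArg (placeMap σ.symm) h
  rwa [placeMap_comp, placeMap_comp, AlgEquiv.symm_trans_self, placeMap_refl, placeMap_refl] at this

omit [FiniteDimensional K K'] in
lemma isOverWith_placeMap {Q : Place k K'} {P : Place k K} {e : ℕ} (h : IsOverWith Q P e)
    (σ : K' ≃ₐ[K] K') : IsOverWith (placeMap σ Q) P e := fun x => by
  rw [placeMap_v, AlgEquiv.commutes]; exact h x

omit [FiniteDimensional K K'] in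
lemma smul_O_eq (σ : K' ≃ₐ[K] K') (Q : Place k K') : σ • Q.O = (placeMap σ.symm Q).O := by
  ext x
  rw [ValuationSubring.mem_pointwise_smul_iff_inv_smul_mem]
  rfl

omit [FiniteDimensional K K'] in
lemma mem_decomposition_iff (σ : K' ≃ₐ[K] K') (Q : Place k K') :
    σ ∈ Q.O.decompositionSubgroup K ↔ placeMap σ Q = Q := by
  rw [MulAction.mem_stabilizer_iff, smul_O_eq]
  constructor
  · intro h
    have := congrArg (placeMap σ) (place_ext _ _ h)
    rw [placeMap_comp, AlgEquiv.self_trans_symm, placeMap_refl] at this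
    exact this.symm
  · intro h
    conv_lhs => rw [← h, placeMap_comp, AlgEquiv.symm_trans_self, placeMap_refl]

variable (hK : FG1 k K)
include hK

lemma placeMap_mem_overs {P : Place k K} {Q : Place k K'} (h : Q ∈ overs hK P) (σ : K' ≃ₐ[K] K') :
    placeMap σ Q ∈ overs hK P := by
  obtain ⟨e, he⟩ := (mem_overs hK).1 h
  exact (mem_overs hK).2 ⟨e, isOverWith_placeMap he σ⟩

lemma deg_placeMap (σ : K' ≃ₐ[K] K') (Q : Place k K') : (placeMap σ Q).deg = Q.deg := by
  classical
  set P := underPlace hK Q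
  have hQ : Q ∈ overs hK P := (mem_overs' hK).2 rfl
  have hσQ := placeMap_mem_overs hK hQ σ
  obtain ⟨π, hπ0, hπ1, hπo⟩ := exists_local_param hK P (placeMap σ Q)
  have h1 := ord_norm hK P π
  have h2 := ord_norm hK P (σ π)
  rw [Algebra.norm_eq_of_algEquiv σ π] at h2
  rw [Finset.sum_eq_single (placeMap σ Q) (fun R hR h => by rw [hπo R hR h, mul_zero])
    (fun h => absurd hσQ h), hπ1, mul_one] at h1
  rw [Finset.sum_eq_single Q (fun R hR h => by
      rw [← placeMap_ord σ R, hπo _ (placeMap_mem_overs hK hR σ) (fun e => h (placeMap_injective σ e)),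
        mul_zero])
    (fun h => absurd hQ h), ← placeMap_ord σ Q, hπ1, mul_one] at h2
  omega

variable [IsGalois K K']

lemma exists_placeMap_eq {P : Place k K} {Q₁ Q₂ : Place k K'} (h₁ : Q₁ ∈ overs hK P)
    (h₂ : Q₂ ∈ overs hK P) : ∃ σ : K' ≃ₐ[K] K', placeMap σ Q₁ = Q₂ := by
  classical
  by_contra hne
  push Not at hne
  obtain ⟨x, hx⟩ := weak_approx_eq (overs hK P) (fun _ => 0) (fun Q => if Q = Q₂ then 1 else 0)
  simp only [sub_zero] at hx
  obtain ⟨e₁, he₁⟩ := (mem_overs hK).1 h₁
  obtain ⟨e₂, he₂⟩ := (mem_overs hK).1 h₂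
  have hN := Algebra.norm_eq_prod_automorphisms K x
  have h1 : Q₁.1 (algebraMap K K' (Algebra.norm K x)) = 1 := by
    rw [hN, map_prod]
    refine Finset.prod_eq_one fun σ _ => ?_
    rw [show Q₁.1 (σ x) = (placeMap σ Q₁).1 x from rfl, hx _ (placeMap_mem_overs hK h₁ σ), if_neg (hne σ)]
    rfl
  have h2 : Q₂.1 (algebraMap K K' (Algebra.norm K x)) < 1 := by
    rw [hN, map_prod, ← Finset.mul_prod_erase _ _ (Finset.mem_univ (AlgEquiv.refl : K' ≃ₐ[K] K'))]
    refine mul_lt_one_of_nonneg_of_lt_one_left zero_le ?_ (Finset.prod_le_one' fun σ _ => ?_)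
    · rw [AlgEquiv.coe_refl, id, hx _ h₂, if_pos rfl, ← exp_zero, exp_lt_exp]; norm_num
    · rw [show Q₂.1 (σ x) = (placeMap σ Q₂).1 x from rfl, hx _ (placeMap_mem_overs hK h₂ σ), ← exp_zero, exp_le_exp]
      split_ifs <;> norm_num
  rw [isOverWith_lt_one_iff he₂, ← isOverWith_lt_one_iff he₁, h1] at h2
  exact lt_irrefl _ h2

lemma card_decomposition_mul_card_overs {P : Place k K} {Q : Place k K'} (hQ : Q ∈ overs hK P) :
    (overs (K' := K') hK P).card * Nat.card (Q.O.decompositionSubgroup K) = finrank K K' := by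
  classical
  rw [← IsGalois.card_aut_eq_finrank K K', mul_comm,
    ← Subgroup.card_mul_index (Q.O.decompositionSubgroup K), MulAction.index_stabilizer,
    ← Nat.card_eq_finsetCard, ← Nat.card_coe_set_eq]
  congr 1
  refine Nat.card_congr (Equiv.ofBijective (fun R => ⟨R.1.O, ?_⟩) ⟨fun R S h => ?_, ?_⟩)
  · obtain ⟨σ, hσ⟩ := exists_placeMap_eq hK hQ R.2
    exact ⟨σ.symm, by show σ.symm • Q.O = _; rw [smul_O_eq, AlgEquiv.symm_symm, hσ]⟩
  · exact Subtype.ext (place_ext _ _ (congrArg Subtype.val h))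
  · rintro ⟨O, σ, rfl⟩
    exact ⟨⟨placeMap σ.symm Q, placeMap_mem_overs hK hQ _⟩, Subtype.ext (smul_O_eq σ Q).symm⟩

lemma idx_deg_eq {P : Place k K} {Q R : Place k K'} (hQ : Q ∈ overs hK P) (hR : R ∈ overs hK P) :
    underIdx hK R = underIdx hK Q ∧ R.deg = Q.deg := by
  obtain ⟨σ, rfl⟩ := exists_placeMap_eq hK hQ hR
  exact ⟨(under_eq hK (isOverWith_placeMap (isOverWith_under hK Q) σ)).2, deg_placeMap hK σ Q⟩

lemma card_decomposition {P : Place k K} {Q : Place k K'} (hQ : Q ∈ overs hK P) :
    Nat.card (Q.O.decompositionSubgroup K) * P.deg = underIdx hK Q * Q.deg := by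
  have h := sum_idx_deg_overs (K' := K') hK P
  rw [Finset.sum_congr rfl fun R hR => by
    rw [(idx_deg_eq hK hQ hR).1, (idx_deg_eq hK hQ hR).2], Finset.sum_const, smul_eq_mul,
    ← card_decomposition_mul_card_overs hK hQ, mul_assoc] at h
  exact (Nat.eq_of_mul_eq_mul_left (Finset.card_pos.2 ⟨Q, hQ⟩) h).symm

open Polynomial in
theorem card_inertia {Q : Place k K'} [Algebra.IsSeparable k (IsLocalRing.ResidueField Q.O)] :
    Nat.card (Q.O.inertiaSubgroup K) = underIdx hK Q := by
  classical
  set P := underPlace hK Q with hP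
  have hQ : Q ∈ overs hK P := (mem_overs' hK).2 rfl
  set D := Q.O.decompositionSubgroup K with hD
  set F := IsLocalRing.ResidueField Q.O
  set φ : D →* RingAut F := MulSemiringAction.toRingAut D F with hφ
  set H := φ.range with hH
  have hover := isOverWith_under hK Q
  let i : P.O →ₐ[k] Q.O :=
    { toFun := fun c => ⟨algebraMap K K' c, (isOverWith_le_one_iff hover (c : K)).2 c.2⟩
      map_one' := Subtype.ext (map_one (algebraMap K K'))
      map_mul' := fun a b => Subtype.ext (map_mul (algebraMap K K') (a : K) b)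
      map_zero' := Subtype.ext (map_zero (algebraMap K K'))
      map_add' := fun a b => Subtype.ext (map_add (algebraMap K K') (a : K) b)
      commutes' := fun c => Subtype.ext (IsScalarTower.algebraMap_apply k K K' c).symm }
  have hiloc : IsLocalHom i.toRingHom := ⟨fun c hc => by
    by_contra hnu
    have h1 : P.1 (c : K) < 1 := (residue_eq_zero_iff_lt P c).1 ((IsLocalRing.residue_eq_zero_iff c).2 hnu)
    have h2 := (isOverWith_lt_one_iff hover (c : K)).2 h1
    exact (IsLocalRing.mem_maximalIdeal _).1 ((IsLocalRing.residue_eq_zero_iff _).1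
      ((residue_eq_zero_iff_lt Q (i c)).2 h2)) hc⟩
  let ι : IsLocalRing.ResidueField P.O →ₐ[k] F :=
    { IsLocalRing.ResidueField.map i.toRingHom with
      commutes' := fun c => by
        show IsLocalRing.ResidueField.map i.toRingHom (IsLocalRing.residue P.O (algebraMap k P.O c)) = _
        rw [IsLocalRing.ResidueField.map_residue]
        exact congrArg (IsLocalRing.residue Q.O) (i.commutes c) }
  set L : IntermediateField k F := ι.fieldRange with hL
  have hfix : ∀ σ : D, ∀ c : P.O, σ • (i c) = i c := fun σ c => Subtype.ext (by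
    show (σ : K' ≃ₐ[K] K') (algebraMap K K' (c : K)) = _
    rw [AlgEquiv.commutes]; rfl)
  have hLfix : ∀ a ∈ L, ∀ h : H, h • a = a := by
    rintro a ⟨b, rfl⟩ ⟨_, σ, rfl⟩
    obtain ⟨c, rfl⟩ := IsLocalRing.residue_surjective b
    show σ • (IsLocalRing.residue Q.O (i c)) = _
    rw [← IsLocalRing.ResidueField.residue_smul, hfix]
    rfl
  have hEL : ∀ a : F, (∀ h : H, h • a = a) → a ∈ L := by
    intro a ha
    obtain ⟨u, rfl⟩ := IsLocalRing.residue_surjective a
    obtain ⟨y, hy⟩ := weak_approx (overs hK P) (fun R => if R = Q then (u : K') else 0) (fun _ => 1)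
    have hyR : ∀ σ : K' ≃ₐ[K] K', Q.1 (σ y) ≤ 1 ∧
        (σ ∉ D → Q.1 (σ y) < 1) := fun σ => by
      have hm := placeMap_mem_overs hK hQ σ
      have h := hy _ hm
      have hlt : (exp (-1 : ℤ) : WithZero (Multiplicative ℤ)) < 1 := by rw [← exp_zero, exp_lt_exp]; norm_num
      by_cases hσ : σ ∈ D
      · refine ⟨?_, fun h => absurd hσ h⟩
        rw [if_pos ((mem_decomposition_iff σ Q).1 hσ)] at h
        rw [(mem_decomposition_iff σ Q).1 hσ] at h
        have : Q.1 y ≤ 1 := by
          rw [show y = (y - (u : K')) + u by ring]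
          exact (Q.1.map_add _ _).trans (max_le (h.trans hlt.le) u.2)
        rwa [← placeMap_v, (mem_decomposition_iff σ Q).1 hσ]
      · rw [if_neg (mt (mem_decomposition_iff σ Q).2 hσ), sub_zero, placeMap_v] at h
        exact ⟨h.trans hlt.le, fun _ => h.trans_lt hlt⟩
    let z : (K' ≃ₐ[K] K') → Q.O := fun σ => ⟨σ y, (hyR σ).1⟩
    set p : Q.O[X] := ∏ σ, (X - C (z σ)) with hp
    have hpK : p.map Q.O.subtype = ∏ σ : K' ≃ₐ[K] K', (X - C (σ y)) := by
      rw [hp, Polynomial.map_prod]
      exact Finset.prod_congr rfl fun σ _ => by rw [Polynomial.map_sub, map_X, map_C]; rfl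
    have hcoef : ∀ n, ∃ c : P.O, i c = p.coeff n := by
      intro n
      obtain ⟨c, hc⟩ : ((p.coeff n : Q.O) : K') ∈ Set.range (algebraMap K K') := by
        rw [IsGalois.mem_range_algebraMap_iff_fixed]
        intro τ
        have hinv : (p.map Q.O.subtype).map (τ : K' →+* K') = p.map Q.O.subtype := by
          rw [hpK, Polynomial.map_prod]
          refine Fintype.prod_equiv (Equiv.mulLeft τ) _ _ fun σ => ?_
          rw [Polynomial.map_sub, map_X, map_C]; rfl
        have := congrArg (fun q => Polynomial.coeff q n) hinv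
        simpa [coeff_map] using this
      have hc1 : P.1 c ≤ 1 := (isOverWith_le_one_iff hover c).1 (hc ▸ (p.coeff n).2)
      exact ⟨⟨c, hc1⟩, Subtype.ext hc⟩
    set pm := p.map (IsLocalRing.residue Q.O) with hpm
    obtain ⟨q, hq⟩ : ∃ q : L[X], q.map (algebraMap L F) = pm := by
      refine (Polynomial.mem_lifts pm).1 ((Polynomial.lifts_iff_coeff_lifts pm).2 fun n => ?_)
      obtain ⟨c, hc⟩ := hcoef n
      refine ⟨⟨IsLocalRing.residue Q.O (i c), IsLocalRing.residue P.O c, rfl⟩, ?_⟩
      rw [hpm, coeff_map, ← hc]; rfl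
    have hres : ∀ σ : K' ≃ₐ[K] K', IsLocalRing.residue Q.O (z σ) =
        if σ ∈ D then IsLocalRing.residue Q.O u else 0 := by
      intro σ
      split_ifs with hσ
      · have h1 : IsLocalRing.residue Q.O (z 1) = IsLocalRing.residue Q.O u := by
          rw [← sub_eq_zero, ← map_sub, residue_eq_zero_iff_lt]
          have h := hy Q hQ
          rw [if_pos rfl] at h
          show Q.1 (y - (u : K')) < 1
          exact h.trans_lt (by rw [← exp_zero, exp_lt_exp]; norm_num)
        have h2 : z σ = (⟨σ, hσ⟩ : D) • z 1 := Subtype.ext rfl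
        rw [h2, IsLocalRing.ResidueField.residue_smul, h1]
        exact ha ⟨_, ⟨σ, hσ⟩, rfl⟩
      · rw [residue_eq_zero_iff_lt]; exact (hyR σ).2 hσ
    set α := IsLocalRing.residue Q.O u with hα
    have hpm' : pm = (X - C α) ^ (Finset.univ.filter (fun σ : K' ≃ₐ[K] K' => σ ∈ D)).card *
        X ^ (Finset.univ.filter (fun σ : K' ≃ₐ[K] K' => σ ∉ D)).card := by
      rw [hpm, hp, Polynomial.map_prod, ← Finset.prod_filter_mul_prod_filter_not Finset.univ (fun σ => σ ∈ D)]
      congr 1
      · refine Finset.prod_eq_pow_card fun σ hσ => ?_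
        rw [Polynomial.map_sub, map_X, map_C, hres, if_pos (Finset.mem_filter.1 hσ).2]
      · refine Finset.prod_eq_pow_card fun σ hσ => ?_
        rw [Polynomial.map_sub, map_X, map_C, hres, if_neg (Finset.mem_filter.1 hσ).2, C_0, sub_zero]
    have hαsep : IsSeparable L α := IsSeparable.tower_top L (Algebra.IsSeparable.isSeparable k α)
    have hint : IsIntegral L α := hαsep.isIntegral
    rcases eq_or_ne α 0 with hα0 | hα0
    · rw [hα0]; exact zero_mem L
    have hq0 : Polynomial.aeval α q = 0 := by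
      rw [← Polynomial.eval_map_algebraMap, hq, hpm']
      have hpos : 0 < (Finset.univ.filter (fun σ : K' ≃ₐ[K] K' => σ ∈ D)).card :=
        Finset.card_pos.2 ⟨1, Finset.mem_filter.2 ⟨Finset.mem_univ _, one_mem D⟩⟩
      simp [zero_pow hpos.ne']
    set m := (minpoly L α).map (algebraMap L F) with hm
    have hmd : m ∣ pm := hq ▸ Polynomial.map_dvd _ (minpoly.dvd L α hq0)
    have hmd' : m ∣ (X - C α) ^ (Finset.univ.filter (fun σ : K' ≃ₐ[K] K' => σ ∈ D)).card := by
      refine IsCoprime.dvd_of_dvd_mul_right ?_ (hpm' ▸ hmd)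
      refine IsCoprime.pow_right ((Irreducible.coprime_iff_not_dvd Polynomial.irreducible_X).2 ?_).symm
      rw [Polynomial.X_dvd_iff, hm, coeff_map]
      exact fun h => minpoly.coeff_zero_ne_zero hint hα0 ((map_eq_zero _).1 h)
    obtain ⟨l, -, hl⟩ := (dvd_prime_pow (Polynomial.prime_X_sub_C α) _).1 hmd'
    have hsq : Squarefree ((X - C α) ^ l) :=
      (Squarefree.squarefree_of_dvd hl.symm.dvd (Polynomial.Separable.squarefree
        (Polynomial.Separable.map hαsep)))
    have hl1 : l ≤ 1 := by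
      by_contra hgt
      have : (X - C α) * (X - C α) ∣ (X - C α) ^ l := by
        rw [← pow_two]; exact pow_dvd_pow _ (by omega)
      exact (Polynomial.prime_X_sub_C α).not_isUnit (hsq _ this)
    have hdeg : (minpoly L α).natDegree ≤ 1 := by
      rw [← Polynomial.natDegree_map (algebraMap L F), ← hm,
        Polynomial.natDegree_eq_of_degree_eq (Polynomial.degree_eq_degree_of_associated hl),
        Polynomial.natDegree_pow, Polynomial.natDegree_X_sub_C]
      omega
    obtain ⟨w, hw⟩ := minpoly.natDegree_eq_one_iff.1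
      (le_antisymm hdeg (minpoly.natDegree_pos hint))
    rw [← hw]; exact w.2
  have hsub : L.toSubfield = FixedPoints.subfield H F := by
    ext a
    exact ⟨fun h => hLfix a h, fun h => hEL a h⟩
  have hfinH : Finite H := Finite.of_surjective φ.rangeRestrict φ.rangeRestrict_surjective
  have := Fintype.ofFinite H
  have hcH : finrank L F = Nat.card H := by
    rw [Nat.card_eq_fintype_card, ← FixedPoints.finrank_eq_card H F]
    exact congrArg (fun S : Subfield F => finrank S F) hsub
  have hfL : finrank k L = P.deg :=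
    (LinearEquiv.finrank_eq (AlgEquiv.ofInjectiveField ι).toLinearEquiv).symm
  have hdegQ : Q.deg = P.deg * Nat.card H := by
    rw [← hfL, ← hcH, Place.deg]
    exact (@Module.finrank_mul_finrank k L (IsLocalRing.ResidueField Q.O) _ _ _ _ _ _ (IntermediateField.isScalarTower_mid' L) _ _ _).symm
  have hcard : Nat.card D = Nat.card (Q.O.inertiaSubgroup K) * Nat.card H := by
    rw [← Subgroup.card_mul_index (Q.O.inertiaSubgroup K)]
    congr 1
    exact Subgroup.index_ker φ
  have h := card_decomposition hK hQ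
  rw [hcard, hdegQ, mul_assoc, mul_comm (Nat.card H) P.deg] at h
  exact Nat.eq_of_mul_eq_mul_right (Nat.mul_pos (deg_pos hK P) Nat.card_pos) h

end Groth.Agent.FFLib
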