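import Groth.Agent.FFLib.Ext
import Mathlib.RingTheory.Norm.Transitivity

/-!
# The integral closure of the local ring of a place in a finite extension
-/

open WithZero Module

namespace Groth.Agent.FFLib

open FunFld

variable {k K K' : Type*} [Field k] [Field K] [Field K'] [Algebra k K] [Algebra K K'] [Algebra k K']
  [IsScalarTower k K K']

/-- A chosen uniformizer. -/
noncomputable def tP (P : Place k K) : K := (exists_uniformizer P).choose

lemma tP_ne_zero (P : Place k K) : tP P ≠ 0 := (exists_uniformizer P).choose_spec.1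

lemma ord_tP (P : Place k K) : P.ord (tP P) = 1 := (exists_uniformizer P).choose_spec.2.1

lemma v_tP (P : Place k K) : P.1 (tP P) = exp (-1) := (exists_uniformizer P).choose_spec.2.2

/-- Integral at all the places over `P`. -/
def InR (P : Place k K) (y : K') : Prop := ∀ Q : Place k K', IsOver Q P → Q.1 y ≤ 1

/-- Divisible by the uniformizer at `P`. -/
def InT (P : Place k K) (y : K') : Prop := InR P ((tP P)⁻¹ • y)

omit [IsScalarTower k K K'] in
lemma inR_zero (P : Place k K) : InR P (0 : K') := fun Q _ => by simp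

omit [IsScalarTower k K K'] in
lemma inR_add {P : Place k K} {y z : K'} (hy : InR P y) (hz : InR P z) : InR P (y + z) :=
  fun Q hQ => (Q.1.map_add y z).trans (max_le (hy Q hQ) (hz Q hQ))

omit [IsScalarTower k K K'] in
lemma inR_mul {P : Place k K} {y z : K'} (hy : InR P y) (hz : InR P z) : InR P (y * z) :=
  fun Q hQ => by rw [map_mul]; exact mul_le_one' (hy Q hQ) (hz Q hQ)

omit [IsScalarTower k K K'] in
lemma inR_smul {P : Place k K} {c : K} {y : K'} (hc : P.1 c ≤ 1) (hy : InR P y) : InR P (c • y) :=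
  fun Q hQ => by
    obtain ⟨e, he⟩ := hQ
    rw [Algebra.smul_def, map_mul]
    exact mul_le_one' ((isOverWith_le_one_iff he c).2 hc) (hy Q ⟨e, he⟩)

omit [IsScalarTower k K K'] in
lemma inR_sum {P : Place k K} {ι : Type*} (s : Finset ι) (f : ι → K') (h : ∀ i ∈ s, InR P (f i)) :
    InR P (∑ i ∈ s, f i) :=
  fun Q hQ => Q.1.map_sum_le fun i hi => h i hi Q hQ

omit [IsScalarTower k K K'] in
lemma inT_add {P : Place k K} {y z : K'} (hy : InT P y) (hz : InT P z) : InT P (y + z) := by
  rw [InT, smul_add]; exact inR_add hy hz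

omit [IsScalarTower k K K'] in
lemma inT_smul {P : Place k K} {c : K} {y : K'} (hc : P.1 c ≤ 1) (hy : InT P y) : InT P (c • y) := by
  rw [InT, smul_comm]; exact inR_smul hc hy

omit [IsScalarTower k K K'] in
lemma inT_zero (P : Place k K) : InT P (0 : K') := by rw [InT, smul_zero]; exact inR_zero P

omit [IsScalarTower k K K'] in
lemma inT_sum {P : Place k K} {ι : Type*} (s : Finset ι) (f : ι → K') (h : ∀ i ∈ s, InT P (f i)) :
    InT P (∑ i ∈ s, f i) := by
  rw [InT, Finset.smul_sum]; exact inR_sum s _ h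

omit [IsScalarTower k K K'] in
lemma inT_smul_of_lt {P : Place k K} {c : K} {y : K'} (hc : P.1 c < 1) (hy : InR P y) :
    InT P (c • y) := by
  rw [InT, ← mul_smul]
  refine inR_smul ?_ hy
  rcases eq_or_ne c 0 with rfl | h0
  · simp
  rw [v_le_one_iff, ord_mul P (inv_ne_zero (tP_ne_zero P)) h0, ord_inv, ord_tP]
  have := (v_lt_one_iff P h0).1 hc
  omega

omit [IsScalarTower k K K'] in
lemma inR_of_inT {P : Place k K} {y : K'} (hy : InT P y) : InR P y := by
  have := inR_smul (c := tP P) (by rw [v_le_one_iff, ord_tP]; omega) hy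
  rwa [smul_inv_smul₀ (tP_ne_zero P)] at this

/-- Independence modulo the uniformizer. -/
def Good (P : Place k K) (b : Finset K') : Prop :=
  (∀ i ∈ b, InR P i) ∧ ∀ c : K' → K, (∀ i ∈ b, P.1 (c i) ≤ 1) → InT P (∑ i ∈ b, c i • i) →
    ∀ i ∈ b, P.1 (c i) < 1

omit [IsScalarTower k K K'] in
lemma good_empty (P : Place k K) : Good P (∅ : Finset K') :=
  ⟨fun i hi => absurd hi (Finset.notMem_empty i), fun _ _ _ i hi => absurd hi (Finset.notMem_empty i)⟩

omit [IsScalarTower k K K'] in
/-- Coordinates with respect to a good family of an integral element are integral. -/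
lemma Good.coord_le {P : Place k K} {b : Finset K'} (hb : Good P b) {c : K' → K}
    (h : InR P (∑ i ∈ b, c i • i)) : ∀ i ∈ b, P.1 (c i) ≤ 1 := by
  classical
  by_contra hne
  push Not at hne
  obtain ⟨j, hj, hj1⟩ := hne
  obtain ⟨i₀, hi₀, hmax⟩ := b.exists_max_image (fun i => P.1 (c i)) ⟨j, hj⟩
  have h0 : 1 < P.1 (c i₀) := hj1.trans_le (hmax j hj)
  have hne0 : c i₀ ≠ 0 := by rintro e; rw [e, map_zero] at h0; exact not_lt_zero h0
  have hord : P.ord (c i₀) < 0 := (one_lt_v_iff P _).1 h0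
  have hs : P.1 (c i₀)⁻¹ < 1 := by rw [v_lt_one_iff P (inv_ne_zero hne0), ord_inv]; omega
  have hint : ∀ i ∈ b, P.1 ((c i₀)⁻¹ * c i) ≤ 1 := fun i hi => by
    rw [map_mul, map_inv₀, inv_mul_le_iff₀ (zero_lt_one.trans h0), mul_one]
    exact hmax i hi
  have hT : InT P (∑ i ∈ b, ((c i₀)⁻¹ * c i) • i) := by
    rw [Finset.sum_congr rfl fun i _ => mul_smul (c i₀)⁻¹ (c i) i, ← Finset.smul_sum]
    exact inT_smul_of_lt hs h
  have := hb.2 _ hint hT i₀ hi₀
  rw [inv_mul_cancel₀ hne0, map_one] at this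
  exact lt_irrefl _ this

omit [IsScalarTower k K K'] in
lemma Good.linearIndepOn {P : Place k K} {b : Finset K'} (hb : Good P b) :
    LinearIndependent K (fun i : (b : Set K') => (i : K')) := by
  classical
  refine Fintype.linearIndependent_iff.2 fun g hg => ?_
  set c : K' → K := fun x => if h : x ∈ b then g ⟨x, h⟩ else 0 with hc'
  have hc : ∑ i ∈ b, c i • i = 0 := by
    rw [← Finset.sum_coe_sort b, ← hg]
    exact Fintype.sum_congr _ _ fun i => by simp [hc']
  rintro ⟨i, hi⟩
  rw [show g ⟨i, hi⟩ = c i by simp [hc', show i ∈ b from hi]]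
  by_contra hne
  obtain ⟨a, ha⟩ : ∃ a : K, 1 < P.1 a := ⟨(tP P)⁻¹, by rw [one_lt_v_iff, ord_inv, ord_tP]; omega⟩
  have h := hb.coord_le (c := fun l => a * (c i)⁻¹ * c l) (by
    rw [Finset.sum_congr rfl fun l _ => mul_smul (a * (c i)⁻¹) (c l) l, ← Finset.smul_sum, hc, smul_zero]
    exact inR_zero P) i hi
  rw [mul_assoc, inv_mul_cancel₀ hne, mul_one] at h
  exact absurd h (not_le.2 ha)

variable [FiniteDimensional K K']

omit [IsScalarTower k K K'] in
lemma Good.card_le {P : Place k K} {b : Finset K'} (hb : Good P b) : b.card ≤ finrank K K' := by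
  have := hb.linearIndepOn.fintype_card_le_finrank
  simpa using this

omit [IsScalarTower k K K'] [FiniteDimensional K K'] in
open scoped Classical in
lemma good_insert {P : Place k K} {b : Finset K'} (hb : Good P b) {y : K'} (hy : InR P y)
    (hyn : ∀ c : K' → K, (∀ i ∈ b, P.1 (c i) ≤ 1) → ¬ InT P (y - ∑ i ∈ b, c i • i)) :
    Good P (insert y b) ∧ y ∉ b := by
  classical
  have hmem : y ∉ b := fun h => hyn (fun i => if i = y then 1 else 0)
    (fun i _ => by split_ifs <;> simp) (by
      simp only [ite_smul, one_smul, zero_smul, Finset.sum_ite_eq', if_pos h, sub_self]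
      exact inT_zero P)
  refine ⟨⟨fun i hi => (Finset.mem_insert.1 hi).elim (fun e => by rw [e]; exact hy) (hb.1 i), ?_⟩, hmem⟩
  intro c hc hT
  rw [Finset.sum_insert hmem] at hT
  by_cases hcy : P.1 (c y) < 1
  · intro i hi
    rcases Finset.mem_insert.1 hi with rfl | hi
    · exact hcy
    refine hb.2 c (fun l hl => hc l (Finset.mem_insert_of_mem hl)) ?_ i hi
    have := inT_add hT (inT_smul (c := -1) (by simp) (inT_smul_of_lt hcy hy))
    simpa using this
  · exfalso
    have h1 : P.1 (c y) = 1 := le_antisymm (hc y (Finset.mem_insert_self y b)) (not_lt.1 hcy)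
    have h0 : c y ≠ 0 := by rintro e; rw [e, map_zero] at h1; exact zero_ne_one h1
    refine hyn (fun i => -((c y)⁻¹ * c i)) (fun i hi => ?_) ?_
    · rw [Valuation.map_neg, map_mul, map_inv₀, h1, inv_one, one_mul]
      exact hc i (Finset.mem_insert_of_mem hi)
    · have := inT_smul (c := (c y)⁻¹) (by rw [map_inv₀, h1, inv_one]) hT
      rw [smul_add, inv_smul_smul₀ h0, Finset.smul_sum] at this
      simpa [mul_smul] using this

omit [IsScalarTower k K K'] in
/-- Maximal good extension inside a stable set. -/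
lemma Good.exists_extend {P : Place k K} {b₀ : Finset K'} (hb₀ : Good P b₀) (M : Set K')
    (hM : ∀ y ∈ M, InR P y) :
    ∃ b : Finset K', Good P b ∧ b₀ ⊆ b ∧ (∀ i ∈ b, i ∉ b₀ → i ∈ M) ∧
      ∀ y ∈ M, ∃ c : K' → K, (∀ i ∈ b, P.1 (c i) ≤ 1) ∧ InT P (y - ∑ i ∈ b, c i • i) := by
  classical
  suffices H : ∀ m : ℕ, ∀ b₀ : Finset K', Good P b₀ → finrank K K' ≤ b₀.card + m →
      ∃ b : Finset K', Good P b ∧ b₀ ⊆ b ∧ (∀ i ∈ b, i ∉ b₀ → i ∈ M) ∧
      ∀ y ∈ M, ∃ c : K' → K, (∀ i ∈ b, P.1 (c i) ≤ 1) ∧ InT P (y - ∑ i ∈ b, c i • i) from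
    H _ b₀ hb₀ (Nat.le_add_left _ _)
  intro m
  induction m with
  | zero =>
    intro b₁ hb₁ hm
    by_cases hall : ∀ y ∈ M, ∃ c : K' → K, (∀ i ∈ b₁, P.1 (c i) ≤ 1) ∧
        InT P (y - ∑ i ∈ b₁, c i • i)
    · exact ⟨b₁, hb₁, Finset.Subset.refl _, fun i hi h => absurd hi h, hall⟩
    push Not at hall
    obtain ⟨y, hy, hyn⟩ := hall
    exfalso
    have := (good_insert hb₁ (hM y hy) hyn).1.card_le
    rw [Finset.card_insert_of_notMem (good_insert hb₁ (hM y hy) hyn).2] at this
    omega
  | succ m ih =>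
    intro b₁ hb₁ hm
    by_cases hall : ∀ y ∈ M, ∃ c : K' → K, (∀ i ∈ b₁, P.1 (c i) ≤ 1) ∧
        InT P (y - ∑ i ∈ b₁, c i • i)
    · exact ⟨b₁, hb₁, Finset.Subset.refl _, fun i hi h => absurd hi h, hall⟩
    push Not at hall
    obtain ⟨y, hy, hyn⟩ := hall
    obtain ⟨hgood, hmem⟩ := good_insert hb₁ (hM y hy) hyn
    obtain ⟨b, hb, hsub, hin, hsp⟩ := ih (insert y b₁) hgood (by
      rw [Finset.card_insert_of_notMem hmem]; omega)
    refine ⟨b, hb, (Finset.subset_insert y b₁).trans hsub, fun i hi hi₁ => ?_, hsp⟩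
    rcases eq_or_ne i y with rfl | hne
    · exact hy
    · exact hin i hi fun h => (Finset.mem_insert.1 h).elim hne hi₁

variable (hK : FG1 k K)
include hK

/-- The places over `P`. -/
noncomputable def overs (P : Place k K) : Finset (Place k K') := (finite_over hK P).toFinset

lemma mem_overs {P : Place k K} {Q : Place k K'} : Q ∈ overs hK P ↔ IsOver Q P :=
  Set.Finite.mem_toFinset _

lemma mem_overs' {P : Place k K} {Q : Place k K'} : Q ∈ overs hK P ↔ underPlace hK Q = P :=
  (mem_overs hK).trans (isOver_iff hK Q P)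

lemma sum_idx_deg_overs (P : Place k K) :
    ∑ Q ∈ overs (K' := K') hK P, underIdx hK Q * Q.deg = finrank K K' * P.deg :=
  sum_idx_mul_deg hK P _ fun _ => mem_overs hK

lemma inT_iff {P : Place k K} {y : K'} :
    InT P y ↔ ∀ Q ∈ overs hK P, Q.1 y ≤ exp (-(underIdx hK Q : ℤ)) := by
  refine forall_congr' fun Q => ?_
  rw [mem_overs hK]
  refine forall_congr' fun hQ => ?_
  have hu := (isOver_iff hK Q P).1 hQ
  have hv : Q.1 (algebraMap K K' (tP P)) = exp (-(underIdx hK Q : ℤ)) := by
    rw [v_eq Q ((map_ne_zero (algebraMap K K')).2 (tP_ne_zero P)), ord_algebraMap hK, hu, ord_tP, mul_one]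
  rw [Algebra.smul_def, map_inv₀, map_mul, map_inv₀, hv, inv_mul_le_iff₀ exp_pos, mul_one]

/-- Count of a spanning set modulo prescribed vanishing at the places over `P`. -/
lemma deg_le_card_of_span (P : Place k K) (g : Place k K' → ℕ) (w : Finset K') (hw : ∀ i ∈ w, InR P i)
    (hspan : ∀ y, InR P y → ∃ l : K' → k, ∀ Q ∈ overs hK P,
      Q.1 (y - ∑ i ∈ w, l i • i) ≤ exp (-(g Q : ℤ))) :
    ∑ Q ∈ overs (K' := K') hK P, g Q * Q.deg ≤ w.card := by
  classical
  set S := overs (K' := K') hK P with hS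
  set D : Divisor k K' := ∑ Q ∈ S, Finsupp.single Q (g Q : ℤ) with hD
  have hDa : ∀ Q, D Q = if Q ∈ S then (g Q : ℤ) else 0 := fun Q => by
    rw [hD, Finsupp.finsetSum_apply]
    simp only [Finsupp.single_apply, Finset.sum_ite_eq']
  have hD0 : -D ≤ 0 := fun Q => by
    rw [Finsupp.neg_apply, hDa Q, Finsupp.zero_apply]; split_ifs <;> omega
  obtain ⟨hfin, hrank⟩ := finite_quo_AD (fg1_ext hK) (-D) (0 : Divisor k K') hD0
  have hdeg : ((∑ Q ∈ S, g Q * Q.deg : ℕ) : ℤ) = D.deg := by
    rw [hD, show Divisor.deg (∑ Q ∈ S, Finsupp.single Q (g Q : ℤ)) =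
      ∑ Q ∈ S, Divisor.deg (Finsupp.single Q (g Q : ℤ)) from map_sum degHom _ _]
    simp only [deg_single]
    push_cast; rfl
  rw [deg_zero, deg_neg, zero_sub, neg_neg] at hrank
  have hmemAD : ∀ y, InR P y → (fun Q => if Q ∈ S then y else 0) ∈ AD (0 : Divisor k K') :=
    fun y hy Q => by
      show Q.1 (if Q ∈ S then y else 0) ≤ exp ((0 : Divisor k K') Q)
      rw [Finsupp.zero_apply, exp_zero]
      split_ifs with h
      · exact hy Q ((mem_overs hK).1 h)
      · simp
  let v : w → quo (AD (-D)) (AD (0 : Divisor k K')) := fun i =>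
    Submodule.Quotient.mk ⟨_, hmemAD _ (hw i.1 i.2)⟩
  have htop : ⊤ ≤ Submodule.span k (Set.range v) := by
    rintro x -
    induction x using Submodule.Quotient.induction_on with | _ a => ?_
    obtain ⟨y, hy⟩ := weak_approx S (fun Q => (a : Place k K' → K') Q) (fun Q => (g Q : ℤ))
    have hyR : InR P y := fun Q hQ => by
      have h1 : Q.1 ((a : Place k K' → K') Q) ≤ 1 := (a.2 Q).trans_eq (by simp)
      have h2 := hy Q ((mem_overs hK).2 hQ)
      have h3 : exp (-(g Q : ℤ)) ≤ (1 : WithZero (Multiplicative ℤ)) := by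
        rw [← exp_zero, exp_le_exp]; omega
      calc Q.1 y = Q.1 ((y - (a : Place k K' → K') Q) + (a : Place k K' → K') Q) := by rw [sub_add_cancel]
        _ ≤ _ := (Q.1.map_add _ _).trans (max_le (h2.trans h3) h1)
    obtain ⟨l, hl⟩ := hspan y hyR
    have heq : (Submodule.Quotient.mk a : quo (AD (-D)) (AD (0 : Divisor k K'))) =
        ∑ i : w, l i.1 • v i := by
      simp only [v, ← Submodule.mkQ_apply, ← map_smul, ← map_sum]
      simp only [Submodule.mkQ_apply]
      rw [Submodule.Quotient.eq, Submodule.mem_comap]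
      intro Q
      rw [Finsupp.neg_apply, hDa Q]
      simp only [Submodule.coe_subtype, AddSubgroupClass.coe_sub, Submodule.coe_sum, Submodule.coe_smul,
        Pi.sub_apply, Finset.sum_apply, Pi.smul_apply]
      split_ifs with h
      · rw [show (a : Place k K' → K') Q - ∑ i : w, l i.1 • (i : K') =
          ((a : Place k K' → K') Q - y) + (y - ∑ i : w, l i.1 • (i : K')) by ring]
        refine (Q.1.map_add _ _).trans (max_le ?_ ?_)
        · rw [Valuation.map_sub_swap]; exact hy Q h
        · rw [Finset.sum_coe_sort w (fun i => l i • i)]; exact hl Q h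
      · simp only [smul_zero, Finset.sum_const_zero, sub_zero, neg_zero]
        exact (a.2 Q).trans_eq (by simp)
    rw [heq]
    exact Submodule.sum_mem _ fun i _ => Submodule.smul_mem _ _ (Submodule.subset_span ⟨i, rfl⟩)
  have hle : finrank k (quo (AD (-D)) (AD (0 : Divisor k K'))) ≤ Fintype.card w := by
    refine le_trans (le_of_eq ?_) (finrank_range_le_card (R := k) v)
    rw [← finrank_top, ← top_le_iff.1 htop]; rfl
  rw [Fintype.card_coe] at hle
  omega

omit [IsScalarTower k K K'] [FiniteDimensional K K'] [Field K'] [Algebra K K'] [Algebra k K'] in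
/-- Lifts of a basis of the residue field. -/
lemma exists_residue_lifts (P : Place k K) : ∃ A : Finset K, A.card ≤ P.deg ∧ (∀ a ∈ A, P.1 a ≤ 1) ∧
    ∀ c : K, P.1 c ≤ 1 → ∃ l : K → k, P.1 (c - ∑ a ∈ A, l a • a) < 1 := by
  classical
  have := finiteDimensional_residue hK P
  set B := Module.finBasis k (IsLocalRing.ResidueField P.O) with hB
  choose a ha using fun i => IsLocalRing.residue_surjective (B i)
  refine ⟨Finset.univ.image fun i => (a i : K), Finset.card_image_le.trans (by simp; rfl), ?_, ?_⟩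
  · simp only [Finset.mem_image, Finset.mem_univ, true_and, forall_exists_index, forall_apply_eq_imp_iff]
    exact fun i => (a i).2
  intro c hc
  obtain ⟨cO, rfl⟩ : ∃ cO : P.O, (cO : K) = c := ⟨⟨c, hc⟩, rfl⟩
  set r := resL P cO
  have hinj : Function.Injective fun i => (a i : K) := fun i j h =>
    B.injective (by rw [← ha i, ← ha j, Subtype.ext h])
  refine ⟨Function.extend (fun i => (a i : K)) (fun i => B.repr r i) 0, ?_⟩
  rw [Finset.sum_image hinj.injOn]
  simp only [hinj.extend_apply]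
  have hz : resL P (cO - ∑ i, B.repr r i • a i) = 0 := by
    rw [map_sub, map_sum, sub_eq_zero]
    conv_lhs => rw [show resL P cO = r from rfl, ← B.sum_repr r]
    exact Finset.sum_congr rfl fun i _ => by
      rw [LinearMap.map_smul, show resL P (a i) = B i from ha i]
  have := (residue_eq_zero_iff_lt P _).1 hz
  simpa [coe_smul_O] using this

/-- Expand coefficients in the residue field over `k`. -/
lemma card_bound (P : Place k K) (g : Place k K' → ℕ) (hg : ∀ Q ∈ overs hK P, g Q ≤ underIdx hK Q)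
    (b : Finset K') (hb : ∀ i ∈ b, InR P i)
    (hspan : ∀ y, InR P y → ∃ c : K' → K, (∀ i ∈ b, P.1 (c i) ≤ 1) ∧ ∀ Q ∈ overs hK P,
      Q.1 (y - ∑ i ∈ b, c i • i) ≤ exp (-(g Q : ℤ))) :
    ∑ Q ∈ overs (K' := K') hK P, g Q * Q.deg ≤ P.deg * b.card := by
  classical
  obtain ⟨A, hA, hA1, hA2⟩ := exists_residue_lifts hK P
  set w := (A ×ˢ b).image (fun p => p.1 • p.2) with hw
  refine (deg_le_card_of_span hK P g w ?_ ?_).trans ?_
  · intro i hi
    obtain ⟨⟨a, j⟩, hp, rfl⟩ := Finset.mem_image.1 hi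
    rw [Finset.mem_product] at hp
    exact inR_smul (hA1 a hp.1) (hb j hp.2)
  · intro y hy
    obtain ⟨c, hc, hyc⟩ := hspan y hy
    choose! l hl using fun i (hi : i ∈ b) => hA2 (c i) (hc i hi)
    refine ⟨fun x => ∑ p ∈ (A ×ˢ b).filter (fun p => p.1 • p.2 = x), l p.2 p.1, fun Q hQ => ?_⟩
    have hsum : ∑ i ∈ w, (∑ p ∈ (A ×ˢ b).filter (fun p => p.1 • p.2 = i), l p.2 p.1) • i =
        ∑ i ∈ b, (∑ a ∈ A, l i a • a) • i := by
      simp only [Finset.sum_smul, smul_assoc]
      rw [Finset.sum_comm, ← Finset.sum_product']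
      rw [← Finset.sum_fiberwise_of_maps_to (t := w) (g := fun p : K × K' => p.1 • p.2)
        fun p hp => Finset.mem_image_of_mem _ hp]
      exact Finset.sum_congr rfl fun i _ => Finset.sum_congr rfl fun p hp => by
        rw [(Finset.mem_filter.1 hp).2]
    rw [hsum, show y - ∑ i ∈ b, (∑ a ∈ A, l i a • a) • i =
      (y - ∑ i ∈ b, c i • i) + ∑ i ∈ b, (c i - ∑ a ∈ A, l i a • a) • i by
        simp only [sub_smul, Finset.sum_sub_distrib]; ring]
    refine (Q.1.map_add _ _).trans (max_le (hyc Q hQ) ?_)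
    refine ((inT_iff hK).1 (inT_sum b _ fun i hi => inT_smul_of_lt (hl i hi) (hb i hi)) Q hQ).trans ?_
    rw [exp_le_exp]; have := hg Q hQ; omega
  · exact Finset.card_image_le.trans (by rw [Finset.card_product]; exact Nat.mul_le_mul_right _ hA)

/-- A spanning good family is a basis. -/
lemma Good.card_eq {P : Place k K} {b : Finset K'} (hb : Good P b)
    (hspan : ∀ y, InR P y → ∃ c : K' → K, (∀ i ∈ b, P.1 (c i) ≤ 1) ∧
      InT P (y - ∑ i ∈ b, c i • i)) : b.card = finrank K K' := by
  refine le_antisymm hb.card_le ?_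
  have := card_bound hK P (fun Q => underIdx hK Q) (fun _ _ => le_rfl) b hb.1 fun y hy =>
    let ⟨c, hc, hT⟩ := hspan y hy
    ⟨c, hc, (inT_iff hK).1 hT⟩
  rw [sum_idx_deg_overs hK, mul_comm (finrank K K')] at this
  exact Nat.le_of_mul_le_mul_left this (deg_pos hK P)

/-- An integral basis at `P`. -/
lemma exists_integral_basis (P : Place k K) :
    ∃ (b : Basis (Fin (finrank K K')) K K'), (∀ i, InR P (b i)) ∧
      ∀ y, InR P y ↔ ∀ i, P.1 (b.repr y i) ≤ 1 := by
  classical
  obtain ⟨s, hs, -, -, hsp⟩ := (good_empty (K' := K') P).exists_extend {y | InR P y} fun _ h => h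
  have hcard := hs.card_eq hK hsp
  let e : Fin (finrank K K') ≃ s := (Fintype.equivFinOfCardEq (by simpa using hcard)).symm
  have hli : LinearIndependent K (fun i : Fin (finrank K K') => ((e i : s) : K')) :=
    hs.linearIndepOn.comp e e.injective
  refine ⟨basisOfLinearIndependentOfCardEqFinrank' _ hli (Fintype.card_fin _), fun i => ?_, fun y => ⟨fun hy i => ?_, fun h => ?_⟩⟩
  · rw [coe_basisOfLinearIndependentOfCardEqFinrank']; exact hs.1 _ (e i).2
  · set B := basisOfLinearIndependentOfCardEqFinrank' _ hli (Fintype.card_fin _)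
    have hsum : ∑ x ∈ s, (if h : x ∈ s then B.repr y (e.symm ⟨x, h⟩) else 0) • x = y := by
      rw [← Finset.sum_coe_sort s, ← e.sum_comp]
      conv_rhs => rw [← B.sum_repr y]
      exact Finset.sum_congr rfl fun j _ => by simp [B]
    have := hs.coord_le (hsum.symm ▸ hy) _ (e i).2
    simpa using this
  · rw [← (basisOfLinearIndependentOfCardEqFinrank' _ hli (Fintype.card_fin _)).sum_repr y]
    exact inR_sum _ _ fun i _ => inR_smul (h i) (by
      rw [coe_basisOfLinearIndependentOfCardEqFinrank']; exact hs.1 _ (e i).2)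

end Groth.Agent.FFLib
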