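import Groth.Agent.FFLib.ExtLattice

/-!
# Orders of norms
-/

open WithZero Module

namespace Groth.Agent.FFLib

open FunFld

variable {k K K' : Type*} [Field k] [Field K] [Field K'] [Algebra k K] [Algebra K K'] [Algebra k K']
  [IsScalarTower k K K'] [FiniteDimensional K K']

/-- A determinant of integral entries is integral. -/
lemma v_det_le_one (P : Place k K) {ι : Type*} [Fintype ι] [DecidableEq ι] (A : Matrix ι ι K)
    (h : ∀ i j, P.1 (A i j) ≤ 1) : P.1 A.det ≤ 1 := by
  rw [Matrix.det_apply]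
  refine P.1.map_sum_le fun σ _ => ?_
  have hp : P.1 (∏ i, A (σ i) i) ≤ 1 := by
    rw [map_prod]; exact Finset.prod_le_one' fun i _ => h _ _
  rcases Int.units_eq_one_or (Equiv.Perm.sign σ) with hs | hs <;> rw [hs] <;> simpa using hp

omit [IsScalarTower k K K'] [Field k] [Algebra k K] [Algebra k K'] in
lemma norm_inv' (x : K') : Algebra.norm K x⁻¹ = (Algebra.norm K x)⁻¹ := by
  rcases eq_or_ne x 0 with rfl | hx
  · simp
  · exact eq_inv_of_mul_eq_one_left (by rw [← map_mul, inv_mul_cancel₀ hx, map_one])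

omit [IsScalarTower k K K'] [Field k] [Algebra k K] [Algebra k K'] in
lemma norm_zpow' (x : K') (m : ℤ) : Algebra.norm K (x ^ m) = (Algebra.norm K x) ^ m :=
  map_zpow' _ norm_inv' x m

variable (hK : FG1 k K)
include hK

lemma v_norm_le_one {P : Place k K} {x : K'} (hx : InR P x) : P.1 (Algebra.norm K x) ≤ 1 := by
  obtain ⟨b, hb, hiff⟩ := exists_integral_basis (K' := K') hK P
  rw [Algebra.norm_eq_matrix_det b]
  refine v_det_le_one P _ fun i j => ?_
  rw [Algebra.leftMulMatrix_eq_repr_mul]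
  exact (hiff _).1 (inR_mul hx (hb j)) i

/-- An element of order one at one place over `P` and zero at the others. -/
lemma exists_local_param (P : Place k K) (Q₀ : Place k K') :
    ∃ π : K', π ≠ 0 ∧ Q₀.ord π = 1 ∧ ∀ Q ∈ overs hK P, Q ≠ Q₀ → Q.ord π = 0 := by
  classical
  obtain ⟨y, hy⟩ := weak_approx_eq (insert Q₀ (overs hK P)) (fun _ => 0)
    (fun Q => if Q = Q₀ then 1 else 0)
  have h0 := hy Q₀ (Finset.mem_insert_self _ _)
  rw [sub_zero, if_pos rfl] at h0
  have hne : y ≠ 0 := by rintro rfl; rw [map_zero] at h0; exact exp_ne_zero h0.symm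
  refine ⟨y, hne, by rw [v_eq Q₀ hne, exp_inj] at h0; omega, fun Q hQ hQ' => ?_⟩
  have h1 := hy Q (Finset.mem_insert_of_mem hQ)
  rw [sub_zero, if_neg hQ', v_eq Q hne, exp_inj] at h1
  omega

lemma deg_le_ord_norm {P : Place k K} {Q₀ : Place k K'} (hQ₀ : Q₀ ∈ overs hK P) {π : K'}
    (hπ0 : π ≠ 0) (hπ : InR P π) (hπQ : Q₀.1 π < 1) :
    (Q₀.deg : ℤ) ≤ P.deg * P.ord (Algebra.norm K π) := by
  classical
  set M : Set K' := {y | InR P y ∧ Q₀.1 y < 1} with hM
  obtain ⟨b₀, hb₀, -, hin, hsp₀⟩ := (good_empty (K' := K') P).exists_extend M fun _ h => h.1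
  have hb₀M : ∀ i ∈ b₀, i ∈ M := fun i hi => hin i hi (Finset.notMem_empty i)
  obtain ⟨b, hb, hsub, -, hsp⟩ := hb₀.exists_extend {y | InR P y} fun _ h => h
  have hcard := hb.card_eq hK hsp
  have hQ₀P := (mem_overs hK).1 hQ₀
  have hT_lt : ∀ {z : K'}, InT P z → Q₀.1 z < 1 := fun {z} hz => by
    refine ((inT_iff hK).1 hz Q₀ hQ₀).trans_lt ?_
    rw [← exp_zero, exp_lt_exp]; have := underIdx_pos hK Q₀; omega
  have hdeg : Q₀.deg ≤ P.deg * (b \ b₀).card := by
    have h := card_bound hK P (fun Q => if Q = Q₀ then 1 else 0)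
      (fun Q _ => by
        show (if Q = Q₀ then 1 else 0) ≤ _
        split_ifs
        · exact underIdx_pos hK Q
        · exact Nat.zero_le _)
      (b \ b₀) (fun i hi => hb.1 i (Finset.sdiff_subset hi)) fun y hy => by
      obtain ⟨c, hc, hT⟩ := hsp y hy
      refine ⟨c, fun i hi => hc i (Finset.sdiff_subset hi), fun Q hQ => ?_⟩
      show _ ≤ exp (-((if Q = Q₀ then 1 else 0 : ℕ) : ℤ))
      have hR : InR P (y - ∑ i ∈ b \ b₀, c i • i) := by
        intro R hR
        exact (R.1.map_sub _ _).trans (max_le (hy R hR) (inR_sum _ _ (fun i hi =>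
          inR_smul (hc i (Finset.sdiff_subset hi)) (hb.1 i (Finset.sdiff_subset hi))) R hR))
      split_ifs with hQQ
      · subst hQQ
        rw [show y - ∑ i ∈ b \ b₀, c i • i = (y - ∑ i ∈ b, c i • i) + ∑ i ∈ b₀, c i • i by
          rw [← Finset.sum_sdiff hsub]; ring]
        have h1 : Q.1 (y - ∑ i ∈ b, c i • i) < 1 := hT_lt hT
        have h2 : Q.1 (∑ i ∈ b₀, c i • i) < 1 := Q.1.map_sum_lt one_ne_zero fun i hi => by
          rw [Algebra.smul_def, map_mul]
          obtain ⟨e, he⟩ := hQ₀P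
          exact mul_lt_one_of_nonneg_of_lt_one_right
            ((isOverWith_le_one_iff he _).2 (hc i (hsub hi))) zero_le (hb₀M i hi).2
        have h3 := (Q.1.map_add _ _).trans_lt (max_lt h1 h2)
        rcases eq_or_ne ((y - ∑ i ∈ b, c i • i) + ∑ i ∈ b₀, c i • i) 0 with h0 | h0
        · rw [h0, map_zero]; exact zero_le
        · rw [v_le_exp_iff Q h0]; have := (v_lt_one_iff Q h0).1 h3; push_cast; omega
      · simpa using hR Q ((mem_overs hK).1 hQ)
    simp only [ite_mul, one_mul, zero_mul, Finset.sum_ite_eq', if_pos hQ₀] at h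
    exact h
  have hli : LinearIndependent K (fun i : b => ((i : b) : K')) := hb.linearIndepOn
  have hFc : Fintype.card b = finrank K K' := by simpa using hcard
  set B := basisOfLinearIndependentOfCardEqFinrank' _ hli hFc with hB
  have hBapply : ∀ i : b, B i = (i : K') := fun i => by rw [hB, coe_basisOfLinearIndependentOfCardEqFinrank']
  have hcoord : ∀ m ∈ M, ∀ i : b, P.1 (B.repr m i) ≤ 1 ∧ ((i : K') ∉ b₀ → P.1 (B.repr m i) < 1) := by
    intro m hm
    set d : K' → K := fun x => if h : x ∈ b then B.repr m ⟨x, h⟩ else 0 with hd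
    have hdi : ∀ i : b, d i = B.repr m i := fun i => by simp [hd, i.2]
    have hsum : ∑ x ∈ b, d x • x = m := by
      conv_rhs => rw [← B.sum_repr m]
      rw [← Finset.sum_coe_sort b]
      exact Fintype.sum_congr _ _ fun j => by rw [hdi, hBapply]
    have hint := hb.coord_le (c := d) (by rw [hsum]; exact hm.1)
    intro i
    refine ⟨hdi i ▸ hint i i.2, fun hi => ?_⟩
    obtain ⟨c, hc, hT⟩ := hsp₀ m hm
    set c' : K' → K := fun x => if x ∈ b₀ then c x else 0 with hc'
    have hsum' : ∑ x ∈ b, (d x - c' x) • x = m - ∑ x ∈ b₀, c x • x := by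
      simp only [sub_smul, Finset.sum_sub_distrib, hsum, hc', ite_smul, zero_smul]
      rw [← Finset.sum_filter, Finset.filter_mem_eq_inter, Finset.inter_eq_right.2 hsub]
    have h := hb.2 (fun x => d x - c' x) (fun x hx => (P.1.map_sub _ _).trans (max_le (hint x hx) (by
      simp only [hc']; split_ifs with hx0
      · exact hc x hx0
      · simp))) (by rw [hsum']; exact hT) i i.2
    simpa [hc', hi, hdi] using h
  set A := Algebra.leftMulMatrix B π with hA
  have hmemM : ∀ j : b, π * B j ∈ M := fun j => by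
    rw [hBapply]
    refine ⟨inR_mul hπ (hb.1 _ j.2), ?_⟩
    rw [map_mul]
    exact mul_lt_one_of_nonneg_of_lt_one_left zero_le hπQ (hb.1 _ j.2 Q₀ hQ₀P)
  set v : b → K := fun i => if (i : K') ∈ b₀ then 1 else tP P with hv
  have hv0 : ∀ i, v i ≠ 0 := fun i => by
    simp only [hv]; split_ifs
    · exact one_ne_zero
    · exact tP_ne_zero P
  have hAv : A.det = (∏ i, v i) * (Matrix.of fun i j => (v i)⁻¹ * A i j).det := by
    rw [← Matrix.det_mul_column]
    congr 1
    ext i j
    simp only [Matrix.of_apply]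
    rw [mul_inv_cancel_left₀ (hv0 i)]
  have hint : P.1 (Matrix.of fun i j => (v i)⁻¹ * A i j).det ≤ 1 := by
    refine v_det_le_one P _ fun i j => ?_
    simp only [Matrix.of_apply, hA, Algebra.leftMulMatrix_eq_repr_mul, hv]
    obtain ⟨h1, h2⟩ := hcoord _ (hmemM j) i
    split_ifs with hi
    · simpa using h1
    · rcases eq_or_ne (B.repr (π * B j) i) 0 with h0 | h0
      · simp [h0]
      rw [v_le_one_iff, ord_mul P (inv_ne_zero (tP_ne_zero P)) h0, ord_inv, ord_tP]
      have := (v_lt_one_iff P h0).1 (h2 hi)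
      omega
  have hN : A.det = Algebra.norm K π := (Algebra.norm_eq_matrix_det B π).symm
  have hN0 : Algebra.norm K π ≠ 0 := Algebra.norm_ne_zero_iff.2 hπ0
  have hprod : ∏ i, v i = tP P ^ (b \ b₀).card := by
    simp only [hv]
    rw [Finset.prod_coe_sort b (fun x => if x ∈ b₀ then (1 : K) else tP P), Finset.prod_ite,
      Finset.prod_const_one, one_mul, Finset.prod_const, ← Finset.sdiff_eq_filter]
  rw [hN, hprod] at hAv
  have hrest : (Matrix.of fun i j => (v i)⁻¹ * A i j).det ≠ 0 := fun h => hN0 (by rw [hAv, h, mul_zero])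
  have hord := ord_mul P (pow_ne_zero (b \ b₀).card (tP_ne_zero P)) hrest
  rw [← hAv, ord_pow, ord_tP, mul_one] at hord
  have hge : ((b \ b₀).card : ℤ) ≤ P.ord (Algebra.norm K π) := by
    have := (v_le_one_iff P _).1 hint
    omega
  calc (Q₀.deg : ℤ) ≤ ((P.deg * (b \ b₀).card : ℕ) : ℤ) := by exact_mod_cast hdeg
    _ ≤ P.deg * P.ord (Algebra.norm K π) := by push_cast; exact mul_le_mul_of_nonneg_left hge (Int.natCast_nonneg _)

/-- The order of a norm. -/
theorem ord_norm (P : Place k K) (x : K') :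
    (P.deg : ℤ) * P.ord (Algebra.norm K x) = ∑ Q ∈ overs hK P, (Q.deg : ℤ) * Q.ord x := by
  classical
  rcases eq_or_ne x 0 with rfl | hx
  · simp
  set S := overs (K' := K') hK P
  choose π hπ0 hπ1 hπo using exists_local_param (K' := K') hK P
  have hinR : ∀ Q, ∀ R, IsOver R P → R.1 (π Q) ≤ 1 := fun Q R hR => by
    rw [v_le_one_iff]
    rcases eq_or_ne R Q with rfl | h
    · rw [hπ1]; omega
    · rw [hπo Q R ((mem_overs hK).2 hR) h]
  set Φ : K' → ℤ := fun y => (P.deg : ℤ) * P.ord (Algebra.norm K y) with hΦ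
  have hN : ∀ {y : K'}, y ≠ 0 → Algebra.norm K y ≠ 0 := fun hy => Algebra.norm_ne_zero_iff.2 hy
  have key : ∀ y : K', y ≠ 0 → Φ y = ∑ Q ∈ S, Φ (π Q) * Q.ord y := by
    intro y hy
    set z := ∏ Q ∈ S, π Q ^ Q.ord y with hz
    have hz0 : z ≠ 0 := Finset.prod_ne_zero_iff.2 fun Q _ => zpow_ne_zero _ (hπ0 Q)
    have hordprod : ∀ (R : Place k K') (T : Finset (Place k K')),
        R.ord (∏ Q ∈ T, π Q ^ Q.ord y) = ∑ Q ∈ T, Q.ord y * R.ord (π Q) := by
      intro R T
      induction T using Finset.induction_on with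
      | empty => simp
      | insert a T ha ih =>
        rw [Finset.prod_insert ha, Finset.sum_insert ha, ord_mul R (zpow_ne_zero _ (hπ0 a))
          (Finset.prod_ne_zero_iff.2 fun Q _ => zpow_ne_zero _ (hπ0 Q)), ih, ord_zpow]
    have hu : ∀ R ∈ S, R.ord (y / z) = 0 := by
      intro R hR
      rw [div_eq_mul_inv, ord_mul R hy (inv_ne_zero hz0), ord_inv, hz, hordprod,
        Finset.sum_eq_single R (fun Q _ h => by rw [hπo Q R hR h.symm, mul_zero])
          (fun h => absurd hR h), hπ1, mul_one]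
      omega
    have hu0 : y / z ≠ 0 := div_ne_zero hy hz0
    have h1 : InR P (y / z) := fun R hR => by rw [v_le_one_iff, hu R ((mem_overs hK).2 hR)]
    have h2 : InR P (y / z)⁻¹ := fun R hR => by rw [v_le_one_iff, ord_inv, hu R ((mem_overs hK).2 hR), neg_zero]
    have h3 := (v_le_one_iff P _).1 (v_norm_le_one hK h1)
    have h4 := (v_le_one_iff P _).1 (v_norm_le_one hK h2)
    rw [norm_inv', ord_inv] at h4
    have hdiv : P.ord (Algebra.norm K y) = P.ord (Algebra.norm K z) := by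
      conv_lhs => rw [← div_mul_cancel₀ y hz0, map_mul, ord_mul P (hN hu0) (hN hz0)]
      omega
    have hNz : ∀ T : Finset (Place k K'), P.ord (Algebra.norm K (∏ Q ∈ T, π Q ^ Q.ord y)) =
        ∑ Q ∈ T, Q.ord y * P.ord (Algebra.norm K (π Q)) := by
      intro T
      induction T using Finset.induction_on with
      | empty => simp
      | insert a T ha ih =>
        rw [Finset.prod_insert ha, Finset.sum_insert ha, map_mul, ord_mul P
          (hN (zpow_ne_zero _ (hπ0 a))) (hN (Finset.prod_ne_zero_iff.2 fun Q _ => zpow_ne_zero _ (hπ0 Q))),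
          ih, norm_zpow', ord_zpow]
    simp only [hΦ]
    rw [hdiv, hz, hNz, Finset.mul_sum]
    exact Finset.sum_congr rfl fun Q _ => by ring
  have hge : ∀ Q ∈ S, (Q.deg : ℤ) ≤ Φ (π Q) := fun Q hQ =>
    deg_le_ord_norm hK hQ (hπ0 Q) (hinR Q) (by rw [v_lt_one_iff Q (hπ0 Q), hπ1]; omega)
  have ht0 : algebraMap K K' (tP P) ≠ 0 := (map_ne_zero _).2 (tP_ne_zero P)
  have ht := key _ ht0
  simp only [hΦ] at ht hge key
  rw [Algebra.norm_algebraMap, ord_pow, ord_tP, mul_one] at ht
  have hidx : ∀ Q ∈ S, Q.ord (algebraMap K K' (tP P)) = underIdx hK Q := fun Q hQ => by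
    rw [ord_algebraMap hK, (mem_overs' hK).1 hQ, ord_tP, mul_one]
  have hsum : ∑ Q ∈ S, (underIdx hK Q : ℤ) * Q.deg = (finrank K K' : ℤ) * P.deg := by
    exact_mod_cast sum_idx_deg_overs (K' := K') hK P
  have hzero : ∑ Q ∈ S, ((P.deg : ℤ) * P.ord (Algebra.norm K (π Q)) - Q.deg) * underIdx hK Q = 0 := by
    simp only [sub_mul, Finset.sum_sub_distrib]
    rw [Finset.sum_congr rfl fun Q hQ => (by rw [hidx Q hQ] :
      ((P.deg : ℤ) * P.ord (Algebra.norm K (π Q))) * Q.ord (algebraMap K K' (tP P)) =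
        ((P.deg : ℤ) * P.ord (Algebra.norm K (π Q))) * (underIdx hK Q : ℤ))] at ht
    rw [← ht, Finset.sum_congr rfl fun Q _ => mul_comm (Q.deg : ℤ) (underIdx hK Q : ℤ), hsum]
    ring
  rw [key x hx]
  refine Finset.sum_congr rfl fun Q hQ => ?_
  have h := (Finset.sum_eq_zero_iff_of_nonneg fun R hR =>
    mul_nonneg (sub_nonneg.2 (hge R hR)) (Int.natCast_nonneg _)).1 hzero Q hQ
  rcases mul_eq_zero.1 h with h | h
  · rw [sub_eq_zero.1 h]
  · exact absurd h (by exact_mod_cast (underIdx_pos hK Q).ne')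

end Groth.Agent.FFLib
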