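import Groth.Agent.FFLib.Bombieri
import Groth.Agent.FFLib.ExtRam
import Groth.Agent.FFLib.ZetaExt

/-!
# Counting places by their Frobenius in a Galois extension
-/

set_option linter.unusedSectionVars false

open WithZero Module

namespace Groth.Agent.FFLib

open FunFld

variable {k F K' : Type*} [Field k] [Field F] [Field K'] [Algebra k F] [Algebra k K'] [Algebra F K']
  [IsScalarTower k F K'] [Finite k] [FiniteDimensional F K'] (hF : IsFunctionField k F)
include hF

lemma under_deg_one_of_frob {σ : K' ≃ₐ[F] K'} {Q : Place k K'}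
    (h : IsFrob (Nat.card k) (σ.restrictScalars k) Q) : (underPlace hF.1 Q).deg = 1 := by
  classical
  set P := underPlace hF.1 Q
  have hover := isOverWith_under hF.1 Q
  have := finiteDimensional_residue hF.1 P
  have : Finite (IsLocalRing.ResidueField P.O) := Module.finite_of_finite k
  have := Fintype.ofFinite (IsLocalRing.ResidueField P.O)
  have hfix : ∀ a : IsLocalRing.ResidueField P.O, a ^ Nat.card k = a := by
    intro a
    obtain ⟨c, rfl⟩ := IsLocalRing.residue_surjective a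
    rw [← map_pow, ← sub_eq_zero, ← map_sub, residue_eq_zero_iff_lt]
    refine (isOverWith_lt_one_iff hover _).1 ?_
    have hh := h (algebraMap F K' (c : F)) ((isOverWith_le_one_iff hover _).2 c.2)
    rw [AlgEquiv.restrictScalars_apply, AlgEquiv.commutes] at hh
    show Q.1 (algebraMap F K' ((c : F) ^ Nat.card k - c)) < 1
    rw [map_sub, map_pow, Valuation.map_sub_swap]
    exact hh
  have hle := Polynomial.card_le_degree_of_subset_roots
    (p := (Polynomial.X ^ Nat.card k - Polynomial.X : Polynomial (IsLocalRing.ResidueField P.O)))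
    (Z := Finset.univ) (fun a _ => by
      rw [Polynomial.mem_roots (FiniteField.X_pow_card_sub_X_ne_zero _ one_lt_card)]
      simp [hfix a])
  rw [Finset.card_univ, FiniteField.X_pow_card_sub_X_natDegree_eq _ one_lt_card] at hle
  have h2 : Fintype.card (IsLocalRing.ResidueField P.O) = Nat.card k ^ P.deg := by
    rw [← Nat.card_eq_fintype_card]; exact Module.natCard_eq_pow_finrank
  have h1 := deg_pos hF.1 P
  rw [h2] at hle
  by_contra hne
  have : Nat.card k ^ 1 < Nat.card k ^ P.deg := Nat.pow_lt_pow_right one_lt_card (by omega)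
  rw [pow_one] at this
  omega

variable [IsGalois F K']

lemma exists_frob {Q : Place k K'} (hP : (underPlace hF.1 Q).deg = 1) :
    ∃ σ : K' ≃ₐ[F] K', IsFrob (Nat.card k) (σ.restrictScalars k) Q := by
  classical
  set P := underPlace hF.1 Q with hPdef
  have hQ : Q ∈ overs hF.1 P := (mem_overs' hF.1).2 rfl
  have hK' := fg1_ext (K' := K') hF.1
  set Fq := IsLocalRing.ResidueField Q.O
  have := finiteDimensional_residue hK' Q
  have : Finite Fq := Module.finite_of_finite k
  set D := Q.O.decompositionSubgroup F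
  set φ : D →* RingAut Fq := MulSemiringAction.toRingAut D Fq with hφ
  have hk : ∀ (h : φ.range) (c : k), (h : RingAut Fq) (algebraMap k Fq c) = algebraMap k Fq c := by
    rintro ⟨_, σ, rfl⟩ c
    show σ • (algebraMap k Fq c) = _
    rw [algebraMap_residue, ← IsLocalRing.ResidueField.residue_smul]
    refine congrArg _ (Subtype.ext ?_)
    show (σ : K' ≃ₐ[F] K') (algebraMap k K' c) = algebraMap k K' c
    exact ((σ : K' ≃ₐ[F] K').restrictScalars k).commutes c
  let ψ : φ.range → (Fq ≃ₐ[k] Fq) := fun h => AlgEquiv.ofRingEquiv (f := (h : RingAut Fq)) (hk h)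
  have hψinj : Function.Injective ψ := fun a b e => Subtype.ext (RingEquiv.ext fun x =>
    (DFunLike.congr_fun e x : _))
  have hI : Nat.card φ.range = Q.deg := by
    have h1 := card_decomposition hF.1 hQ
    rw [hP, mul_one, ← card_inertia hF.1 (Q := Q)] at h1
    have h2 : Nat.card D = Nat.card (Q.O.inertiaSubgroup F) * Nat.card φ.range := by
      rw [← Subgroup.card_mul_index (Q.O.inertiaSubgroup F)]
      congr 1
      exact Subgroup.index_ker φ
    rw [h2] at h1
    exact Nat.eq_of_mul_eq_mul_left Nat.card_pos h1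
  have hsurj : Function.Surjective ψ := (hψinj.bijective_of_nat_card_le (by
    rw [hI, IsGalois.card_aut_eq_finrank]; rfl)).2
  have := Fintype.ofFinite k
  obtain ⟨⟨_, σ, rfl⟩, hσ⟩ := hsurj (FiniteField.frobeniusAlgEquivOfAlgebraic k Fq)
  refine ⟨σ, fun z hz => ?_⟩
  have h := DFunLike.congr_fun hσ (IsLocalRing.residue Q.O ⟨z, hz⟩)
  rw [FiniteField.coe_frobeniusAlgEquivOfAlgebraic] at h
  have h' : IsLocalRing.residue Q.O (σ • (⟨z, hz⟩ : Q.O)) =
      (IsLocalRing.residue Q.O ⟨z, hz⟩) ^ Nat.card k := by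
    rw [Nat.card_eq_fintype_card, IsLocalRing.ResidueField.residue_smul]; exact h
  rw [← map_pow, ← sub_eq_zero, ← map_sub, residue_eq_zero_iff_lt] at h'
  exact h'

lemma card_frob {Q : Place k K'} (hP : (underPlace hF.1 Q).deg = 1) :
    Nat.card {σ : K' ≃ₐ[F] K' // IsFrob (Nat.card k) (σ.restrictScalars k) Q} = underIdx hF.1 Q := by
  classical
  obtain ⟨σ₀, hσ₀⟩ := exists_frob hF hP
  have := finiteDimensional_residue (fg1_ext (K' := K') hF.1) Q
  have : Finite (IsLocalRing.ResidueField Q.O) := Module.finite_of_finite k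
  rw [← card_ramGroup_one hF.1 Q]
  have hint : ∀ {σ : K' ≃ₐ[F] K'}, IsFrob (Nat.card k) (σ.restrictScalars k) Q →
      ∀ z : K', Q.1 (σ z) = Q.1 z := by
    intro σ hσ z
    have h : Q = placeMap σ Q := place_ext_of_le Q (placeMap σ Q) fun y hy => by
      show Q.1 (σ y) ≤ 1
      rw [show σ y = (σ y - y ^ Nat.card k) + y ^ Nat.card k by ring]
      exact (Q.1.map_add _ _).trans (max_le (hσ y hy).le (by rw [map_pow]; exact pow_le_one' hy _))
    conv_rhs => rw [h]
    rfl
  refine Nat.card_congr (Equiv.subtypeEquiv (Equiv.mulLeft σ₀⁻¹) fun σ => ?_)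
  simp only [Equiv.coe_mulLeft, mem_ramGroup]
  constructor
  · intro hσ x hx
    have e : σ₀ ((σ₀⁻¹ * σ) x - x) = (σ x - x ^ Nat.card k) - (σ₀ x - x ^ Nat.card k) := by
      rw [map_sub, AlgEquiv.mul_apply, ← AlgEquiv.mul_apply σ₀, mul_inv_cancel, AlgEquiv.one_apply]; ring
    have hlt : Q.1 ((σ₀⁻¹ * σ) x - x) < 1 := by
      rw [← hint hσ₀, e]
      exact (Q.1.map_sub _ _).trans_lt (max_lt (hσ x hx) (hσ₀ x hx))
    rcases eq_or_ne ((σ₀⁻¹ * σ) x - x) 0 with h0 | h0
    · rw [h0, map_zero]; exact zero_le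
    rw [v_le_exp_iff Q h0]
    have := (v_lt_one_iff Q h0).1 hlt
    push_cast; omega
  · intro hτ z hz
    have e : σ z - z ^ Nat.card k = σ₀ ((σ₀⁻¹ * σ) z - z) + (σ₀ z - z ^ Nat.card k) := by
      rw [map_sub, AlgEquiv.mul_apply, ← AlgEquiv.mul_apply σ₀, mul_inv_cancel, AlgEquiv.one_apply]; ring
    show Q.1 (σ z - z ^ Nat.card k) < 1
    rw [e]
    refine (Q.1.map_add _ _).trans_lt (max_lt ?_ (hσ₀ z hz))
    rw [hint hσ₀]
    exact (hτ z hz).trans_lt (by rw [← exp_zero, exp_lt_exp]; norm_num)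

open scoped Classical in
/-- The places with Frobenius `σ`. -/
noncomputable def frobPlaces (σ : K' ≃ₐ[F] K') : Finset (Place k K') :=
  ((placesDvd hF 1).biUnion (overs (K' := K') hF.1)).filter fun Q => IsFrob (Nat.card k) (σ.restrictScalars k) Q

lemma mem_frobPlaces {σ : K' ≃ₐ[F] K'} {Q : Place k K'} :
    Q ∈ frobPlaces hF σ ↔ IsFrob (Nat.card k) (σ.restrictScalars k) Q := by
  classical
  rw [frobPlaces, Finset.mem_filter, Finset.mem_biUnion]
  refine ⟨fun h => h.2, fun h => ⟨⟨_, ?_, (mem_overs' hF.1).2 rfl⟩, h⟩⟩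
  rw [mem_placesDvd hF one_pos, Nat.dvd_one]
  exact under_deg_one_of_frob hF h

/-- The Frobenius classes exhaust the fibres over the rational places. -/
theorem sum_frobPlaces :
    ∑ σ : K' ≃ₐ[F] K', ∑ Q ∈ frobPlaces hF σ, (Q.deg : ℤ) = (finrank F K' : ℤ) * pointCount hF 1 := by
  classical
  set Fib := (placesDvd hF 1).biUnion (overs (K' := K') hF.1) with hFib
  simp only [frobPlaces, Finset.sum_filter]
  rw [Finset.sum_comm]
  have hdisj : ((placesDvd hF 1 : Finset (Place k F)) : Set (Place k F)).PairwiseDisjoint (overs (K' := K') hF.1) := by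
    intro P _ R _ hne
    refine Finset.disjoint_left.2 fun Q hQ hQ' => hne ?_
    rw [← (mem_overs' hF.1).1 hQ, ← (mem_overs' hF.1).1 hQ']
  rw [Finset.sum_biUnion hdisj, pointCount, Finset.mul_sum]
  refine Finset.sum_congr rfl fun P hP => ?_
  have hP1 : P.deg = 1 := Nat.dvd_one.1 ((mem_placesDvd hF one_pos).1 hP)
  have h := sum_idx_deg_overs (K' := K') hF.1 P
  have h' : ((∑ Q ∈ overs (K' := K') hF.1 P, underIdx hF.1 Q * Q.deg : ℕ) : ℤ) = finrank F K' * P.deg := by
    rw [h]; push_cast; rfl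
  rw [← h']
  push_cast
  refine Finset.sum_congr rfl fun Q hQ => ?_
  rw [← Finset.sum_filter, Finset.sum_const, nsmul_eq_mul, ← Fintype.card_subtype, ← Nat.card_eq_fintype_card,
    card_frob hF (Q := Q) (by rw [(mem_overs' hF.1).1 hQ]; exact hP1)]

/-- The two-sided bound for the number of rational points of an intermediate field. -/
theorem abs_pointCount_sub_le {K : Type*} [Field K] [Algebra k K] [Algebra F K] [Algebra K K']
    [IsScalarTower k K K'] [IsScalarTower F K K'] [FiniteDimensional K K'] (hK : IsFunctionField k K)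
    (hK' : IsFunctionField k K') {p a : ℕ} [Fact p.Prime] [CharP k p]
    (hq : Nat.card k = (p ^ a) ^ 2) (hbig : (genus k K' + 1) ^ 2 < p ^ a)
    (Q₀ : Place k K') (hQ₀ : Q₀.deg = 1) (hN : pointCount hF 1 = (Nat.card k : ℤ) + 1) :
    |pointCount hK 1 - (Nat.card k : ℤ)| ≤ (finrank F K' : ℤ) * (2 * genus k K' + 2) * (p ^ a : ℕ) := by
  classical
  have : IsGalois K K' := IsGalois.tower_top_of_isGalois F K K'
  set q₀ : ℤ := ((p ^ a : ℕ) : ℤ) with hq₀
  set C : ℤ := 2 * (genus k K' : ℤ) + 2 with hC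
  have hq₀1 : 1 ≤ q₀ := by
    have : 1 ≤ p ^ a := Nat.one_le_pow _ _ (Fact.out (p := p.Prime)).pos
    omega
  set S : (K' ≃ₐ[F] K') → ℤ := fun σ => ∑ Q ∈ frobPlaces hF σ, (Q.deg : ℤ) with hS
  have hup : ∀ σ, S σ ≤ (Nat.card k : ℤ) + C * q₀ := fun σ => by
    have h : S σ ≤ (Nat.card k : ℤ) + (2 * (genus k K' : ℤ) + 1) * q₀ + 1 :=
      sum_deg_frob_le hK' hq hbig Q₀ hQ₀ (σ.restrictScalars k) _ fun Q hQ =>
        (mem_frobPlaces hF).1 hQ
    have : C * q₀ = (2 * (genus k K' : ℤ) + 1) * q₀ + q₀ := by rw [hC]; ring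
    omega
  have hcard : (Fintype.card (K' ≃ₐ[F] K') : ℤ) = finrank F K' := by
    rw [← Nat.card_eq_fintype_card, IsGalois.card_aut_eq_finrank]
  set n : ℤ := (finrank F K' : ℤ)
  have hn1 : 1 ≤ n := by have : 0 < finrank F K' := finrank_pos; omega
  have hlow : ∀ σ, (Nat.card k : ℤ) - n * C * q₀ ≤ S σ := fun σ => by
    have htot : ∑ τ : K' ≃ₐ[F] K', S τ = n * ((Nat.card k : ℤ) + 1) := by
      rw [← hN]; exact sum_frobPlaces hF
    rw [← Finset.add_sum_erase _ _ (Finset.mem_univ σ)] at htot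
    have hrest : ∑ τ ∈ Finset.univ.erase σ, S τ ≤ (n - 1) * ((Nat.card k : ℤ) + C * q₀) := by
      refine (Finset.sum_le_card_nsmul _ _ _ fun τ _ => hup τ).trans (le_of_eq ?_)
      rw [Finset.card_erase_of_mem (Finset.mem_univ σ), Finset.card_univ, nsmul_eq_mul,
        Nat.cast_sub (Fintype.card_pos), hcard]
      simp
    have hC0 : 0 ≤ C * q₀ := mul_nonneg (by omega) (by omega)
    nlinarith
  have hH : ∑ τ : K' ≃ₐ[K] K', S (τ.restrictScalars F) = (finrank K K' : ℤ) * pointCount hK 1 := by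
    rw [← sum_frobPlaces hK]
    refine Finset.sum_congr rfl fun τ _ => Finset.sum_congr (Finset.ext fun Q => ?_) fun _ _ => rfl
    rw [mem_frobPlaces hF, mem_frobPlaces hK]
    rfl
  have hcK : (Fintype.card (K' ≃ₐ[K] K') : ℤ) = finrank K K' := by
    rw [← Nat.card_eq_fintype_card, IsGalois.card_aut_eq_finrank]
  have h1 : (finrank K K' : ℤ) * pointCount hK 1 ≤ (finrank K K' : ℤ) * ((Nat.card k : ℤ) + C * q₀) := by
    rw [← hH]
    refine (Finset.sum_le_card_nsmul _ _ _ fun τ _ => hup _).trans (le_of_eq ?_)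
    rw [Finset.card_univ, nsmul_eq_mul, hcK]
  have h2 : (finrank K K' : ℤ) * ((Nat.card k : ℤ) - n * C * q₀) ≤ (finrank K K' : ℤ) * pointCount hK 1 := by
    rw [← hH]
    refine le_trans (le_of_eq ?_) (Finset.card_nsmul_le_sum _ _ _ fun τ _ => hlow _)
    rw [Finset.card_univ, nsmul_eq_mul, hcK]
  have hpos : (0 : ℤ) < finrank K K' := by exact_mod_cast finrank_pos
  have h1' := le_of_mul_le_mul_left h1 hpos
  have h2' := le_of_mul_le_mul_left h2 hpos
  have hC0 : 0 ≤ C * q₀ := mul_nonneg (by omega) (by omega)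
  have : C * q₀ ≤ n * C * q₀ := by nlinarith
  rw [abs_le]
  constructor <;> linarith

end Groth.Agent.FFLib
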