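import Groth.Agent.FFLib.Ext
import Groth.Agent.FFLib.DegOne
import Mathlib.FieldTheory.Finite.Basic
import Mathlib.FieldTheory.IsAlgClosed.AlgebraicClosure
import Mathlib.Tactic

/-!
# Frobenius fixed places of the algebraic constant extension
-/

open WithZero Module Polynomial

namespace Groth.Agent.FFLib

open FunFld

variable {k K kb Kb : Type*} [Field k] [Field K] [Algebra k K] [Field kb] [Algebra k kb] [Field Kb]
  [Algebra K Kb] [Algebra kb Kb]
  (hc : ∀ c : k, algebraMap K Kb (algebraMap k K c) = algebraMap kb Kb (algebraMap k kb c))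
include hc

omit [Algebra k kb] hc in
/-- constants are units -/
lemma v_const_le (Q : Place kb Kb) (c : kb) : Q.1 (algebraMap kb Kb c) ≤ 1 := Q.2.1 c

/-- The place below a place of the constant extension. -/
lemma exists_below (hK : IsFunctionField k K) (hgen : Algebra.adjoin K (Set.range (algebraMap kb Kb)) = ⊤)
    (Q : Place kb Kb) :
    ∃ P : Place k K, ∀ x : K, Q.1 (algebraMap K Kb x) ≤ 1 ↔ P.1 x ≤ 1 := by
  have hne : Q.O.comap (algebraMap K Kb) ≠ ⊤ := by
    intro htop
    have hint : ∀ y : K, Q.1 (algebraMap K Kb y) ≤ 1 := fun y =>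
      (show y ∈ Q.O.comap (algebraMap K Kb) by rw [htop]; trivial)
    have hall : ∀ z : Kb, Q.1 z ≤ 1 := by
      intro z
      have hz : z ∈ Algebra.adjoin K (Set.range (algebraMap kb Kb)) := hgen ▸ Algebra.mem_top
      induction hz using Algebra.adjoin_induction with
      | mem x hx => obtain ⟨c, rfl⟩ := hx; exact Q.2.1 c
      | algebraMap r => exact hint r
      | add x y _ _ hx hy => exact (Q.1.map_add _ _).trans (max_le hx hy)
      | mul x y _ _ hx hy => rw [map_mul]; exact (mul_le_mul' hx hy).trans_eq (one_mul _)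
    obtain ⟨z, hz⟩ := Q.2.2 (exp 1)
    have := hall z
    rw [hz, ← exp_zero, exp_le_exp] at this
    omega
  obtain ⟨P, hP⟩ := exists_place_of_valuationSubring hK.1 (Q.O.comap (algebraMap K Kb))
    (fun c => show Q.1 (algebraMap K Kb (algebraMap k K c)) ≤ 1 by rw [hc]; exact Q.2.1 _) hne
  exact ⟨P, fun x => (show x ∈ Q.O.comap (algebraMap K Kb) ↔ x ∈ P.O by rw [hP])⟩

variable {Q : Place kb Kb} {P : Place k K}

omit [Algebra k kb] hc in
lemma below_lt_iff (hP : ∀ x : K, Q.1 (algebraMap K Kb x) ≤ 1 ↔ P.1 x ≤ 1) {x : K} (hx : x ≠ 0) :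
    Q.1 (algebraMap K Kb x) < 1 ↔ P.1 x < 1 := by
  rw [← not_le, ← not_le, not_iff_not]
  have h := hP x⁻¹
  rw [map_inv₀, map_inv₀, map_inv₀, inv_le_one₀ (zero_lt_iff.2 (v_ne_zero Q ((_root_.map_ne_zero _).2 hx))),
    inv_le_one₀ (zero_lt_iff.2 (v_ne_zero P hx))] at h
  exact h

variable [Finite k] [IsAlgClosure k kb] (F : Kb →+* Kb) (hF1 : ∀ c : kb, F (algebraMap kb Kb c) = algebraMap kb Kb c)
  (hF2 : ∀ x : K, F (algebraMap K Kb x) = algebraMap K Kb x ^ Nat.card k)
include hF1 hF2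

omit [Algebra k kb] [IsAlgClosure k kb] [Finite k] hc in
lemma F_aeval (t : K) (p : kb[X]) :
    F (aeval (algebraMap K Kb t) p) = aeval (algebraMap K Kb t ^ Nat.card k) p := by
  induction p using Polynomial.induction_on' with
  | add p q hp hq => rw [map_add, map_add, map_add, hp, hq]
  | monomial n c => rw [aeval_monomial, aeval_monomial, map_mul, map_pow, hF1, hF2]

/-- (⇐) -/
lemma fixed_of_deg_one (hgen : Algebra.adjoin K (Set.range (algebraMap kb Kb)) = ⊤)
    (hP : ∀ x : K, Q.1 (algebraMap K Kb x) ≤ 1 ↔ P.1 x ≤ 1) (hd : P.deg = 1) (z : Kb) :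
    Q.1 (F z) < 1 ↔ Q.1 z < 1 := by
  classical
  set q := Nat.card k with hq
  have hq1 : 0 < q := Nat.card_pos
  obtain ⟨t, ht0, ht1, htv⟩ := exists_uniformizer P
  set T := algebraMap K Kb t with hT
  have hT0 : T ≠ 0 := (_root_.map_ne_zero _).2 ht0
  have hτ : Q.1 T < 1 := (below_lt_iff hP ht0).2 (by rw [htv, ← exp_zero, exp_lt_exp]; omega)
  have hτ0 : 0 < Q.1 T := zero_lt_iff.2 (v_ne_zero Q hT0)
  -- approximation
  let G : ℕ → Kb → Prop := fun N w => Q.1 w ≤ 1 ∧ Q.1 (F w) ≤ 1 ∧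
    ∃ p : kb[X], Q.1 (w - aeval T p) ≤ Q.1 T ^ N ∧ Q.1 (F (w - aeval T p)) ≤ Q.1 T ^ N
  have hpoly : ∀ (p : kb[X]) (y : Kb), Q.1 y ≤ 1 → Q.1 (aeval y p) ≤ 1 := fun p y hy => by
    rw [aeval_eq_sum_range]
    refine Q.1.map_sum_le fun i _ => ?_
    rw [Algebra.smul_def, map_mul, map_pow]
    exact (mul_le_mul' (Q.2.1 _) (pow_le_one₀ zero_le hy)).trans_eq (one_mul _)
  have hGK : ∀ N (u : K), P.1 u ≤ 1 → G N (algebraMap K Kb u) := by
    intro N u hu
    have hu' : Q.1 (algebraMap K Kb u) ≤ 1 := (hP u).2 hu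
    refine ⟨hu', by rw [hF2, map_pow]; exact pow_le_one₀ zero_le hu', ?_⟩
    suffices h : ∃ p : kb[X], ∃ u' : K, P.1 u' ≤ 1 ∧ algebraMap K Kb u - aeval T p = T ^ N * algebraMap K Kb u' by
      obtain ⟨p, u', hu1, e⟩ := h
      refine ⟨p, ?_, ?_⟩
      · rw [e, map_mul, map_pow]
        exact (mul_le_mul' le_rfl ((hP u').2 hu1)).trans_eq (mul_one _)
      · rw [e, map_mul, map_pow, hT, hF2, hF2, map_mul, map_pow, map_pow, map_pow]
        refine (mul_le_mul' (pow_le_pow_left' ?_ N) (pow_le_one₀ zero_le ((hP u').2 hu1))).trans_eq (mul_one _)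
        exact pow_le_of_le_one zero_le hτ.le hq1.ne'
    clear hu'
    induction N with
    | zero => exact ⟨0, u, hu, by simp⟩
    | succ N ih =>
      obtain ⟨p, u', hu1, e⟩ := ih
      obtain ⟨c, hcu⟩ := exists_const_sub_lt hd hu1
      refine ⟨p + Polynomial.C (algebraMap k kb c) * Polynomial.X ^ N, (u' - algebraMap k K c) / t, ?_, ?_⟩
      · rw [v_le_one_iff]
        rcases eq_or_ne (u' - algebraMap k K c) 0 with h | h
        · rw [h, zero_div, ord_zero]
        · rw [div_eq_mul_inv, ord_mul P h (inv_ne_zero ht0), ord_inv, ht1]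
          have := (v_lt_one_iff P h).1 hcu
          omega
      · rw [map_add, map_mul, map_pow, aeval_C, aeval_X, ← sub_sub, e, map_div₀, map_sub, hc, ← hT]
        field_simp
        ring
  have hmul : ∀ N a b, G N a → G N b → G N (a * b) := by
    rintro N a b ⟨ha, ha', p, hp, hp'⟩ ⟨hb, hb', r, hr, hr'⟩
    refine ⟨by rw [map_mul]; exact (mul_le_mul' ha hb).trans_eq (one_mul _),
      by rw [map_mul, map_mul]; exact (mul_le_mul' ha' hb').trans_eq (one_mul _), p * r, ?_, ?_⟩
    · rw [map_mul, show a * b - aeval T p * aeval T r = (a - aeval T p) * b + aeval T p * (b - aeval T r) by ring]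
      refine (Q.1.map_add _ _).trans (max_le ?_ ?_) <;> rw [map_mul]
      · exact (mul_le_mul' hp hb).trans_eq (mul_one _)
      · exact (mul_le_mul' (hpoly p T hτ.le) hr).trans_eq (one_mul _)
    · rw [map_mul, show a * b - aeval T p * aeval T r = (a - aeval T p) * b + aeval T p * (b - aeval T r) by ring, map_add F, map_mul F, map_mul F]
      refine (Q.1.map_add _ _).trans (max_le ?_ ?_) <;> rw [map_mul]
      · exact (mul_le_mul' hp' hb').trans_eq (mul_one _)
      · rw [hT, F_aeval F hF1 hF2, ← map_pow (algebraMap K Kb)]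
        exact (mul_le_mul' (hpoly p _ (by rw [map_pow, map_pow]; exact pow_le_one₀ zero_le hτ.le)) hr').trans_eq (one_mul _)
  have hadd : ∀ N a b, G N a → G N b → G N (a + b) := by
    rintro N a b ⟨ha, ha', p, hp, hp'⟩ ⟨hb, hb', r, hr, hr'⟩
    refine ⟨(Q.1.map_add _ _).trans (max_le ha hb), by rw [map_add F]; exact (Q.1.map_add _ _).trans (max_le ha' hb'),
      p + r, ?_, ?_⟩
    · rw [map_add, add_sub_add_comm]; exact (Q.1.map_add _ _).trans (max_le hp hr)
    · rw [map_add, add_sub_add_comm, map_add F]; exact (Q.1.map_add _ _).trans (max_le hp' hr')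
  have hrep : ∀ z : Kb, ∃ M : ℕ, ∀ N, G N (T ^ M * z) := by
    intro z
    have hz : z ∈ Algebra.adjoin K (Set.range (algebraMap kb Kb)) := hgen ▸ Algebra.mem_top
    induction hz using Algebra.adjoin_induction with
    | mem x hx =>
      obtain ⟨c, rfl⟩ := hx
      exact ⟨0, fun N => ⟨by simpa using Q.2.1 c, by simpa [hF1] using Q.2.1 c, Polynomial.C c, by simp, by simp⟩⟩
    | algebraMap r =>
      refine ⟨(-P.ord r).toNat, fun N => ?_⟩
      rw [hT, ← map_pow, ← map_mul]
      refine hGK N _ ?_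
      rw [v_le_one_iff]
      rcases eq_or_ne r 0 with rfl | hr
      · simp
      · rw [ord_mul P (pow_ne_zero _ ht0) hr, ord_pow, ht1]; omega
    | add x y _ _ hx hy =>
      obtain ⟨M, hM⟩ := hx
      obtain ⟨M', hM'⟩ := hy
      refine ⟨M + M', fun N => ?_⟩
      rw [mul_add]
      have hTG : ∀ j, G N (T ^ j) := fun j => by
        rw [hT, ← map_pow]
        exact hGK N _ (by rw [map_pow]; exact pow_le_one₀ zero_le (by rw [htv, ← exp_zero, exp_le_exp]; omega))
      refine hadd N _ _ ?_ ?_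
      · rw [show T ^ (M + M') * x = T ^ M' * (T ^ M * x) by ring]; exact hmul N _ _ (hTG _) (hM N)
      · rw [show T ^ (M + M') * y = T ^ M * (T ^ M' * y) by ring]; exact hmul N _ _ (hTG _) (hM' N)
    | mul x y _ _ hx hy =>
      obtain ⟨M, hM⟩ := hx
      obtain ⟨M', hM'⟩ := hy
      refine ⟨M + M', fun N => ?_⟩
      rw [show T ^ (M + M') * (x * y) = (T ^ M * x) * (T ^ M' * y) by ring]
      exact hmul N _ _ (hM N) (hM' N)
  rcases eq_or_ne z 0 with rfl | hz0
  · simp
  obtain ⟨M, hM⟩ := hrep z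
  set w := T ^ M * z with hw
  have hw0 : w ≠ 0 := mul_ne_zero (pow_ne_zero _ hT0) hz0
  obtain ⟨N, hN⟩ : ∃ N : ℕ, Q.1 T ^ N < Q.1 w := by
    have hTord := (v_lt_one_iff Q hT0).1 hτ
    refine ⟨(Q.ord w).toNat + 1, ?_⟩
    rw [← map_pow, v_eq Q hw0, v_eq Q (pow_ne_zero _ hT0), exp_lt_exp, ord_pow]
    push_cast
    nlinarith [Int.self_le_toNat (Q.ord w), Int.natCast_nonneg ((Q.ord w).toNat)]
  obtain ⟨-, -, p, hp, hp'⟩ := hM (q * N)
  have hNqN : Q.1 T ^ (q * N) ≤ Q.1 T ^ N := pow_le_pow_right_of_le_one' hτ.le (Nat.le_mul_of_pos_left _ hq1)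
  have hp0 : p ≠ 0 := by
    rintro rfl
    rw [map_zero, sub_zero] at hp
    exact absurd (hp.trans hNqN) (not_le.2 hN)
  obtain ⟨p', hpp', hp'0⟩ := Polynomial.exists_eq_pow_rootMultiplicity_mul_and_not_dvd p hp0 0
  rw [map_zero, sub_zero] at hpp' hp'0
  rw [Polynomial.X_dvd_iff] at hp'0
  set n := Polynomial.rootMultiplicity 0 p with hn
  have hunit : ∀ y : Kb, Q.1 y < 1 → Q.1 (aeval y p') = 1 := by
    intro y hy
    have e := congrArg (aeval y) (Polynomial.X_mul_divX_add p').symm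
    rw [map_add, map_mul, aeval_X, aeval_C] at e
    have hc1 : Q.1 (algebraMap kb Kb (p'.coeff 0)) = 1 := v_const Q hp'0
    rw [e, Valuation.map_add_eq_of_lt_right _ (by
      rw [hc1, map_mul]; exact mul_lt_one_of_nonneg_of_lt_one_left zero_le hy (hpoly _ _ hy.le)), hc1]
  have hQp : ∀ y : Kb, Q.1 y < 1 → Q.1 (aeval y p) = Q.1 y ^ n := fun y hy => by
    rw [hpp', map_mul, map_pow, aeval_X, map_mul, map_pow, hunit y hy, mul_one]
  have hTq : Q.1 (T ^ q) < 1 := by rw [map_pow]; exact pow_lt_one₀ zero_le hτ hq1.ne'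
  have e1 : Q.1 w = Q.1 T ^ n := by
    have := Valuation.map_sub_eq_of_lt_left Q.1 ((hp.trans hNqN).trans_lt hN)
    rwa [sub_sub_cancel, hQp T hτ, eq_comm] at this
  have hnN : n < N := not_le.1 fun h => absurd (e1 ▸ hN) (not_lt.2 (pow_le_pow_right_of_le_one' hτ.le h))
  have e2 : Q.1 (F w) = Q.1 T ^ (q * n) := by
    have hFp : Q.1 (F (aeval T p)) = Q.1 T ^ (q * n) := by
      rw [hT, F_aeval F hF1 hF2, ← hq, ← hT, hQp _ hTq, map_pow, pow_mul]
    rw [show F w = F (w - aeval T p) + F (aeval T p) by rw [← map_add, sub_add_cancel],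
      Valuation.map_add_eq_of_lt_right _ ?_, hFp]
    rw [hFp]
    exact hp'.trans_lt (pow_lt_pow_right_of_lt_one₀ hτ0 hτ (Nat.mul_lt_mul_of_pos_left hnN hq1))
  have ez : Q.1 z = Q.1 T ^ n / Q.1 T ^ M := by
    rw [← e1, hw, map_mul, map_pow, mul_div_cancel_left₀ _ (pow_ne_zero _ hτ0.ne')]
  have eFz : Q.1 (F z) = (Q.1 T ^ n / Q.1 T ^ M) ^ q := by
    have h := e2
    rw [hw, map_mul F, map_pow F, hT, hF2, map_mul, map_pow, map_pow, ← hT, ← pow_mul] at h
    rw [div_pow, ← pow_mul, ← pow_mul, mul_comm n q, ← h, mul_comm q M, mul_div_cancel_left₀ _ (pow_ne_zero _ hτ0.ne')]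
  rw [eFz, ez]
  exact ⟨fun h => not_le.1 fun h' => absurd h (not_lt.2 (one_le_pow₀ h')), fun h => pow_lt_one₀ zero_le h hq1.ne'⟩

omit hF1 in
/-- (⇒) -/
lemma deg_one_of_fixed (hK : IsFunctionField k K) (hF1 : ∀ c : kb, F (algebraMap kb Kb c) = algebraMap kb Kb c)
    (hP : ∀ x : K, Q.1 (algebraMap K Kb x) ≤ 1 ↔ P.1 x ≤ 1) (hfix : ∀ z : Kb, Q.1 (F z) < 1 ↔ Q.1 z < 1) :
    P.deg = 1 := by
  classical
  haveI : IsAlgClosed kb := IsAlgClosure.isAlgClosed k
  set q := Nat.card k with hq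
  letI := Fintype.ofFinite k
  have hq' : q = Fintype.card k := Nat.card_eq_fintype_card
  have := finiteDimensional_residue hK.1 P
  have hsurj : ∀ u : K, P.1 u ≤ 1 → ∃ a : k, P.1 (u - algebraMap k K a) < 1 := by
    intro u hu
    haveI : @Module.Finite k (IsLocalRing.ResidueField P.O) _ _ Algebra.toModule := this
    obtain ⟨r, hr, hru⟩ := (Algebra.IsIntegral.of_finite k (IsLocalRing.ResidueField P.O)).isIntegral (IsLocalRing.residue P.O ⟨u, hu⟩)
    have hru' : P.1 (aeval u r) < 1 := by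
      have h1 : IsLocalRing.residue P.O (aeval (⟨u, hu⟩ : P.O) r) = 0 := by
        rw [aeval_def, hom_eval₂]; exact hru
      have h2 := (residue_eq_zero_iff_lt P _).1 h1
      have h3 : ((aeval (⟨u, hu⟩ : P.O) r : P.O) : K) = aeval u r := by
        rw [aeval_def, aeval_def]
        exact hom_eval₂ r (algebraMap k P.O) P.O.subtype ⟨u, hu⟩
      rwa [h3] at h2
    obtain ⟨c, hcu⟩ : ∃ c : kb, Q.1 (algebraMap K Kb u - algebraMap kb Kb c) < 1 := by
      by_contra hne
      push Not at hne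
      have hspl := IsAlgClosed.splits (r.map (algebraMap k kb))
      have e : r.map (algebraMap k kb) = ((r.map (algebraMap k kb)).roots.map fun a => X - C a).prod :=
        hspl.eq_prod_roots_of_monic (hr.map _)
      have h1 : Q.1 (aeval (algebraMap K Kb u) (r.map (algebraMap k kb))) < 1 := by
        rw [aeval_def, eval₂_map]
        have h0 : aeval u r ≠ 0 ∨ aeval u r = 0 := ne_or_eq _ _
        have hmap : algebraMap K Kb (aeval u r) = eval₂ ((algebraMap kb Kb).comp (algebraMap k kb)) (algebraMap K Kb u) r := by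
          rw [aeval_def, hom_eval₂]
          congr 1
          exact RingHom.ext hc
        rw [← hmap]
        rcases h0 with h0 | h0
        · exact (below_lt_iff hP h0).2 hru'
        · rw [h0, map_zero, map_zero]; exact zero_lt_one
      rw [e, map_multiset_prod, map_multiset_prod] at h1
      refine absurd h1 (not_lt.2 (Multiset.one_le_prod fun x hx => ?_))
      simp only [Multiset.map_map, Function.comp_apply, Multiset.mem_map] at hx
      obtain ⟨a, -, rfl⟩ := hx
      rw [map_sub, aeval_X, aeval_C]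
      exact hne a
    have h2 := (hfix _).2 hcu
    rw [map_sub, hF1, hF2] at h2
    have hule : Q.1 (algebraMap K Kb u) ≤ 1 := (hP u).2 hu
    have h4 : Q.1 (algebraMap kb Kb (c ^ q - c)) < 1 := by
      rw [map_sub, map_pow, show algebraMap kb Kb c ^ q - algebraMap kb Kb c =
        (algebraMap K Kb u ^ q - algebraMap kb Kb c) - (algebraMap K Kb u ^ q - algebraMap kb Kb c ^ q) by ring]
      refine (Q.1.map_sub _ _).trans_lt (max_lt h2 ?_)
      rw [← geom_sum₂_mul, map_mul]
      refine mul_lt_one_of_nonneg_of_lt_one_right (Q.1.map_sum_le fun i _ => ?_) zero_le hcu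
      rw [map_mul, map_pow, map_pow]
      exact (mul_le_mul' (pow_le_one₀ zero_le hule) (pow_le_one₀ zero_le (Q.2.1 c))).trans_eq (one_mul _)
    have h5 : c ^ q = c := by
      by_contra hne
      rw [v_const Q (sub_ne_zero.2 hne)] at h4
      exact lt_irrefl _ h4
    obtain ⟨a, rfl⟩ : ∃ a : k, algebraMap k kb a = c := by
      by_contra hne
      push Not at hne
      have hsub : insert c (Finset.univ.image (algebraMap k kb)) ⊆ (X ^ q - X : kb[X]).roots.toFinset := by
        intro b hb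
        have hne0 : (X ^ q - X : kb[X]) ≠ 0 := FiniteField.X_pow_card_sub_X_ne_zero kb (hq' ▸ Fintype.one_lt_card)
        rw [Multiset.mem_toFinset, mem_roots hne0]
        rcases Finset.mem_insert.1 hb with rfl | hb
        · simp [h5]
        · obtain ⟨a, -, rfl⟩ := Finset.mem_image.1 hb
          simp [← map_pow, hq', FiniteField.pow_card]
      have := (Finset.card_le_card hsub).trans ((Multiset.toFinset_card_le _).trans (card_roots' _))
      rw [Finset.card_insert_of_notMem (by simpa using hne), Finset.card_image_of_injective _ (algebraMap k kb).injective,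
        Finset.card_univ, FiniteField.X_pow_card_sub_X_natDegree_eq kb (hq' ▸ Fintype.one_lt_card), hq'] at this
      omega
    refine ⟨a, ?_⟩
    rcases eq_or_ne (u - algebraMap k K a) 0 with h | h
    · rw [h, map_zero]; exact zero_lt_one
    · refine (below_lt_iff hP h).1 ?_
      rw [map_sub, hc]; exact hcu
  refine (finrank_eq_one_iff_of_nonzero' (1 : IsLocalRing.ResidueField P.O) one_ne_zero).2 fun w => ?_
  obtain ⟨⟨u, hu⟩, rfl⟩ := IsLocalRing.residue_surjective w
  obtain ⟨a, ha⟩ := hsurj u hu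
  refine ⟨a, (Algebra.smul_def a (1 : IsLocalRing.ResidueField P.O)).trans ?_⟩
  rw [mul_one, algebraMap_residue, eq_comm, ← sub_eq_zero, ← map_sub]
  exact (residue_eq_zero_iff_lt P _).2 ha

end Groth.Agent.FFLib
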