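import Groth.Agent.FFLib.Ext
import Mathlib.FieldTheory.RatFunc.AsPolynomial
import Mathlib.FieldTheory.RatFunc.Degree
import Mathlib.RingTheory.Polynomial.Quotient
import Mathlib.RingTheory.AdjoinRoot
import Mathlib.Tactic

/-!
# The places of `k(x)`
-/

open WithZero Module Polynomial

namespace Groth.Agent.FFLib

open FunFld

variable {k : Type*} [Field k]


lemma transcendental_ratX : Transcendental k (RatFunc.X : (RatFunc k)) := by
  rw [transcendental_iff]
  intro p hp
  rw [← RatFunc.algebraMap_X, aeval_algebraMap_apply, aeval_X_left_apply] at hp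
  exact (map_eq_zero_iff _ (RatFunc.algebraMap_injective k)).1 hp

lemma aeval_ratX (p : k[X]) : aeval (RatFunc.X : (RatFunc k)) p = (algebraMap k[X] (RatFunc k)) p := by
  rw [← RatFunc.algebraMap_X, aeval_algebraMap_apply, aeval_X_left_apply]

lemma adjoin_ratX : IntermediateField.adjoin k ({RatFunc.X} : Set (RatFunc k)) = ⊤ := by
  rw [eq_top_iff]
  intro r _
  rw [IntermediateField.mem_adjoin_simple_iff]
  exact ⟨r.num, r.denom, by rw [aeval_ratX, aeval_ratX, RatFunc.num_div_denom]⟩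

lemma finrank_adjoin_ratX :
    finrank (IntermediateField.adjoin k ({RatFunc.X} : Set (RatFunc k))) (RatFunc k) = 1 := by
  rw [congrArg (fun F : IntermediateField k (RatFunc k) => finrank F (RatFunc k)) adjoin_ratX]
  exact IntermediateField.finrank_top

lemma fg1_ratFunc : FG1 k (RatFunc k) :=
  ⟨RatFunc.X, transcendental_ratX, Module.finite_of_finrank_pos (by rw [finrank_adjoin_ratX]; exact one_pos)⟩

lemma iota_ne {a : k[X]} (ha : a ≠ 0) : (algebraMap k[X] (RatFunc k)) a ≠ 0 := fun h =>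
  ha ((map_eq_zero_iff _ (RatFunc.algebraMap_injective k)).1 h)

/-- every nonzero rational function is a quotient of nonzero polynomials -/
lemma exists_num_den {r : (RatFunc k)} (hr : r ≠ 0) : ∃ a b : k[X], a ≠ 0 ∧ b ≠ 0 ∧ r = (algebraMap k[X] (RatFunc k)) a / (algebraMap k[X] (RatFunc k)) b :=
  ⟨r.num, r.denom, RatFunc.num_ne_zero hr, r.denom_ne_zero, r.num_div_denom.symm⟩

section Place

variable (P : Place k (RatFunc k))

/-- At a place where `x` is integral every polynomial is integral. -/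
lemma v_poly_le (h : 0 ≤ P.ord (RatFunc.X : (RatFunc k))) (a : k[X]) : P.1 ((algebraMap k[X] (RatFunc k)) a) ≤ 1 := by
  rw [← aeval_ratX, aeval_eq_sum_range]
  refine P.1.map_sum_le fun i _ => ?_
  rw [Algebra.smul_def, map_mul, map_pow]
  exact (mul_le_mul' (P.2.1 _) (pow_le_one₀ zero_le ((v_le_one_iff P _).2 h))).trans_eq (one_mul _)

lemma ord_poly_nonneg (h : 0 ≤ P.ord (RatFunc.X : (RatFunc k))) (a : k[X]) : 0 ≤ P.ord ((algebraMap k[X] (RatFunc k)) a) :=
  (v_le_one_iff P _).1 (v_poly_le P h a)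

/-- The order of a polynomial at a pole of `x`. -/
lemma ord_poly_inf (h : P.ord (RatFunc.X : (RatFunc k)) < 0) {a : k[X]} (ha : a ≠ 0) :
    P.ord ((algebraMap k[X] (RatFunc k)) a) = a.natDegree * P.ord (RatFunc.X : (RatFunc k)) := by
  have hy : 1 < P.1 (RatFunc.X : (RatFunc k)) := (one_lt_v_iff P _).2 h
  have hy0 : 0 < P.1 (RatFunc.X : (RatFunc k)) := zero_lt_one.trans hy
  have hlead : P.1 (a.coeff a.natDegree • (RatFunc.X : (RatFunc k)) ^ a.natDegree) = P.1 (RatFunc.X : (RatFunc k)) ^ a.natDegree := by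
    rw [Algebra.smul_def, map_mul, map_pow, v_const P (show a.coeff a.natDegree ≠ 0 from leadingCoeff_ne_zero.2 ha), one_mul]
  have hv : P.1 ((algebraMap k[X] (RatFunc k)) a) = P.1 (RatFunc.X : (RatFunc k)) ^ a.natDegree := by
    rw [← aeval_ratX, aeval_eq_sum_range, v_sum_eq P.1 (Finset.self_mem_range_succ _) fun i hi hne => ?_, hlead]
    rw [hlead, Algebra.smul_def, map_mul, map_pow]
    rcases eq_or_ne (a.coeff i) 0 with h0 | h0
    · rw [h0, map_zero, map_zero, zero_mul]; exact pow_pos hy0 _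
    · rw [v_const P h0, one_mul]
      exact pow_lt_pow_right₀ hy (lt_of_le_of_ne (Nat.lt_succ_iff.1 (Finset.mem_range.1 hi)) hne)
  rw [← map_pow] at hv
  rw [Place.ord, hv, ← Place.ord, ord_pow]

/-- The pole of `x` has order one and degree one. -/
lemma inf_ord_deg (h : P.ord (RatFunc.X : (RatFunc k)) < 0) :
    P.ord (RatFunc.X : (RatFunc k)) = -1 ∧ P.deg = 1 := by
  classical
  have hK := fg1_ratFunc (k := k)
  have hd := deg_pole hK (transcendental_ratX (k := k))
  rw [finrank_adjoin_ratX] at hd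
  set D := pole (k := k) (RatFunc.X : (RatFunc k)) with hD
  have hDP : D P = -P.ord (RatFunc.X : (RatFunc k)) := by rw [hD, pole_apply hK]; omega
  have hpos := deg_pos hK P
  have hle : D P * P.deg ≤ D.deg := by
    rw [Divisor.deg, Finsupp.sum]
    refine Finset.single_le_sum (f := fun R : Place k (RatFunc k) => D R * (R.deg : ℤ)) (fun R _ => mul_nonneg ?_ (Int.natCast_nonneg _)) ?_
    · rw [hD, pole_apply hK]; omega
    · rw [Finsupp.mem_support_iff]; omega
  rw [hd, hDP, Nat.cast_one] at hle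
  have h1 : (1 : ℤ) ≤ -P.ord (RatFunc.X : (RatFunc k)) := by omega
  have h2 : (1 : ℤ) ≤ (P.deg : ℤ) := by exact_mod_cast hpos
  have h3 : -P.ord (RatFunc.X : (RatFunc k)) ≤ 1 := by nlinarith
  have h4 : (P.deg : ℤ) ≤ 1 := by nlinarith
  exact ⟨by omega, by omega⟩

lemma ord_poly_inf' (h : P.ord (RatFunc.X : (RatFunc k)) < 0) {a : k[X]} (ha : a ≠ 0) :
    P.ord ((algebraMap k[X] (RatFunc k)) a) = -(a.natDegree : ℤ) := by
  rw [ord_poly_inf P h ha, (inf_ord_deg P h).1]; ring

/-- A polynomial of positive order exists at every other place: it is irreducible and unique up to a unit. -/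
lemma exists_irreducible (h : 0 ≤ P.ord (RatFunc.X : (RatFunc k))) :
    ∃ p : k[X], Irreducible p ∧ P.1 ((algebraMap k[X] (RatFunc k)) p) < 1 := by
  by_contra hne
  push Not at hne
  have hzero : ∀ a : k[X], a ≠ 0 → P.ord ((algebraMap k[X] (RatFunc k)) a) = 0 := by
    intro a
    induction a using UniqueFactorizationMonoid.induction_on_prime with
    | h₁ => intro h0; exact absurd rfl h0
    | h₂ u hu =>
      intro _
      obtain ⟨c, hc, rfl⟩ := Polynomial.isUnit_iff.1 hu
      rw [show (algebraMap k[X] (RatFunc k)) (Polynomial.C c) = algebraMap k (RatFunc k) c by rw [IsScalarTower.algebraMap_apply k k[X] (RatFunc k)]; rfl, ord_const]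
    | h₃ a p ha0 hp ih =>
      intro _
      rw [map_mul, ord_mul P (iota_ne hp.ne_zero) (iota_ne ha0), ih ha0, add_zero, ← v_eq_one_iff P (iota_ne hp.ne_zero)]
      exact le_antisymm (v_poly_le P h p) (hne p hp.irreducible)
  obtain ⟨t, ht, ht1, -⟩ := exists_uniformizer P
  obtain ⟨a, b, ha, hb, rfl⟩ := exists_num_den ht
  rw [div_eq_mul_inv, ord_mul P (iota_ne ha) (inv_ne_zero (iota_ne hb)), ord_inv, hzero a ha, hzero b hb] at ht1
  omega

variable {P}
variable {p : k[X]} (hp : Irreducible p) (hv : P.1 ((algebraMap k[X] (RatFunc k)) p) < 1)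
include hp hv

lemma fin_of_irreducible : 0 ≤ P.ord (RatFunc.X : (RatFunc k)) := by
  by_contra h
  have h1 := (v_lt_one_iff P (iota_ne hp.ne_zero)).1 hv
  rw [ord_poly_inf' P (not_le.1 h) hp.ne_zero] at h1
  omega

lemma ord_eq_zero_of_not_dvd {a : k[X]} (ha : ¬ p ∣ a) : P.ord ((algebraMap k[X] (RatFunc k)) a) = 0 := by
  obtain ⟨u, w, huw⟩ := (hp.coprime_iff_not_dvd.2 ha)
  have hf := fin_of_irreducible hp hv
  rw [← v_eq_one_iff P (iota_ne (fun e : a = 0 => ha (e ▸ dvd_zero p)))]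
  refine le_antisymm (v_poly_le P hf a) ?_
  by_contra hlt
  have : P.1 ((algebraMap k[X] (RatFunc k)) (u * p + w * a)) < 1 := by
    rw [map_add, map_mul, map_mul]
    refine Valuation.map_add_lt _ ?_ ?_ <;> rw [map_mul]
    · exact mul_lt_one_of_nonneg_of_lt_one_right (v_poly_le P hf u) zero_le hv
    · exact mul_lt_one_of_nonneg_of_lt_one_right (v_poly_le P hf w) zero_le (not_le.1 hlt)
  rw [huw, map_one, map_one] at this
  exact lt_irrefl _ this

lemma ord_poly_eq_mul {a : k[X]} (ha : a ≠ 0) :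
    ∃ n : ℕ, P.ord ((algebraMap k[X] (RatFunc k)) a) = n * P.ord ((algebraMap k[X] (RatFunc k)) p) := by
  obtain ⟨n, b, hb, rfl⟩ := WfDvdMonoid.max_power_factor ha hp
  have hb0 : b ≠ 0 := fun e => hb (e ▸ dvd_zero p)
  exact ⟨n, by rw [map_mul, map_pow, ord_mul P (pow_ne_zero _ (iota_ne hp.ne_zero)) (iota_ne hb0), ord_pow,
    ord_eq_zero_of_not_dvd hp hv hb, add_zero]⟩

lemma ord_irreducible : P.ord ((algebraMap k[X] (RatFunc k)) p) = 1 := by
  obtain ⟨t, ht, ht1, -⟩ := exists_uniformizer P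
  obtain ⟨a, b, ha, hb, rfl⟩ := exists_num_den ht
  obtain ⟨n, hn⟩ := ord_poly_eq_mul hp hv ha
  obtain ⟨m, hm⟩ := ord_poly_eq_mul hp hv hb
  rw [div_eq_mul_inv, ord_mul P (iota_ne ha) (inv_ne_zero (iota_ne hb)), ord_inv, hn, hm] at ht1
  have hpos := (v_lt_one_iff P (iota_ne hp.ne_zero)).1 hv
  exact Int.eq_one_of_mul_eq_one_left hpos.le (show ((n : ℤ) - m) * P.ord ((algebraMap k[X] (RatFunc k)) p) = 1 by linear_combination ht1)

lemma ord_squarefree_eq_one {f : k[X]} (hf : Squarefree f) (hpf : p ∣ f) : P.ord ((algebraMap k[X] (RatFunc k)) f) = 1 := by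
  obtain ⟨g, rfl⟩ := hpf
  have hg : ¬ p ∣ g := fun hg => hp.not_isUnit (hf p (mul_dvd_mul_left p hg))
  rw [map_mul, ord_mul P (iota_ne hp.ne_zero) (iota_ne (fun e : g = 0 => hg (e ▸ dvd_zero p))), ord_irreducible hp hv,
    ord_eq_zero_of_not_dvd hp hv hg, add_zero]

lemma pos_iff_dvd {a : k[X]} (ha : a ≠ 0) : 0 < P.ord ((algebraMap k[X] (RatFunc k)) a) ↔ p ∣ a := by
  refine ⟨fun h => not_not.1 fun hd => ?_, ?_⟩
  · rw [ord_eq_zero_of_not_dvd hp hv hd] at h; omega
  · rintro ⟨b, rfl⟩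
    have hb := right_ne_zero_of_mul ha
    rw [map_mul, ord_mul P (iota_ne hp.ne_zero) (iota_ne hb), ord_irreducible hp hv]
    have := ord_poly_nonneg P (fin_of_irreducible hp hv) b
    omega

end Place

/-- A squarefree polynomial has order `0` or `1` at a finite place. -/
lemma ord_squarefree_le_one {P : Place k (RatFunc k)} (h : 0 ≤ P.ord (RatFunc.X : (RatFunc k))) {f : k[X]} (hf : Squarefree f)
    (hpos : 0 < P.ord ((algebraMap k[X] (RatFunc k)) f)) : P.ord ((algebraMap k[X] (RatFunc k)) f) = 1 := by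
  obtain ⟨p, hp, hv⟩ := exists_irreducible P h
  exact ord_squarefree_eq_one hp hv hf ((pos_iff_dvd hp hv hf.ne_zero).1 hpos)

end Groth.Agent.FFLib
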