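import Groth.Agent.FFLib.Invol
import Groth.Agent.FFLib.DoubleUnique
import Groth.Agent.FFLib.RatPlaces

/-!
# Subfields of index two and genus zero of a function field of genus one
-/

set_option linter.unusedSectionVars false
set_option linter.style.haveILetI false

open WithZero Module

namespace Groth.Agent.FFLib

open FunFld

section Fixed

variable {k K K' : Type*} [Field k] [Field K] [Field K'] [Algebra k K] [Algebra K K'] [Algebra k K']
  [IsScalarTower k K K'] [FiniteDimensional K K']

/-- The elements fixed by the involution of a quadratic extension come from below. -/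
theorem mem_range_of_fixed (h2 : finrank K K' = 2) (τ : K' ≃ₐ[k] K') (hne : τ ≠ AlgEquiv.refl)
    (hfix : ∀ a : K, τ (algebraMap K K' a) = algebraMap K K' a) {w : K'} (hw : τ w = w) :
    w ∈ Set.range (algebraMap K K') := by
  by_contra hwr
  have hli : LinearIndependent K ![(1 : K'), w] := by
    rw [LinearIndependent.pair_iff]
    intro s r h
    by_cases hr : r = 0
    · subst hr; simp_all
    · refine absurd ⟨-(s / r), ?_⟩ hwr
      rw [Algebra.smul_def, Algebra.smul_def, mul_one] at h
      rw [map_neg, map_div₀, neg_eq_iff_eq_neg, div_eq_iff ((_root_.map_ne_zero _).2 hr)]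
      linear_combination h
  refine hne (AlgEquiv.ext fun z => ?_)
  have hz : z ∈ Submodule.span K (Set.range ![(1 : K'), w]) :=
    (hli.span_eq_top_of_card_eq_finrank (by simp [h2])) ▸ Submodule.mem_top
  rw [Matrix.range_cons_cons_empty, Submodule.mem_span_pair] at hz
  obtain ⟨a, b, rfl⟩ := hz
  simp [Algebra.smul_def, hfix, hw]

/-- A place fixed by the involution is the only place over its restriction. -/
theorem eq_of_fixed (h2 : finrank K K' = 2) (τ : K' ≃ₐ[k] K') (hne : τ ≠ AlgEquiv.refl)
    (hinv : ∀ z, τ (τ z) = z) (hfix : ∀ a : K, τ (algebraMap K K' a) = algebraMap K K' a)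
    {P Q : Place k K'} (hP : ∀ z, P.1 (τ z) = P.1 z)
    (hres : ∀ a : K, P.1 (algebraMap K K' a) ≤ 1 → Q.1 (algebraMap K K' a) ≤ 1) : P = Q := by
  by_contra hPQ
  obtain ⟨z, hPz, hQz⟩ := exists_v_le_one_lt P Q hPQ
  obtain ⟨s, hs⟩ := mem_range_of_fixed h2 τ hne hfix (w := z + τ z) (by rw [map_add, hinv, add_comm])
  obtain ⟨n, hn⟩ := mem_range_of_fixed h2 τ hne hfix (w := z * τ z) (by rw [map_mul, hinv, mul_comm])
  have hPs : P.1 (algebraMap K K' s) ≤ 1 := by
    rw [hs]; exact (P.1.map_add _ _).trans (max_le hPz ((hP z).le.trans hPz))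
  have hPn : P.1 (algebraMap K K' n) ≤ 1 := by
    rw [hn, map_mul]; exact mul_le_one' hPz ((hP z).le.trans hPz)
  have hQs := hres s hPs
  have hQn := hres n hPn
  have heq : z ^ 2 = algebraMap K K' s * z - algebraMap K K' n := by rw [hs, hn]; ring
  have h1 : Q.1 z ^ 2 ≤ Q.1 z := by
    rw [← map_pow, heq]
    refine (Q.1.map_sub _ _).trans (max_le ?_ (hQn.trans hQz.le))
    rw [map_mul]
    exact mul_le_of_le_one_left' hQs
  have h3 : Q.1 z < Q.1 z ^ 2 := by
    rw [sq]
    exact lt_mul_of_one_lt_left (zero_lt_one.trans hQz) hQz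
  exact absurd h1 (not_le.2 h3)

end Fixed

section GenusOne

variable {k K : Type*} [Field k] [IsAlgClosed k] [Field K] [Algebra k K]
  (hK : IsFunctionField k K) (hg : genus k K = 1)

/-- Places with a pole of a generator agree on the rational subfield. -/
theorem res_of_poles {F : Type*} [Field F] [Algebra k F] [Algebra F K] [IsScalarTower k F K]
    [FiniteDimensional F K] (hK : IsFunctionField k K) {t : F} (ht : IntermediateField.adjoin k ({t} : Set F) = ⊤)
    {P Q : Place k K} (hP : P.ord (algebraMap F K t) < 0) (hQ : Q.ord (algebraMap F K t) < 0) :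
    ∀ a : F, P.1 (algebraMap F K a) ≤ 1 → Q.1 (algebraMap F K a) ≤ 1 := by
  intro a ha
  have hF := isFunctionField_below (K := F) hK
  rw [ord_algebraMap hF.1] at hP hQ
  have hPu : (0 : ℤ) < underIdx hF.1 P := by exact_mod_cast underIdx_pos hF.1 P
  have hQu : (0 : ℤ) < underIdx hF.1 Q := by exact_mod_cast underIdx_pos hF.1 Q
  have hP' : (underPlace hF.1 P).ord t < 0 := by nlinarith
  have hQ' : (underPlace hF.1 Q).ord t < 0 := by nlinarith
  obtain ⟨R, hR⟩ : ∃ R : Place k F, pole (k := k) t = Finsupp.single R 1 := by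
    obtain ⟨R, -, hR⟩ := exists_single_of_deg_one hF (pole_nonneg t) (deg_pole_eq_one hF ht)
    exact ⟨R, hR⟩
  have key : ∀ S : Place k F, S.ord t < 0 → S = R := fun S hS => by
    by_contra hne
    have := congrArg (fun D : Divisor k F => D S) hR
    simp only [pole_apply hF.1, Finsupp.single_eq_of_ne hne] at this
    omega
  rw [v_le_one_iff, ord_algebraMap hF.1] at ha ⊢
  rw [key _ hP'] at ha
  rw [key _ hQ']
  exact mul_nonneg hQu.le (by nlinarith)

include hK hg in
/-- Two places of a field of genus one are the poles of a function, or coincide. -/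
theorem exists_mem_two (P Q : Place k K) :
    ∃ z : K, z ∉ Set.range (algebraMap k K) ∧ pole (k := k) z = Finsupp.single P 1 + Finsupp.single Q 1 := by
  have hd : Divisor.deg (Finsupp.single P 1 + Finsupp.single Q 1 : Divisor k K) = 2 := by
    rw [deg_add, deg_single, deg_single, deg_eq_one hK P, deg_eq_one hK Q]; norm_num
  have hl := ell_eq_of_deg_ge hK (D := Finsupp.single P 1 + Finsupp.single Q 1) (by rw [hd, hg]; norm_num)
  rw [hd, hg] at hl
  haveI := finiteDimensional_L hK (Finsupp.single P 1 + Finsupp.single Q 1 : Divisor k K)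
  haveI := finiteDimensional_L hK (0 : Divisor k K)
  obtain ⟨z, hzL, hz⟩ : ∃ z ∈ L (Finsupp.single P 1 + Finsupp.single Q 1 : Divisor k K),
      z ∉ Set.range (algebraMap k K) := by
    by_contra hh
    push Not at hh
    have h1 := Submodule.finrank_mono (show L (Finsupp.single P 1 + Finsupp.single Q 1 : Divisor k K) ≤ L 0 from
      fun y hy => by rw [L_zero hK, Submodule.mem_one]; exact hh y hy)
    have h2 : ell (0 : Divisor k K) = 1 := ell_zero hK
    unfold ell at hl h2
    omega
  have htr := transcendental_of_notMem hK hz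
  have hz0 : z ≠ 0 := fun e => hz ⟨0, by rw [map_zero, e]⟩
  have hle : pole (k := k) z ≤ Finsupp.single P 1 + Finsupp.single Q 1 := fun R => by
    classical
    rw [pole_apply hK.1]
    have := (mem_L_iff hz0).1 hzL R
    refine max_le (by omega) ?_
    rw [Finsupp.add_apply, Finsupp.single_apply, Finsupp.single_apply]
    split_ifs <;> norm_num
  refine ⟨z, hz, ?_⟩
  have h2 := deg_mono hle
  rw [hd] at h2
  have hdeg := deg_pole hK.1 htr
  haveI := finite_adjoin hK.1 htr
  have hpos : 0 < finrank (IntermediateField.adjoin k ({z} : Set K)) K := Module.finrank_pos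
  have hne1 : finrank (IntermediateField.adjoin k ({z} : Set K)) K ≠ 1 := fun h1 => by
    have := genus_eq_zero_of_top hK (IntermediateField.finrank_eq_one_iff_eq_top.1 h1)
    omega
  have hd2 : (pole (k := k) z).deg = 2 := by omega
  have h0 := eq_zero_of_deg_eq_zero hK (sub_nonneg.2 hle) (by rw [deg_sub, hd, hd2]; norm_num)
  exact (sub_eq_zero.1 h0).symm

include hK hg in
/-- A rational subfield of index two has a generator with a single pole of order two. -/
theorem exists_double_pole (hc : (2 : k) ≠ 0) {F : Type*} [Field F] [Algebra k F] [Algebra F K]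
    [IsScalarTower k F K] (h2 : finrank F K = 2) (hgF : genus k F = 0) :
    ∃ (P : Place k K) (x : K), pole (k := k) x = Finsupp.single P 2 ∧
      Set.range (algebraMap F K) = (IntermediateField.adjoin k ({x} : Set K) : Set K) := by
  haveI : FiniteDimensional F K := Module.finite_of_finrank_eq_succ h2
  have hF := isFunctionField_below (K := F) hK
  obtain ⟨τ, hne, hinv, hfix, -, hcard⟩ := exists_invol_card (K := F) hK h2 hc
  rw [hg, hgF] at hcard
  obtain ⟨⟨P, hP⟩⟩ : Nonempty {Q : Place k K // ∀ z, Q.1 (τ z) = Q.1 z} :=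
    (Nat.card_pos_iff.1 (by omega)).1
  obtain ⟨e⟩ := exists_ratFunc_equiv hF hgF
  let t₀ : F := e RatFunc.X
  have ht₀ : IntermediateField.adjoin k ({t₀} : Set F) = ⊤ := by
    rw [show ({t₀} : Set F) = e.toAlgHom '' {RatFunc.X} from Set.image_singleton.symm,
      ← IntermediateField.adjoin_map, adjoin_ratX, ← AlgHom.fieldRange_eq_map]
    exact AlgHom.fieldRange_eq_top.2 e.surjective
  obtain ⟨t, ht, hPt⟩ : ∃ t : F, IntermediateField.adjoin k ({t} : Set F) = ⊤ ∧ 1 < P.1 (algebraMap F K t) := by
    by_cases h1 : 1 < P.1 (algebraMap F K t₀)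
    · exact ⟨t₀, ht₀, h1⟩
    · obtain ⟨c, hc'⟩ := exists_const_sub_lt (deg_eq_one hK P) (not_lt.1 h1)
      have hne0 : t₀ - algebraMap k F c ≠ 0 := fun h => by
        refine transcendental_of_top hF ht₀ ?_
        rw [sub_eq_zero.1 h]
        exact isAlgebraic_algebraMap c
      refine ⟨(t₀ - algebraMap k F c)⁻¹, eq_top_iff.2 (ht₀ ▸ IntermediateField.adjoin_le_iff.2
        (Set.singleton_subset_iff.2 ?_)), ?_⟩
      · have hm := inv_mem (IntermediateField.mem_adjoin_simple_self k ((t₀ - algebraMap k F c)⁻¹))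
        rw [inv_inv] at hm
        have := add_mem hm (IntermediateField.algebraMap_mem _ c)
        rwa [sub_add_cancel] at this
      · rw [map_inv₀, map_sub, ← IsScalarTower.algebraMap_apply, map_inv₀]
        refine one_lt_inv₀ ?_ |>.2 hc'
        refine zero_lt_iff.2 ((Valuation.ne_zero_iff _).2 ?_)
        rw [IsScalarTower.algebraMap_apply k F K, ← map_sub]
        exact (_root_.map_ne_zero _).2 hne0
  set x := algebraMap F K t with hx
  have hordP : P.ord x < 0 := (one_lt_v_iff P x).1 hPt
  have htr : Transcendental k x := transcendental_of_ord hK.1 P hordP.ne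
  have hrange : Set.range (algebraMap F K) = (IntermediateField.adjoin k ({x} : Set K) : Set K) := by
    have h := congrArg (IntermediateField.map (IsScalarTower.toAlgHom k F K)) ht
    rw [IntermediateField.adjoin_map, Set.image_singleton, ← AlgHom.fieldRange_eq_map] at h
    rw [show ({x} : Set K) = {IsScalarTower.toAlgHom k F K t} from rfl, h]
    rfl
  refine ⟨P, x, ?_, hrange⟩
  have hdeg := deg_pole hK.1 htr
  have hfr : finrank (IntermediateField.adjoin k ({x} : Set K)) K = 2 := by
    rw [← h2]
    let ι : F ≃+* IntermediateField.adjoin k ({x} : Set K) := RingEquiv.ofBijective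
      ((algebraMap F K).codRestrict _ fun a => hrange.le ⟨a, rfl⟩)
      ⟨fun a b h => (algebraMap F K).injective (congrArg Subtype.val h), fun ⟨y, hy⟩ => by
        obtain ⟨a, ha⟩ := hrange.ge hy
        exact ⟨a, Subtype.ext ha⟩⟩
    exact (Algebra.finrank_eq_of_equiv_equiv ι (RingEquiv.refl K) (RingHom.ext fun a => rfl)).symm
  rw [hfr] at hdeg
  have honly : ∀ Q : Place k K, Q.ord x < 0 → Q = P := fun Q hQ =>
    (eq_of_fixed h2 τ hne hinv hfix hP (res_of_poles hK ht hordP hQ)).symm
  have hsingle : pole (k := k) x = Finsupp.single P (pole (k := k) x P) := by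
    ext Q
    rcases eq_or_ne Q P with rfl | hQ
    · rw [Finsupp.single_eq_same]
    · rw [Finsupp.single_eq_of_ne hQ, pole_apply hK.1]
      have := mt (honly Q) hQ
      omega
  rw [hsingle, deg_single, deg_eq_one hK P] at hdeg
  rw [hsingle]
  congr 1
  push_cast at hdeg
  linarith

include hK hg in
/-- **Any two rational subfields of index two in genus one are conjugate.** -/
theorem exists_auto_of_double (hc : (2 : k) ≠ 0) {F₁ F₂ : Type*} [Field F₁] [Field F₂] [Algebra k F₁]
    [Algebra k F₂] [Algebra F₁ K] [Algebra F₂ K] [IsScalarTower k F₁ K] [IsScalarTower k F₂ K]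
    (h₁ : finrank F₁ K = 2) (h₂ : finrank F₂ K = 2) (hg₁ : genus k F₁ = 0) (hg₂ : genus k F₂ = 0) :
    ∃ s : K ≃ₐ[k] K, (∀ z, s (s z) = z) ∧ s '' Set.range (algebraMap F₂ K) = Set.range (algebraMap F₁ K) := by
  classical
  obtain ⟨P₁, x₁, hp₁, hr₁⟩ := exists_double_pole hK hg hc h₁ hg₁
  obtain ⟨P₂, x₂, hp₂, hr₂⟩ := exists_double_pole hK hg hc h₂ hg₂
  obtain ⟨s, hinv, hs⟩ : ∃ s : K ≃ₐ[k] K, (∀ z, s (s z) = z) ∧ ∀ w, P₁.1 (s w) = P₂.1 w := by
    by_cases hP : P₁ = P₂
    · exact ⟨AlgEquiv.refl, fun z => rfl, fun w => by rw [hP]; rfl⟩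
    · obtain ⟨z, hz, hpz⟩ := exists_mem_two hK hg P₁ P₂
      have htr := transcendental_of_notMem hK hz
      have hdd : (pole (k := k) z).deg = 2 := by
        rw [hpz, deg_add, deg_single, deg_single, deg_eq_one hK P₁, deg_eq_one hK P₂]; norm_num
      let E := IntermediateField.adjoin k ({z} : Set K)
      haveI : FiniteDimensional E K := finite_adjoin hK.1 htr
      have hE2 : finrank E K = 2 := by
        have h := (deg_pole hK.1 htr).symm.trans hdd
        exact_mod_cast h
      obtain ⟨s, hne, hinv, hfix, -, -⟩ := exists_invol_card (K := E) hK hE2 hc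
      have hpoles : ∀ Q : Place k K, Q.ord z < 0 ↔ Q = P₁ ∨ Q = P₂ := fun Q => by
        have h := congrArg (fun D : Divisor k K => D Q) hpz
        simp only [pole_apply hK.1, Finsupp.add_apply, Finsupp.single_apply] at h
        constructor
        · intro hQ
          by_contra hh
          rw [not_or] at hh
          rw [if_neg (Ne.symm hh.1), if_neg (Ne.symm hh.2)] at h
          omega
        · rintro (rfl | rfl)
          · rw [if_pos rfl, if_neg (Ne.symm hP)] at h; omega
          · rw [if_neg hP, if_pos rfl] at h; omega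
      let Q : Place k K := ⟨P₁.1.comap (s : K →ₐ[k] K).toRingHom, fun c => by
          show P₁.1 (s (algebraMap k K c)) ≤ 1
          rw [s.commutes]; exact P₁.2.1 c,
        fun g => by
          obtain ⟨w, hw⟩ := P₁.2.2 g
          exact ⟨s w, by show P₁.1 (s (s w)) = g; rw [hinv, hw]⟩⟩
      have hsz : s z = z := hfix ⟨z, IntermediateField.mem_adjoin_simple_self k z⟩
      have hQz : Q.ord z < 0 := by
        rw [← one_lt_v_iff]
        show 1 < P₁.1 (s z)
        rw [hsz, one_lt_v_iff]
        exact (hpoles P₁).2 (Or.inl rfl)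
      rcases (hpoles Q).1 hQz with hQ | hQ
      · exfalso
        refine hP (eq_of_fixed hE2 s hne hinv hfix (P := P₁) (Q := P₂)
          (fun w => congrArg (fun R : Place k K => R.1 w) hQ)
          (res_of_poles hK (adjoin_self_top z) ((hpoles P₁).2 (Or.inl rfl)) ((hpoles P₂).2 (Or.inr rfl))))
      · exact ⟨s, hinv, fun w => congrArg (fun R : Place k K => R.1 w) hQ⟩
  refine ⟨s, hinv, ?_⟩
  have hd2 : Divisor.deg (Finsupp.single P₂ 2 : Divisor k K) = 2 := by
    rw [deg_single, deg_eq_one hK P₂]; norm_num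
  have hl := ell_eq_of_deg_ge hK (D := Finsupp.single P₂ 2) (by rw [hd2, hg]; norm_num)
  rw [hd2, hg] at hl
  haveI := finiteDimensional_L hK (Finsupp.single P₂ 2 : Divisor k K)
  have hx2 : x₂ ∈ L (Finsupp.single P₂ 2 : Divisor k K) := hp₂ ▸ mem_L_pole hK.1 x₂
  have hx2c : x₂ ∉ Set.range (algebraMap k K) := by
    rintro ⟨c, rfl⟩
    have h := congrArg (fun D : Divisor k K => D P₂) hp₂
    simp only [pole_apply hK.1, ord_const, Finsupp.single_eq_same] at h
    norm_num at h
  have hone : (1 : K) ∈ L (Finsupp.single P₂ 2 : Divisor k K) := by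
    refine L_mono (D := (0 : Divisor k K)) (Finsupp.single_nonneg.2 (by norm_num)) ?_
    rw [L_zero hK]
    exact Submodule.one_le.1 le_rfl
  have hspan : L (Finsupp.single P₂ 2 : Divisor k K) = Submodule.span k {1, x₂} := by
    refine (Submodule.eq_of_le_of_finrank_le (Submodule.span_le.2 (Set.insert_subset_iff.2
      ⟨hone, Set.singleton_subset_iff.2 hx2⟩)) ?_).symm
    have hli : LinearIndependent k ![(1 : K), x₂] := by
      rw [LinearIndependent.pair_iff]
      intro a b h
      by_cases hb : b = 0
      · subst hb; simp_all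
      · refine absurd ⟨-(a / b), ?_⟩ hx2c
        rw [Algebra.smul_def, Algebra.smul_def, mul_one] at h
        rw [map_neg, map_div₀, neg_eq_iff_eq_neg, div_eq_iff ((_root_.map_ne_zero _).2 hb)]
        linear_combination h
    have := finrank_span_eq_card hli
    rw [Matrix.range_cons_cons_empty, Fintype.card_fin] at this
    rw [this]
    unfold ell at hl
    omega
  have hsx : s x₁ ∈ L (Finsupp.single P₂ 2 : Divisor k K) := fun Q => by
    let Q' : Place k K := ⟨Q.1.comap (s : K →ₐ[k] K).toRingHom, fun c => by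
        show Q.1 (s (algebraMap k K c)) ≤ 1
        rw [s.commutes]; exact Q.2.1 c,
      fun g => by
        obtain ⟨w, hw⟩ := Q.2.2 g
        exact ⟨s w, by show Q.1 (s (s w)) = g; rw [hinv, hw]⟩⟩
    refine (mem_L_pole hK.1 x₁ Q').trans ?_
    rw [hp₁]
    rcases eq_or_ne Q P₂ with rfl | hQ
    · rw [Finsupp.single_eq_same, exp_le_exp]
      rcases eq_or_ne Q' P₁ with h | h
      · rw [h, Finsupp.single_eq_same]
      · rw [Finsupp.single_eq_of_ne h]; norm_num
    · rw [Finsupp.single_eq_of_ne hQ, Finsupp.single_eq_of_ne]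
      intro h
      refine hQ (Subtype.ext (Valuation.ext fun w => ?_))
      rw [← hs w, ← h]
      show Q.1 w = Q.1 (s (s w))
      rw [hinv]
  rw [hspan, Submodule.mem_span_pair] at hsx
  obtain ⟨a, b, hab⟩ := hsx
  rw [Algebra.smul_def, Algebra.smul_def, mul_one] at hab
  have hb : b ≠ 0 := by
    rintro rfl
    rw [map_zero, zero_mul, add_zero] at hab
    have h := congrArg (fun D : Divisor k K => D P₁) hp₁
    have hx1 : x₁ = algebraMap k K a := by rw [← hinv x₁, ← hab, s.commutes]
    simp only [pole_apply hK.1, hx1, ord_const, Finsupp.single_eq_same] at h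
    norm_num at h
  rw [hr₁, hr₂]
  have h3 : (IntermediateField.adjoin k ({s x₁} : Set K)) = IntermediateField.adjoin k ({x₂} : Set K) := by
    refine le_antisymm (IntermediateField.adjoin_le_iff.2 (Set.singleton_subset_iff.2 ?_))
      (IntermediateField.adjoin_le_iff.2 (Set.singleton_subset_iff.2 ?_))
    · rw [← hab]
      exact add_mem (IntermediateField.algebraMap_mem _ a)
        (mul_mem (IntermediateField.algebraMap_mem _ b) (IntermediateField.mem_adjoin_simple_self k x₂))
    · have hmem := mul_mem (IntermediateField.algebraMap_mem (IntermediateField.adjoin k ({s x₁} : Set K)) b⁻¹)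
        (sub_mem (IntermediateField.mem_adjoin_simple_self k (s x₁)) (IntermediateField.algebraMap_mem _ a))
      have e : algebraMap k K b⁻¹ * (s x₁ - algebraMap k K a) = x₂ := by
        rw [← hab, add_sub_cancel_left, map_inv₀, inv_mul_cancel_left₀ ((_root_.map_ne_zero _).2 hb)]
      rw [e] at hmem
      exact hmem
  have h4 := congrArg (IntermediateField.map (s : K →ₐ[k] K)) h3
  rw [IntermediateField.adjoin_map, Set.image_singleton] at h4
  rw [show (s : K →ₐ[k] K) (s x₁) = x₁ from hinv x₁] at h4
  rw [h4]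
  rfl

end GenusOne

end Groth.Agent.FFLib
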