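import Groth.Agent.FFLib.CanonWeight

/-!
# Inflection places of `|mP|` and pairs of ramified linear series in genus one
-/

open WithZero Module Submodule Finset

namespace Groth.Agent.FFLib

open FunFld

variable {k K : Type*} [Field k] [IsAlgClosed k] [Field K] [Algebra k K]
variable (hK : IsFunctionField k K)
include hK

lemma ell_genus_one_single (hg : genus k K = 1) (P : Place k K) (m : ℕ) (hm : 1 ≤ m) :
    ell (Finsupp.single P (m : ℤ) : Divisor k K) = m := by
  have h := ell_eq_of_deg_ge hK (D := Finsupp.single P (m : ℤ))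
    (by rw [deg_single, deg_eq_one hK P, hg]; push_cast; omega)
  rw [deg_single, deg_eq_one hK P, hg] at h
  omega

/-- Only finitely many places carry a function of degree `m` with pole at `P` and one zero. -/
lemma finite_torsion [CharZero k] (hg : genus k K = 1) (P : Place k K) (m : ℕ) (hm : 1 ≤ m) :
    {Q : Place k K | Q ≠ P ∧ ∃ h : K, h ≠ 0 ∧ h ∈ L (Finsupp.single P (m : ℤ) : Divisor k K) ∧
      Q.ord h = m}.Finite := by
  classical
  have hell := ell_genus_one_single hK hg P m hm
  have := finiteDimensional_L hK (Finsupp.single P (m : ℤ))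
  have hdim : finrank k (L (Finsupp.single P (m : ℤ) : Divisor k K)) = (m - 1) + 1 := by
    rw [ell] at hell; omega
  set b := Module.finBasisOfFinrankEq k (L (Finsupp.single P (m : ℤ) : Divisor k K)) hdim
  set φ : Fin (m - 1 + 1) → K := fun i => (b i : K)
  have hφ : LinearIndependent k φ :=
    b.linearIndependent.map' (L (Finsupp.single P (m : ℤ) : Divisor k K)).subtype (Submodule.ker_subtype _)
  have hspan : span k (Set.range φ) = L (Finsupp.single P (m : ℤ) : Divisor k K) := by
    rw [show φ = (L (Finsupp.single P (m : ℤ) : Divisor k K)).subtype ∘ b from rfl, Set.range_comp,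
      ← Submodule.map_span, b.span_eq, Submodule.map_top, Submodule.range_subtype]
  obtain ⟨t₀, H, -, -, -, -, -, hH⟩ := exists_param hK P
  set τ := AlgHom.id k K with hτ
  obtain ⟨J, hJ, -⟩ := exists_orders τ hK hφ hH
  choose u hu using fun P : Place k K => exists_uniformizer P
  choose Φ hΦ hΦt using fun P : Place k K => exists_expansion (deg_eq_one hK P) (hu P).2.2
  refine (wDiv τ H Φ t₀ φ J).support.finite_toSet.subset ?_
  rintro Q ⟨hQP, h, h0, hhL, hord⟩
  have heff : (1 : K) ∈ span k (Set.range φ) := by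
    rw [hspan, mem_L_iff one_ne_zero]
    intro R
    rw [ord_one, zero_add, Finsupp.single_apply]
    split_ifs <;> omega
  have hint : ∀ i, Q.1 (φ i) ≤ 1 := fun i => by
    have h1 : φ i ∈ L (Finsupp.single P (m : ℤ) : Divisor k K) := hspan ▸ subset_span ⟨i, rfl⟩
    have h2 := h1 Q
    rwa [Finsupp.single_eq_of_ne hQP, exp_zero] at h2
  obtain ⟨t, Ht, -, -, ht, -, hsep, hHt⟩ := exists_param hK Q
  obtain ⟨Ψ, hΨ, hΨt⟩ := exists_expansion (deg_eq_one hK Q) ht
  have hJt : IsOrders K (hcol τ Ht φ) J := ((orders_change τ hK hH hHt φ).1 J).2 hJ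
  obtain ⟨J', hJ'⟩ := exists_orders_at hK hφ heff hint ht hHt
  have hfix : IsFixedPt τ Q := fun z hz => hz
  obtain ⟨hpos, -, hle⟩ := orders_le_at_fixed hK τ hfix ht hHt hφ heff hint hJt hJ'
  obtain ⟨-, hb1⟩ := binom_minors J' (F := k) (fun a b e => hJ'.1.injective (Nat.cast_injective e))
    (fun s _ => Nat.cast_ne_zero.2 s.factorial_ne_zero)
  have hdet := hb1 hpos fun r => Nat.cast_ne_zero.2 (hpos r).ne'
  have hJle : ∀ l, J l ≤ (l : ℕ) + 1 := by
    have hmono : StrictMono fun l : Fin (m - 1) => (l : ℕ) + 1 := fun a b hab => Nat.add_lt_add_right hab 1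
    have hv := ((v_det_wrMat_fixed hK hfix hφ heff hint ht hHt hJ' _).2 (.inl fun l => Nat.succ_pos _)).2 hdet
    have h1 : (wrMat τ Ht φ (fun l : Fin (m - 1) => (l : ℕ) + 1)).det ≠ 0 := fun e =>
      exp_ne_zero (hv.symm.trans (by rw [e, map_zero]))
    rw [wrMat_eq_colMat, det_colMat_ne_zero_iff] at h1
    exact isOrders_le (hcol_zero_ne τ Ht hφ) hJt hmono h1
  obtain ⟨l, hl⟩ := (hJ'.2 m).2 ((isJump_hcolAt_iff hsep hΨ hΨt hHt hint (deg_eq_one hK Q) m).2
    ⟨hm, h, hspan ▸ hhL, (v_eq_exp_iff Q h0 _).2 (by rw [hord, neg_neg])⟩)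
  have hW := (wDiv_fixed hK hΦ τ hfix ht hHt hφ heff hint hJt hJ').2.1
  rw [wDiv_change hK hΦ τ hH hHt hφ hJ] at hW
  have hsum : 0 < ∑ l, ((J' l : ℤ) - J l) := by
    refine Finset.sum_pos' (fun i _ => by have := hle i; omega) ⟨l, Finset.mem_univ _, ?_⟩
    have := hJle l
    have := l.2
    omega
  simp only [Finset.mem_coe, Finsupp.mem_support_iff]
  omega

omit hK in
lemma sum_range_ite (d m : ℕ) (h : m ≤ d) : ∑ n ∈ range d, (if n + 1 ≤ m then 1 else 0) = m := by
  rw [← Finset.sum_filter, Finset.sum_const, smul_eq_mul, mul_one,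
    show (range d).filter (fun n => n + 1 ≤ m) = range m by ext n; simp; omega, card_range]

/-- The vanishing orders of a linear series at a place. -/
lemma exists_vanishing_orders (R : Place k K) {D : Divisor k K} {d r : ℕ} (hD : D.deg = d)
    {V : Submodule k K} (hV : V ≤ L D) (hdim : finrank k V = r + 1) :
    ∃ m : Fin (r + 1) → ℕ, StrictMono m ∧ (∀ i, m i ≤ d) ∧
      (∀ i : Fin (r + 1), r + 1 - i ≤ finrank k ↥(V ⊓ L (D - Finsupp.single R (m i : ℤ)))) ∧
      ∑ n ∈ range d, finrank k ↥(V ⊓ L (D - Finsupp.single R ((n : ℤ) + 1))) = ∑ i, m i := by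
  classical
  have hfd : FiniteDimensional k V := .of_finrank_pos (by rw [hdim]; omega)
  obtain ⟨S, hS, hSc⟩ := exists_ord_finset (deg_eq_one hK R) V
  have hbound : ∀ o ∈ S, 0 ≤ o + D R ∧ o + D R ≤ d := fun o ho => by
    obtain ⟨f, hf, hf0, hfo⟩ := (hS o).1 ho
    have h := (mem_L_iff hf0).1 (hV hf)
    refine ⟨hfo ▸ h R, ?_⟩
    have hle : (Finsupp.single R (o + D R) : Divisor k K) ≤ FunFld.div k f + D := fun Q => by
      rcases eq_or_ne Q R with rfl | hQ
      · rw [Finsupp.single_eq_same, Finsupp.add_apply, div_apply hK, hfo]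
      · rw [Finsupp.single_eq_of_ne hQ, Finsupp.add_apply, div_apply hK]; exact h Q
    have := deg_mono hle
    rw [deg_single, deg_eq_one hK R, deg_add, deg_div hK, hD] at this
    simpa using this
  set T := S.image fun o => (o + D R).toNat
  have hinj : Set.InjOn (fun o => (o + D R).toNat) S := fun a ha b hb e => by
    have := (hbound a ha).1; have := (hbound b hb).1
    simp only at e; omega
  have hTc : T.card = r + 1 := by rw [card_image_of_injOn hinj, hSc, hdim]
  have hfin : ∀ n : ℕ, finrank k ↥(V ⊓ L (D - Finsupp.single R (n : ℤ))) = (T.filter (n ≤ ·)).card := by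
    intro n
    have : FiniteDimensional k ↥(V ⊓ L (D - Finsupp.single R (n : ℤ))) :=
      Submodule.finiteDimensional_inf_left V _
    obtain ⟨S', hS', hS'c⟩ := exists_ord_finset (deg_eq_one hK R) (V ⊓ L (D - Finsupp.single R (n : ℤ)))
    have heq : S' = S.filter fun o => (n : ℤ) ≤ o + D R := by
      ext o
      rw [hS', mem_filter, hS]
      constructor
      · rintro ⟨f, hf, hf0, hfo⟩
        refine ⟨⟨f, (Submodule.mem_inf.1 hf).1, hf0, hfo⟩, ?_⟩
        have := (mem_L_iff hf0).1 (Submodule.mem_inf.1 hf).2 R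
        rw [Finsupp.sub_apply, Finsupp.single_eq_same, hfo] at this
        omega
      · rintro ⟨⟨f, hf, hf0, hfo⟩, hn⟩
        refine ⟨f, Submodule.mem_inf.2 ⟨hf, (mem_L_iff hf0).2 fun Q => ?_⟩, hf0, hfo⟩
        have := (mem_L_iff hf0).1 (hV hf) Q
        rw [Finsupp.sub_apply]
        rcases eq_or_ne Q R with rfl | hQ
        · rw [Finsupp.single_eq_same, hfo]; omega
        · rw [Finsupp.single_eq_of_ne hQ]; omega
    rw [← hS'c, heq, show T.filter (n ≤ ·) = (S.filter fun o => (n : ℤ) ≤ o + D R).image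
      (fun o => (o + D R).toNat) by
      ext t
      simp only [T, mem_filter, Finset.mem_image]
      constructor
      · rintro ⟨⟨o, ho, rfl⟩, ht⟩
        exact ⟨o, ⟨ho, by have := (hbound o ho).1; omega⟩, rfl⟩
      · rintro ⟨o, ⟨ho, ho'⟩, rfl⟩
        exact ⟨⟨o, ho, rfl⟩, by omega⟩,
      card_image_of_injOn (hinj.mono fun o ho => (mem_filter.1 ho).1)]
  refine ⟨T.orderEmbOfFin hTc, (T.orderEmbOfFin hTc).strictMono, fun i => ?_, fun i => ?_, ?_⟩
  · obtain ⟨o, ho, hoe⟩ := Finset.mem_image.1 (orderEmbOfFin_mem T hTc i)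
    have := (hbound o ho).2
    omega
  · rw [hfin]
    refine le_trans (le_of_eq ?_) (card_le_card (s := (Finset.Ici i).image (T.orderEmbOfFin hTc)) ?_)
    · rw [card_image_of_injective _ (T.orderEmbOfFin hTc).injective, Fin.card_Ici]
    · intro t ht
      obtain ⟨j, hj, rfl⟩ := Finset.mem_image.1 ht
      exact mem_filter.2 ⟨orderEmbOfFin_mem T hTc j, (T.orderEmbOfFin hTc).monotone (Finset.mem_Ici.1 hj)⟩
  · calc ∑ n ∈ range d, finrank k ↥(V ⊓ L (D - Finsupp.single R ((n : ℤ) + 1)))
        = ∑ n ∈ range d, ∑ t ∈ T, if n + 1 ≤ t then 1 else 0 := Finset.sum_congr rfl fun n _ => by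
          rw [show ((n : ℤ) + 1) = ((n + 1 : ℕ) : ℤ) by push_cast; rfl, hfin, Finset.card_filter]
      _ = ∑ t ∈ T, t := by
          rw [Finset.sum_comm]
          refine Finset.sum_congr rfl fun t ht => sum_range_ite d t ?_
          obtain ⟨o, ho, hoe⟩ := Finset.mem_image.1 ht
          have := (hbound o ho).2
          omega
      _ = ∑ i, (T.orderEmbOfFin hTc) i := by
          conv_lhs => rw [← Finset.image_orderEmbOfFin_univ T hTc]
          rw [Finset.sum_image fun a _ b _ e => (T.orderEmbOfFin hTc).injective e]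

/-- Finitely many places pair with a given place in large total ramification. -/
theorem finite_large_weight_pair [CharZero k] (hg : genus k K = 1) (P : Place k K) (d r : ℕ) :
    Set.Finite {Q : Place k K | Q ≠ P ∧ ∃ (D : Divisor k K) (V : Submodule k K),
      D.deg = d ∧ V ≤ L D ∧ finrank k ↥V = r + 1 ∧
      (r + 1) * d + 1 ≤
        (∑ n ∈ range d, finrank k ↥(V ⊓ L (D - Finsupp.single P ((n : ℤ) + 1)))) +
          (∑ n ∈ range d, finrank k ↥(V ⊓ L (D - Finsupp.single Q ((n : ℤ) + 1)))) + r} := by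
  classical
  refine ((Finset.Icc 1 d).finite_toSet.biUnion
    fun m hm => finite_torsion hK hg P m (Finset.mem_Icc.1 hm).1).subset ?_
  rintro Q ⟨hQP, D, V, hD, hV, hdim, hbig⟩
  obtain ⟨a, ha, had, harank, hasum⟩ := exists_vanishing_orders hK P hD hV hdim
  obtain ⟨b, hb, hbd, hbrank, hbsum⟩ := exists_vanishing_orders hK Q hD hV hdim
  rw [hasum, hbsum] at hbig
  have hfd : FiniteDimensional k V := .of_finrank_pos (by rw [hdim]; omega)
  have hkey : ∀ i : Fin (r + 1), ∃ f : K, f ≠ 0 ∧ (a i + b i.rev ≤ d) ∧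
      (a i + b i.rev = d → FunFld.div k f + D = Finsupp.single P (a i : ℤ) + Finsupp.single Q (b i.rev : ℤ)) := by
    intro i
    set A := V ⊓ L (D - Finsupp.single P (a i : ℤ))
    set B := V ⊓ L (D - Finsupp.single Q (b i.rev : ℤ))
    have : FiniteDimensional k A := Submodule.finiteDimensional_inf_left V _
    have : FiniteDimensional k B := Submodule.finiteDimensional_inf_left V _
    have h1 : r + 1 - i ≤ finrank k A := harank i
    have h2 : r + 1 - i.rev ≤ finrank k B := hbrank i.rev
    have h3 := Submodule.finrank_sup_add_finrank_inf_eq A B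
    have h4 : finrank k ↥(A ⊔ B) ≤ r + 1 :=
      (Submodule.finrank_mono (sup_le inf_le_left inf_le_left)).trans_eq hdim
    have hne : A ⊓ B ≠ ⊥ := fun e => by
      rw [e, finrank_bot] at h3
      rw [Fin.val_rev] at h2
      have := i.2
      omega
    obtain ⟨f, hf, hf0⟩ := Submodule.exists_mem_ne_zero_of_ne_bot hne
    have hA := (mem_L_iff hf0).1 (Submodule.mem_inf.1 (Submodule.mem_inf.1 hf).1).2
    have hB := (mem_L_iff hf0).1 (Submodule.mem_inf.1 (Submodule.mem_inf.1 hf).2).2
    have hle : (Finsupp.single P (a i : ℤ) + Finsupp.single Q (b i.rev : ℤ) : Divisor k K) ≤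
        FunFld.div k f + D := fun R => by
      have h5 := hA R
      have h6 := hB R
      simp only [Finsupp.sub_apply, Finsupp.add_apply, div_apply hK.1] at h5 h6 ⊢
      rcases eq_or_ne R P with rfl | hRP
      · rw [Finsupp.single_eq_same] at h5 ⊢
        rw [Finsupp.single_eq_of_ne hQP.symm]; omega
      rw [Finsupp.single_eq_of_ne hRP] at h5 ⊢
      rcases eq_or_ne R Q with rfl | hRQ
      · rw [Finsupp.single_eq_same] at h6 ⊢; omega
      · rw [Finsupp.single_eq_of_ne hRQ]; omega
    have hdeg := deg_mono hle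
    rw [deg_add, deg_add, deg_div hK, deg_single, deg_single, deg_eq_one hK P, deg_eq_one hK Q, hD] at hdeg
    refine ⟨f, hf0, by omega, fun he => ?_⟩
    have h0 := eq_zero_of_deg_eq_zero hK (sub_nonneg.2 hle) (by
      rw [deg_sub, deg_add, deg_add, deg_div hK, deg_single, deg_single, deg_eq_one hK P,
        deg_eq_one hK Q, hD]
      omega)
    exact sub_eq_zero.1 h0
  choose f hf0 hle heq using hkey
  -- two indices with equality
  obtain ⟨i, j, hij, hi, hj⟩ : ∃ i j, i ≠ j ∧ a i + b i.rev = d ∧ a j + b j.rev = d := by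
    by_contra h
    push Not at h
    have hsum : ∑ i, (a i + b i.rev) + r ≤ (r + 1) * d := by
      rcases em (∃ i, a i + b i.rev = d) with ⟨i, hi⟩ | hno
      · have h1 : ∀ j ∈ (univ.erase i), a j + b j.rev + 1 ≤ d := fun j hj => by
          have := h i j (Finset.ne_of_mem_erase hj).symm hi
          have := hle j
          omega
        have h2 := Finset.sum_le_sum h1
        rw [sum_add_distrib, sum_const, sum_const, card_erase_of_mem (Finset.mem_univ i), card_univ,
          Fintype.card_fin, smul_eq_mul, smul_eq_mul] at h2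
        rw [← Finset.add_sum_erase _ _ (Finset.mem_univ i), hi, Nat.succ_mul]
        simp only [Nat.add_sub_cancel] at h2
        omega
      · push Not at hno
        have h1 : ∀ j ∈ (univ : Finset (Fin (r + 1))), a j + b j.rev + 1 ≤ d := fun j _ => by
          have := hno j
          have := hle j
          omega
        have h2 := Finset.sum_le_sum h1
        rw [sum_add_distrib, sum_const, sum_const, card_univ, Fintype.card_fin, smul_eq_mul,
          smul_eq_mul] at h2
        omega
    have hrev : ∑ i : Fin (r + 1), b i.rev = ∑ i, b i := Equiv.sum_comp Fin.revPerm b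
    rw [sum_add_distrib, hrev] at hsum
    omega
  -- a torsion relation
  wlog hlt : a j < a i generalizing i j with Hsym
  · exact Hsym j i hij.symm hj hi (lt_of_le_of_ne (not_lt.1 hlt) fun e => hij (ha.injective e))
  set M := a i - a j with hM
  have hM1 : 1 ≤ M := by omega
  have hMd : M ≤ d := by have := had i; omega
  simp only [Set.mem_iUnion, Finset.mem_coe, Finset.mem_Icc]
  refine ⟨M, ⟨hM1, hMd⟩, hQP, f j / f i, div_ne_zero (hf0 j) (hf0 i), ?_⟩
  have hdiv : FunFld.div k (f j / f i) = Finsupp.single Q (M : ℤ) - Finsupp.single P (M : ℤ) := by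
    rw [div_eq_mul_inv, div_mul hK (hf0 j) (inv_ne_zero (hf0 i)), div_inv hK,
      eq_sub_of_add_eq (heq i hi), eq_sub_of_add_eq (heq j hj),
      show (M : ℤ) = (a i : ℤ) - a j by omega,
      show (Finsupp.single Q ((a i : ℤ) - a j) : Divisor k K) = Finsupp.single Q ((b j.rev : ℤ) - b i.rev) from
        congrArg _ (by omega),
      Finsupp.single_sub, Finsupp.single_sub]
    abel
  refine ⟨(mem_L_iff (div_ne_zero (hf0 j) (hf0 i))).2 fun R => ?_, ?_⟩
  · rw [← div_apply hK (f j / f i) R, hdiv, Finsupp.sub_apply, sub_add_cancel, Finsupp.single_apply]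
    split_ifs <;> omega
  · rw [← div_apply hK (f j / f i) Q, hdiv, Finsupp.sub_apply, Finsupp.single_eq_same,
      Finsupp.single_eq_of_ne hQP, sub_zero]

end Groth.Agent.FFLib
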