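import Groth.Agent.FFLib.Expand
import Mathlib.RingTheory.PowerSeries.Substitution
import Mathlib.RingTheory.Binomial

/-!
# Hasse derivatives: expansions, uniqueness, change of variable
-/

open WithZero Module LaurentSeries Finset

namespace Groth.Agent.FFLib

variable {F : Type*} [Field F]

lemma hasseDeriv_single_mul (a : ℤ) (c : F) (f : LaurentSeries F) (n : ℕ) :
    LaurentSeries.hasseDeriv F n (HahnSeries.single a c * f) =
      ∑ ij ∈ antidiagonal n, LaurentSeries.hasseDeriv F ij.1 (HahnSeries.single a c) *
        LaurentSeries.hasseDeriv F ij.2 f := by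
  ext m
  rw [hasseDeriv_coeff, HahnSeries.coeff_single_mul, HahnSeries.coeff_sum,
    show m + n = a + (m + n - a) by ring, Ring.add_choose_eq n (Commute.all a (m + n - a)), sum_smul,
    show a + (m + n - a) - a = m + n - a by ring]
  refine sum_congr rfl fun ij hij => ?_
  have h : ij.1 + ij.2 = n := mem_antidiagonal.1 hij
  rw [LaurentSeries.hasseDeriv_single, HahnSeries.coeff_single_mul, hasseDeriv_coeff,
    show m - (a - (ij.1 : ℤ)) + (ij.2 : ℤ) = m + n - a by push_cast [← h]; ring, smul_mul_smul_comm]

lemma coeff_mul_eq_zero_of_bounds {f g : LaurentSeries F} {A B m : ℤ}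
    (hf : ∀ a < A, f.coeff a = 0) (hg : ∀ b < B, g.coeff b = 0) (hm : m < A + B) :
    (f * g).coeff m = 0 := by
  refine (valuation_le_iff_coeff_lt_eq_zero F (D := A + B)).1 ?_ m hm
  rw [map_mul, neg_add, exp_add]
  exact mul_le_mul' ((valuation_le_iff_coeff_lt_eq_zero F).2 hf) ((valuation_le_iff_coeff_lt_eq_zero F).2 hg)

lemma exists_bound (f : LaurentSeries F) : ∃ A : ℤ, ∀ a < A, f.coeff a = 0 :=
  ⟨f.order, fun _ h => HahnSeries.coeff_eq_zero_of_lt_order h⟩

/-- The product rule for Hasse derivatives of Laurent series. -/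
lemma hasseDeriv_mul (f g : LaurentSeries F) (n : ℕ) :
    LaurentSeries.hasseDeriv F n (f * g) =
      ∑ ij ∈ antidiagonal n, LaurentSeries.hasseDeriv F ij.1 f * LaurentSeries.hasseDeriv F ij.2 g := by
  obtain ⟨A, hA⟩ := exists_bound f
  obtain ⟨B, hB⟩ := exists_bound g
  ext m
  set s := Finset.Ico A (m + n - B + 1)
  set f₀ : LaurentSeries F := ∑ a ∈ s, HahnSeries.single a (f.coeff a)
  have hr : ∀ a < m + n - B + 1, (f - f₀).coeff a = 0 := fun a ha => by
    simp only [f₀, HahnSeries.coeff_sub, HahnSeries.coeff_sum, HahnSeries.coeff_single]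
    rw [sub_eq_zero]
    by_cases h : a ∈ s
    · exact ((Finset.sum_eq_single_of_mem a h fun b _ hb => if_neg hb.symm).trans (if_pos rfl)).symm
    · refine (hA a (by simp only [s, Finset.mem_Ico] at h; omega)).trans (Eq.symm ?_)
      exact Finset.sum_eq_zero fun b hb => if_neg fun e : a = b => h (by rwa [e])
  have key : ∀ φ : LaurentSeries F, (∀ a < m + n - B + 1, φ.coeff a = 0) →
      (LaurentSeries.hasseDeriv F n (φ * g)).coeff m = 0 ∧
      (∑ ij ∈ antidiagonal n, LaurentSeries.hasseDeriv F ij.1 φ *
        LaurentSeries.hasseDeriv F ij.2 g).coeff m = 0 := fun φ hφ => by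
    refine ⟨?_, ?_⟩
    · rw [hasseDeriv_coeff, coeff_mul_eq_zero_of_bounds hφ hB (by omega), smul_zero]
    · rw [HahnSeries.coeff_sum]
      refine sum_eq_zero fun ij hij => ?_
      have h : ij.1 + ij.2 = n := mem_antidiagonal.1 hij
      refine coeff_mul_eq_zero_of_bounds (A := m + n - B + 1 - ij.1) (B := B - ij.2)
        (fun a ha => ?_) (fun b hb => ?_) (by omega)
      · rw [hasseDeriv_coeff, hφ _ (by omega), smul_zero]
      · rw [hasseDeriv_coeff, hB _ (by omega), smul_zero]
  obtain ⟨k1, k2⟩ := key _ hr
  have h0 : LaurentSeries.hasseDeriv F n (f₀ * g) =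
      ∑ ij ∈ antidiagonal n, LaurentSeries.hasseDeriv F ij.1 f₀ * LaurentSeries.hasseDeriv F ij.2 g := by
    simp only [f₀, sum_mul, map_sum]
    rw [sum_comm]
    exact sum_congr rfl fun a _ => hasseDeriv_single_mul a _ g n
  have h1 := congrArg (fun z : LaurentSeries F => z.coeff m) h0
  rw [show f = (f - f₀) + f₀ by ring, add_mul, map_add]
  simp only [map_add, add_mul, sum_add_distrib, HahnSeries.coeff_add] at *
  rw [k1, k2, h1]

/-- `f ↦ f(X + T)`, the Taylor expansion of Laurent series, as a ring homomorphism. -/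
noncomputable def taylorL : LaurentSeries F →+* PowerSeries (LaurentSeries F) where
  toFun f := PowerSeries.mk fun n => LaurentSeries.hasseDeriv F n f
  map_one' := PowerSeries.ext fun n => by
    rw [PowerSeries.coeff_mk, PowerSeries.coeff_one,
      show (1 : LaurentSeries F) = HahnSeries.single 0 1 from rfl, LaurentSeries.hasseDeriv_single]
    split_ifs with h
    · subst h; simp
    · rw [Ring.choose_zero_pos ℤ (Nat.pos_of_ne_zero h)]; simp
  map_zero' := PowerSeries.ext fun n => by simp
  map_add' f g := PowerSeries.ext fun n => by simp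
  map_mul' f g := PowerSeries.ext fun n => by
    rw [PowerSeries.coeff_mk, PowerSeries.coeff_mul, hasseDeriv_mul]
    simp

lemma coeff_taylorL (f : LaurentSeries F) (n : ℕ) :
    PowerSeries.coeff n (taylorL f) = LaurentSeries.hasseDeriv F n f := by simp [taylorL]

open FunFld

variable {k K : Type*} [Field k] [Field K] [Algebra k K]

lemma hasseDeriv_algebraMap [Algebra k F] (φ : K →ₐ[k] LaurentSeries F) (c : k) :
    taylorL (φ (algebraMap k K c)) = PowerSeries.C (φ (algebraMap k K c)) := by
  refine PowerSeries.ext fun n => ?_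
  rw [coeff_taylorL, LocRes.map_algebraMap, PowerSeries.coeff_C, HahnSeries.C_apply,
    LaurentSeries.hasseDeriv_single]
  split_ifs with h
  · subst h; simp
  · rw [Ring.choose_zero_pos ℤ (Nat.pos_of_ne_zero h)]; simp

/-- Hasse derivatives with respect to a separating parameter commute with expansion. -/
theorem map_hasseD_eq [Algebra k F] {t : K}
    (hsep : Algebra.IsSeparable (IntermediateField.adjoin k ({t} : Set K)) K)
    (φ : K →ₐ[k] LaurentSeries F) (ht : φ t = HahnSeries.single 1 1)
    {H : K →ₐ[k] PowerSeries K} (hH : LocRes.IsHasseFamily t H) (f : K) (n : ℕ) :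
    φ (LocRes.hasseD H n f) = LaurentSeries.hasseDeriv F n (φ f) := by
  let g₁ : K →ₐ[k] PowerSeries (LaurentSeries F) :=
    { (PowerSeries.map φ.toRingHom).comp H.toRingHom with
      commutes' := fun c => by
        refine PowerSeries.ext fun i => ?_
        show PowerSeries.coeff i (PowerSeries.map φ.toRingHom (H (algebraMap k K c))) = _
        rw [PowerSeries.coeff_map, H.commutes, PowerSeries.algebraMap_apply, PowerSeries.coeff_C,
          PowerSeries.algebraMap_apply, PowerSeries.coeff_C]
        split_ifs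
        · exact φ.commutes c
        · exact map_zero _ }
  let g₂ : K →ₐ[k] PowerSeries (LaurentSeries F) :=
    { taylorL.comp φ.toRingHom with
      commutes' := fun c => by
        show taylorL (φ (algebraMap k K c)) = _
        rw [hasseDeriv_algebraMap, φ.commutes, PowerSeries.algebraMap_apply] }
  have h := powerSeries_hom_ext_gen hsep g₁ g₂ (fun y => ?_) (PowerSeries.ext fun i => ?_)
  · have h1 := congrArg (PowerSeries.coeff n) (DFunLike.congr_fun h f)
    exact (PowerSeries.coeff_map _ _ _).symm.trans (h1.trans (coeff_taylorL _ _))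
  · show PowerSeries.constantCoeff (PowerSeries.map φ.toRingHom (H y)) =
      PowerSeries.constantCoeff (taylorL (φ y))
    rw [← PowerSeries.coeff_zero_eq_constantCoeff, PowerSeries.coeff_map, coeff_taylorL,
      LaurentSeries.hasseDeriv_zero, PowerSeries.coeff_zero_eq_constantCoeff]
    exact congrArg φ (hH.2 y)
  · show PowerSeries.coeff i (PowerSeries.map φ.toRingHom (H t)) = PowerSeries.coeff i (taylorL (φ t))
    rw [hH.1, PowerSeries.coeff_map, coeff_taylorL, ht, LaurentSeries.hasseDeriv_single, map_add,
      PowerSeries.coeff_C, PowerSeries.coeff_X]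
    rcases i with _ | _ | i
    · simp [ht]
    · simp
    · rw [show ((1 : ℤ)) = ((1 : ℕ) : ℤ) from rfl, Ring.choose_natCast,
        Nat.choose_eq_zero_of_lt (by omega)]
      simp

/-- Total Hasse derivatives with respect to a separating variable are unique. -/
theorem hasse_unique {x : K} (hsep : Algebra.IsSeparable (IntermediateField.adjoin k ({x} : Set K)) K)
    {H H' : K →ₐ[k] PowerSeries K} (hH : LocRes.IsHasseFamily x H) (hH' : LocRes.IsHasseFamily x H') :
    H = H' :=
  powerSeries_hom_ext_gen hsep H H' (fun y => (hH.2 y).trans (hH'.2 y).symm) (hH.1.trans hH'.1.symm)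

/-- Change of variable for total Hasse derivatives. -/
theorem hasseD_change {s : K} (hsep : Algebra.IsSeparable (IntermediateField.adjoin k ({s} : Set K)) K)
    {Hs Ht : K →ₐ[k] PowerSeries K} (hs : LocRes.IsHasseFamily s Hs) {t : K}
    (ht : LocRes.IsHasseFamily t Ht) (f : K) (j : ℕ) :
    LocRes.hasseD Ht j f = ∑ d ∈ range (j + 1),
      LocRes.hasseD Hs d f * PowerSeries.coeff j ((Ht s - PowerSeries.C s) ^ d) := by
  set U := Ht s - PowerSeries.C s with hU
  have hU0 : PowerSeries.constantCoeff U = 0 := by
    rw [hU, map_sub, ht.2, PowerSeries.constantCoeff_C, sub_self]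
  have hsub := PowerSeries.HasSubst.of_constantCoeff_zero' hU0
  have hvan : ∀ d > j, PowerSeries.coeff j (U ^ d) = 0 := fun d hd => by
    obtain ⟨V, hV⟩ := PowerSeries.X_dvd_iff.2 hU0
    rw [hV, mul_pow, PowerSeries.coeff_X_pow_mul', if_neg (by omega)]
  let g : K →ₐ[k] PowerSeries K :=
    ((PowerSeries.substAlgHom (R := K) hsub).restrictScalars k).comp Hs
  have hg : g = Ht := by
    refine powerSeries_hom_ext_gen hsep g Ht (fun y => ?_) ?_
    · show PowerSeries.constantCoeff (PowerSeries.substAlgHom hsub (Hs y)) = _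
      rw [PowerSeries.coe_substAlgHom, ← PowerSeries.coeff_zero_eq_constantCoeff,
        PowerSeries.coeff_subst' hsub, finsum_eq_single _ 0]
      · rw [PowerSeries.coeff_zero_eq_constantCoeff, hs.2, pow_zero]
        simp [ht.2]
      · intro d hd
        rw [PowerSeries.coeff_zero_eq_constantCoeff, map_pow, hU0, zero_pow hd, smul_zero]
    · show PowerSeries.substAlgHom hsub (Hs s) = Ht s
      rw [hs.1, map_add, show (PowerSeries.C s : PowerSeries K) = algebraMap K (PowerSeries K) s from rfl,
        AlgHom.commutes, PowerSeries.coe_substAlgHom, PowerSeries.subst_X hsub, hU]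
      exact add_sub_cancel _ _
  rw [LocRes.hasseD_apply, ← hg]
  show PowerSeries.coeff j (PowerSeries.substAlgHom hsub (Hs f)) = _
  rw [PowerSeries.coe_substAlgHom, PowerSeries.coeff_subst' hsub,
    finsum_eq_sum_of_support_subset _ (s := range (j + 1))]
  · rfl
  · intro d hd
    rw [Finset.coe_range, Set.mem_Iio]
    by_contra h
    exact hd (show _ • PowerSeries.coeff j (U ^ d) = 0 by rw [hvan d (by omega), smul_zero])

end Groth.Agent.FFLib
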