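import Groth.Agent.FFLib.Hasse

/-!
# Lifts to power series are unique also for inseparable parameters
-/

open Polynomial

namespace Groth.Agent.FFLib

open FunFld

variable {k K : Type*} [Field k] [Field K] [Algebra k K]

/-- Two lifts agreeing on a subfield agree on elements separable over it. -/
lemma eq_of_separable {A : Type*} [Field A] [Algebra k A] (F : IntermediateField k K)
    (g₁ g₂ : K →ₐ[k] PowerSeries A)
    (h0 : ∀ y, PowerSeries.constantCoeff (g₁ y) = PowerSeries.constantCoeff (g₂ y))
    (hF : ∀ c ∈ F, g₁ c = g₂ c) {y : K} (hy : IsSeparable F y) : g₁ y = g₂ y := by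
  set f := minpoly F y
  set q : (PowerSeries A)[X] := f.map (g₁.toRingHom.comp F.val.toRingHom) with hq
  have hval : ∀ g : K →ₐ[k] PowerSeries A, (∀ c ∈ F, g₁ c = g c) → q.eval (g y) = 0 := fun g hg => by
    have e : g₁.toRingHom.comp F.val.toRingHom = g.toRingHom.comp (algebraMap F K) :=
      RingHom.ext fun c => hg c c.2
    rw [hq, e, Polynomial.eval_map]
    have h1 := Polynomial.hom_eval₂ f (algebraMap F K) g.toRingHom y
    rw [← Polynomial.aeval_def, minpoly.aeval] at h1
    exact h1.symm.trans (map_zero _)
  have h1 := hval g₁ fun _ _ => rfl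
  have h2 := hval g₂ hF
  obtain ⟨z, hz⟩ := Polynomial.binomExpansion q (g₁ y) (g₂ y - g₁ y)
  rw [add_sub_cancel, h1, h2, zero_add, sq, ← mul_assoc, ← add_mul] at hz
  rcases mul_eq_zero.1 hz.symm with h3 | h3
  · exfalso
    have h4 := congrArg PowerSeries.constantCoeff h3
    rw [map_add, map_mul, map_sub, ← h0 y, sub_self, mul_zero, add_zero, map_zero, hq,
      Polynomial.derivative_map, Polynomial.eval_map] at h4
    have h5 := Polynomial.hom_eval₂ f.derivative (algebraMap F K) g₁.toRingHom y
    rw [← Polynomial.aeval_def] at h5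
    change PowerSeries.constantCoeff (f.derivative.eval₂ (g₁.toRingHom.comp (algebraMap F K)) (g₁ y)) = 0 at h4
    replace h4 := (congrArg PowerSeries.constantCoeff h5).trans h4
    exact hy.aeval_derivative_ne_zero (minpoly.aeval F y)
      ((PowerSeries.constantCoeff.comp g₁.toRingHom).injective (h4.trans (map_zero _).symm))
  · exact (sub_eq_zero.1 h3).symm

/-- Two lifts to power series agreeing on a parameter over which `K` is algebraic are equal. -/
lemma powerSeries_hom_ext_alg {A : Type*} [Field A] [Algebra k A] {x : K}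
    [Algebra.IsAlgebraic (IntermediateField.adjoin k ({x} : Set K)) K]
    (g₁ g₂ : K →ₐ[k] PowerSeries A)
    (h0 : ∀ y, PowerSeries.constantCoeff (g₁ y) = PowerSeries.constantCoeff (g₂ y))
    (hx : g₁ x = g₂ x) : g₁ = g₂ := by
  set E := IntermediateField.adjoin k ({x} : Set K)
  have hagree : ∀ c ∈ separableClosure E K, g₁ c = g₂ c := fun c hc =>
    eq_of_separable E g₁ g₂ h0 (eq_on_adjoin g₁ g₂ hx) (mem_separableClosure_iff.1 hc)
  obtain ⟨q, hq⟩ := ExpChar.exists K
  have : ExpChar (PowerSeries A) q := expChar_of_injective_ringHom g₁.toRingHom.injective q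
  refine AlgHom.ext fun y => ?_
  have : ExpChar (separableClosure E K) q := expChar_down (algebraMap (separableClosure E K) K) q
  obtain ⟨m, c, hc⟩ := IsPurelyInseparable.pow_mem (separableClosure E K) q y
  have h := hagree (y ^ q ^ m) (by rw [← hc]; exact c.2)
  rw [map_pow, map_pow] at h
  exact iterateFrobenius_inj (PowerSeries A) q m h

section

open LaurentSeries

variable {F : Type*} [Field F]

/-- Hasse derivatives with respect to a parameter over which `K` is algebraic commute with expansion. -/
theorem map_hasseD_eq_gen [Algebra k F] {t : K}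
    [Algebra.IsAlgebraic (IntermediateField.adjoin k ({t} : Set K)) K]
    (φ : K →ₐ[k] LaurentSeries F) (ht : φ t = HahnSeries.single 1 1)
    {H : K →ₐ[k] PowerSeries K} (hH : LocRes.IsHasseFamily t H) (f : K) (n : ℕ) :
    φ (LocRes.hasseD H n f) = LaurentSeries.hasseDeriv F n (φ f) := by
  let g₁ : K →ₐ[k] PowerSeries (LaurentSeries F) :=
    { (PowerSeries.map φ.toRingHom).comp H.toRingHom with
      commutes' := fun c => by
        refine PowerSeries.ext fun i => ?_
        show PowerSeries.coeff i (PowerSeries.map φ.toRingHom (H (algebraMap k K c))) = _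
        rw [PowerSeries.coeff_map, H.commutes, PowerSeries.algebraMap_apply, PowerSeries.coeff_C,
          PowerSeries.algebraMap_apply, PowerSeries.coeff_C]
        split_ifs
        · exact φ.commutes c
        · exact map_zero _ }
  let g₂ : K →ₐ[k] PowerSeries (LaurentSeries F) :=
    { taylorL.comp φ.toRingHom with
      commutes' := fun c => by
        show taylorL (φ (algebraMap k K c)) = _
        rw [hasseDeriv_algebraMap, φ.commutes, PowerSeries.algebraMap_apply] }
  have h := powerSeries_hom_ext_alg (x := t) g₁ g₂ (fun y => ?_) (PowerSeries.ext fun i => ?_)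
  · have h1 := congrArg (PowerSeries.coeff n) (DFunLike.congr_fun h f)
    exact (PowerSeries.coeff_map _ _ _).symm.trans (h1.trans (coeff_taylorL _ _))
  · show PowerSeries.constantCoeff (PowerSeries.map φ.toRingHom (H y)) =
      PowerSeries.constantCoeff (taylorL (φ y))
    rw [← PowerSeries.coeff_zero_eq_constantCoeff, PowerSeries.coeff_map, coeff_taylorL,
      LaurentSeries.hasseDeriv_zero, PowerSeries.coeff_zero_eq_constantCoeff]
    exact congrArg φ (hH.2 y)
  · show PowerSeries.coeff i (PowerSeries.map φ.toRingHom (H t)) = PowerSeries.coeff i (taylorL (φ t))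
    rw [hH.1, PowerSeries.coeff_map, coeff_taylorL, ht, LaurentSeries.hasseDeriv_single, map_add,
      PowerSeries.coeff_C, PowerSeries.coeff_X]
    rcases i with _ | _ | i
    · simp [ht]
    · simp
    · rw [show ((1 : ℤ)) = ((1 : ℕ) : ℤ) from rfl, Ring.choose_natCast,
        Nat.choose_eq_zero_of_lt (by omega)]
      simp

end

end Groth.Agent.FFLib
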