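import Groth.Agent.FFLib.RatPlaces
import Groth.Agent.FFLib.Quadratic
import Mathlib.RingTheory.IntegralClosure.IntegrallyClosed
import Mathlib.FieldTheory.PurelyInseparable.Basic

/-!
# Hyperelliptic and Artin-Schreier equations
-/

open WithZero Module Polynomial

namespace Groth.Agent.FFLib

open FunFld

variable {k K : Type*} [Field k] [Field K] [Algebra (RatFunc k) K]

lemma not_range_of_squarefree {y : K} {f : k[X]} (hf : Squarefree f) (hd : 1 ≤ f.natDegree)
    (heq : y ^ 2 = algebraMap (RatFunc k) K (algebraMap k[X] (RatFunc k) f)) :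
    y ∉ Set.range (algebraMap (RatFunc k) K) := by
  rintro ⟨c, rfl⟩
  rw [← map_pow] at heq
  have hc := (algebraMap (RatFunc k) K).injective heq
  obtain ⟨q, rfl⟩ : ∃ q : k[X], algebraMap k[X] (RatFunc k) q = c :=
    IsIntegrallyClosed.isIntegral_iff.1 (IsIntegral.of_pow two_pos (by rw [hc]; exact isIntegral_algebraMap))
  rw [← map_pow] at hc
  have hq := RatFunc.algebraMap_injective k hc
  have hu : IsUnit q := hf q ⟨1, by rw [← hq]; ring⟩
  have := natDegree_eq_zero_of_isUnit (hu.pow 2)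
  rw [hq] at this
  omega

variable [Algebra k K] [IsScalarTower k (RatFunc k) K]

lemma two_ne_zero' (h2 : ringChar k ≠ 2) : (2 : k) ≠ 0 := Ring.two_ne_zero h2

omit [Algebra (RatFunc k) K] [IsScalarTower k (RatFunc k) K] in
lemma v_two (h2 : ringChar k ≠ 2) (Q : Place k K) : Q.1 (2 : K) = 1 := by
  rw [← map_ofNat (algebraMap k K) 2]
  exact v_const Q (two_ne_zero' h2)

lemma two_mul_ord {y : K} {f : RatFunc k} (hf : f ≠ 0) (heq : y ^ 2 = algebraMap (RatFunc k) K f)
    {Q : Place k K} {P : Place k (RatFunc k)} {e : ℕ} (hQ : IsOverWith Q P e) :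
    2 * Q.ord y = e * P.ord f := by
  rw [← (isOverWith_iff_ord.1 hQ).2 f hf, ← heq, ord_pow]
  norm_num

variable (hdeg : finrank (RatFunc k) K = 2)
include hdeg

/-- odd order of the radicand gives ramification -/
lemma sqrt_ramified {y : K} {f : RatFunc k} (hf : f ≠ 0) (heq : y ^ 2 = algebraMap (RatFunc k) K f)
    (P : Place k (RatFunc k)) (hodd : Odd (P.ord f)) :
    (∃! Q : Place k K, IsOver Q P) ∧ ∀ Q : Place k K, IsOver Q P → IsOverWith Q P 2 ∧ Q.deg = P.deg := by
  have : FiniteDimensional (RatFunc k) K := Module.finite_of_finrank_eq_succ hdeg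
  have hK := fg1_ratFunc (k := k)
  have key : ∀ Q : Place k K, IsOver Q P → IsOverWith Q P 2 := by
    rintro Q ⟨e, he⟩
    have h := two_mul_ord hf heq he
    have hev : Even e := by
      rw [← Int.even_coe_nat]
      have : Even ((e : ℤ) * P.ord f) := ⟨Q.ord y, by omega⟩
      exact (Int.even_mul.1 this).resolve_right (Int.not_even_iff_odd.2 hodd)
    rwa [idx_two_of_even hK hdeg he hev] at he
  obtain ⟨Q₀, hQ₀⟩ := exists_overs (K' := K) hK P
  have h0 : IsOver Q₀ P := ⟨_, hQ₀⟩
  exact ⟨⟨Q₀, h0, fun R hR => (ramified_unique hK hdeg (key Q₀ h0)).2 R hR⟩,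
    fun Q hQ => ⟨key Q hQ, (ramified_unique hK hdeg (key Q hQ)).1⟩⟩

/-- unit radicand: no ramification -/
lemma sqrt_unramified (h2 : ringChar k ≠ 2) {y : K} (hy : y ∉ Set.range (algebraMap (RatFunc k) K)) {g : RatFunc k}
    (heq : y ^ 2 = algebraMap (RatFunc k) K g) (P : Place k (RatFunc k)) (hg : g ≠ 0) (hg0 : P.ord g = 0)
    (Q : Place k K) (hQ : IsOver Q P) : IsOverWith Q P 1 := by
  have : FiniteDimensional (RatFunc k) K := Module.finite_of_finrank_eq_succ hdeg
  obtain ⟨e, he⟩ := hQ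
  have h := two_mul_ord hg heq he
  rw [hg0, mul_zero] at h
  have hy0 : y ≠ 0 := fun e0 => hy ⟨0, by rw [e0, map_zero]⟩
  have hy1 : Q.1 y = 1 := (v_eq_one_iff Q hy0).2 (by omega)
  have := idx_one_of_unit (a := (0 : RatFunc k)) (g := g) (fg1_ratFunc (k := k)) hdeg hy
    (by rw [map_zero, zero_mul, add_zero, heq]) he hy1.le
    (by rw [map_zero, add_zero, map_mul, hy1, mul_one, v_two h2])
  rwa [this] at he

omit [IsScalarTower k (RatFunc k) K] [Algebra k K] in
lemma exists_quad : ∃ (y : K) (u v : RatFunc k), y ∉ Set.range (algebraMap (RatFunc k) K) ∧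
    y ^ 2 + algebraMap (RatFunc k) K v * y = algebraMap (RatFunc k) K u := by
  have : FiniteDimensional (RatFunc k) K := Module.finite_of_finrank_eq_succ hdeg
  obtain ⟨y, hy⟩ : ∃ y : K, y ∉ Set.range (algebraMap (RatFunc k) K) := by
    by_contra h
    push Not at h
    have h1 : (⊥ : Subalgebra (RatFunc k) K) = ⊤ := eq_top_iff.2 fun z _ => Algebra.mem_bot.2 (h z)
    have h3 := Subalgebra.bot_eq_top_iff_finrank_eq_one.1 h1
    omega
  have hint : IsIntegral (RatFunc k) y := Algebra.IsIntegral.isIntegral y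
  have hlo : 2 ≤ (minpoly (RatFunc k) y).natDegree := (minpoly.two_le_natDegree_iff hint).2 hy
  have hhi : (minpoly (RatFunc k) y).natDegree ≤ 2 := hdeg ▸ minpoly.natDegree_le y
  have hd : (minpoly (RatFunc k) y).natDegree = 2 := le_antisymm hhi hlo
  refine ⟨y, -(minpoly (RatFunc k) y).coeff 0, (minpoly (RatFunc k) y).coeff 1, hy, ?_⟩
  have h := minpoly.aeval (RatFunc k) y
  rw [aeval_eq_sum_range, hd, Finset.sum_range_succ, Finset.sum_range_succ, Finset.sum_range_one] at h
  have hl : (minpoly (RatFunc k) y).coeff 2 = 1 := by rw [← hd]; exact (minpoly.monic hint).coeff_natDegree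
  rw [hl, one_smul, pow_zero, pow_one, Algebra.smul_def, Algebra.smul_def, mul_one] at h
  rw [map_neg]
  linear_combination h

end Groth.Agent.FFLib
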