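import Groth.Agent.FFLib.Hyper

/-!
# Genus of a quadratic extension of the line
-/

open WithZero Module Polynomial

namespace Groth.Agent.FFLib

open FunFld

variable {k : Type*} [Field k]

lemma exists_infPlace : ∃ P : Place k (RatFunc k), P.ord (RatFunc.X : RatFunc k) < 0 :=
  exists_pole_of_tr fg1_ratFunc (transcendental_ratX (k := k))

lemma isFunctionField_ratFunc : IsFunctionField k (RatFunc k) := by
  refine ⟨fg1_ratFunc, fun r hr => ?_⟩
  obtain ⟨q, rfl⟩ : ∃ q : k[X], algebraMap k[X] (RatFunc k) q = r :=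
    IsIntegrallyClosed.isIntegral_iff.1 hr.isIntegral.tower_top
  rcases Nat.eq_zero_or_pos q.natDegree with hd | hd
  · obtain ⟨c, rfl⟩ := natDegree_eq_zero.1 hd
    exact ⟨c, (IsScalarTower.algebraMap_apply k k[X] (RatFunc k) c)⟩
  · obtain ⟨P, hP⟩ := exists_infPlace (k := k)
    refine absurd hr (transcendental_of_ord fg1_ratFunc P ?_)
    rw [ord_poly_inf' P hP (ne_zero_of_natDegree_gt hd)]
    omega

lemma ell_inf {P : Place k (RatFunc k)} (hP : P.ord (RatFunc.X : RatFunc k) < 0) (n : ℕ) :
    ell (Finsupp.single P (n : ℤ)) = n + 1 := by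
  classical
  set φ : k[X] →ₗ[k] RatFunc k := (IsScalarTower.toAlgHom k k[X] (RatFunc k)).toLinearMap with hφ
  have hmap : (Polynomial.degreeLT k (n + 1)).map φ = L (Finsupp.single P (n : ℤ)) := by
    refine le_antisymm ?_ fun r hr => ?_
    · rintro _ ⟨q, hq, rfl⟩
      rcases eq_or_ne q 0 with rfl | hq0
      · rw [map_zero]; exact Submodule.zero_mem _
      rw [SetLike.mem_coe, Polynomial.mem_degreeLT, ← natDegree_lt_iff_degree_lt hq0] at hq
      show algebraMap k[X] (RatFunc k) q ∈ _
      refine (mem_L_iff (iota_ne hq0)).2 fun R => ?_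
      rcases lt_or_ge (R.ord (RatFunc.X : RatFunc k)) 0 with hR | hR
      · have hRP : R = P := by
          refine place_ext_of_le R P fun y hy => ?_
          rcases eq_or_ne y 0 with rfl | hy0
          · simp
          obtain ⟨a, b, ha, hb, rfl⟩ := exists_num_den hy0
          rw [v_le_one_iff, div_eq_mul_inv, ord_mul _ (iota_ne ha) (inv_ne_zero (iota_ne hb)), ord_inv,
            ord_poly_inf' R hR ha, ord_poly_inf' R hR hb] at hy
          rw [v_le_one_iff, div_eq_mul_inv, ord_mul _ (iota_ne ha) (inv_ne_zero (iota_ne hb)), ord_inv,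
            ord_poly_inf' P hP ha, ord_poly_inf' P hP hb]
          exact hy
        rw [hRP, Finsupp.single_eq_same, ord_poly_inf' P hP hq0]
        omega
      · have h1 := ord_poly_nonneg R hR q
        rw [Finsupp.single_eq_of_ne (fun e : R = P => by rw [e] at hR; omega)]
        omega
    · rcases eq_or_ne r 0 with rfl | hr0
      · exact Submodule.zero_mem _
      have hmem := (mem_L_iff hr0).1 hr
      have hfin : ∀ R : Place k (RatFunc k), 0 ≤ R.ord (RatFunc.X : RatFunc k) → 0 ≤ R.ord r := fun R hR => by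
        have := hmem R
        rw [Finsupp.single_eq_of_ne (fun e : R = P => by rw [e] at hR; omega)] at this
        omega
      have hden : r.denom.natDegree = 0 := by
        by_contra hne
        obtain ⟨p, hp, hpd⟩ := WfDvdMonoid.exists_irreducible_factor
          (fun hu => hne (natDegree_eq_zero_of_isUnit hu)) r.denom_ne_zero
        obtain ⟨R, hR⟩ := exists_zero_of_tr fg1_ratFunc (x := algebraMap k[X] (RatFunc k) p) (fun halg => by
          obtain ⟨c, hc⟩ := (isFunctionField_ratFunc (k := k)).2 _ halg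
          rw [IsScalarTower.algebraMap_apply k k[X] (RatFunc k)] at hc
          exact hp.natDegree_pos.ne' ((RatFunc.algebraMap_injective k hc) ▸ natDegree_C c))
        have hv : R.1 (algebraMap k[X] (RatFunc k) p) < 1 := (v_lt_one_iff R (iota_ne hp.ne_zero)).2 hR
        have hnum : ¬ p ∣ r.num := fun h => hp.not_isUnit ((r.isCoprime_num_denom).isUnit_of_dvd' h hpd)
        have := hfin R (fin_of_irreducible hp hv)
        rw [← r.num_div_denom, div_eq_mul_inv, ord_mul R (iota_ne (RatFunc.num_ne_zero hr0))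
          (inv_ne_zero (iota_ne r.denom_ne_zero)), ord_inv, ord_eq_zero_of_not_dvd hp hv hnum] at this
        have := (pos_iff_dvd hp hv r.denom_ne_zero).2 hpd
        omega
      have h1 : r.denom = 1 := r.monic_denom.natDegree_eq_zero.1 hden
      have hr' : r = algebraMap k[X] (RatFunc k) r.num := by
        conv_lhs => rw [← r.num_div_denom, h1, map_one, div_one]
      refine ⟨r.num, ?_, hr'.symm⟩
      rw [SetLike.mem_coe, Polynomial.mem_degreeLT, ← natDegree_lt_iff_degree_lt (RatFunc.num_ne_zero hr0)]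
      have := hmem P
      rw [Finsupp.single_eq_same, hr', ord_poly_inf' P hP (RatFunc.num_ne_zero hr0)] at this
      omega
  have hinj : Function.Injective φ := RatFunc.algebraMap_injective k
  rw [ell, ← hmap, ← (Submodule.equivMapOfInjective φ hinj _).finrank_eq, (Polynomial.degreeLTEquiv k (n + 1)).finrank_eq,
    Module.finrank_fin_fun]

lemma genus_ratFunc : genus k (RatFunc k) = 0 := by
  obtain ⟨P, hP⟩ := exists_infPlace (k := k)
  have hd : Divisor.deg (Finsupp.single P ((2 * genus k (RatFunc k) : ℕ) : ℤ)) = (2 * genus k (RatFunc k) : ℕ) := by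
    rw [deg_single, (inf_ord_deg P hP).2]; simp
  have h := ell_eq_of_deg_ge isFunctionField_ratFunc (D := Finsupp.single P ((2 * genus k (RatFunc k) : ℕ) : ℤ))
    (by rw [hd]; omega)
  rw [ell_inf hP, hd] at h
  omega

variable {K : Type*} [Field K] [Algebra k K] [Algebra (RatFunc k) K] [IsScalarTower k (RatFunc k) K]

lemma v_base_le_iff {Q : Place k K} {P : Place k (RatFunc k)} {e : ℕ} (hQ : IsOverWith Q P e) (a : RatFunc k) (m : ℤ) :
    Q.1 (algebraMap (RatFunc k) K a) ≤ exp ((e : ℤ) * m) ↔ P.1 a ≤ exp m := by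
  rcases eq_or_ne a 0 with rfl | ha
  · simp
  obtain ⟨he, hord⟩ := isOverWith_iff_ord.1 hQ
  rw [v_le_exp_iff Q ((_root_.map_ne_zero _).2 ha), v_le_exp_iff P ha, hord a ha]
  have he' : (0 : ℤ) < e := by exact_mod_cast he
  constructor <;> intro h <;> nlinarith

variable (hdeg : finrank (RatFunc k) K = 2)
include hdeg

/-- If `L` of a conorm splits along `1, y`, the genus is the degree of the shift minus one. -/
theorem genus_of_split (hK : IsFunctionField k K) {y : K} (hy : y ∉ Set.range (algebraMap (RatFunc k) K)) {v g : RatFunc k}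
    (heq : y ^ 2 + algebraMap (RatFunc k) K v * y = algebraMap (RatFunc k) K g) (D : Divisor k (RatFunc k))
    (h : ∀ (P : Place k (RatFunc k)) (m : ℤ) (a b : RatFunc k),
      (∀ (Q : Place k K) (e : ℕ), IsOverWith Q P e →
        Q.1 (algebraMap (RatFunc k) K a + algebraMap (RatFunc k) K b * y) ≤ exp ((e : ℤ) * m)) ↔
      P.1 a ≤ exp m ∧ P.1 b ≤ exp (m - D P)) :
    (genus k K : ℤ) = D.deg - 1 := by
  have : FiniteDimensional (RatFunc k) K := Module.finite_of_finrank_eq_succ hdeg
  have hR := isFunctionField_ratFunc (k := k)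
  obtain ⟨Pi, hPi⟩ := exists_infPlace (k := k)
  set n : ℕ := 2 * genus k K + D.deg.natAbs + 1 with hn
  set E : Divisor k (RatFunc k) := Finsupp.single Pi (n : ℤ) with hE
  have hdE : E.deg = n := by rw [hE, deg_single, (inf_ord_deg Pi hPi).2]; simp
  have hmem : ∀ a b : RatFunc k, algebraMap (RatFunc k) K a + algebraMap (RatFunc k) K b * y ∈ L (conorm K E) ↔
      a ∈ L E ∧ b ∈ L (E - D) := by
    intro a b
    have hR1 := fg1_ratFunc (k := k)
    constructor
    · intro hmem
      have key := fun P => (h P (E P) a b).1 fun Q e hQ => by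
        have := hmem Q
        rw [conorm_apply hR1, (under_eq hR1 hQ).1, (under_eq hR1 hQ).2, mul_comm (E P)] at this
        exact this
      exact ⟨fun P => (key P).1, fun P => by rw [Finsupp.sub_apply]; exact (key P).2⟩
    · rintro ⟨ha, hb⟩ Q
      rw [conorm_apply hR1, mul_comm (E _)]
      refine (h (underPlace hR1 Q) (E _) a b).2 ⟨ha _, ?_⟩ Q _ (isOverWith_under hR1 Q)
      have := hb (underPlace hR1 Q)
      rwa [Finsupp.sub_apply] at this
  let ψ : ↥(L E) × ↥(L (E - D)) →ₗ[k] K :=
    { toFun := fun z => algebraMap (RatFunc k) K z.1.1 + algebraMap (RatFunc k) K z.2.1 * y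
      map_add' := fun z w => by simp only [Prod.fst_add, Prod.snd_add, Submodule.coe_add, map_add]; ring
      map_smul' := fun c z => by
        simp only [Prod.smul_fst, Prod.smul_snd, Submodule.coe_smul, Algebra.smul_def, map_mul,
          ← IsScalarTower.algebraMap_apply k (RatFunc k) K, RingHom.id_apply]
        ring }
  have hinj : Function.Injective ψ := by
    rw [← LinearMap.ker_eq_bot, LinearMap.ker_eq_bot']
    rintro ⟨⟨a, ha⟩, ⟨b, hb⟩⟩ hz
    change algebraMap (RatFunc k) K a + algebraMap (RatFunc k) K b * y = 0 at hz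
    have hb0 : b = 0 := by
      by_contra hb0
      refine hy ⟨-a / b, ?_⟩
      rw [map_div₀, map_neg, div_eq_iff ((_root_.map_ne_zero _).2 hb0)]
      linear_combination -hz
    subst hb0
    rw [map_zero, zero_mul, add_zero, map_eq_zero] at hz
    subst hz
    rfl
  have hrange : LinearMap.range ψ = L (conorm K E) := by
    refine le_antisymm ?_ fun t ht => ?_
    · rintro _ ⟨⟨⟨a, ha⟩, ⟨b, hb⟩⟩, rfl⟩
      exact (hmem a b).2 ⟨ha, hb⟩
    · obtain ⟨a, b, rfl⟩ := (minpoly_quad hdeg hy heq).2.1 t
      obtain ⟨ha, hb⟩ := (hmem a b).1 ht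
      exact ⟨(⟨a, ha⟩, ⟨b, hb⟩), rfl⟩
  have := finiteDimensional_L hR.1 E
  have := finiteDimensional_L hR.1 (E - D)
  have hsum : ell (conorm K E) = ell E + ell (E - D) := by
    show finrank k ↥(L (conorm K E)) = _
    rw [← hrange, LinearMap.finrank_range_of_inj hinj, finrank_prod]
    rfl
  have h1 := ell_eq_of_deg_ge hK (D := conorm K E) (by rw [deg_conorm hR.1, hdeg, hdE]; push_cast; omega)
  have h2 := ell_eq_of_deg_ge hR (D := E - D) (by rw [deg_sub, hdE, genus_ratFunc]; omega)
  have h3 := ell_eq_of_deg_ge hR (D := E) (by rw [hdE, genus_ratFunc]; omega)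
  rw [deg_conorm hR.1, hdeg, hdE, hsum] at h1
  rw [deg_sub, hdE, genus_ratFunc] at h2
  rw [hdE, genus_ratFunc] at h3
  push_cast at h1
  omega

/-- local splitting for a square root -/
lemma split_sqrt (h2 : ringChar k ≠ 2) {y : K} (hy : y ∉ Set.range (algebraMap (RatFunc k) K)) {f : RatFunc k}
    (heq : y ^ 2 = algebraMap (RatFunc k) K f) (P : Place k (RatFunc k)) (m : ℤ) (a b : RatFunc k) :
    (∀ (Q : Place k K) (e : ℕ), IsOverWith Q P e →
      Q.1 (algebraMap (RatFunc k) K a + algebraMap (RatFunc k) K b * y) ≤ exp ((e : ℤ) * m)) ↔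
    P.1 a ≤ exp m ∧ P.1 b ≤ exp (m - -(P.ord f / 2)) := by
  have : FiniteDimensional (RatFunc k) K := Module.finite_of_finrank_eq_succ hdeg
  have hy0 : y ≠ 0 := fun e0 => hy ⟨0, by rw [e0, map_zero]⟩
  have hf0 : f ≠ 0 := fun e0 => hy0 (by rw [e0, map_zero] at heq; exact (pow_eq_zero_iff two_ne_zero).1 heq)
  constructor
  · intro h
    obtain ⟨σ, hσ⟩ := exists_conj hdeg hy (a := (0 : RatFunc k)) (g := f) (by rw [map_zero, zero_mul, add_zero, heq])
    obtain ⟨Q, hQ⟩ := exists_overs (K' := K) (fg1_ratFunc (k := k)) P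
    set e := underIdx (fg1_ratFunc (k := k)) Q with he
    have ht := h Q e hQ
    have hst := h (placeMap σ Q) e (isOverWith_placeMap hQ σ)
    rw [placeMap_v, map_add σ, map_mul σ, AlgEquiv.commutes, AlgEquiv.commutes, hσ, map_zero, neg_zero, zero_sub] at hst
    refine ⟨(v_base_le_iff hQ a m).1 ?_, ?_⟩
    · have h' := (Q.1.map_add _ _).trans (max_le ht hst)
      rw [show algebraMap (RatFunc k) K a + algebraMap (RatFunc k) K b * y + (algebraMap (RatFunc k) K a + algebraMap (RatFunc k) K b * -y)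
        = 2 * algebraMap (RatFunc k) K a by ring, map_mul, v_two h2, one_mul] at h'
      exact h'
    · have h' := (Q.1.map_sub _ _).trans (max_le ht hst)
      rw [show algebraMap (RatFunc k) K a + algebraMap (RatFunc k) K b * y - (algebraMap (RatFunc k) K a + algebraMap (RatFunc k) K b * -y)
        = 2 * (algebraMap (RatFunc k) K b * y) by ring, map_mul, v_two h2, one_mul] at h'
      rcases eq_or_ne b 0 with rfl | hb
      · simp
      obtain ⟨hpos, hord⟩ := isOverWith_iff_ord.1 hQ
      rw [v_le_exp_iff Q (mul_ne_zero ((_root_.map_ne_zero _).2 hb) hy0), ord_mul Q ((_root_.map_ne_zero _).2 hb) hy0, hord b hb] at h'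
      rw [v_le_exp_iff P hb]
      have h2y := two_mul_ord hf0 heq hQ
      have he' : (0 : ℤ) < e := by exact_mod_cast hpos
      have : 0 ≤ 2 * P.ord b + P.ord f + 2 * m := by nlinarith
      omega
  · rintro ⟨ha, hb⟩ Q e hQ
    refine (Q.1.map_add _ _).trans (max_le ((v_base_le_iff hQ a m).2 ha) ?_)
    rcases eq_or_ne b 0 with rfl | hb0
    · simp
    obtain ⟨hpos, hord⟩ := isOverWith_iff_ord.1 hQ
    rw [v_le_exp_iff Q (mul_ne_zero ((_root_.map_ne_zero _).2 hb0) hy0), ord_mul Q ((_root_.map_ne_zero _).2 hb0) hy0, hord b hb0]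
    rw [v_le_exp_iff P hb0] at hb
    have h2y := two_mul_ord hf0 heq hQ
    have he' : (0 : ℤ) < e := by exact_mod_cast hpos
    have hge : (2 * (P.ord f / 2)) ≤ P.ord f := by omega
    nlinarith [mul_le_mul_of_nonneg_left hge he'.le, mul_nonneg he'.le (show (0 : ℤ) ≤ P.ord b + P.ord f / 2 + m by omega)]

/-- local splitting for an Artin-Schreier root -/
lemma split_as (h2 : ringChar k = 2) {y : K} (hy : y ∉ Set.range (algebraMap (RatFunc k) K)) {f : RatFunc k}
    (heq : y ^ 2 + y = algebraMap (RatFunc k) K f) (P : Place k (RatFunc k)) (hodd : P.ord f < 0 → Odd (P.ord f))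
    (m : ℤ) (a b : RatFunc k) :
    (∀ (Q : Place k K) (e : ℕ), IsOverWith Q P e →
      Q.1 (algebraMap (RatFunc k) K a + algebraMap (RatFunc k) K b * y) ≤ exp ((e : ℤ) * m)) ↔
    P.1 a ≤ exp m ∧ P.1 b ≤ exp (m - if P.ord f < 0 then (1 - P.ord f) / 2 else 0) := by
  have : FiniteDimensional (RatFunc k) K := Module.finite_of_finrank_eq_succ hdeg
  have hK1 := fg1_ratFunc (k := k)
  have hc2 : CharP k 2 := ringChar.of_eq h2
  have hK2 : (2 : K) = 0 := by
    rw [← map_ofNat (algebraMap k K) 2, show (2 : k) = 0 by exact_mod_cast CharP.cast_eq_zero k 2, map_zero]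
  have hy0 : y ≠ 0 := fun e => hy ⟨0, by rw [e, map_zero]⟩
  by_cases hneg : P.ord f < 0
  · rw [if_pos hneg]
    have hf0 : f ≠ 0 := fun e => by rw [e, ord_zero] at hneg; omega
    have key : ∀ (Q : Place k K) (e : ℕ), IsOverWith Q P e → e = 2 ∧ Q.ord y = P.ord f := by
      intro Q e hQ
      have hgt : 1 < Q.1 y := by
        by_contra hle
        have h2' : 1 < Q.1 (algebraMap (RatFunc k) K f) := not_le.1 fun hh => by
          have := (v_le_one_iff P f).1 ((isOverWith_le_one_iff hQ f).1 hh)
          omega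
        rw [← heq] at h2'
        refine absurd h2' (not_lt.2 ((Q.1.map_add _ _).trans (max_le ?_ (not_lt.1 hle))))
        rw [map_pow]; exact pow_le_one₀ zero_le (not_lt.1 hle)
      have hv : Q.1 (algebraMap (RatFunc k) K f) = Q.1 (y ^ 2) := by
        rw [← heq]
        exact Valuation.map_add_eq_of_lt_left _ (by rw [map_pow, sq]; exact lt_mul_of_one_lt_left (zero_lt_one.trans hgt) hgt)
      have h2y : Q.ord (algebraMap (RatFunc k) K f) = 2 * Q.ord y := by
        rw [Place.ord, hv, ← Place.ord, ord_pow]; norm_num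
      rw [(isOverWith_iff_ord.1 hQ).2 f hf0] at h2y
      have hev : Even e := by
        rw [← Int.even_coe_nat]
        have : Even ((e : ℤ) * P.ord f) := ⟨Q.ord y, by omega⟩
        exact (Int.even_mul.1 this).resolve_right (Int.not_even_iff_odd.2 (hodd hneg))
      obtain rfl := idx_two_of_even hK1 hdeg hQ hev
      exact ⟨rfl, by push_cast at h2y; omega⟩
    obtain ⟨r, hr⟩ := hodd hneg
    constructor
    · intro h
      obtain ⟨Q, hQ⟩ := exists_overs (K' := K) hK1 P
      obtain ⟨he, hoy⟩ := key Q _ hQ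
      have ht := h Q _ hQ
      rw [he] at hQ ht
      rcases eq_or_ne b 0 with rfl | hb
      · refine ⟨(v_base_le_iff hQ a m).1 ?_, by simp⟩
        simpa using ht
      have hby0 : algebraMap (RatFunc k) K b * y ≠ 0 := mul_ne_zero ((_root_.map_ne_zero _).2 hb) hy0
      have hob := (isOverWith_iff_ord.1 hQ).2 b hb
      have hne : Q.1 (algebraMap (RatFunc k) K a) ≠ Q.1 (algebraMap (RatFunc k) K b * y) := by
        rcases eq_or_ne a 0 with rfl | ha
        · rw [map_zero, map_zero]; exact (v_ne_zero Q hby0).symm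
        rw [v_eq Q ((_root_.map_ne_zero _).2 ha), v_eq Q hby0, Ne, exp_inj,
          ord_mul Q ((_root_.map_ne_zero _).2 hb) hy0, hob, hoy, (isOverWith_iff_ord.1 hQ).2 a ha]
        push_cast
        omega
      rw [Valuation.map_add_of_distinct_val _ hne, max_le_iff] at ht
      refine ⟨(v_base_le_iff hQ a m).1 ht.1, ?_⟩
      have h' := ht.2
      rw [v_le_exp_iff Q hby0, ord_mul Q ((_root_.map_ne_zero _).2 hb) hy0, hob, hoy] at h'
      rw [v_le_exp_iff P hb]
      push_cast at h'
      omega
    · rintro ⟨ha, hb⟩ Q e hQ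
      obtain ⟨rfl, hoy⟩ := key Q e hQ
      refine (Q.1.map_add _ _).trans (max_le ((v_base_le_iff hQ a m).2 ha) ?_)
      rcases eq_or_ne b 0 with rfl | hb0
      · simp
      rw [v_le_exp_iff Q (mul_ne_zero ((_root_.map_ne_zero _).2 hb0) hy0), ord_mul Q ((_root_.map_ne_zero _).2 hb0) hy0,
        (isOverWith_iff_ord.1 hQ).2 b hb0, hoy]
      rw [v_le_exp_iff P hb0] at hb
      push_cast
      omega
  · rw [if_neg hneg, sub_zero]
    have hyi : ∀ (Q : Place k K) (e : ℕ), IsOverWith Q P e → Q.1 y ≤ 1 := fun Q e hQ => not_lt.1 fun h => by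
      have hf1 : Q.1 (algebraMap (RatFunc k) K f) ≤ 1 := (isOverWith_le_one_iff hQ f).2 ((v_le_one_iff P f).2 (not_lt.1 hneg))
      rw [← heq, Valuation.map_add_eq_of_lt_left _ (by rw [map_pow, sq]; exact lt_mul_of_one_lt_left (zero_lt_one.trans h) h),
        map_pow] at hf1
      exact absurd hf1 (not_le.2 (one_lt_pow₀ h two_ne_zero))
    constructor
    · intro h
      obtain ⟨σ, hσ⟩ := exists_conj hdeg hy (a := (1 : RatFunc k)) (g := f) (by rw [map_one, one_mul, heq])
      obtain ⟨Q, hQ⟩ := exists_overs (K' := K) hK1 P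
      set e := underIdx hK1 Q with he
      have ht := h Q e hQ
      have hst := h (placeMap σ Q) e (isOverWith_placeMap hQ σ)
      rw [placeMap_v, map_add σ, map_mul σ, AlgEquiv.commutes, AlgEquiv.commutes, hσ, map_one] at hst
      have hb : Q.1 (algebraMap (RatFunc k) K b) ≤ exp ((e : ℤ) * m) := by
        have h' := (Q.1.map_sub _ _).trans (max_le ht hst)
        rwa [show algebraMap (RatFunc k) K a + algebraMap (RatFunc k) K b * y - (algebraMap (RatFunc k) K a + algebraMap (RatFunc k) K b * (-1 - y))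
          = algebraMap (RatFunc k) K b by linear_combination (algebraMap (RatFunc k) K b * y) * hK2] at h'
      refine ⟨(v_base_le_iff hQ a m).1 ?_, (v_base_le_iff hQ b m).1 hb⟩
      rw [show algebraMap (RatFunc k) K a = (algebraMap (RatFunc k) K a + algebraMap (RatFunc k) K b * y) - algebraMap (RatFunc k) K b * y by ring]
      refine (Q.1.map_sub _ _).trans (max_le ht ?_)
      rw [map_mul]
      exact (mul_le_mul' hb (hyi Q e hQ)).trans_eq (mul_one _)
    · rintro ⟨ha, hb⟩ Q e hQ
      refine (Q.1.map_add _ _).trans (max_le ((v_base_le_iff hQ a m).2 ha) ?_)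
      rw [map_mul]
      exact (mul_le_mul' ((v_base_le_iff hQ b m).2 hb) (hyi Q e hQ)).trans_eq (mul_one _)

end Groth.Agent.FFLib
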