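import Groth.Agent.FFLib.DiffExp
import Groth.Agent.FFLib.QuadGenus
import Groth.Agent.FFLib.RatPoly
import Groth.Agent.FFLib.ASReduce

/-!
# Regular differentials of a hyperelliptic function field
-/

open WithZero Module Polynomial

namespace Groth.Agent.FFLib

open FunFld LocRes

variable {k : Type*} [Field k] {K : Type*} [Field K] [Algebra k K] [Algebra (RatFunc k) K] [IsScalarTower k (RatFunc k) K]
  (hdeg : finrank (RatFunc k) K = 2) (h2 : ringChar k ≠ 2) {y : K}

include hdeg in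
/-- Ramification forces the radicand to have odd order. -/
lemma odd_of_idx_two (h2 : ringChar k ≠ 2) (hy : y ∉ Set.range (algebraMap (RatFunc k) K)) {f : RatFunc k}
    (heq : y ^ 2 = algebraMap (RatFunc k) K f) {Q : Place k K} {P : Place k (RatFunc k)} (hQ : IsOverWith Q P 2) :
    Odd (P.ord f) := by
  have : FiniteDimensional (RatFunc k) K := Module.finite_of_finrank_eq_succ hdeg
  have hy0 : y ≠ 0 := fun e0 => hy ⟨0, by rw [e0, map_zero]⟩
  have hf0 : f ≠ 0 := fun e0 => hy0 (by rw [e0, map_zero] at heq; exact (pow_eq_zero_iff two_ne_zero).1 heq)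
  rw [← Int.not_even_iff_odd]
  rintro ⟨j, hj⟩
  obtain ⟨σ, hσ⟩ := exists_conj hdeg hy (a := (0 : RatFunc k)) (g := f) (by rw [map_zero, zero_mul, add_zero, heq])
  have hfix : placeMap σ Q = Q :=
    (ramified_unique (fg1_ratFunc (k := k)) hdeg hQ).2 _ ⟨_, isOverWith_placeMap hQ σ⟩
  obtain ⟨s, hs⟩ := Q.2.2 (exp (-1 : ℤ))
  obtain ⟨a, b, rfl⟩ := (minpoly_quad hdeg hy
    (show y ^ 2 + algebraMap (RatFunc k) K 0 * y = algebraMap (RatFunc k) K f by rw [map_zero, zero_mul, add_zero, heq])).2.1 s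
  have hσs : Q.1 (algebraMap (RatFunc k) K a + algebraMap (RatFunc k) K b * -y) = exp (-1 : ℤ) := by
    have h1 := hs
    rw [← hfix, placeMap_v, map_add σ, map_mul σ, AlgEquiv.commutes, AlgEquiv.commutes, hσ, map_zero, neg_zero, zero_sub] at h1
    exact h1
  have hA : Q.1 (algebraMap (RatFunc k) K a) < exp (-1 : ℤ) := by
    have h' := (Q.1.map_add _ _).trans (max_le hs.le hσs.le)
    rw [show algebraMap (RatFunc k) K a + algebraMap (RatFunc k) K b * y + (algebraMap (RatFunc k) K a + algebraMap (RatFunc k) K b * -y)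
      = 2 * algebraMap (RatFunc k) K a by ring, map_mul, v_two h2, one_mul] at h'
    refine lt_of_le_of_ne h' fun h => ?_
    rcases eq_or_ne a 0 with rfl | ha
    · rw [map_zero, map_zero] at h; exact exp_ne_zero h.symm
    rw [v_eq Q ((_root_.map_ne_zero _).2 ha), exp_inj, (isOverWith_iff_ord.1 hQ).2 a ha] at h
    push_cast at h
    omega
  have hB : Q.1 (algebraMap (RatFunc k) K b * y) = exp (-1 : ℤ) := by
    rw [← hs]
    exact (Valuation.map_add_eq_of_lt_right _ (lt_of_lt_of_le hA (by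
      by_contra hlt
      exact absurd hs.ge (not_le.2 (Valuation.map_add_lt _ hA (not_le.1 hlt)))))).symm
  rcases eq_or_ne b 0 with rfl | hb
  · rw [map_zero, zero_mul, map_zero] at hB; exact exp_ne_zero hB.symm
  rw [v_eq Q (mul_ne_zero ((_root_.map_ne_zero _).2 hb) hy0), exp_inj,
    ord_mul Q ((_root_.map_ne_zero _).2 hb) hy0, (isOverWith_iff_ord.1 hQ).2 b hb] at hB
  have h2y := two_mul_ord hf0 heq hQ
  push_cast at hB h2y
  omega

variable {f : k[X]} (hf : Squarefree f) (hd : 1 ≤ f.natDegree)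
  (heq : y ^ 2 = algebraMap (RatFunc k) K (algebraMap k[X] (RatFunc k) f))

include hdeg h2 hf hd heq

/-- The genus of the field of a square root of a squarefree polynomial. -/
theorem genus_sqrt (hK : IsFunctionField k K) : genus k K = (f.natDegree - 1) / 2 := by
  classical
  have hy := not_range_of_squarefree hf hd heq
  obtain ⟨Pi, hPi⟩ := exists_infPlace (k := k)
  set D : Divisor k (RatFunc k) := Finsupp.single Pi (-((-(f.natDegree : ℤ)) / 2)) with hD
  have hDP : ∀ P : Place k (RatFunc k), D P = -(P.ord (algebraMap k[X] (RatFunc k) f) / 2) := by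
    intro P
    rcases lt_or_ge (P.ord (RatFunc.X : RatFunc k)) 0 with hP | hP
    · rw [hD, place_eq_inf hPi hP, Finsupp.single_eq_same, ord_poly_inf' Pi hPi hf.ne_zero]
    · rw [hD, Finsupp.single_eq_of_ne (fun e : P = Pi => by rw [e] at hP; omega)]
      have h0 := ord_poly_nonneg P hP f
      by_cases hpos : 0 < P.ord (algebraMap k[X] (RatFunc k) f)
      · rw [ord_squarefree_le_one hP hf hpos]; rfl
      · rw [show P.ord (algebraMap k[X] (RatFunc k) f) = 0 by omega]; rfl
  have hg := genus_of_split hdeg hK hy (v := (0 : RatFunc k)) (g := algebraMap k[X] (RatFunc k) f)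
    (by rw [map_zero, zero_mul, add_zero, heq]) D fun P m a b => by
      rw [hDP P]
      exact split_sqrt hdeg h2 hy heq P m a b
  rw [hD, deg_single, (inf_ord_deg Pi hPi).2] at hg
  omega

/-- Regularity of `w dx / y` is a bound on `w`. -/
lemma vDiff_sqrt_iff {Q : Place k K} {P : Place k (RatFunc k)} {e : ℕ} (hQ : IsOverWith Q P e) {F : Type*} [Field F]
    [Algebra k F] {φ : K →ₐ[k] LaurentSeries F} (hφ : IsExpansionAt Q.1 φ) (w : K) :
    vDiff φ (w / y) (algebraMap (RatFunc k) K RatFunc.X) ≤ 1 ↔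
      Q.1 w ≤ exp ((e : ℤ) * if P.ord (RatFunc.X : RatFunc k) < 0 then (((f.natDegree - 1) / 2 : ℕ) : ℤ) - 1 else (0 : ℤ)) := by
  have : FiniteDimensional (RatFunc k) K := Module.finite_of_finrank_eq_succ hdeg
  have hy := not_range_of_squarefree hf hd heq
  have hy0 : y ≠ 0 := fun e0 => hy ⟨0, by rw [e0, map_zero]⟩
  have hf0 := iota_ne hf.ne_zero
  have h2y := two_mul_ord hf0 heq hQ
  have hle := (idx_deg_le (fg1_ratFunc (k := k)) hdeg hQ).2.2
  have hpos := isOverWith_pos hQ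
  have h2F : (2 : F) ≠ 0 := by
    rw [← map_ofNat (algebraMap k F) 2]
    exact (_root_.map_ne_zero _).2 (two_ne_zero' h2)
  have heF : ((e : ℤ) : F) ≠ 0 := by
    rcases (show e = 1 ∨ e = 2 by omega) with rfl | rfl
    · simp
    · simpa using h2F
  have hodd : e = 2 → Odd (P.ord (algebraMap k[X] (RatFunc k) f)) := fun he =>
    odd_of_idx_two hdeg h2 hy heq (he ▸ hQ)
  have hdiff : ∀ {d : ℤ}, Valued.v (D F (φ (algebraMap (RatFunc k) K RatFunc.X))) = exp d →
      (vDiff φ (w / y) (algebraMap (RatFunc k) K RatFunc.X) ≤ 1 ↔ Q.1 w ≤ exp (-Q.ord y - d)) := fun {d} h => by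
    rw [vDiff, map_mul, hφ.1, h, map_div₀, v_eq Q hy0, div_eq_mul_inv, ← exp_neg, neg_neg, mul_assoc, ← exp_add]
    rcases eq_or_ne w 0 with rfl | hw
    · simp
    rw [v_eq Q hw, ← exp_add, ← exp_zero, exp_le_exp, exp_le_exp]
    omega
  by_cases hP : P.ord (RatFunc.X : RatFunc k) < 0
  · have hv : Valued.v (φ (algebraMap (RatFunc k) K RatFunc.X)) = exp (-(-(e : ℤ))) := by
      rw [hφ.1, hQ, v_eq P RatFunc.X_ne_zero, (inf_ord_deg P hP).1, ← exp_nsmul, nsmul_eq_mul]
      ring_nf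
    rw [if_pos hP, hdiff (DiffExp.v_D_eq hv (by rw [Int.cast_neg, neg_ne_zero]; exact heF))]
    rw [ord_poly_inf' P hP hf.ne_zero] at h2y hodd
    rcases (show e = 1 ∨ e = 2 by omega) with rfl | rfl
    · rw [show -Q.ord y - -(-((1 : ℕ) : ℤ) - 1) = ((1 : ℕ) : ℤ) * ((((f.natDegree - 1) / 2 : ℕ) : ℤ) - 1) by
        push_cast at h2y ⊢; omega]
    · obtain ⟨r, hr⟩ := hodd rfl
      rw [show -Q.ord y - -(-((2 : ℕ) : ℤ) - 1) = ((2 : ℕ) : ℤ) * ((((f.natDegree - 1) / 2 : ℕ) : ℤ) - 1) by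
        push_cast at h2y ⊢; omega]
  · rw [if_neg hP, mul_zero]
    obtain ⟨p, hp, hpv⟩ := exists_irreducible P (not_lt.1 hP)
    have hvπ : Valued.v (φ (algebraMap (RatFunc k) K (algebraMap k[X] (RatFunc k) p))) = exp (-(e : ℤ)) := by
      rw [hφ.1, hQ, v_eq P (iota_ne hp.ne_zero), ord_irreducible hp hpv, ← exp_nsmul, nsmul_eq_mul]
      ring_nf
    have hDπ := DiffExp.v_D_eq hvπ heF
    rw [← aeval_ratX p, ← Polynomial.aeval_algebraMap_apply] at hDπ
    have hchain : D F (φ (aeval (algebraMap (RatFunc k) K RatFunc.X) p)) =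
        φ (aeval (algebraMap (RatFunc k) K RatFunc.X) (derivative p)) * D F (φ (algebraMap (RatFunc k) K RatFunc.X)) :=
      DiffExp.deriv_eq φ (by rw [← Derivation.map_aeval])
    rw [hchain, map_mul, hφ.1, Polynomial.aeval_algebraMap_apply, aeval_ratX] at hDπ
    have hp' : derivative p ≠ 0 := fun h0 => by
      rw [h0, map_zero, map_zero, map_zero, zero_mul] at hDπ
      exact exp_ne_zero hDπ.symm
    have hnd : ¬ p ∣ derivative p := fun h =>
      not_lt.2 (natDegree_le_of_dvd h hp') (natDegree_derivative_lt hp.natDegree_pos.ne')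
    rw [hQ, v_eq P (iota_ne hp'), ord_eq_zero_of_not_dvd hp hpv hnd, neg_zero, exp_zero, one_pow, one_mul] at hDπ
    rw [hdiff hDπ]
    have h0 := ord_poly_nonneg P (not_lt.1 hP) f
    have h1 : P.ord (algebraMap k[X] (RatFunc k) f) ≤ 1 := by
      by_contra h
      have := ord_squarefree_le_one (not_lt.1 hP) hf (by omega)
      omega
    rcases (show e = 1 ∨ e = 2 by omega) with rfl | rfl
    · rw [show -Q.ord y - -(((1 : ℕ) : ℤ) - 1) = 0 by push_cast at h2y ⊢; omega]
    · obtain ⟨r, hr⟩ := hodd rfl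
      rw [show -Q.ord y - -(((2 : ℕ) : ℤ) - 1) = 0 by push_cast at h2y ⊢; omega]

/-- The basis of the regular differentials. -/
theorem hyperelliptic_regular (hK : IsFunctionField k K) (F : Place k K → Type*) [∀ Q, Field (F Q)]
    [∀ Q, Algebra k (F Q)] (φ : ∀ Q, K →ₐ[k] LaurentSeries (F Q)) (hφ : ∀ Q, IsExpansionAt Q.1 (φ Q)) :
    (∀ i : ℕ, i < genus k K → ∀ Q, vDiff (φ Q) (algebraMap (RatFunc k) K RatFunc.X ^ i / y)
        (algebraMap (RatFunc k) K RatFunc.X) ≤ 1) ∧
      ∀ z : K, (∀ Q, vDiff (φ Q) z (algebraMap (RatFunc k) K RatFunc.X) ≤ 1) →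
        ∃ a : k[X], a.degree < (genus k K : WithBot ℕ) ∧
          z = algebraMap (RatFunc k) K (algebraMap k[X] (RatFunc k) a) / y := by
  have : FiniteDimensional (RatFunc k) K := Module.finite_of_finrank_eq_succ hdeg
  have hy := not_range_of_squarefree hf hd heq
  have hy0 : y ≠ 0 := fun e0 => hy ⟨0, by rw [e0, map_zero]⟩
  rw [genus_sqrt hdeg h2 hf hd heq hK]
  set g := (f.natDegree - 1) / 2 with hg
  refine ⟨fun i hi Q => ?_, fun z hz => ?_⟩
  · have hQ := isOverWith_under (fg1_ratFunc (k := k)) Q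
    rw [vDiff_sqrt_iff hdeg h2 hf hd heq hQ (hφ Q), ← map_pow, v_base_le_iff hQ, map_pow]
    set P := underPlace (fg1_ratFunc (k := k)) Q
    by_cases hP : P.ord (RatFunc.X : RatFunc k) < 0
    · rw [if_pos hP, v_eq P RatFunc.X_ne_zero, (inf_ord_deg P hP).1, ← exp_nsmul, nsmul_eq_mul, exp_le_exp]
      omega
    · rw [if_neg hP, exp_zero]
      exact pow_le_one' ((v_le_one_iff P _).2 (not_lt.1 hP)) i
  obtain ⟨a, b, hab⟩ := (minpoly_quad hdeg hy
    (show y ^ 2 + algebraMap (RatFunc k) K 0 * y = algebraMap (RatFunc k) K (algebraMap k[X] (RatFunc k) f) by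
      rw [map_zero, zero_mul, add_zero, heq])).2.1 (z * y)
  have key := fun P : Place k (RatFunc k) =>
    (split_sqrt hdeg h2 hy heq P (if P.ord (RatFunc.X : RatFunc k) < 0 then (g : ℤ) - 1 else 0) a b).1 fun Q e hQ => by
      rw [← hab]
      refine (vDiff_sqrt_iff hdeg h2 hf hd heq hQ (hφ Q) _).1 ?_
      rw [mul_div_cancel_right₀ _ hy0]
      exact hz Q
  obtain ⟨Pi, hPi⟩ := exists_infPlace (k := k)
  obtain ⟨qa, rfl⟩ := mem_poly_of_fin (r := a) fun P hP => by
    have := (key P).1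
    rwa [if_neg (not_lt.2 hP), exp_zero] at this
  obtain ⟨qb, rfl⟩ := mem_poly_of_fin (r := b) fun P hP => by
    have := (key P).2
    rw [if_neg (not_lt.2 hP)] at this
    refine this.trans ?_
    rw [← exp_zero, exp_le_exp]
    have h0 := ord_poly_nonneg P hP f
    by_cases hpos : 0 < P.ord (algebraMap k[X] (RatFunc k) f)
    · rw [ord_squarefree_le_one hP hf hpos]; norm_num
    · rw [show P.ord (algebraMap k[X] (RatFunc k) f) = 0 by omega]; norm_num
  obtain ⟨ha, hb⟩ := key Pi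
  rw [if_pos hPi] at ha hb
  have hqb : qb = 0 := by
    by_contra hne
    rw [v_le_exp_iff Pi (iota_ne hne), ord_poly_inf' Pi hPi hne, ord_poly_inf' Pi hPi hf.ne_zero] at hb
    omega
  refine ⟨qa, ?_, ?_⟩
  · rcases eq_or_ne qa 0 with rfl | hne
    · rw [degree_zero]; exact WithBot.bot_lt_coe _
    rw [← natDegree_lt_iff_degree_lt hne]
    rw [v_le_exp_iff Pi (iota_ne hne), ord_poly_inf' Pi hPi hne] at ha
    omega
  · rw [hqb, map_zero, map_zero, zero_mul, add_zero] at hab
    rw [← hab, mul_div_cancel_right₀ _ hy0]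

end Groth.Agent.FFLib
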