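import Groth.Agent.FFLib.RR
import Groth.Agent.S10982

/-!
# Quadratic extensions of `k(t)`: the pole filtration and the equation
-/

open Polynomial WithZero Module

namespace Groth.Agent.FFLib

open FunFld

variable {k K : Type*} [Field k] [Field K] [Algebra k K] (hK : IsFunctionField k K) {t : K} (ht : Transcendental k t)

include hK in
/-- Polynomials in `t` of degree at most `n` have bounded poles. -/
lemma aeval_mem_L_pole (p : k[X]) (n : ℕ) (hp : p.natDegree ≤ n) : aeval t p ∈ L (n • pole (k := k) t) := by
  rw [aeval_eq_sum_range' (Nat.lt_succ_of_le hp)]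
  refine sum_mem fun i hi => Submodule.smul_mem _ _ fun P => ?_
  rw [map_pow, Finsupp.smul_apply, nsmul_eq_mul]
  have hi' := Nat.lt_succ_iff.1 (Finset.mem_range.1 hi)
  have h0 : 0 ≤ pole (k := k) t P := pole_nonneg t P
  by_cases ht1 : P.1 t ≤ 1
  · exact (pow_le_one₀ zero_le ht1).trans (by rw [← exp_zero, exp_le_exp]; positivity)
  · have hne : t ≠ 0 := fun h => ht1 (by rw [h, map_zero]; exact zero_le)
    have hord : P.ord t < 0 := (one_lt_v_iff P t).1 (not_le.1 ht1)
    rw [v_eq P hne, ← exp_nsmul, exp_le_exp, nsmul_eq_mul]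
    have : -P.ord t ≤ pole (k := k) t P := by simp only [pole, Finsupp.mapRange_apply]; rw [div_apply hK.1]; omega
    calc (i : ℤ) * -P.ord t ≤ (i : ℤ) * pole (k := k) t P := mul_le_mul_of_nonneg_left this (by positivity)
      _ ≤ (n : ℤ) * pole (k := k) t P := mul_le_mul_of_nonneg_right (by exact_mod_cast hi') h0

include ht in
/-- Evaluation at a transcendental element is injective. -/
lemma aeval_inj : Function.Injective (aeval t : k[X] →ₐ[k] K) :=
  transcendental_iff_injective.1 ht

include hK ht in
/-- A rational function of `t` with poles only at those of `t` is a polynomial. -/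
lemma exists_aeval_of_mem_L {u : K} (hu : u ∈ IntermediateField.adjoin k ({t} : Set K)) {n : ℕ}
    (hmem : u ∈ L (n • pole (k := k) t)) : ∃ p : k[X], p.natDegree ≤ n ∧ aeval t p = u := by
  obtain ⟨a, b, rfl⟩ := (IntermediateField.mem_adjoin_simple_iff k _).1 hu
  by_cases hb : aeval t b = 0
  · exact ⟨0, by simp, by rw [hb, div_zero, map_zero]⟩
  have hb0 : b ≠ 0 := fun h => hb (by rw [h, map_zero])
  classical
  obtain ⟨a', b', c', hrel, ha', hb'⟩ := UniqueFactorizationMonoid.exists_reduced_factors' a b hb0
  have hab : IsCoprime a' b' := hrel.isCoprime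
  have hg : aeval t c' ≠ 0 := fun h => hb (by rw [← hb', map_mul, h, zero_mul])
  have hu' : aeval t a / aeval t b = aeval t a' / aeval t b' := by
    rw [← ha', ← hb', map_mul, map_mul, mul_div_mul_left _ _ hg]
  rw [hu'] at hmem ⊢
  have hb'0 : b' ≠ 0 := fun h => hb0 (by rw [← hb', h, mul_zero])
  have hdeg : b'.natDegree = 0 := by
    by_contra hne
    obtain ⟨q, hq, hqb⟩ := WfDvdMonoid.exists_irreducible_factor
      (fun hu => hne (natDegree_eq_zero_of_isUnit hu)) hb'0
    have hqt : Transcendental k (aeval t q) := transcendental_iff.2 fun p hp => by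
      rw [← aeval_comp] at hp
      have h0 : p.comp q = 0 := aeval_inj ht (by rw [hp, map_zero])
      rcases comp_eq_zero_iff.1 h0 with h | ⟨-, h⟩
      · exact h
      · exact absurd (by rw [h, natDegree_C]) hq.natDegree_pos.ne'
    obtain ⟨P, hP⟩ := exists_zero_of_tr hK.1 hqt
    have hq0 : aeval t q ≠ 0 := fun h => by rw [h, ord_zero] at hP; exact lt_irrefl _ hP
    have htP : P.1 t ≤ 1 := by
      by_contra h
      push Not at h
      have hlt : P.1 (aeval t q.eraseLead) < P.1 (algebraMap k K q.leadingCoeff * t ^ q.natDegree) := by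
        rw [map_mul, v_const P (leadingCoeff_ne_zero.2 hq.ne_zero), one_mul, map_pow, aeval_eq_sum_range]
        refine P.1.map_sum_lt (pow_ne_zero _ (ne_of_gt (lt_trans zero_lt_one h))) fun i hi => ?_
        refine (v_smul_le P _ _).trans_lt ?_
        rw [map_pow]
        refine pow_lt_pow_right₀ h ?_
        have h1 := eraseLead_natDegree_le q
        have h2 := Finset.mem_range.1 hi
        have h3 := hq.natDegree_pos
        omega
      have he : aeval t q = aeval t q.eraseLead + algebraMap k K q.leadingCoeff * t ^ q.natDegree := by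
        conv_lhs => rw [← eraseLead_add_monomial_natDegree_leadingCoeff q]
        rw [map_add, aeval_monomial]
      have hv := P.1.map_add_eq_of_lt_right hlt
      rw [← he, map_mul, v_const P (leadingCoeff_ne_zero.2 hq.ne_zero), one_mul, map_pow] at hv
      have := (v_lt_one_iff P hq0).2 hP
      rw [hv] at this
      exact absurd this (not_lt.2 (one_le_pow₀ h.le))
    have hint : ∀ p : k[X], P.1 (aeval t p) ≤ 1 := fun p => by
      rw [aeval_eq_sum_range]
      refine P.1.map_sum_le fun i _ => (v_smul_le P _ _).trans ?_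
      rw [map_pow]
      exact pow_le_one₀ zero_le htP
    obtain ⟨α, β, hαβ⟩ := hab
    have hb1 : P.1 (aeval t b') < 1 := by
      obtain ⟨c, rfl⟩ := hqb
      rw [map_mul, map_mul]
      exact (mul_le_of_le_one_right' (hint c)).trans_lt ((v_lt_one_iff P hq0).2 hP)
    have ha1 : P.1 (aeval t a') = 1 := by
      refine le_antisymm (hint a') (not_lt.1 fun h => ?_)
      have h1 := congrArg (fun z => P.1 (aeval t z)) hαβ
      simp only [map_add, map_mul, map_one] at h1
      refine absurd h1 (ne_of_lt ((P.1.map_add _ _).trans_lt (max_lt ?_ ?_)))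
      · rw [map_mul]; exact (mul_le_of_le_one_left' (hint α)).trans_lt h
      · rw [map_mul]; exact (mul_le_of_le_one_left' (hint β)).trans_lt hb1
    have hD : (n • pole (k := k) t) P = 0 := by
      rw [Finsupp.smul_apply, pole_apply hK.1]
      have := (v_le_one_iff P t).1 htP
      rw [max_eq_right (by omega), smul_zero]
    have h := hmem P
    rw [hD, exp_zero, map_div₀, ha1, one_div, inv_le_one₀ ?_] at h
    · exact absurd h (not_le.2 hb1)
    · exact zero_lt_iff.2 (v_ne_zero P (fun e => hb'0 (aeval_inj ht (by rw [e, map_zero]))))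
  obtain ⟨c, hc⟩ := natDegree_eq_zero.1 hdeg
  have hc0 : c ≠ 0 := fun h => hb'0 (by rw [← hc, h, C_0])
  have hval : aeval t a' / aeval t b' = aeval t (C c⁻¹ * a') := by
    rw [← hc, map_mul, aeval_C, aeval_C, map_inv₀, div_eq_mul_inv, mul_comm]
  rw [hval] at hmem ⊢
  refine ⟨_, ?_, rfl⟩
  by_contra hn
  push Not at hn
  set p := C c⁻¹ * a'
  have hp0 : p ≠ 0 := fun h => by rw [h, natDegree_zero] at hn; exact absurd hn (by omega)
  obtain ⟨P, hP⟩ := exists_pole_of_tr hK.1 ht
  have h1 : 1 < P.1 t := (one_lt_v_iff P t).2 hP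
  have hv : P.1 (aeval t p) = P.1 t ^ p.natDegree := by
    have hlt : P.1 (aeval t p.eraseLead) < P.1 (algebraMap k K p.leadingCoeff * t ^ p.natDegree) := by
      rw [map_mul, v_const P (leadingCoeff_ne_zero.2 hp0), one_mul, map_pow, aeval_eq_sum_range]
      refine P.1.map_sum_lt (pow_ne_zero _ (ne_of_gt (lt_trans zero_lt_one h1))) fun i hi => ?_
      refine (v_smul_le P _ _).trans_lt ?_
      rw [map_pow]
      refine pow_lt_pow_right₀ h1 ?_
      have h1 := eraseLead_natDegree_le p
      have h2 := Finset.mem_range.1 hi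
      omega
    have he : aeval t p = aeval t p.eraseLead + algebraMap k K p.leadingCoeff * t ^ p.natDegree := by
      conv_lhs => rw [← eraseLead_add_monomial_natDegree_leadingCoeff p]
      rw [map_add, aeval_monomial]
    rw [he, P.1.map_add_eq_of_lt_right hlt, map_mul, v_const P (leadingCoeff_ne_zero.2 hp0), one_mul, map_pow]
  have h := hmem P
  have ht0 : t ≠ 0 := fun e => by rw [e, map_zero] at h1; exact absurd h1 (not_lt.2 zero_le)
  rw [hv, v_eq P ht0, ← exp_nsmul, exp_le_exp, Finsupp.smul_apply, pole_apply hK.1, max_eq_left (by omega),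
    nsmul_eq_mul, nsmul_eq_mul] at h
  have : (p.natDegree : ℤ) ≤ n := le_of_mul_le_mul_right h (by omega)
  omega

variable (h2 : finrank (IntermediateField.adjoin k ({t} : Set K)) K = 2)

include hK ht h2 in
/-- The degree of the multiples of the pole divisor of `t`. -/
lemma deg_nsmul_pole (n : ℕ) : (n • pole (k := k) t).deg = 2 * n := by
  rw [deg_nsmul, deg_pole hK.1 ht, h2]
  push_cast
  ring

/-- Pairs of polynomials against `1, y`. -/
noncomputable def polyPair (t y : K) (n r : ℕ) : degreeLT k n × degreeLT k r →ₗ[k] K :=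
  ((aeval t).toLinearMap ∘ₗ (degreeLT k n).subtype).coprod
    ((LinearMap.mulRight k y) ∘ₗ (aeval t).toLinearMap ∘ₗ (degreeLT k r).subtype)

include ht in
/-- They are independent when `y` is not a function of `t`. -/
lemma polyPair_injective {y : K} (hy : y ∉ IntermediateField.adjoin k ({t} : Set K)) (n r : ℕ) :
    Function.Injective (polyPair (k := k) t y n r) := by
  rw [← LinearMap.ker_eq_bot, LinearMap.ker_eq_bot']
  rintro ⟨⟨a, ha⟩, ⟨b, hb⟩⟩ hz
  change aeval t a + aeval t b * y = 0 at hz
  have hb0 : b = 0 := by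
    by_contra hb0
    have hbt : aeval t b ≠ 0 := fun h => hb0 (aeval_inj ht (by rw [h, map_zero]))
    refine hy ?_
    have : y = aeval t (-a) / aeval t b := by
      rw [map_neg, eq_div_iff hbt]
      linear_combination hz
    rw [this]
    exact (IntermediateField.mem_adjoin_simple_iff k _).2 ⟨-a, b, rfl⟩
  subst hb0
  rw [map_zero, zero_mul, add_zero] at hz
  obtain rfl : a = 0 := aeval_inj ht (by rw [hz, map_zero])
  rfl

omit hK in
/-- The pole filtration is multiplicative. -/
lemma mul_mem_L_pole {x y : K} {a b : ℕ} (hx : x ∈ L (a • pole (k := k) t)) (hy : y ∈ L (b • pole (k := k) t)) :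
    x * y ∈ L ((a + b) • pole (k := k) t) := fun P => by
  rw [add_smul, Finsupp.add_apply, exp_add, map_mul]
  exact mul_le_mul' (hx P) (hy P)

include hK ht h2 in
/-- The functions with poles only at those of `t`: a second generator, and the filtration in its terms. -/
lemma exists_second_generator : ∃ y : K, y ∉ IntermediateField.adjoin k ({t} : Set K) ∧
    y ∈ L ((genus k K + 1) • pole (k := k) t) ∧
    (∀ (n : ℕ) (z : K), z ∈ L (n • pole (k := k) t) →
      ∃ a b : k[X], a.natDegree ≤ max n (genus k K + 1) ∧ b.natDegree ≤ max n (genus k K + 1) - (genus k K + 1) ∧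
        z = aeval t a + aeval t b * y) ∧
    ∀ n : ℕ, n ≤ genus k K → ∀ z ∈ L (n • pole (k := k) t), z ∈ IntermediateField.adjoin k ({t} : Set K) := by
  classical
  set g := genus k K
  have hell : ∀ n : ℕ, g ≤ n → (ell (n • pole (k := k) t) : ℤ) = 2 * n + 1 - g := fun n hn => by
    have h := ell_eq_of_deg_ge hK (D := n • pole (k := k) t) (by rw [deg_nsmul_pole hK ht h2]; omega)
    rw [deg_nsmul_pole hK ht h2] at h
    exact h
  -- the least level with a new function
  have hex : ∃ m : ℕ, ∃ y ∈ L (m • pole (k := k) t), y ∉ IntermediateField.adjoin k ({t} : Set K) := by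
    refine ⟨g + 1, ?_⟩
    by_contra hno
    push Not at hno
    have hle : L ((g + 1) • pole (k := k) t) ≤
        (degreeLT k (g + 2)).map (aeval t).toLinearMap := fun z hz => by
      obtain ⟨p, hp, rfl⟩ := exists_aeval_of_mem_L hK ht (hno z hz) hz
      exact ⟨p, mem_degreeLT.2 (degree_le_natDegree.trans_lt (by exact_mod_cast Nat.lt_succ_of_le hp)), rfl⟩
    haveI : FiniteDimensional k (degreeLT k (g + 2)) := (degreeLTEquiv k (g + 2)).symm.finiteDimensional
    have h1 := (Submodule.finrank_mono hle).trans (Submodule.finrank_map_le _ _)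
    rw [(degreeLTEquiv k (g + 2)).finrank_eq, finrank_fin_fun] at h1
    have h3 := hell (g + 1) (by omega)
    rw [ell] at h3
    omega
  let m := Nat.find hex
  obtain ⟨y, hym, hy⟩ := Nat.find_spec hex
  change y ∈ L (m • pole (k := k) t) at hym
  have hmg : m ≤ g + 1 := Nat.find_min' hex (by
    by_contra hno
    push Not at hno
    obtain ⟨y', hy', hy''⟩ := hex.choose_spec
    have hle : L ((g + 1) • pole (k := k) t) ≤
        (degreeLT k (g + 2)).map (aeval t).toLinearMap := fun z hz => by
      obtain ⟨p, hp, rfl⟩ := exists_aeval_of_mem_L hK ht (hno z hz) hz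
      exact ⟨p, mem_degreeLT.2 (degree_le_natDegree.trans_lt (by exact_mod_cast Nat.lt_succ_of_le hp)), rfl⟩
    haveI : FiniteDimensional k (degreeLT k (g + 2)) := (degreeLTEquiv k (g + 2)).symm.finiteDimensional
    have h1 := (Submodule.finrank_mono hle).trans (Submodule.finrank_map_le _ _)
    rw [(degreeLTEquiv k (g + 2)).finrank_eq, finrank_fin_fun] at h1
    have h3 := hell (g + 1) (by omega)
    rw [ell] at h3
    omega)
  have hrange : ∀ n, m ≤ n → LinearMap.range (polyPair (k := k) t y (n + 1) (n - m + 1)) ≤ L (n • pole (k := k) t) := by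
    rintro n hn _ ⟨⟨⟨a, ha⟩, ⟨b, hb⟩⟩, rfl⟩
    change aeval t a + aeval t b * y ∈ _
    refine add_mem (aeval_mem_L_pole hK a n ?_) ?_
    · exact natDegree_le_iff_degree_le.2 (Order.le_of_lt_succ (mem_degreeLT.1 ha))
    · have := mul_mem_L_pole (aeval_mem_L_pole hK b (n - m)
        (natDegree_le_iff_degree_le.2 (Order.le_of_lt_succ (mem_degreeLT.1 hb)))) hym
      rwa [Nat.sub_add_cancel hn] at this
  have hdim : ∀ n, finrank k (LinearMap.range (polyPair (k := k) t y (n + 1) (n - m + 1))) = (n + 1) + (n - m + 1) := fun n => by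
    rw [LinearMap.finrank_range_of_inj (polyPair_injective ht hy _ _)]
    haveI : FiniteDimensional k (degreeLT k (n + 1)) := (degreeLTEquiv k (n + 1)).symm.finiteDimensional
    haveI : FiniteDimensional k (degreeLT k (n - m + 1)) := (degreeLTEquiv k (n - m + 1)).symm.finiteDimensional
    rw [finrank_prod, (degreeLTEquiv k (n + 1)).finrank_eq, (degreeLTEquiv k (n - m + 1)).finrank_eq,
      finrank_fin_fun, finrank_fin_fun]
  have hm : m = g + 1 := by
    haveI := finiteDimensional_L hK.1 ((g + 1) • pole (k := k) t)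
    have h1 := Submodule.finrank_mono (hrange (g + 1) hmg)
    rw [hdim] at h1
    have h3 := hell (g + 1) (by omega)
    rw [ell] at h3
    omega
  refine ⟨y, hy, hm ▸ hym, fun n z hz => ?_, fun n hn z hz => ?_⟩
  · set N := max n (g + 1)
    have hN : m ≤ N := hm ▸ le_max_right _ _
    have hzN : z ∈ L (N • pole (k := k) t) := fun P => (hz P).trans (by
      rw [exp_le_exp, Finsupp.smul_apply, Finsupp.smul_apply]
      exact nsmul_le_nsmul_left (pole_nonneg t P) (le_max_left _ _))
    haveI := finiteDimensional_L hK.1 (N • pole (k := k) t)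
    have heq : LinearMap.range (polyPair (k := k) t y (N + 1) (N - m + 1)) = L (N • pole (k := k) t) := by
      refine Submodule.eq_of_le_of_finrank_le (hrange N hN) ?_
      rw [hdim]
      have h3 := hell N (by omega)
      rw [ell] at h3
      omega
    rw [← heq] at hzN
    obtain ⟨⟨⟨a, ha⟩, ⟨b, hb⟩⟩, rfl⟩ := hzN
    refine ⟨a, b, natDegree_le_iff_degree_le.2 (Order.le_of_lt_succ (mem_degreeLT.1 ha)), ?_, rfl⟩
    exact (natDegree_le_iff_degree_le.2 (Order.le_of_lt_succ (mem_degreeLT.1 hb))).trans (le_of_eq (congrArg (N - ·) hm))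
  · by_contra hz'
    have := Nat.find_min' hex ⟨z, hz, hz'⟩
    change m ≤ n at this
    omega

include hK ht h2 in
/-- The degrees of an equation `y² = A + B y` of a second generator. -/
lemma le_degree_equation {y : K} (hy : y ∉ IntermediateField.adjoin k ({t} : Set K))
    (hlow : ∀ n : ℕ, n ≤ genus k K → ∀ z ∈ L (n • pole (k := k) t), z ∈ IntermediateField.adjoin k ({t} : Set K))
    {A B : k[X]} (heq : y ^ 2 = aeval t A + aeval t B * y) :
    2 * genus k K + 1 ≤ max (2 * B.natDegree) A.natDegree := by
  set g := genus k K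
  by_contra h
  push Not at h
  refine hy (hlow g le_rfl y fun P => ?_)
  set E := (g • pole (k := k) t) P
  have hA : P.1 (aeval t A) ≤ exp (E + E) := by
    have h1 := aeval_mem_L_pole hK A (g + g) (by omega) (t := t) P
    rwa [add_smul, Finsupp.add_apply] at h1
  have hB : P.1 (aeval t B) ≤ exp E := aeval_mem_L_pole hK B g (by omega) (t := t) P
  by_contra hgt
  push Not at hgt
  have hv : P.1 (y ^ 2) ≤ max (exp (E + E)) (exp E * P.1 y) := by
    rw [heq]
    refine (P.1.map_add _ _).trans (max_le_max hA ?_)
    rw [map_mul]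
    exact mul_le_mul_of_nonneg_right hB zero_le
  rw [map_pow, sq, exp_add] at hv
  refine absurd hv (not_le.2 (max_lt ?_ ?_))
  · exact mul_lt_mul'' hgt hgt zero_le zero_le
  · exact mul_lt_mul_of_pos_right hgt (lt_trans exp_pos hgt)

omit ht in
include h2 in
/-- `K` is generated by `t` and a function outside `k(t)`. -/
lemma adjoin_pair_eq_top {y : K} (hy : y ∉ IntermediateField.adjoin k ({t} : Set K)) :
    IntermediateField.adjoin k ({t, y} : Set K) = ⊤ := by
  set F := IntermediateField.adjoin k ({t} : Set K)
  haveI : FiniteDimensional F K := Module.finite_of_finrank_eq_succ h2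
  have htop : IntermediateField.adjoin F ({y} : Set K) = ⊤ := by
    have hd := (IntermediateField.adjoin F ({y} : Set K)).finrank_dvd_of_le_right le_top
    refine IntermediateField.eq_of_le_of_finrank_le le_top ?_
    rw [IntermediateField.finrank_top', h2]
    rcases (Nat.dvd_prime Nat.prime_two).1 (h2 ▸ IntermediateField.finrank_top' (F := F) (E := K) ▸ hd) with h | h
    · refine absurd ?_ hy
      obtain ⟨c, hc⟩ := IntermediateField.mem_bot.1
        ((IntermediateField.finrank_eq_one_iff.1 h) ▸ IntermediateField.mem_adjoin_simple_self F y)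
      exact hc ▸ c.2
    · omega
  have h1 := congrArg (IntermediateField.restrictScalars k) htop
  rw [IntermediateField.adjoin_adjoin_left, IntermediateField.restrictScalars_top, Set.singleton_union] at h1
  exact h1

end Groth.Agent.FFLib
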