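import Groth.Agent.FFLib.AdjointPlane
import Groth.Agent.FFLib.LocNonsing
import Mathlib.RingTheory.MvPolynomial.EulerIdentity
import Mathlib.Algebra.MvPolynomial.Funext
import Mathlib.Algebra.MvPolynomial.NoZeroDivisors

/-!
# The homogeneous ideal of a plane curve and its partial derivatives
-/

open WithZero Module MvPolynomial

namespace Groth.Agent.FFLib

open FunFld

variable {k K : Type*} [Field k] [Field K] [Algebra k K] {σ : Type*}

/-- The homogeneous relations read off in a graded evaluation. -/
lemma aeval_C_mul_X (φ : σ → K) (p : MvPolynomial σ k) :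
    aeval (fun i => Polynomial.C (φ i) * Polynomial.X) p =
      ∑ m ∈ Finset.range (p.totalDegree + 1),
        Polynomial.C (aeval φ (homogeneousComponent m p)) * Polynomial.X ^ m := by
  conv_lhs => rw [← sum_homogeneousComponent p]
  rw [map_sum]
  refine Finset.sum_congr rfl fun m _ => ?_
  rw [show (fun i => Polynomial.C (φ i) * Polynomial.X) =
      fun i => (Polynomial.X : Polynomial K) * Polynomial.C (φ i) from funext fun i => mul_comm _ _,
    aeval_scale (homogeneousComponent_isHomogeneous m p), mul_comm]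
  congr 1
  exact MvPolynomial.aeval_algebraMap_apply (Polynomial K) φ (homogeneousComponent m p)

lemma mem_relations_iff (φ : σ → K) (p : MvPolynomial σ k) :
    aeval (fun i => Polynomial.C (φ i) * Polynomial.X) p = 0 ↔
      ∀ m, aeval φ (homogeneousComponent m p) = 0 := by
  refine ⟨fun h m => ?_, fun h => ?_⟩
  · by_cases hm : m ∈ Finset.range (p.totalDegree + 1)
    · have := congrArg (fun q => Polynomial.coeff q m) ((aeval_C_mul_X φ p).symm.trans h)
      simp only [Polynomial.finsetSum_coeff, Polynomial.coeff_C_mul_X_pow, Polynomial.coeff_zero] at this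
      rwa [Finset.sum_ite_eq, if_pos hm] at this
    · rw [homogeneousComponent_eq_zero m p (by simpa using hm), map_zero]
  · rw [aeval_C_mul_X]
    exact Finset.sum_eq_zero fun m _ => by rw [h m, map_zero, zero_mul]

lemma aeval_C_mul_X_eq_zero {φ : σ → K} {p : MvPolynomial σ k} {m : ℕ} (hp : p.IsHomogeneous m)
    (h : aeval φ p = 0) : aeval (fun i => Polynomial.C (φ i) * Polynomial.X) p = 0 := by
  rw [show (fun i => Polynomial.C (φ i) * Polynomial.X) =
      fun i => (Polynomial.X : Polynomial K) * Polynomial.C (φ i) from funext fun i => mul_comm _ _,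
    aeval_scale hp]
  rw [show aeval (fun i => Polynomial.C (φ i)) p = Polynomial.C (aeval φ p) from
    MvPolynomial.aeval_algebraMap_apply (Polynomial K) φ p, h, map_zero, mul_zero]

/-- Homogenisation in degree `N` with respect to the variable `j`. -/
noncomputable def homAt (j : σ) (N : ℕ) (p : MvPolynomial σ k) : MvPolynomial σ k :=
  ∑ m ∈ Finset.range (N + 1), homogeneousComponent m p * X j ^ (N - m)

lemma homAt_isHomogeneous (j : σ) (N : ℕ) (p : MvPolynomial σ k) : (homAt j N p).IsHomogeneous N := by
  refine IsHomogeneous.sum _ _ _ fun m hm => ?_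
  have h := (homogeneousComponent_isHomogeneous m p).mul (isHomogeneous_X_pow (R := k) j (N - m))
  rwa [Nat.add_sub_cancel' (Nat.lt_succ_iff.1 (Finset.mem_range.1 hm))] at h

lemma sum_component_of_le {p : MvPolynomial σ k} {N : ℕ} (hN : p.totalDegree ≤ N) :
    ∑ m ∈ Finset.range (N + 1), homogeneousComponent m p = p := by
  conv_rhs => rw [← sum_homogeneousComponent p]
  refine (Finset.sum_subset (Finset.range_subset_range.2 (by omega)) fun m _ hm => ?_).symm
  exact homogeneousComponent_eq_zero m p (by simpa using hm)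

lemma aeval_homAt {R : Type*} [CommRing R] [Algebra k R] {j : σ} {N : ℕ} {p : MvPolynomial σ k}
    (hN : p.totalDegree ≤ N) {v : σ → R} (hv : v j = 1) : aeval v (homAt j N p) = aeval v p := by
  conv_rhs => rw [← sum_component_of_le hN]
  simp [homAt, map_sum, hv]

/-- A homogeneous polynomial is determined by its affine values. -/
lemma eq_zero_of_affine [Infinite k] {D : MvPolynomial σ k} {N : ℕ} (hD : D.IsHomogeneous N) (j : σ)
    (h : ∀ z : σ → k, z j = 1 → aeval z D = 0) : D = 0 := by
  have h1 : D * X j = 0 := by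
    refine MvPolynomial.funext fun z => ?_
    rcases eq_or_ne (z j) 0 with h0 | h0
    · simp [h0]
    have h2 := aeval_scale hD (z j) (fun i => z i / z j)
    rw [h (fun i => z i / z j) (div_self h0), mul_zero] at h2
    simp only [mul_div_cancel₀ _ h0] at h2
    have h3 : eval z D = 0 := h2
    simp [h3]
  exact (mul_eq_zero.1 h1).resolve_right (X_ne_zero j)

lemma aeval_deh {R : Type*} [CommRing R] [Algebra k R] (p : MvPolynomial (Fin 3) k) {v : Fin 3 → R}
    (hv : v 0 = 1) :
    aeval (v ∘ Fin.succ) (MvPolynomial.aeval (Fin.cases (1 : MvPolynomial (Fin 2) k) X) p) = aeval v p := by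
  rw [← AlgHom.comp_apply, comp_aeval]
  congr 2
  funext i
  induction i using Fin.cases with
  | zero => simp [hv]
  | succ l => simp

variable {x y : K} [Infinite k] (hK : IsFunctionField k K)
  (hxy : IntermediateField.adjoin k ({x, y} : Set K) = ⊤)
include hK hxy

/-- The affine relations form a principal prime ideal. -/
lemma exists_affine_generator : ∃ g : MvPolynomial (Fin 2) k, g ≠ 0 ∧
    MvPolynomial.aeval ![x, y] g = 0 ∧ ∀ h, MvPolynomial.aeval ![x, y] h = 0 → g ∣ h := by
  obtain ⟨M⟩ := exists_model hK hxy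
  obtain ⟨P, hP, hPd, hrel, -⟩ := M.exists_eqn hK hxy
  obtain ⟨g, hg⟩ := M.psi_surjective P
  refine ⟨g, fun e => hP.ne_zero (by rw [← hg, e, map_zero]), ?_, fun h hh => ?_⟩
  · rw [← M.ev2_psi, hg, hrel]
  · obtain ⟨q, hq⟩ := M.dvd_psi hK hxy hP hPd hrel hh
    obtain ⟨q', rfl⟩ := M.psi_surjective q
    exact ⟨q', M.psi_injective (by rw [map_mul, hg, hq])⟩

omit hK hxy [Infinite k] in
lemma totalDegree_deh_le {p : MvPolynomial (Fin 3) k} {m : ℕ} (hp : p.IsHomogeneous m) :
    (MvPolynomial.aeval (Fin.cases (1 : MvPolynomial (Fin 2) k) X) p).totalDegree ≤ m := by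
  classical
  rw [MvPolynomial.aeval_def, eval₂_eq]
  refine (totalDegree_finsetSum_le (d := m) fun d hd => ?_)
  refine (totalDegree_mul _ _).trans ?_
  rw [MvPolynomial.algebraMap_eq, totalDegree_C, zero_add]
  refine (totalDegree_finsetProd _ _).trans ?_
  rw [hp.degree_eq_sum_deg_support hd]
  refine Finset.sum_le_sum fun i _ => (totalDegree_pow _ _).trans ?_
  refine le_trans (Nat.mul_le_mul_left (d i) ?_) (mul_one (d i)).le
  induction i using Fin.cases with
  | zero => simp
  | succ l => simp

/-- The ideal of a plane curve is generated by an irreducible form. -/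
theorem exists_relations_generator : ∃ F : MvPolynomial (Fin 3) k, Irreducible F ∧
    F.IsHomogeneous F.totalDegree ∧
    RingHom.ker (MvPolynomial.aeval fun i => Polynomial.C (![(1 : K), x, y] i) * Polynomial.X) =
      Ideal.span {F} := by
  classical
  obtain ⟨g, hg0, hgxy, hg⟩ := exists_affine_generator hK hxy
  set d := g.totalDegree
  set φ := ![(1 : K), x, y]
  set G := rename (Fin.succ : Fin 2 → Fin 3) g
  have hGd : G.totalDegree ≤ d := totalDegree_rename_le _ _
  set F := homAt (0 : Fin 3) d G
  have hF : F.IsHomogeneous d := homAt_isHomogeneous _ _ _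
  have hFz : ∀ z : Fin 3 → k, z 0 = 1 → MvPolynomial.aeval z F = MvPolynomial.aeval (z ∘ Fin.succ) g :=
    fun z hz => (aeval_homAt hGd hz).trans (aeval_rename _ _ _)
  have hF0 : F ≠ 0 := fun e => hg0 (MvPolynomial.funext fun v => by
    have h1 := hFz (Fin.cases 1 v) rfl
    rw [e, map_zero] at h1
    show MvPolynomial.aeval v g = MvPolynomial.aeval v 0
    rw [map_zero]
    exact h1.symm)
  have hFφ : MvPolynomial.aeval φ F = 0 := by
    rw [aeval_homAt hGd (show φ 0 = 1 from rfl), aeval_rename,
      show φ ∘ Fin.succ = ![x, y] from funext fun i => by fin_cases i <;> rfl, hgxy]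
  have hker : RingHom.ker (MvPolynomial.aeval fun i => Polynomial.C (φ i) * Polynomial.X) = Ideal.span {F} := by
    refine le_antisymm (fun p hp => ?_) ((Ideal.span_singleton_le_iff_mem _).2 ?_)
    swap
    · exact RingHom.mem_ker.2 (aeval_C_mul_X_eq_zero hF hFφ)
    have hp' := (mem_relations_iff φ p).1 (RingHom.mem_ker.1 hp)
    rw [← sum_homogeneousComponent p]
    refine Ideal.sum_mem _ fun m _ => Ideal.mem_span_singleton.2 ?_
    set pm := homogeneousComponent m p
    have hpm : pm.IsHomogeneous m := homogeneousComponent_isHomogeneous m p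
    set dp := MvPolynomial.aeval (Fin.cases (1 : MvPolynomial (Fin 2) k) X) pm with hdp
    have hdpxy : MvPolynomial.aeval ![x, y] dp = 0 := by
      rw [show ![x, y] = φ ∘ Fin.succ from funext fun i => by fin_cases i <;> rfl, hdp, aeval_deh pm (v := φ) rfl]
      exact hp' m
    obtain ⟨q, hq⟩ := hg dp hdpxy
    rcases eq_or_ne q 0 with rfl | hq0
    · refine ⟨0, ?_⟩
      rw [mul_zero]
      refine eq_zero_of_affine hpm 0 fun z hz => ?_
      rw [← aeval_deh pm hz, ← hdp, hq, mul_zero, map_zero]
    have hdeg : d + q.totalDegree ≤ m := by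
      rw [← totalDegree_mul_of_isDomain hg0 hq0, ← hq]
      exact totalDegree_deh_le hpm
    set Q := homAt (0 : Fin 3) (m - d) (rename Fin.succ q)
    refine ⟨Q, sub_eq_zero.1 (eq_zero_of_affine (hpm.sub ?_) 0 fun z hz => ?_)⟩
    · have := hF.mul (homAt_isHomogeneous (0 : Fin 3) (m - d) (rename Fin.succ q))
      rwa [show d + (m - d) = m by omega] at this
    · rw [map_sub, map_mul, hFz z hz, ← aeval_deh pm hz, ← hdp, hq, map_mul,
        aeval_homAt ((totalDegree_rename_le _ _).trans (by omega)) hz, aeval_rename, sub_self]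
  have hprime : Prime F := by
    rw [← Ideal.span_singleton_prime hF0, ← hker]
    exact RingHom.ker_isPrime _
  exact ⟨F, hprime.irreducible, by rwa [hF.totalDegree hF0], hker⟩

omit hxy
variable {φ : Fin 3 → K} {j : Fin 3} (hj : φ j ≠ 0)
  (hgen : IntermediateField.adjoin k (Set.range fun i => φ i / φ j) = ⊤)
  {f : MvPolynomial (Fin 3) k} (hf : Irreducible f) {d : ℕ} (hd : f.IsHomogeneous d)
  (hfφ : MvPolynomial.aeval φ f = 0)
include hj hgen hf hd hfφ

/-- An irreducible form vanishing on the curve divides every such form. -/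
theorem dvd_of_aeval_eq_zero {h : MvPolynomial (Fin 3) k} {N : ℕ} (hN : h.IsHomogeneous N)
    (hh : MvPolynomial.aeval φ h = 0) : f ∣ h := by
  classical
  set e : Fin 3 ≃ Fin 3 := Equiv.swap 0 j with he
  set x := φ (e 1) / φ j with hx
  set y := φ (e 2) / φ j with hy
  have hψ : ∀ i, ![(1 : K), x, y] (e i) = φ i / φ j := by
    have h0 : ∀ i, ![(1 : K), x, y] i = φ (e i) / φ j := fun i => by
      fin_cases i
      · show 1 = φ (e 0) / φ j
        rw [he, Equiv.swap_apply_left, div_self hj]
      · rfl
      · rfl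
    intro i
    rw [h0, he, Equiv.swap_apply_self]
  have hxy : IntermediateField.adjoin k ({x, y} : Set K) = ⊤ := by
    rw [eq_top_iff, ← hgen, IntermediateField.adjoin_le_iff]
    rintro _ ⟨i, rfl⟩
    show φ i / φ j ∈ _
    rw [← hψ i]
    generalize e i = l
    fin_cases l
    · exact one_mem _
    · exact IntermediateField.subset_adjoin k _ (by simp)
    · exact IntermediateField.subset_adjoin k _ (by simp)
  obtain ⟨F, -, -, hker⟩ := exists_relations_generator hK hxy
  have key : ∀ {p : MvPolynomial (Fin 3) k} {m : ℕ}, p.IsHomogeneous m →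
      MvPolynomial.aeval φ p = 0 → F ∣ rename e p := by
    intro p m hp hpφ
    rw [← Ideal.mem_span_singleton, ← hker, RingHom.mem_ker]
    refine aeval_C_mul_X_eq_zero hp.rename_isHomogeneous ?_
    rw [aeval_rename, show (![(1 : K), x, y] ∘ e) = fun i => φ i / φ j from funext hψ]
    have h1 := aeval_scale hp (φ j) (fun i => φ i / φ j)
    simp only [mul_div_cancel₀ _ hj] at h1
    rw [hpφ] at h1
    exact (mul_eq_zero.1 h1.symm).resolve_left (pow_ne_zero _ hj)
  have hirr : Irreducible (rename e f) := (MulEquiv.irreducible_iff (renameEquiv k e).toMulEquiv).2 hf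
  have hFu : ¬ IsUnit F := fun hu => by
    have h0 : (1 : MvPolynomial (Fin 3) k) ∈ Ideal.span {F} := by
      rw [Ideal.span_singleton_eq_top.2 hu]; exact Submodule.mem_top
    rw [← hker, RingHom.mem_ker, map_one] at h0
    exact one_ne_zero h0
  obtain ⟨q, hq⟩ := key hd hfφ
  have hqu := (hirr.isUnit_or_isUnit hq).resolve_left hFu
  have h2 : rename e f ∣ rename e h := by rw [hq, hqu.mul_right_dvd]; exact key hN hh
  exact (map_dvd_iff (renameEquiv k e).toMulEquiv).1 h2

/-- Affine relations of the chart have no new first-order terms off the distinguished variable. -/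
lemma aeval_pderiv_of_relation {q : MvPolynomial (Fin 3) k}
    (hq : MvPolynomial.aeval (fun i => φ i / φ j) q = 0) {c : Fin 3 → k} (hc : c j = 1)
    (hfc : MvPolynomial.aeval c f = 0) {i : Fin 3} (hi : i ≠ j)
    (hD : MvPolynomial.aeval c (pderiv i f) = 0) : MvPolynomial.aeval c (pderiv i q) = 0 := by
  classical
  set H := homAt j q.totalDegree q
  have hψj : (fun i => φ i / φ j) j = 1 := div_self hj
  have hHφ : MvPolynomial.aeval φ H = 0 := by
    have h1 := aeval_scale (homAt_isHomogeneous j q.totalDegree q) (φ j) (fun i => φ i / φ j)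
    simp only [mul_div_cancel₀ _ hj] at h1
    rw [h1, aeval_homAt (v := fun i => φ i / φ j) le_rfl hψj, hq, mul_zero]
  obtain ⟨a, ha⟩ := dvd_of_aeval_eq_zero hK hj hgen hf hd hfφ (homAt_isHomogeneous j q.totalDegree q) hHφ
  obtain ⟨b, hb⟩ : (X j - 1 : MvPolynomial (Fin 3) k) ∣ H - q := by
    have h1 : H - q = ∑ m ∈ Finset.range (q.totalDegree + 1),
        homogeneousComponent m q * (X j ^ (q.totalDegree - m) - 1) := by
      simp only [mul_sub, Finset.sum_sub_distrib, mul_one]
      rw [sum_homogeneousComponent]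
      rfl
    rw [h1]
    exact Finset.dvd_sum fun m _ => (sub_one_dvd_pow_sub_one _ _).mul_left _
  have hq' : q = f * a - (X j - 1) * b := by rw [← ha, ← hb]; ring
  have hXj : pderiv i (X j - 1 : MvPolynomial (Fin 3) k) = 0 := by
    rw [map_sub, pderiv_X_of_ne hi.symm, pderiv_one, sub_zero]
  rw [hq', map_sub, pderiv_mul, pderiv_mul, hXj]
  simp only [map_sub, map_add, map_mul, hD, hfc, zero_mul, mul_zero, add_zero, map_zero, zero_add, aeval_X,
    map_one, hc, sub_self]

end Groth.Agent.FFLib
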