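import Groth.Agent.FFLib.JacobianRank
import Groth.Agent.FFLib.PlaneHom
import Mathlib.RingTheory.Localization.AtPrime.Basic
import Mathlib.LinearAlgebra.FiniteDimensional.Lemmas

/-!
# Intersection multiplicity as the length of the local ring of the plane
-/

open WithZero Module

namespace Groth.Agent.FFLib

open FunFld

variable {k K : Type*} [Field k] [Field K] [Algebra k K]

/-- The index of nested subspaces is finite and equal to `d`. -/
def Index (a b : Submodule k K) (d : ℕ) : Prop :=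
  a ≤ b ∧ (b.map a.mkQ).FG ∧ finrank k ↥(b.map a.mkQ) = d

lemma Index.refl (a : Submodule k K) : Index a a 0 := by
  have h : a.map a.mkQ = ⊥ := by rw [← le_bot_iff, Submodule.map_le_iff_le_comap, Submodule.comap_bot, Submodule.ker_mkQ]
  exact ⟨le_rfl, h ▸ Submodule.fg_bot, by rw [h, finrank_bot]⟩

/-- Splitting an index. -/
lemma index_split {a b c : Submodule k K} (hab : a ≤ b) (hbc : b ≤ c) (h1 : (b.map a.mkQ).FG)
    (h2 : (c.map b.mkQ).FG) :
    (c.map a.mkQ).FG ∧ finrank k ↥(c.map a.mkQ) = finrank k ↥(b.map a.mkQ) + finrank k ↥(c.map b.mkQ) := by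
  let π : (K ⧸ a) →ₗ[k] K ⧸ b := Submodule.factor hab
  have hπ : (c.map a.mkQ).map π = c.map b.mkQ := by
    rw [← Submodule.map_comp]
    congr 1
  have hker : c.map a.mkQ ⊓ LinearMap.ker π = b.map a.mkQ := by
    ext w
    constructor
    · rintro ⟨⟨z, hz, rfl⟩, hw⟩
      exact ⟨z, (Submodule.Quotient.mk_eq_zero b).1 hw, rfl⟩
    · rintro ⟨z, hz, rfl⟩
      exact ⟨⟨z, hbc hz, rfl⟩, (Submodule.Quotient.mk_eq_zero b).2 hz⟩
  have hfg : (c.map a.mkQ).FG :=
    Submodule.fg_of_fg_map_of_fg_inf_ker π (hπ.symm ▸ h2) (hker.symm ▸ h1)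
  haveI : Module.Finite k ↥(c.map a.mkQ) := Module.Finite.iff_fg.2 hfg
  have e := LinearMap.finrank_range_add_finrank_ker (π.domRestrict (c.map a.mkQ))
  rw [LinearMap.range_domRestrict, hπ, LinearMap.ker_domRestrict] at e
  refine ⟨hfg, ?_⟩
  rw [← e, add_comm, show (b.map a.mkQ) = c.map a.mkQ ⊓ LinearMap.ker π from hker.symm]
  congr 1
  exact ((LinearEquiv.ofEq _ _ (by ext w; simp)).trans (Submodule.comapSubtypeEquivOfLe
    (q := c.map a.mkQ) (p := c.map a.mkQ ⊓ LinearMap.ker π) inf_le_left)).finrank_eq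

lemma Index.trans {a b c : Submodule k K} {d e : ℕ} (h1 : Index a b d) (h2 : Index b c e) :
    Index a c (d + e) := by
  obtain ⟨hfg, he⟩ := index_split h1.1 h2.1 h1.2.1 h2.2.1
  exact ⟨h1.1.trans h2.1, hfg, by rw [he, h1.2.2, h2.2.2]⟩

lemma fg_map_mkQ {a a' b b' : Submodule k K} (ha : a' ≤ a) (hb : b ≤ b') (h : (b'.map a'.mkQ).FG) :
    (b.map a.mkQ).FG := by
  haveI : Module.Finite k ↥(b'.map a'.mkQ) := Module.Finite.iff_fg.2 h
  have h1 : (b'.map a.mkQ).FG := by
    have := h.map (Submodule.factor ha)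
    rwa [← Submodule.map_comp, Submodule.factor_comp_mk] at this
  haveI : Module.Finite k ↥(b'.map a.mkQ) := Module.Finite.iff_fg.2 h1
  exact Module.Finite.iff_fg.1 (Submodule.finiteDimensional_of_le (Submodule.map_mono hb))

/-- The index of an invariant subspace is that of the whole. -/
lemma index_of_invariant {γ : K} (hγ : γ ≠ 0) {V W : Submodule k K} {d : ℕ} (hVW : V ≤ W)
    (hV : V.map (LinearMap.mulLeft k γ) ≤ V) (h : Index (W.map (LinearMap.mulLeft k γ)) W d)
    (hfin : (W.map (V.map (LinearMap.mulLeft k γ)).mkQ).FG) :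
    Index (V.map (LinearMap.mulLeft k γ)) V d := by
  set T := LinearMap.mulLeft k γ with hT
  let Te : K ≃ₗ[k] K := LinearEquiv.ofBijective T
    ⟨fun a b hab => mul_left_cancel₀ hγ hab, fun z => ⟨γ⁻¹ * z, by simp [hT, mul_inv_cancel_left₀ hγ]⟩⟩
  have hTW : V.map T ≤ W.map T := Submodule.map_mono hVW
  have f1 : (V.map (V.map T).mkQ).FG := fg_map_mkQ le_rfl hVW hfin
  have f2 : (W.map V.mkQ).FG := fg_map_mkQ hV le_rfl hfin
  have f3 : ((W.map T).map (V.map T).mkQ).FG := fg_map_mkQ le_rfl h.1 hfin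
  have e1 := (index_split hV hVW f1 f2).2
  have e2 := (index_split hTW h.1 f3 h.2.1).2
  have e3 : finrank k ↥((W.map T).map (V.map T).mkQ) = finrank k ↥(W.map V.mkQ) := by
    let q : (K ⧸ V) ≃ₗ[k] K ⧸ V.map T := Submodule.Quotient.equiv V (V.map T) Te rfl
    have hq : (W.map V.mkQ).map (q : (K ⧸ V) →ₗ[k] K ⧸ V.map T) = (W.map T).map (V.map T).mkQ := by
      rw [← Submodule.map_comp, ← Submodule.map_comp]
      congr 1
    rw [← hq]
    exact LinearEquiv.finrank_map_eq q _
  exact ⟨hV, f1, by rw [e1, h.2.2, e3] at e2; omega⟩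

/-- Functions of prescribed orders on a finite set of places. -/
def ordGe (F : Finset (Place k K)) (n : Place k K → ℤ) : Submodule k K where
  carrier := {z | ∀ Q ∈ F, Q.1 z ≤ exp (-(n Q))}
  add_mem' {a b} ha hb Q hQ := (Q.1.map_add a b).trans (max_le (ha Q hQ) (hb Q hQ))
  zero_mem' Q _ := by simp
  smul_mem' r a ha Q hQ := (v_smul_le Q r a).trans (ha Q hQ)

lemma mem_ordGe {F : Finset (Place k K)} {n : Place k K → ℤ} {z : K} :
    z ∈ ordGe F n ↔ ∀ Q ∈ F, Q.1 z ≤ exp (-(n Q)) := Iff.rfl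

variable [IsAlgClosed k] (hK : IsFunctionField k K)
include hK

lemma index_step {F : Finset (Place k K)} [DecidableEq (Place k K)] (n : Place k K → ℤ) {Q₀ : Place k K}
    (hQ₀ : Q₀ ∈ F) : Index (ordGe F (Function.update n Q₀ (n Q₀ + 1))) (ordGe F n) 1 := by
  set n' := Function.update n Q₀ (n Q₀ + 1) with hn'
  obtain ⟨w, hw⟩ := weak_approx_eq F (fun _ => (0 : K)) n
  simp only [sub_zero] at hw
  have hle : ordGe F n' ≤ ordGe F n := fun z hz Q hQ => by
    refine (hz Q hQ).trans (exp_le_exp.2 ?_)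
    rcases eq_or_ne Q Q₀ with rfl | hne
    · simp [hn']
    · simp [hn', Function.update_of_ne hne]
  have hw0 : w ∈ ordGe F n := fun Q hQ => (hw Q hQ).le
  have hwn : w ∉ ordGe F n' := fun h => by
    have := h Q₀ hQ₀
    rw [hw Q₀ hQ₀, hn', Function.update_self, exp_le_exp] at this
    omega
  have hwne : w ≠ 0 := fun e => hwn (e ▸ Submodule.zero_mem _)
  have hspan : (ordGe F n).map (ordGe F n').mkQ = Submodule.span k {(ordGe F n').mkQ w} := by
    refine le_antisymm ?_ ?_
    · rintro _ ⟨z, hz, rfl⟩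
      obtain ⟨r, hr⟩ := exists_const_sub_lt (deg_eq_one hK Q₀) (y := z / w) (by
        rw [map_div₀, hw Q₀ hQ₀, div_le_one₀ exp_pos]
        exact hz Q₀ hQ₀)
      refine Submodule.mem_span_singleton.2 ⟨r, ?_⟩
      rw [← map_smul, Submodule.mkQ_apply, Submodule.mkQ_apply, Submodule.Quotient.eq]
      intro Q hQ
      rcases eq_or_ne Q Q₀ with rfl | hne
      · rw [hn', Function.update_self, show r • w - z = (algebraMap k K r - z / w) * w by
          rw [sub_mul, div_mul_cancel₀ _ hwne, Algebra.smul_def], map_mul, hw Q hQ]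
        refine (mul_le_mul' (le_exp_neg_one_of_lt_one (by rwa [Valuation.map_sub_swap])) le_rfl).trans ?_
        rw [← exp_add, exp_le_exp]; omega
      · rw [hn', Function.update_of_ne hne]
        exact Submodule.sub_mem _ (Submodule.smul_mem _ r hw0) hz Q hQ
    · rw [Submodule.span_le, Set.singleton_subset_iff]
      exact ⟨w, hw0, rfl⟩
  refine ⟨hle, hspan ▸ Submodule.fg_span_singleton _, ?_⟩
  rw [hspan, finrank_span_singleton]
  exact fun h => hwn ((Submodule.Quotient.mk_eq_zero _).1 h)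

lemma index_ordGe (F : Finset (Place k K)) : ∀ (m : ℕ) (n : Place k K → ℤ),
    (∀ Q ∈ F, 0 ≤ n Q) → ∑ Q ∈ F, n Q = m → Index (ordGe F n) (ordGe F 0) m := by
  classical
  intro m
  induction m with
  | zero =>
    intro n hn hs
    rw [Nat.cast_zero, Finset.sum_eq_zero_iff_of_nonneg hn] at hs
    rw [show ordGe F n = ordGe F 0 from Submodule.ext fun z =>
      forall₂_congr fun Q hQ => by rw [hs Q hQ]; rfl]
    exact Index.refl _
  | succ m ih =>
    intro n hn hs
    obtain ⟨Q₀, hQ₀, hne⟩ : ∃ Q ∈ F, n Q ≠ 0 := Finset.exists_ne_zero_of_sum_ne_zero (by omega)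
    let n₀ := Function.update n Q₀ (n Q₀ - 1)
    have h1 := index_step hK (F := F) n₀ hQ₀
    rw [show Function.update n₀ Q₀ (n₀ Q₀ + 1) = n by simp [n₀]] at h1
    have h2 := ih n₀ (fun Q hQ => ?_) ?_
    · have := h1.trans h2
      rwa [add_comm] at this
    · rcases eq_or_ne Q Q₀ with rfl | h
      · have := hn Q hQ
        simp only [n₀, Function.update_self]; omega
      · simp only [n₀, Function.update_of_ne h]; exact hn Q hQ
    · simp only [n₀]
      rw [Finset.sum_update_of_mem hQ₀]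
      have := Finset.sum_eq_add_sum_sdiff_singleton_of_mem hQ₀ n
      push_cast at hs
      omega

/- The multiplicity of `g` at a point is the dimension of the local algebra. -/
set_option maxHeartbeats 1000000 in
theorem intersectionMult_eq (x y : K) (hxy : IntermediateField.adjoin k ({x, y} : Set K) = ⊤)
    (f g : MvPolynomial (Fin 2) k) (hf : Irreducible f) (hfxy : MvPolynomial.aeval ![x, y] f = 0)
    (hgxy : MvPolynomial.aeval ![x, y] g ≠ 0) (P : Place k K) (c : Fin 2 → k)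
    (hc : ∀ i, P.1 (![x, y] i - algebraMap k K (c i)) < 1)
    (M : Ideal (MvPolynomial (Fin 2) k)) [M.IsMaximal]
    (hM : M = Ideal.span {MvPolynomial.X 0 - MvPolynomial.C (c 0),
      MvPolynomial.X 1 - MvPolynomial.C (c 1)}) :
    ∑ᶠ Q ∈ {Q : Place k K | SameImage ![(1 : K), x, y] P Q}, Q.ord (MvPolynomial.aeval ![x, y] g) =
      (finrank k (Localization.AtPrime M ⧸
        Ideal.map (algebraMap (MvPolynomial (Fin 2) k) (Localization.AtPrime M))
          (Ideal.span {f, g})) : ℤ) := by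
  classical
  set φ : Fin 3 → K := ![(1 : K), x, y] with hφ
  set A := chart k φ 1 with hA
  set γ := MvPolynomial.aeval ![x, y] g with hγ
  have hφc : ∀ i, φ i / 1 = φ i := fun i => div_one _
  have hevA : ∀ p : MvPolynomial (Fin 2) k, MvPolynomial.aeval ![x, y] p ∈ A := fun p => by
    induction p using MvPolynomial.induction_on with
    | C r => rw [MvPolynomial.aeval_C]; exact A.algebraMap_mem r
    | add p q hp hq => rw [map_add]; exact Subalgebra.add_mem _ hp hq
    | mul_X p i hp =>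
      rw [map_mul, MvPolynomial.aeval_X]
      refine Subalgebra.mul_mem _ hp ?_
      fin_cases i
      · simpa [hA, hφc, hφ] using div_mem_chart (φ := φ) (1 : K) 1
      · simpa [hA, hφc, hφ] using div_mem_chart (φ := φ) (1 : K) 2
  have hAev : ∀ a ∈ A, ∃ p, MvPolynomial.aeval ![x, y] p = a := fun a ha => by
    have hle : A ≤ (MvPolynomial.aeval ![x, y]).range := Algebra.adjoin_le (by
      rintro _ ⟨i, rfl⟩
      show φ i / 1 ∈ _
      rw [hφc]
      fin_cases i
      · exact ⟨1, by simp [hφ]⟩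
      · exact ⟨MvPolynomial.X 0, by simp [hφ]⟩
      · exact ⟨MvPolynomial.X 1, by simp [hφ]⟩)
    exact hle ha
  have hgen : IntermediateField.adjoin k (Set.range fun i => φ i / (1 : K)) = ⊤ := by
    rw [eq_top_iff, ← hxy, IntermediateField.adjoin_le_iff]
    rintro z (rfl | rfl)
    · exact IntermediateField.subset_adjoin k _ ⟨1, by simp [hφ]⟩
    · exact IntermediateField.subset_adjoin k _ ⟨2, by simp [hφ]⟩
  have hP : ∀ i, P.1 (φ i / 1) ≤ 1 := fun i => by
    rw [hφc]
    fin_cases i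
    · simp [hφ]
    · exact v_le_one_of_lt (hc 0)
    · exact v_le_one_of_lt (hc 1)
  have hmax : ∀ i, P.1 (φ i) ≤ P.1 (φ 0) := fun i => by simpa [hφ] using hP i
  have hsame : ∀ Q, SameImage φ P Q ↔ ∀ i, Cong P Q (φ i / 1) := fun Q => by
    rw [sameImage_iff (by simp [hφ] : φ 0 ≠ 0) hmax]
    simp [hφ]
  -- the fibre is finite
  have hfin : {Q : Place k K | SameImage φ P Q}.Finite := by
    obtain ⟨x₀, hx₀A, hx₀, -⟩ := exists_chart_coord hK hgen
    obtain ⟨r, hr⟩ := exists_const_sub_lt (deg_eq_one hK P) (chart_le_one hP hx₀A)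
    refine (finite_support_ord hK.1 (x₀ - algebraMap k K r)).subset fun Q hQ => ?_
    have h1 : Q.1 (x₀ - algebraMap k K r) < 1 :=
      ((cong_chart ((hsame Q).1 hQ) (Subalgebra.sub_mem _ hx₀A (A.algebraMap_mem r))).lt_iff).2 hr
    have h0 : x₀ - algebraMap k K r ≠ 0 := fun e => hx₀ (by
      rw [sub_eq_zero.1 e]; exact isAlgebraic_algebraMap r)
    exact (((v_lt_one_iff Q h0).1 h1).ne')
  set F := hfin.toFinset with hF
  have hFmem : ∀ Q, Q ∈ F ↔ ∀ i, Cong P Q (φ i / 1) := fun Q => (Set.Finite.mem_toFinset hfin).trans (hsame Q)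
  -- the local ring
  let O : Submodule k K :=
    { carrier := {z | InLoc A P z}
      add_mem' := fun ha hb => ha.add hb
      zero_mem' := InLoc.of_mem A.zero_mem
      smul_mem' := fun r z hz => by
        show InLoc A P (r • z)
        rw [Algebra.smul_def]
        exact (InLoc.const r).mul hz }
  have hγA : γ ∈ A := hevA g
  have hOW : O ≤ ordGe F 0 := fun z hz Q hQ => by
    simpa using (InLoc.cong (fun a ha => cong_chart ((hFmem Q).1 hQ) ha) hz).le_one
  have hγord : ∀ Q ∈ F, 0 ≤ Q.ord γ := fun Q hQ =>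
    (v_le_one_iff Q γ).1 (cong_chart ((hFmem Q).1 hQ) hγA).le_one
  set T := LinearMap.mulLeft k γ with hT
  have hTV : O.map T ≤ O := by
    rintro _ ⟨z, hz, rfl⟩
    exact (InLoc.of_mem hγA).mul hz
  have hγv : ∀ Q : Place k K, Q.1 γ = exp (-Q.ord γ) := fun Q => v_eq Q hgxy
  have hTW : (ordGe F 0).map T = ordGe F (fun Q => Q.ord γ) := by
    refine Submodule.ext fun z => ⟨?_, fun hz => ⟨γ⁻¹ * z, fun Q hQ => ?_, by simp [hT, hgxy]⟩⟩
    · rintro ⟨u, hu, rfl⟩ Q hQ
      show Q.1 (γ * u) ≤ _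
      rw [map_mul, hγv]
      exact mul_le_of_le_one_right' (by simpa using hu Q hQ)
    · rw [map_mul, map_inv₀, hγv]
      refine (mul_le_mul' le_rfl (hz Q hQ)).trans ?_
      rw [← exp_neg, ← exp_add, exp_le_exp]
      simp
  have hsum : ((∑ Q ∈ F, Q.ord γ).toNat : ℤ) = ∑ Q ∈ F, Q.ord γ :=
    Int.toNat_of_nonneg (Finset.sum_nonneg hγord)
  have hI := index_ordGe hK F _ (fun Q => Q.ord γ) hγord hsum.symm
  rw [← hTW] at hI
  -- the local ring has finite codimension
  obtain ⟨N, hN⟩ := exists_fibre_bound hK hgen hP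
  have hNn : ∀ Q ∈ F, (0 : ℤ) ≤ N + Q.ord γ := fun Q hQ => by have := hγord Q hQ; omega
  have hI' := index_ordGe hK F _ (fun Q => N + Q.ord γ) hNn
    (Int.toNat_of_nonneg (Finset.sum_nonneg hNn)).symm
  have hsub : ordGe F (fun Q => N + Q.ord γ) ≤ O.map T := fun z hz => by
    refine ⟨γ⁻¹ * z, hN _ fun Q hQ => ?_, by simp [hT, hgxy]⟩
    rw [map_mul, map_inv₀, hγv]
    refine (mul_le_mul' le_rfl (hz Q ((hFmem Q).2 hQ))).trans ?_
    rw [← exp_neg, ← exp_add, exp_le_exp]
    dsimp only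
    omega
  have hmain := index_of_invariant hgxy hOW hTV hI (fg_map_mkQ hsub le_rfl hI'.2.1)
  -- the local ring of the plane
  have hMc : M = RingHom.ker (MvPolynomial.aeval (R := k) c) := by
    refine Ideal.IsMaximal.eq_of_le ‹_› (RingHom.ker_ne_top _) ?_
    rw [hM, Ideal.span_le]
    rintro _ (rfl | rfl) <;> simp
  have hunit : ∀ s : M.primeCompl, IsUnit (MvPolynomial.aeval ![x, y] (s : MvPolynomial (Fin 2) k)) := by
    rintro ⟨s, hs⟩
    refine isUnit_iff_ne_zero.2 fun e => hs ?_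
    rw [SetLike.mem_coe, hMc, RingHom.mem_ker]
    by_contra hne
    have h1 := v_eq_of_const hne (near_eval hc s)
    rw [e, map_zero] at h1
    exact zero_ne_one h1
  let Φ : Localization.AtPrime M →ₐ[k] K := IsLocalization.liftAlgHom (M := M.primeCompl) hunit
  have hΦalg : ∀ p, Φ (algebraMap _ _ p) = MvPolynomial.aeval ![x, y] p := fun p =>
    IsLocalization.lift_eq hunit p
  have hΦO : ∀ z, Φ z ∈ O := by
    intro z
    obtain ⟨⟨p, s⟩, hps⟩ := IsLocalization.surj M.primeCompl z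
    refine ⟨_, hevA p, _, hevA s, v_eq_of_const (fun e => s.2 ?_) (near_eval hc (s : MvPolynomial (Fin 2) k)), ?_⟩
    · exact hMc.ge (RingHom.mem_ker.2 e)
    · rw [← hΦalg, ← map_mul, hps, hΦalg]
  have hΦsurj : ∀ w ∈ O, ∃ z, Φ z = w := by
    rintro w ⟨u, hu, v, hv, hv1, hwv⟩
    obtain ⟨p, rfl⟩ := hAev u hu
    obtain ⟨s, rfl⟩ := hAev v hv
    have hs : s ∈ M.primeCompl := fun h => by
      rw [SetLike.mem_coe, hMc, RingHom.mem_ker] at h
      have h1 := near_eval hc s
      rw [h, map_zero, sub_zero] at h1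
      exact h1.ne hv1
    refine ⟨IsLocalization.mk' _ p (⟨s, hs⟩ : M.primeCompl), ?_⟩
    have h2 : MvPolynomial.aeval ![x, y] s ≠ 0 := fun e => by simp [e] at hv1
    refine mul_right_cancel₀ h2 ?_
    rw [hwv, ← hΦalg, ← map_mul, IsLocalization.mk'_spec, hΦalg]
  obtain ⟨g₀, hg₀0, hg₀, hg₀dvd⟩ := exists_affine_generator hK hxy
  have hfdvd : ∀ p, MvPolynomial.aeval ![x, y] p = 0 → f ∣ p := fun p hp => by
    refine dvd_trans ?_ (hg₀dvd p hp)
    obtain ⟨q, hq⟩ := hg₀dvd f hfxy
    rcases hf.isUnit_or_isUnit hq with hu | hu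
    · exact absurd (hu.map (MvPolynomial.aeval ![x, y])) (by rw [hg₀]; exact not_isUnit_zero)
    · obtain ⟨qu, rfl⟩ := hu
      exact ⟨↑qu⁻¹, by rw [hq, mul_assoc, Units.mul_inv, mul_one]⟩
  have hker0 : ∀ z, Φ z = 0 → z ∈ Ideal.map (algebraMap (MvPolynomial (Fin 2) k) (Localization.AtPrime M))
      (Ideal.span {f, g}) := by
    intro z hz
    obtain ⟨⟨p, s⟩, hps⟩ := IsLocalization.surj M.primeCompl z
    have h1 := congrArg Φ hps
    rw [map_mul, hz, zero_mul, hΦalg] at h1
    have h2 : z * algebraMap _ (Localization.AtPrime M) (s : MvPolynomial (Fin 2) k) ∈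
        Ideal.map (algebraMap (MvPolynomial (Fin 2) k) (Localization.AtPrime M)) (Ideal.span {f, g}) := by
      rw [hps]
      obtain ⟨q, hq⟩ := hfdvd p h1.symm
      refine Ideal.mem_map_of_mem _ ?_
      rw [hq]
      exact Ideal.mul_mem_right _ _ (Ideal.subset_span (Set.mem_insert _ _))
    exact (Ideal.mul_unit_mem_iff_mem _ (IsLocalization.map_units (Localization.AtPrime M) s)).1 h2
  set I := Ideal.map (algebraMap (MvPolynomial (Fin 2) k) (Localization.AtPrime M)) (Ideal.span {f, g}) with hIdef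
  let L : Localization.AtPrime M →ₗ[k] K ⧸ O.map T := (O.map T).mkQ ∘ₗ Φ.toLinearMap
  have hrange : LinearMap.range L = O.map (O.map T).mkQ := by
    refine le_antisymm ?_ ?_
    · rintro _ ⟨z, rfl⟩
      exact ⟨Φ z, hΦO z, rfl⟩
    · rintro _ ⟨w, hw, rfl⟩
      obtain ⟨z, rfl⟩ := hΦsurj w hw
      exact ⟨z, rfl⟩
  have hkerL : LinearMap.ker L = I.restrictScalars k := by
    ext z
    rw [Submodule.restrictScalars_mem, LinearMap.mem_ker]
    show (O.map T).mkQ (Φ z) = 0 ↔ _
    rw [Submodule.mkQ_apply, Submodule.Quotient.mk_eq_zero]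
    constructor
    · rintro ⟨w, hw, hwz⟩
      obtain ⟨v, rfl⟩ := hΦsurj w hw
      have h1 : z - algebraMap _ _ g * v ∈ I := hker0 _ (by
        rw [map_sub, map_mul, hΦalg, sub_eq_zero]
        exact hwz.symm)
      have h2 : algebraMap _ _ g * v ∈ I := Ideal.mul_mem_right _ _
        (Ideal.mem_map_of_mem _ (Ideal.subset_span (Set.mem_insert_of_mem _ rfl)))
      simpa using I.add_mem h1 h2
    · intro hz
      rw [hIdef, Ideal.map_span, Set.image_pair] at hz
      obtain ⟨a, b, rfl⟩ := Ideal.mem_span_pair.1 hz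
      refine ⟨Φ b, hΦO b, ?_⟩
      show γ * Φ b = _
      rw [map_add, map_mul, map_mul, hΦalg, hΦalg, hfxy, mul_zero, zero_add, mul_comm]
  have hdim : finrank k (Localization.AtPrime M ⧸ I) = finrank k ↥(O.map (O.map T).mkQ) :=
    ((Submodule.Quotient.restrictScalarsEquiv k I).symm.trans ((Submodule.quotEquivOfEq _ _ hkerL.symm).trans
      (L.quotKerEquivRange.trans (LinearEquiv.ofEq _ _ hrange)))).finrank_eq
  rw [hdim, hmain.2.2, hsum, finsum_mem_eq_finite_toFinset_sum _ hfin]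

end Groth.Agent.FFLib
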