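import Groth.Agent.FFLib.PlaneSmooth
import Mathlib.LinearAlgebra.Matrix.Rank
import Mathlib.LinearAlgebra.Matrix.Adjugate

/-!
# The Jacobian criterion for curves in projective space
-/

open WithZero Module MvPolynomial

namespace Groth.Agent.FFLib

open FunFld

variable {k K : Type*} [Field k] [Field K] [Algebra k K]

/-- A polynomial in the chart is congruent to its value at the image point. -/
lemma near_eval {σ : Type*} [Fintype σ] {ψ : σ → K} {P : Place k K} {c : σ → k}
    (hc : ∀ i, P.1 (ψ i - algebraMap k K (c i)) < 1) (p : MvPolynomial σ k) :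
    P.1 (aeval ψ p - algebraMap k K (aeval c p)) < 1 := by
  induction p using MvPolynomial.induction_on with
  | C r => simp
  | add p q hp hq =>
    rw [map_add, map_add, map_add, add_sub_add_comm]
    exact (P.1.map_add _ _).trans_lt (max_lt hp hq)
  | mul_X p i hp =>
    rw [map_mul, map_mul, aeval_X, aeval_X]
    exact near_mul hp (hc i)

lemma residue_eq_algebraMap {P : Place k K} (y : P.O) {a : k}
    (h : P.1 ((y : K) - algebraMap k K a) < 1) :
    IsLocalRing.residue P.O y = algebraMap k (IsLocalRing.ResidueField P.O) a := by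
  have h1 : IsLocalRing.residue P.O (y - algebraMap k P.O a) = 0 := by
    rw [residue_eq_zero_iff_lt]
    exact h
  rw [map_sub, sub_eq_zero] at h1
  rw [h1]
  rfl

/-- Extending the scalars along a bijection does not change the rank. -/
lemma rank_map_of_surjective {κ : Type*} [Field κ] [Algebra k κ]
    (hsur : Function.Surjective (algebraMap k κ)) {m n : Type*} [Finite m] [Fintype n]
    (J : Matrix m n k) : (J.map (algebraMap k κ)).rank = J.rank := by
  let Φ : (n → k) →ₗ[k] (n → κ) := (Algebra.linearMap k κ).compLeft n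
  have hinj : Function.Injective Φ := fun a b h =>
    funext fun i => (algebraMap k κ).injective (congrFun h i)
  have hrange : Set.range (J.map (algebraMap k κ)).row = Φ '' Set.range J.row := by
    rw [← Set.range_comp]
    rfl
  have h1 : finrank k κ = 1 :=
    (finrank_eq_one_iff_of_nonzero' (1 : κ) one_ne_zero).2 fun w => by
      obtain ⟨c, rfl⟩ := hsur w
      exact ⟨c, (Algebra.smul_def c (1 : κ)).trans (mul_one _)⟩
  rw [Matrix.rank_eq_finrank_span_row, Matrix.rank_eq_finrank_span_row, hrange]
  have h2 : finrank k ↥((Submodule.span κ (Φ '' Set.range J.row)).restrictScalars k) =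
      finrank κ ↥(Submodule.span κ (Φ '' Set.range J.row)) := by
    have := Module.finrank_mul_finrank k κ ↥(Submodule.span κ (Φ '' Set.range J.row))
    rw [h1, one_mul] at this
    exact this.symm
  rw [← h2, Submodule.restrictScalars_span k κ hsur, ← Submodule.map_span]
  exact (LinearEquiv.finrank_eq (Submodule.equivMapOfInjective Φ hinj _)).symm

variable {n r : ℕ} {φ : Fin (n + 1) → K} {f : Fin r → MvPolynomial (Fin (n + 1)) k} {P : Place k K}
  {c : Fin (n + 1) → k}

/-- Homogenising a relation among the affine coordinates. -/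
lemma exists_homogeneous_relation (h0 : φ 0 ≠ 0) (hc0 : c 0 = 1) {p : MvPolynomial (Fin (n + 1)) k}
    (hp : aeval (fun i => φ i / φ 0) p = 0) :
    ∃ Q : MvPolynomial (Fin (n + 1)) k,
      Q ∈ RingHom.ker (MvPolynomial.aeval fun i => Polynomial.C (φ i) * Polynomial.X) ∧
      ∀ l : Fin n, aeval c (pderiv l.succ Q) = aeval c (pderiv l.succ p) := by
  refine ⟨∑ t ∈ Finset.range (p.totalDegree + 1),
    X 0 ^ (p.totalDegree - t) * homogeneousComponent t p, ?_, fun l => ?_⟩
  · rw [RingHom.mem_ker, map_sum]
    set v : Fin (n + 1) → Polynomial K := fun i => Polynomial.C (φ i / φ 0) with hv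
    set a : Polynomial K := Polynomial.C (φ 0) * Polynomial.X with ha
    have hfun : (fun i => Polynomial.C (φ i) * Polynomial.X) = fun i => a * v i := by
      funext i
      simp only [ha, hv]
      rw [mul_right_comm, ← Polynomial.C_mul, mul_div_cancel₀ _ h0]
    rw [hfun]
    have h1 : ∀ t ∈ Finset.range (p.totalDegree + 1),
        aeval (fun i => a * v i) (X 0 ^ (p.totalDegree - t) * homogeneousComponent t p) =
          a ^ p.totalDegree * aeval v (homogeneousComponent t p) := by
      intro t ht
      have hv0 : v 0 = 1 := by simp only [hv, div_self h0, Polynomial.C_1]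
      rw [map_mul, map_pow, aeval_X, hv0, mul_one,
        aeval_scale (homogeneousComponent_isHomogeneous t p) a v, ← mul_assoc, ← pow_add,
        Nat.sub_add_cancel (Nat.lt_succ_iff.1 (Finset.mem_range.1 ht))]
    rw [Finset.sum_congr rfl h1, ← Finset.mul_sum, ← map_sum, sum_homogeneousComponent]
    have h2 : aeval v p = Polynomial.C (aeval (fun i => φ i / φ 0) p) := by
      have := (comp_aeval_apply (f := fun i => φ i / φ 0) (Polynomial.CAlgHom (R := K).restrictScalars k) p).symm
      exact this
    rw [h2, hp, map_zero, mul_zero]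
  · have h1 : ∀ t, aeval c (pderiv l.succ (X 0 ^ (p.totalDegree - t) * homogeneousComponent t p)) =
        aeval c (pderiv l.succ (homogeneousComponent t p)) := by
      intro t
      rw [pderiv_mul, pderiv_pow, pderiv_X_of_ne (Fin.succ_ne_zero l).symm, mul_zero, zero_mul,
        zero_add, map_mul, map_pow, aeval_X, hc0, one_pow, one_mul]
    rw [map_sum, map_sum, Finset.sum_congr rfl fun t _ => h1 t, ← map_sum, ← map_sum,
      sum_homogeneousComponent]

variable (c f) in
/-- The Jacobian matrix of the relations at the image point. -/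
noncomputable def jacobian : Matrix (Fin r) (Fin n) k :=
  fun i l => aeval c (pderiv l.succ (f i))

variable (hgen : Ideal.span (Set.range f) =
  RingHom.ker (MvPolynomial.aeval fun i => Polynomial.C (φ i) * Polynomial.X))
  (h0 : φ 0 ≠ 0) (hc : ∀ i, P.1 (φ i / φ 0 - algebraMap k K (c i)) < 1)
include hgen h0 hc

omit hc in
lemma relation_aeval (i : Fin r) : aeval (fun l => φ l / φ 0) (f i) = 0 := by
  have h : aeval (fun l => Polynomial.C (φ l) * Polynomial.X) (f i) = 0 := by
    rw [← RingHom.mem_ker, ← hgen]
    exact Ideal.subset_span ⟨i, rfl⟩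
  have h1 := congrArg ((Polynomial.aeval (φ 0)⁻¹).restrictScalars k : Polynomial K →ₐ[k] K) h
  rw [map_zero, comp_aeval_apply] at h1
  rw [← h1]
  congr 2
  funext l
  simp [div_eq_mul_inv]

lemma relation_value (i : Fin r) : aeval c (f i) = 0 := by
  have h := near_eval hc (f i)
  rw [relation_aeval hgen h0 i, zero_sub, Valuation.map_neg] at h
  by_contra hne
  exact h.ne (v_const P hne)

omit hgen in
lemma chart_zero_eq_one : c 0 = 1 := by
  by_contra hne
  have h := hc 0
  rw [div_self h0, show (1 : K) - algebraMap k K (c 0) = algebraMap k K (1 - c 0) by simp] at h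
  exact h.ne (v_const P (sub_ne_zero.2 (Ne.symm hne)))

/-- The gradient of every affine relation is in the row space. -/
lemma grad_mem_span {p : MvPolynomial (Fin (n + 1)) k} (hp : aeval (fun i => φ i / φ 0) p = 0) :
    (fun l : Fin n => aeval c (pderiv l.succ p)) ∈ Submodule.span k (Set.range (jacobian f c).row) := by
  obtain ⟨Q, hQ, hder⟩ := exists_homogeneous_relation h0 (chart_zero_eq_one h0 hc) hp
  rw [← hgen] at hQ
  obtain ⟨a, rfl⟩ := (Submodule.mem_span_range_iff_exists_fun _).1 hQ
  refine (Submodule.mem_span_range_iff_exists_fun k).2 ⟨fun i => aeval c (a i), funext fun l => ?_⟩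
  rw [← hder l, map_sum, map_sum, Finset.sum_apply]
  refine Finset.sum_congr rfl fun i _ => ?_
  rw [smul_eq_mul (a i), pderiv_mul, map_add, map_mul, map_mul, relation_value hgen h0 hc i, mul_zero,
    zero_add]
  rfl

/-- Every vector of the row space is congruent to a linear relation among the coordinates. -/
lemma exists_linear_relation {v : Fin n → k}
    (hv : v ∈ Submodule.span k (Set.range (jacobian f c).row)) :
    ∃ g : Fin n → K, (∀ l, g l ∈ chart k φ (φ 0)) ∧ (∀ l, P.1 (g l - algebraMap k K (v l)) < 1) ∧
      ∑ l, g l * (φ l.succ / φ 0 - algebraMap k K (c l.succ)) = 0 := by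
  induction hv using Submodule.span_induction with
  | mem v hv =>
    obtain ⟨i, rfl⟩ := hv
    obtain ⟨g, hgA, hgn, hge⟩ :=
      exists_split (A := chart k φ (φ 0)) (fun l => div_mem_chart _ l) hc (f i)
    refine ⟨fun l => g l.succ, fun l => hgA _, fun l => hgn _, ?_⟩
    rw [relation_aeval hgen h0 i, relation_value hgen h0 hc i, map_zero, zero_add, Fin.sum_univ_succ,
      div_self h0, chart_zero_eq_one h0 hc, map_one, sub_self, mul_zero, zero_add] at hge
    exact hge.symm
  | zero => exact ⟨fun _ => 0, fun _ => Subalgebra.zero_mem _, fun l => by simp, by simp⟩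
  | add v w _ _ hv hw =>
    obtain ⟨g, hgA, hgn, hge⟩ := hv
    obtain ⟨g', hgA', hgn', hge'⟩ := hw
    refine ⟨g + g', fun l => Subalgebra.add_mem _ (hgA l) (hgA' l), fun l => ?_, ?_⟩
    · rw [Pi.add_apply, Pi.add_apply, map_add, add_sub_add_comm]
      exact (P.1.map_add _ _).trans_lt (max_lt (hgn l) (hgn' l))
    · simp only [Pi.add_apply, add_mul, Finset.sum_add_distrib, hge, hge', add_zero]
  | smul a v _ hv =>
    obtain ⟨g, hgA, hgn, hge⟩ := hv
    refine ⟨fun l => algebraMap k K a * g l,
      fun l => Subalgebra.mul_mem _ (Subalgebra.algebraMap_mem _ a) (hgA l), fun l => ?_, ?_⟩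
    · rw [Pi.smul_apply, smul_eq_mul]
      exact near_mul (by simp) (hgn l)
    · simp only [mul_assoc, ← Finset.mul_sum, hge, mul_zero]

/-- The linear form of a vector of the row space vanishes to order two. -/
lemma v_form_le {v : Fin n → k} (hv : v ∈ Submodule.span k (Set.range (jacobian f c).row)) :
    P.1 (∑ l, algebraMap k K (v l) * (φ l.succ / φ 0 - algebraMap k K (c l.succ))) ≤
      WithZero.exp (-2 : ℤ) := by
  obtain ⟨g, -, hgn, hge⟩ := exists_linear_relation hgen h0 hc hv
  have he : ∑ l, algebraMap k K (v l) * (φ l.succ / φ 0 - algebraMap k K (c l.succ)) =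
      ∑ l, (algebraMap k K (v l) - g l) * (φ l.succ / φ 0 - algebraMap k K (c l.succ)) := by
    simp only [sub_mul, Finset.sum_sub_distrib, hge, sub_zero]
  rw [he]
  refine P.1.map_sum_le fun l _ => ?_
  rw [map_mul]
  refine (mul_le_mul' (le_exp_neg_one_of_lt_one ?_) (le_exp_neg_one_of_lt_one (hc l.succ))).trans ?_
  · rw [Valuation.map_sub_swap]; exact hgn l
  · rw [← WithZero.exp_add, WithZero.exp_le_exp]; omega

/-- A nonsingular point has a Jacobian matrix of corank one. -/
theorem jacobian_rank_of_nonsingular [IsAlgClosed k] (hK : IsFunctionField k K)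
    (hP : ∀ i, P.1 (φ i / φ 0) ≤ 1)
    (hns : ∀ z : K, P.1 z ≤ 1 → InLoc (chart k φ (φ 0)) P z) :
    (jacobian f c).rank = n - 1 := by
  classical
  rw [Matrix.rank_eq_finrank_span_row]
  set R := Submodule.span k (Set.range (jacobian f c).row) with hR
  set ψ : Fin (n + 1) → K := fun i => φ i / φ 0 with hψ
  set e : Fin n → K := fun l => ψ l.succ - algebraMap k K (c l.succ) with he
  obtain ⟨t, -, -, ht⟩ := exists_uniformizer P
  obtain ⟨s, hs, hst⟩ := (exists_uniformizer_inLoc_iff hK
    (Submodule.subset_span ⟨0, rfl⟩ : φ 0 ∈ Submodule.span k (Set.range φ)) hP h0).1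
    ⟨t, hns t (by rw [ht, ← WithZero.exp_zero, WithZero.exp_le_exp]; omega), ht⟩
  obtain ⟨σ, rfl⟩ := (Submodule.mem_span_range_iff_exists_fun k).1 hs
  set S : MvPolynomial (Fin (n + 1)) k := ∑ l, MvPolynomial.C (σ l) * X l with hS
  set τ := (∑ l, σ l • φ l) / φ 0 with hτ
  set σ' : Fin n → k := fun l => σ l.succ with hσ'
  have hSψ : aeval ψ S = τ := by
    simp only [hS, hτ, map_sum, map_mul, aeval_C, aeval_X, Finset.sum_div, Algebra.smul_def,
      mul_div_assoc]
    rfl
  have hτlt : P.1 τ < 1 := by rw [hst, ← WithZero.exp_zero, WithZero.exp_lt_exp]; omega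
  have hSc : aeval c S = 0 := by
    by_contra hne
    exact hτlt.ne (hSψ ▸ v_eq_of_const hne (near_eval hc S))
  have hτe : τ = ∑ l, algebraMap k K (σ' l) * e l := by
    have h1 : ∑ l, algebraMap k K (σ l) * (ψ l - algebraMap k K (c l)) = τ := by
      have h2 : algebraMap k K (aeval c S) = ∑ l, algebraMap k K (σ l) * algebraMap k K (c l) := by
        simp [hS]
      simp only [mul_sub, Finset.sum_sub_distrib, ← h2, hSc, map_zero, sub_zero]
      rw [← hSψ]
      simp [hS]
    rw [← h1, Fin.sum_univ_succ, chart_zero_eq_one h0 hc]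
    simp only [hψ, div_self h0, map_one, sub_self, mul_zero, zero_add]
    rfl
  have hnot : σ' ∉ R := by
    intro hmem
    have h := v_form_le hgen h0 hc hmem
    rw [show (∑ l, algebraMap k K (σ' l) * (φ l.succ / φ 0 - algebraMap k K (c l.succ))) = τ from
      hτe.symm, hst, WithZero.exp_le_exp] at h
    omega
  have hsingle : ∀ i : Fin n, (Pi.single i 1 : Fin n → k) ∈ R ⊔ Submodule.span k {σ'} := by
    intro i
    obtain ⟨u, hu, w, hw, hw1, huw⟩ := hns (e i / τ) (by
      rw [map_div₀, hst, div_le_one₀ WithZero.exp_pos]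
      exact le_exp_neg_one_of_lt_one (hc i.succ))
    rw [chart, Algebra.adjoin_range_eq_range_aeval] at hu hw
    obtain ⟨U, rfl⟩ := hu
    obtain ⟨W, rfl⟩ := hw
    change P.1 (aeval ψ W) = 1 at hw1
    change e i / τ * aeval ψ W = aeval ψ U at huw
    have hWc : aeval c W ≠ 0 := fun hW => by
      have h := near_eval hc W
      rw [hW, map_zero, sub_zero] at h
      exact h.ne hw1
    have hτ0 : τ ≠ 0 := fun h => by rw [h, map_zero] at hst; exact WithZero.exp_ne_zero hst.symm
    set q := (X i.succ - MvPolynomial.C (c i.succ)) * W - S * U with hq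
    have hqψ : aeval ψ q = 0 := by
      rw [hq, map_sub, map_mul, map_mul, map_sub, aeval_X, aeval_C, hSψ, ← huw]
      simp only [he]
      field_simp
      ring
    have hgrad := grad_mem_span hgen h0 hc hqψ
    have hval : (fun l : Fin n => aeval c (pderiv l.succ q)) =
        aeval c W • (Pi.single i 1 : Fin n → k) - aeval c U • σ' := by
      funext l
      have h2 : aeval c (pderiv l.succ S) = σ l.succ := by
        simp only [hS, map_sum, pderiv_mul, pderiv_C, zero_mul, zero_add, map_mul, aeval_C,
          Algebra.algebraMap_self, RingHom.id_apply]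
        rw [Finset.sum_eq_single l.succ
          (fun b _ hb => by rw [pderiv_X_of_ne hb, map_zero, mul_zero]) (by simp),
          pderiv_X_self, map_one, mul_one]
      have h3 : aeval c (pderiv l.succ (X i.succ - MvPolynomial.C (c i.succ))) =
          (Pi.single i 1 : Fin n → k) l := by
        rw [map_sub, pderiv_C, sub_zero]
        rcases eq_or_ne l i with rfl | hli
        · rw [pderiv_X_self, map_one, Pi.single_eq_same]
        · rw [pderiv_X_of_ne (fun h => hli (Fin.succ_injective _ h).symm), map_zero,
            Pi.single_eq_of_ne hli]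
      rw [hq, map_sub, map_sub, pderiv_mul, pderiv_mul, map_add, map_add, map_mul, map_mul, map_mul,
        map_mul, h3, h2, hSc]
      simp [hσ', mul_comm]
    rw [hval] at hgrad
    have hmem : aeval c W • (Pi.single i 1 : Fin n → k) ∈ R ⊔ Submodule.span k {σ'} := by
      have := add_mem (Submodule.mem_sup_left hgrad)
        (Submodule.smul_mem _ (aeval c U) (Submodule.mem_sup_right (Submodule.mem_span_singleton_self σ')))
      rwa [sub_add_cancel] at this
    have := Submodule.smul_mem _ (aeval c W)⁻¹ hmem
    rwa [smul_smul, inv_mul_cancel₀ hWc, one_smul] at this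
  have htop : R ⊔ Submodule.span k {σ'} = ⊤ := by
    rw [eq_top_iff]
    intro x _
    have hx : x = ∑ l, x l • (Pi.single l 1 : Fin n → k) := by
      funext j
      simp [Pi.single_apply]
    rw [hx]
    exact Submodule.sum_mem _ fun l _ => Submodule.smul_mem _ _ (hsingle l)
  have hle := Submodule.finrank_add_le_finrank_add_finrank R (Submodule.span k {σ'})
  rw [htop, finrank_top, Module.finrank_fin_fun] at hle
  have hσle : finrank k (Submodule.span k ({σ'} : Set (Fin n → k))) ≤ 1 := by
    refine (finrank_span_le_card _).trans ?_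
    simp
  have hlt : finrank k R < n := by
    have hne : R ≠ ⊤ := fun h => hnot (h ▸ Submodule.mem_top)
    have := Submodule.finrank_lt hne
    rwa [Module.finrank_fin_fun] at this
  omega

/-- A Jacobian matrix of corank one gives a nonsingular point. -/
theorem nonsingular_of_jacobian_rank (hK : IsFunctionField k K) (hn : 1 ≤ n)
    (hP : ∀ i, P.1 (φ i / φ 0) ≤ 1)
    (hadj : IntermediateField.adjoin k (Set.range fun i => φ i / φ 0) = ⊤)
    (hrank : (jacobian f c).rank = n - 1) {z : K} (hz : P.1 z ≤ 1) :
    InLoc (chart k φ (φ 0)) P z := by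
  classical
  rw [Matrix.rank_eq_finrank_span_row] at hrank
  set R := Submodule.span k (Set.range (jacobian f c).row) with hR
  set ψ : Fin (n + 1) → K := fun i => φ i / φ 0 with hψ
  set A := chart k φ (φ 0) with hA
  set e : Fin n → K := fun l => ψ l.succ - algebraMap k K (c l.succ) with he
  have heA : ∀ l, e l ∈ A := fun l =>
    Subalgebra.sub_mem _ (div_mem_chart _ _) (A.algebraMap_mem _)
  obtain ⟨m, hm⟩ : ∃ m, (Pi.single m 1 : Fin n → k) ∉ R := by
    by_contra h
    push Not at h
    have htop : R = ⊤ := by
      rw [eq_top_iff]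
      intro x _
      have hx : x = ∑ l, x l • (Pi.single l 1 : Fin n → k) := by
        funext j
        simp [Pi.single_apply]
      rw [hx]
      exact Submodule.sum_mem _ fun l _ => Submodule.smul_mem _ _ (h l)
    rw [htop, finrank_top, Module.finrank_fin_fun] at hrank
    omega
  set δ : Fin n → k := Pi.single m 1 with hδ
  have htop : R ⊔ Submodule.span k {δ} = ⊤ := by
    apply Submodule.eq_top_of_finrank_eq
    have h1 : R < R ⊔ Submodule.span k {δ} := by
      rw [left_lt_sup, Submodule.span_singleton_le_iff_mem]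
      exact hm
    have h2 := Submodule.finrank_lt_finrank_of_lt h1
    have h3 := Submodule.finrank_le (R ⊔ Submodule.span k {δ})
    rw [Module.finrank_fin_fun] at h3 ⊢
    omega
  have hdec : ∀ i, ∃ u : k, (Pi.single i 1 : Fin n → k) - u • δ ∈ R := by
    intro i
    have hi : (Pi.single i 1 : Fin n → k) ∈ R ⊔ Submodule.span k {δ} := htop ▸ Submodule.mem_top
    obtain ⟨v, hv, w, hw, hvw⟩ := Submodule.mem_sup.1 hi
    obtain ⟨u, rfl⟩ := Submodule.mem_span_singleton.1 hw
    exact ⟨u, by rwa [← hvw, add_sub_cancel_right]⟩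
  choose u hu using hdec
  choose g hgA hgn hge using fun i => exists_linear_relation hgen h0 hc (hu i)
  -- the system of linear equations for the affine coordinates
  let T : Matrix (Fin n) (Fin n) k := Matrix.of fun i l =>
    if i = m then δ l else (Pi.single i 1 : Fin n → k) l - u i * δ l
  let T' : Matrix (Fin n) (Fin n) k := Matrix.of fun i l =>
    (Pi.single i 1 : Fin n → k) l + if i = m then 0 else u i * δ l
  let G : Matrix (Fin n) (Fin n) A := Matrix.of fun i l =>
    if i = m then algebraMap k A (δ l) else ⟨g i l, hgA i l⟩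
  have hTdet : T.det ≠ 0 := by
    refine Matrix.det_ne_zero_of_left_inverse (B := T') ?_
    ext i l
    have h1 : (T' * T) i l = T i l + (if i = m then 0 else u i) * T m l := by
      rw [Matrix.mul_apply]
      simp only [T', Matrix.of_apply, add_mul, Finset.sum_add_distrib]
      congr 1
      · simp [Pi.single_apply]
      · rcases eq_or_ne i m with rfl | him
        · simp
        · simp [if_neg him, hδ, Pi.single_apply]
    rw [h1]
    rcases eq_or_ne i m with rfl | him
    · simp [T, hδ, Pi.single_apply, Matrix.one_apply, eq_comm]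
    · simp [T, hδ, Pi.single_apply, Matrix.one_apply, him, him.symm, eq_comm]
  have hGn : ∀ i l, P.1 ((G i l : K) - algebraMap k K (T i l)) < 1 := by
    intro i l
    simp only [G, T, Matrix.of_apply]
    split_ifs
    · simp
    · exact hgn i l
  let ι : A →+* P.O := A.val.toRingHom.codRestrict P.O fun a => chart_le_one hP a.2
  have hGres : G.map ((IsLocalRing.residue P.O).comp ι) =
      T.map (algebraMap k (IsLocalRing.ResidueField P.O)) := by
    ext i l
    exact residue_eq_algebraMap (ι (G i l)) (hGn i l)
  have hdet1 : P.1 (G.det : K) = 1 := by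
    refine le_antisymm (chart_le_one hP G.det.2) (not_lt.1 fun hlt => ?_)
    have h1 : IsLocalRing.residue P.O (ι G.det) = 0 := (residue_eq_zero_iff_lt P _).2 hlt
    rw [← RingHom.comp_apply, RingHom.map_det, RingHom.mapMatrix_apply, hGres,
      ← RingHom.mapMatrix_apply, ← RingHom.map_det] at h1
    exact hTdet ((algebraMap k (IsLocalRing.ResidueField P.O)).injective (h1.trans (map_zero _).symm))
  let eA : Fin n → A := fun l => ⟨e l, heA l⟩
  have hGe : G.mulVec eA = Pi.single m (eA m) := by
    funext i
    apply Subtype.ext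
    simp only [Matrix.mulVec, dotProduct, AddSubmonoidClass.coe_finsetSum, MulMemClass.coe_mul]
    rcases eq_or_ne i m with rfl | him
    · simp [G, hδ, eA, Pi.single_apply, apply_ite (Subtype.val : A → K), ite_mul]
    · rw [Pi.single_eq_of_ne him]
      simp only [G, Matrix.of_apply, if_neg him, ZeroMemClass.coe_zero]
      exact hge i
  have hdete : ∀ l, (G.det : K) * e l = e m * (G.adjugate l m : K) := by
    intro l
    have h1 : G.adjugate.mulVec (G.mulVec eA) = G.det • eA := by
      rw [Matrix.mulVec_mulVec, Matrix.adjugate_mul, Matrix.smul_mulVec, Matrix.one_mulVec]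
    rw [hGe, Matrix.mulVec_single] at h1
    have h2 := congrArg (fun w : Fin n → A => (w l : K)) h1
    simp only [Pi.smul_apply, smul_eq_mul, MulMemClass.coe_mul, Matrix.col_apply,
      MulOpposite.smul_eq_mul_unop, MulOpposite.unop_op] at h2
    rw [show e l = (eA l : K) from rfl, ← h2, show (eA m : K) = e m from rfl]
    ring
  have hdet0 : (G.det : K) ≠ 0 := fun h => by rw [h, map_zero] at hdet1; exact zero_ne_one hdet1
  set rl : Fin n → K := fun l => (G.adjugate l m : K) * (G.det : K)⁻¹ with hrl
  have hrlA : ∀ l, InLoc A P (rl l) := fun l =>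
    (InLoc.of_mem (G.adjugate l m).2).mul ((InLoc.of_mem G.det.2).inv hdet1)
  have hel : ∀ l, e l = e m * rl l := by
    intro l
    simp only [hrl]
    rw [← mul_assoc, ← hdete, mul_comm (G.det : K), mul_assoc, mul_inv_cancel₀ hdet0, mul_one]
  have hprin : ∀ a ∈ A, P.1 a < 1 → ∃ b, InLoc A P b ∧ a = e m * b := by
    intro a ha halt
    rw [hA, chart, Algebra.adjoin_range_eq_range_aeval] at ha
    obtain ⟨p, rfl⟩ := ha
    change P.1 (aeval ψ p) < 1 at halt
    obtain ⟨q, hqA, -, hqe⟩ := exists_split (A := A) (fun i => div_mem_chart _ i) hc p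
    have hpc : aeval c p = 0 := by
      by_contra hne
      exact halt.ne (v_eq_of_const hne (near_eval hc p))
    refine ⟨∑ l, q l.succ * rl l, ?_, ?_⟩
    · exact Finset.sum_induction (fun l => q l.succ * rl l) (fun x => InLoc A P x)
        (fun _ _ hx hy => hx.add hy) (InLoc.of_mem A.zero_mem)
        fun l _ => (InLoc.of_mem (hqA l.succ)).mul (hrlA l)
    · change aeval ψ p = _
      rw [hqe, hpc, map_zero, zero_add, Fin.sum_univ_succ, chart_zero_eq_one h0 hc, div_self h0,
        map_one, sub_self, mul_zero, zero_add, Finset.mul_sum]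
      refine Finset.sum_congr rfl fun l _ => ?_
      rw [show φ l.succ / φ 0 - algebraMap k K (c l.succ) = e l from rfl, hel l]
      ring
  have hem : e m ≠ 0 := by
    intro h
    obtain ⟨t, ht⟩ := exists_transcendental hK
    have hconst : ∀ i, ψ i = algebraMap k K (c i) := by
      intro i
      rcases Fin.eq_zero_or_eq_succ i with rfl | ⟨l, rfl⟩
      · rw [chart_zero_eq_one h0 hc, map_one]; exact div_self h0
      · have := hel l
        rw [h, zero_mul] at this
        exact sub_eq_zero.1 this
    have hle : IntermediateField.adjoin k (Set.range ψ) ≤ ⊥ := IntermediateField.adjoin_le_iff.2 (by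
      rintro _ ⟨i, rfl⟩; rw [hconst i]; exact IntermediateField.algebraMap_mem _ _)
    rw [hadj] at hle
    obtain ⟨r', hr'⟩ := IntermediateField.mem_bot.1 (hle (IntermediateField.mem_top (x := t)))
    exact ht (hr' ▸ isAlgebraic_algebraMap r')
  exact inLoc_of_principal hadj hP (InLoc.of_mem (heA m)) hem (hc m.succ) hprin hz

end Groth.Agent.FFLib
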