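import Groth.Prelude.Def_W4bk4goldsch45p2
import Mathlib.LinearAlgebra.Matrix.Block
import Mathlib.LinearAlgebra.Matrix.NonsingularInverse
import Mathlib.LinearAlgebra.FiniteDimensional.Lemmas

/-!
# Jump sequences of columns
-/

open Module Submodule

namespace Groth.Agent.FFLib

open FunFld

variable {R M : Type*} [Field R] [AddCommGroup M] [Module R M]

/-- The span of the columns before `j`. -/
abbrev pre (R : Type*) {M : Type*} [Field R] [AddCommGroup M] [Module R M] (c : ℕ → M) (j : ℕ) :
    Submodule R M :=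
  span R (c '' Set.Iio j)

lemma pre_succ (c : ℕ → M) (j : ℕ) : pre R c (j + 1) = pre R c j ⊔ span R {c j} := by
  rw [pre, ← span_union]
  congr 1
  ext v
  simp only [Set.mem_image, Set.mem_Iio, Set.mem_union, Set.mem_singleton_iff]
  constructor
  · rintro ⟨i, hi, rfl⟩
    rcases eq_or_lt_of_le (Nat.lt_succ_iff.1 hi) with rfl | h
    · exact .inr rfl
    · exact .inl ⟨i, h, rfl⟩
  · rintro (⟨i, hi, rfl⟩ | rfl)
    · exact ⟨i, by omega, rfl⟩
    · exact ⟨j, by omega, rfl⟩

lemma pre_mono (c : ℕ → M) {i j : ℕ} (h : i ≤ j) : pre R c i ≤ pre R c j :=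
  span_mono (Set.image_mono (Set.Iio_subset_Iio h))

lemma mem_pre (c : ℕ → M) {i j : ℕ} (h : i < j) : c i ∈ pre R c j :=
  subset_span ⟨i, h, rfl⟩

lemma isJump_iff (c : ℕ → M) (j : ℕ) : IsJump R c j ↔ c j ∉ pre R c j := Iff.rfl

/-- A triangular change of columns does not change the prefix spans nor the jumps. -/
lemma pre_congr {c c' : ℕ → M} {u : ℕ → R} (hu : ∀ j, u j ≠ 0)
    (h : ∀ j, c' j - u j • c j ∈ pre R c j) :
    (∀ j, pre R c' j = pre R c j) ∧ ∀ j, IsJump R c' j ↔ IsJump R c j := by
  have hmem : ∀ j, (c' j ∈ pre R c j ↔ c j ∈ pre R c j) := fun j => by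
    refine ⟨fun h1 => ?_, fun h1 => ?_⟩
    · rw [← smul_mem_iff _ (hu j)]
      simpa using sub_mem h1 (h j)
    · simpa using add_mem (h j) (smul_mem _ (u j) h1)
  have key : ∀ j, pre R c' j = pre R c j := by
    intro j
    induction j with
    | zero => simp [pre]
    | succ j ih =>
      rw [pre_succ, pre_succ, ih]
      refine le_antisymm (sup_le le_sup_left ?_) (sup_le le_sup_left ?_)
      · rw [span_singleton_le_iff_mem]
        have := add_mem (mem_sup_left (T := span R {c j}) (h j))
          (mem_sup_right (S := pre R c j) (smul_mem _ (u j) (subset_span (Set.mem_singleton (c j)))))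
        rwa [sub_add_cancel] at this
      · rw [span_singleton_le_iff_mem, ← smul_mem_iff _ (hu j)]
        have := sub_mem (mem_sup_right (S := pre R c j) (subset_span (Set.mem_singleton (c' j))))
          (mem_sup_left (T := span R {c' j}) (h j))
        rwa [sub_sub_cancel] at this
  refine ⟨key, fun j => ?_⟩
  rw [isJump_iff, isJump_iff, key, hmem]

lemma pre_eq_span_jumps (c : ℕ → M) (j : ℕ) :
    pre R c j = span R (c '' {i | i < j ∧ IsJump R c i}) := by
  induction j with
  | zero => simp [pre]
  | succ j ih =>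
    refine le_antisymm ?_ (span_mono (Set.image_mono fun i hi => hi.1))
    rw [pre_succ]
    refine sup_le (ih.trans_le (span_mono (Set.image_mono fun i hi => ⟨Nat.lt_succ_of_lt hi.1, hi.2⟩))) ?_
    rw [span_singleton_le_iff_mem]
    by_cases hj : IsJump R c j
    · exact subset_span ⟨j, ⟨Nat.lt_succ_self j, hj⟩, rfl⟩
    · rw [isJump_iff, not_not, ih] at hj
      have hsub : c '' {i | i < j ∧ IsJump R c i} ⊆ c '' {i | i < j + 1 ∧ IsJump R c i} :=
        Set.image_mono fun i hi => ⟨Nat.lt_succ_of_lt hi.1, hi.2⟩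
      exact span_mono hsub hj

lemma linearIndependent_jumps (c : ℕ → M) :
    LinearIndependent R fun i : {i // IsJump R c i} => c i := by
  classical
  rw [linearIndependent_iff']
  intro s
  induction s using Finset.induction_on_max with
  | empty => simp
  | insert a s hlt ih =>
    intro g hg i hi
    have ha : a ∉ s := fun h => lt_irrefl _ (hlt a h)
    rw [Finset.sum_insert ha] at hg
    have hga : g a = 0 := by
      by_contra h
      refine a.2 ?_
      have h1 : g a • c a ∈ pre R c a := by
        rw [eq_neg_of_add_eq_zero_left hg]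
        exact neg_mem (sum_mem fun b hb => smul_mem _ _ (mem_pre c (hlt b hb)))
      exact (smul_mem_iff _ h).1 h1
    rw [hga, zero_smul, zero_add] at hg
    rcases Finset.mem_insert.1 hi with rfl | hi
    · exact hga
    · exact ih g hg i hi

lemma finite_jumps [FiniteDimensional R M] (c : ℕ → M) : {i | IsJump R c i}.Finite :=
  Set.finite_coe_iff.1 (linearIndependent_jumps (R := R) c).finite

lemma finrank_pre [FiniteDimensional R M] (c : ℕ → M) (j : ℕ) :
    finrank R (pre R c j) = {i | i < j ∧ IsJump R c i}.ncard := by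
  classical
  have hfin : {i | i < j ∧ IsJump R c i}.Finite := (Set.finite_lt_nat j).subset fun i hi => hi.1
  have := hfin.fintype
  rw [pre_eq_span_jumps, Set.image_eq_range, finrank_span_eq_card, ← Nat.card_eq_fintype_card,
    Nat.card_coe_set_eq]
  exact (linearIndependent_jumps c).comp (fun i : {i | i < j ∧ IsJump R c i} => ⟨i.1, i.2.2⟩)
    fun a b h => Subtype.ext (congrArg (·.1) h)

variable {n : ℕ}

/-- The leading column followed by the columns of an index sequence. -/
def cols {M : Type*} (c : ℕ → M) (I : Fin n → ℕ) : Fin (n + 1) → M :=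
  Fin.cons (c 0) fun l => c (I l + 1)

/-- The matrix of an index sequence. -/
def colMat (c : ℕ → Fin (n + 1) → R) (I : Fin n → ℕ) : Matrix (Fin (n + 1)) (Fin (n + 1)) R :=
  Matrix.of fun i j => cols c I j i

lemma det_colMat_ne_zero_iff (c : ℕ → Fin (n + 1) → R) (I : Fin n → ℕ) :
    (colMat c I).det ≠ 0 ↔ LinearIndependent R (cols c I) := by
  rw [← isUnit_iff_ne_zero, ← Matrix.isUnit_iff_isUnit_det, ← Matrix.linearIndependent_cols_iff_isUnit]
  rfl

lemma isOrders_iff_jumps {c : ℕ → M} {c' : ℕ → M} (h : ∀ j, IsJump R c' (j + 1) ↔ IsJump R c (j + 1))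
    (J : Fin n → ℕ) : IsOrders R c' J ↔ IsOrders R c J := by
  unfold IsOrders
  simp only [h]

lemma isOrders_unique {c : ℕ → M} {J J' : Fin n → ℕ} (h : IsOrders R c J) (h' : IsOrders R c J') :
    J = J' :=
  (h.1.range_inj h'.1).1 (Set.ext fun j => (h.2 j).trans (h'.2 j).symm)

lemma cols_linearIndependent {c : ℕ → M} (h0 : c 0 ≠ 0) {J : Fin n → ℕ} (hJ : IsOrders R c J) :
    LinearIndependent R (cols c J) := by
  have hj0 : IsJump R c 0 := by rw [isJump_iff]; simpa [pre] using h0
  have e : cols c J = (fun i : {i // IsJump R c i} => c i) ∘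
      Fin.cons ⟨0, hj0⟩ (fun l => ⟨J l + 1, (hJ.2 _).1 ⟨l, rfl⟩⟩) := by
    funext i
    refine Fin.cases ?_ (fun l => ?_) i <;> simp [cols]
  rw [e]
  refine (linearIndependent_jumps c).comp _ fun a b => ?_
  refine Fin.cases ?_ (fun l => ?_) a <;> refine Fin.cases ?_ (fun m => ?_) b <;> intro hab
  · rfl
  · exact absurd (congrArg Subtype.val hab) (by simp)
  · exact absurd (congrArg Subtype.val hab) (by simp)
  · simp only [Fin.cons_succ, Subtype.mk.injEq, add_left_inj] at hab
    rw [hJ.1.injective hab]

/-- Existence of the order sequence when the columns span. -/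
theorem exists_isOrders {c : ℕ → Fin (n + 1) → R} (h0 : c 0 ≠ 0) (hspan : span R (Set.range c) = ⊤) :
    ∃ J : Fin n → ℕ, IsOrders R c J ∧ (colMat c J).det ≠ 0 := by
  classical
  set S := {i | IsJump R c i}
  have hS : S.Finite := finite_jumps c
  obtain ⟨N, hN⟩ := hS.bddAbove
  have hcard : S.ncard = n + 1 := by
    have hpre : pre R c (N + 1) = ⊤ := by
      refine top_le_iff.1 (hspan.symm.trans_le (span_le.2 ?_))
      rintro _ ⟨i, rfl⟩
      show c i ∈ pre R c (N + 1)
      rcases Nat.lt_or_ge i (N + 1) with h | h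
      · exact mem_pre c h
      · have h1 : c i ∈ pre R c (i + 1) := mem_pre c (Nat.lt_succ_self i)
        rw [pre_eq_span_jumps] at h1 ⊢
        refine span_mono (Set.image_mono (fun a ha => ?_)) h1
        exact ⟨Nat.lt_succ_of_le (hN ha.2), ha.2⟩
    have := finrank_pre (R := R) c (N + 1)
    rw [hpre, finrank_top, finrank_fin_fun] at this
    rw [this]
    congr 1
    ext i
    exact ⟨fun h => ⟨Nat.lt_succ_of_le (hN h), h⟩, fun h => h.2⟩
  have hj0 : (0 : ℕ) ∈ S := by
    show IsJump R c 0
    rw [isJump_iff]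
    simpa [pre] using h0
  set T := {j | IsJump R c (j + 1)} with hT
  have hST : S = insert 0 (Nat.succ '' T) := by
    ext i
    rcases i with _ | i
    · simp [hj0]
    · simp [S, T]
  have hTf : T.Finite := Set.Finite.of_finite_image (hS.subset (by rw [hST]; exact Set.subset_insert _ _))
    Nat.succ_injective.injOn
  have hTn : hTf.toFinset.card = n := by
    rw [← Set.ncard_eq_toFinset_card _ hTf]
    rw [hST, Set.ncard_insert_of_notMem (by simp) (hTf.image _),
      Set.ncard_image_of_injective _ Nat.succ_injective] at hcard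
    omega
  refine ⟨hTf.toFinset.orderEmbOfFin hTn, ⟨(hTf.toFinset.orderEmbOfFin hTn).strictMono, fun j => ?_⟩, ?_⟩
  · rw [Finset.range_orderEmbOfFin, Set.Finite.coe_toFinset]
    rfl
  · rw [det_colMat_ne_zero_iff]
    refine cols_linearIndependent h0 ⟨(hTf.toFinset.orderEmbOfFin hTn).strictMono, fun j => ?_⟩
    rw [Finset.range_orderEmbOfFin, Set.Finite.coe_toFinset]
    rfl

/-- Order sequences are minimal among independent column choices. -/
theorem isOrders_le {c : ℕ → M} [FiniteDimensional R M] (_h0 : c 0 ≠ 0) {J J' : Fin n → ℕ}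
    (hJ : IsOrders R c J) (hJ' : StrictMono J') (hind : LinearIndependent R (cols c J')) (l : Fin n) :
    J l ≤ J' l := by
  classical
  by_contra hlt
  push Not at hlt
  set j := J' l + 2
  let f : Fin (l.1 + 2) → pre R c j := fun i =>
    ⟨cols c J' (Fin.castLE (by omega) i), by
      refine Fin.cases ?_ (fun m => ?_) i
      · simp only [cols, Fin.castLE_zero, Fin.cons_zero]
        exact mem_pre c (by omega)
      · simp only [cols, Fin.castLE_succ, Fin.cons_succ]
        refine mem_pre c ?_
        have := hJ'.monotone (show Fin.castLE (by omega) m ≤ l from Nat.lt_succ_iff.1 m.2)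
        omega⟩
  have hf : LinearIndependent R f :=
    LinearIndependent.of_comp (pre R c j).subtype
      (hind.comp (Fin.castLE (show l.1 + 2 ≤ n + 1 by omega)) (Fin.castLE_injective _))
  have h1 := hf.fintype_card_le_finrank
  rw [Fintype.card_fin, finrank_pre] at h1
  have h2 : {i | i < j ∧ IsJump R c i} ⊆
      insert 0 ((fun m : Fin l.1 => J (Fin.castLE l.2.le m) + 1) '' Set.univ) := by
    rintro i ⟨hi, hi'⟩
    rcases i with _ | i
    · exact Set.mem_insert _ _
    · obtain ⟨m, rfl⟩ := (hJ.2 i).2 hi'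
      refine Set.mem_insert_of_mem _ ⟨⟨m, ?_⟩, trivial, rfl⟩
      by_contra hm
      have := hJ.1.monotone (show l ≤ m from not_lt.1 hm)
      omega
  have h3 := (Set.ncard_le_ncard h2 (Set.toFinite _)).trans ((Set.ncard_insert_le _ _).trans
    (Nat.add_le_add_right (Set.ncard_image_le (Set.toFinite _)) 1))
  simp [Set.ncard_univ] at h3
  omega

/-- The determinant at the order sequence transforms by the product of the leading coefficients. -/
theorem det_colMat_triangular {c c' : ℕ → Fin (n + 1) → R} {u : ℕ → R}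
    (h : ∀ j, c' j - u j • c j ∈ pre R c j) {J : Fin n → ℕ} (hJ : IsOrders R c J) :
    (colMat c' J).det = u 0 * (∏ l, u (J l + 1)) * (colMat c J).det := by
  classical
  set idx : Fin (n + 1) → ℕ := Fin.cons 0 fun l => J l + 1
  have hidx : ∀ (d : ℕ → Fin (n + 1) → R) i, cols d J i = d (idx i) := fun d i => by
    refine Fin.cases ?_ (fun l => ?_) i <;> simp [cols, idx]
  have hmono : StrictMono idx := by
    refine Fin.strictMono_iff_lt_succ.2 fun i => ?_
    rcases n with _ | n
    · exact i.elim0
    refine Fin.cases ?_ (fun l => ?_) i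
    · simp [idx]
    · simp only [idx, Fin.cons_succ, ← Fin.succ_castSucc, add_lt_add_iff_right]
      exact hJ.1 (Fin.castSucc_lt_succ)
  have hw : ∀ b : Fin (n + 1), ∃ w : Fin (n + 1) → R, (∀ a, b ≤ a → w a = 0) ∧
      c' (idx b) - u (idx b) • c (idx b) = ∑ a, w a • c (idx a) := fun b => by
    have h1 := h (idx b)
    rw [pre_eq_span_jumps] at h1
    have h2 : c '' {i | i < idx b ∧ IsJump R c i} ⊆ (fun a => c (idx a)) '' {a | a < b} := by
      rintro _ ⟨i, ⟨hi, hi'⟩, rfl⟩
      have : i ∈ Set.range idx := by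
        rcases i with _ | i
        · exact ⟨0, by simp [idx]⟩
        · obtain ⟨l, rfl⟩ := (hJ.2 i).2 hi'
          exact ⟨l.succ, by simp [idx]⟩
      obtain ⟨a, rfl⟩ := this
      exact ⟨a, hmono.lt_iff_lt.1 hi, rfl⟩
    obtain ⟨w, hw, hw'⟩ := (Finsupp.mem_span_image_iff_linearCombination R).1 (span_mono h2 h1)
    refine ⟨w, fun a ha => ?_, ?_⟩
    · by_contra hne
      exact absurd (hw (Finsupp.mem_support_iff.2 hne)) (not_lt.2 ha)
    · rw [← hw', Finsupp.linearCombination_apply, Finsupp.sum_fintype _ _ (by simp)]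
  choose w hw hw' using hw
  set T : Matrix (Fin (n + 1)) (Fin (n + 1)) R :=
    Matrix.of fun a b => (if a = b then u (idx b) else 0) + w b a
  have hmul : colMat c' J = colMat c J * T := by
    ext i b
    rw [Matrix.mul_apply]
    simp only [colMat, T, Matrix.of_apply, hidx, mul_add, Finset.sum_add_distrib, mul_ite, mul_zero]
    rw [Finset.sum_ite_eq' Finset.univ b, if_pos (Finset.mem_univ b)]
    have := congrFun (hw' b) i
    simp only [Pi.sub_apply, Pi.smul_apply, Finset.sum_apply, smul_eq_mul] at this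
    rw [sub_eq_iff_eq_add.1 this, add_comm, mul_comm]
    congr 1
    exact Finset.sum_congr rfl fun a _ => mul_comm _ _
  have hT : T.det = ∏ b, u (idx b) := by
    rw [Matrix.det_of_isUpperTriangular]
    · refine Finset.prod_congr rfl fun b _ => ?_
      simp [T, hw b b le_rfl]
    · intro a b hab
      simp only [id_eq] at hab
      simp [T, hw b a hab.le, hab.ne']
  rw [hmul, Matrix.det_mul, hT, Fin.prod_univ_succ, mul_comm]
  simp [idx]

end Groth.Agent.FFLib
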