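import Groth.Agent.FFLib.LocRing
import Groth.Agent.FFLib.Embedding
import Groth.Agent.FFLib.RR
import Groth.Agent.FFLib.DiffDiv

/-!
# Local rings and fibres of a projective map
-/

open WithZero Module

namespace Groth.Agent.FFLib

open FunFld

variable {k K : Type*} [Field k] [Field K] [Algebra k K] {ι : Type*}

/-- Congruent to one and the same constant at two places. -/
def Cong (P Q : Place k K) (a : K) : Prop :=
  ∃ c : k, P.1 (a - algebraMap k K c) < 1 ∧ Q.1 (a - algebraMap k K c) < 1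

lemma v_le_one_of_lt {P : Place k K} {a : K} {c : k} (h : P.1 (a - algebraMap k K c) < 1) : P.1 a ≤ 1 :=
  v_le_of_sub h.le (P.2.1 c)

lemma v_eq_of_const {P : Place k K} {a : K} {c : k} (hc : c ≠ 0) (h : P.1 (a - algebraMap k K c) < 1) :
    P.1 a = 1 := by
  have h1 := P.1.map_add_eq_of_lt_left (x := algebraMap k K c) (y := a - algebraMap k K c)
    (by rwa [v_const P hc])
  rwa [add_sub_cancel, v_const P hc] at h1

lemma lt_one_iff_of_const {P : Place k K} {a : K} {c : k} (h : P.1 (a - algebraMap k K c) < 1) :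
    P.1 a < 1 ↔ c = 0 := by
  refine ⟨fun h1 => ?_, fun e => by rwa [e, map_zero, sub_zero] at h⟩
  by_contra hc
  exact absurd (v_eq_of_const hc h) h1.ne

lemma Cong.const (P Q : Place k K) (c : k) : Cong P Q (algebraMap k K c) := ⟨c, by simp⟩

lemma Cong.add {P Q : Place k K} {a b : K} (ha : Cong P Q a) (hb : Cong P Q b) : Cong P Q (a + b) := by
  obtain ⟨c, h1, h2⟩ := ha
  obtain ⟨d, h3, h4⟩ := hb
  refine ⟨c + d, ?_, ?_⟩ <;> rw [map_add, add_sub_add_comm]
  · exact (P.1.map_add _ _).trans_lt (max_lt h1 h3)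
  · exact (Q.1.map_add _ _).trans_lt (max_lt h2 h4)

lemma Cong.mul {P Q : Place k K} {a b : K} (ha : Cong P Q a) (hb : Cong P Q b) : Cong P Q (a * b) := by
  obtain ⟨c, h1, h2⟩ := ha
  obtain ⟨d, h3, h4⟩ := hb
  have key : ∀ R : Place k K, R.1 (a - algebraMap k K c) < 1 →
      R.1 (b - algebraMap k K d) < 1 → R.1 (a * b - algebraMap k K (c * d)) < 1 := by
    intro R hR hR'
    rw [map_mul, show a * b - algebraMap k K c * algebraMap k K d =
      a * (b - algebraMap k K d) + (a - algebraMap k K c) * algebraMap k K d by ring]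
    refine (R.1.map_add _ _).trans_lt (max_lt ?_ ?_)
    · rw [map_mul]; exact (mul_le_of_le_one_left' (v_le_one_of_lt hR)).trans_lt hR'
    · rw [map_mul]; exact (mul_le_of_le_one_right' (R.2.1 d)).trans_lt hR
  exact ⟨c * d, key P h1 h3, key Q h2 h4⟩

lemma Cong.inv {P Q : Place k K} {a : K} (ha : Cong P Q a) (h : P.1 a = 1) : Cong P Q a⁻¹ := by
  obtain ⟨c, h1, h2⟩ := ha
  have hc : c ≠ 0 := fun e => ((lt_one_iff_of_const h1).2 e).ne h
  have key : ∀ R : Place k K, R.1 (a - algebraMap k K c) < 1 →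
      R.1 (a⁻¹ - algebraMap k K c⁻¹) < 1 := by
    intro R hR
    have hR1 := v_eq_of_const hc hR
    have ha0 : a ≠ 0 := fun e => by simp [e] at hR1
    have hc0 : algebraMap k K c ≠ 0 := by simpa using hc
    rw [show a⁻¹ - algebraMap k K c⁻¹ =
        -((a - algebraMap k K c) * (a⁻¹ * (algebraMap k K c)⁻¹)) by
      rw [map_inv₀]; field_simp; ring]
    rw [Valuation.map_neg, map_mul, map_mul, map_inv₀, map_inv₀, hR1, v_const R hc, inv_one, one_mul,
      mul_one]
    exact hR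
  exact ⟨c⁻¹, key P h1, key Q h2⟩

lemma Cong.refl [IsAlgClosed k] (hK : IsFunctionField k K) (P : Place k K) {a : K} (h : P.1 a ≤ 1) :
    Cong P P a := by
  obtain ⟨c, hc⟩ := exists_const_sub_lt (deg_eq_one hK P) h
  exact ⟨c, hc, hc⟩

lemma Cong.le_one {P Q : Place k K} {a : K} (ha : Cong P Q a) : Q.1 a ≤ 1 :=
  v_le_one_of_lt ha.choose_spec.2

lemma Cong.lt_iff {P Q : Place k K} {a : K} (ha : Cong P Q a) : Q.1 a < 1 ↔ P.1 a < 1 := by
  obtain ⟨c, h1, h2⟩ := ha
  rw [lt_one_iff_of_const h1, lt_one_iff_of_const h2]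

lemma chart_le_one {φ : ι → K} {c : K} {Q : Place k K} (h : ∀ i, Q.1 (φ i / c) ≤ 1) {a : K}
    (ha : a ∈ chart k φ c) : Q.1 a ≤ 1 := by
  induction ha using Algebra.adjoin_induction with
  | mem w hw => obtain ⟨i, rfl⟩ := hw; exact h i
  | algebraMap r => exact Q.2.1 r
  | add a b _ _ ha hb => exact (Q.1.map_add a b).trans (max_le ha hb)
  | mul a b _ _ ha hb => rw [map_mul]; exact mul_le_one' ha hb

lemma div_le_one_of_max {φ : ι → K} {c : K} (hc : c ≠ 0) {P : Place k K}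
    (hmax : ∀ i, P.1 (φ i) ≤ P.1 c) (i : ι) : P.1 (φ i / c) ≤ 1 := by
  rw [map_div₀, div_le_one₀ (zero_lt_iff.2 (v_ne_zero P hc))]
  exact hmax i

lemma cong_chart {φ : ι → K} {c : K} {P Q : Place k K} (h : ∀ i, Cong P Q (φ i / c)) {a : K}
    (ha : a ∈ chart k φ c) : Cong P Q a := by
  induction ha using Algebra.adjoin_induction with
  | mem w hw => obtain ⟨i, rfl⟩ := hw; exact h i
  | algebraMap r => exact Cong.const P Q r
  | add a b _ _ ha hb => exact ha.add hb
  | mul a b _ _ ha hb => exact ha.mul hb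

/-- The fibre, read in the chart of any coordinate largest at `P`. -/
lemma sameImage_iff {φ : ι → K} {P Q : Place k K} {j : ι} (hj : φ j ≠ 0)
    (hmax : ∀ i, P.1 (φ i) ≤ P.1 (φ j)) :
    SameImage φ P Q ↔ ∀ i, Cong P Q (φ i / φ j) := by
  constructor
  · rintro ⟨j', hj', hP, hQ, h⟩ i
    have hj'v : P.1 (φ j / φ j') = 1 := by
      rw [map_div₀, le_antisymm (hP j) (hmax j'), div_self (v_ne_zero P hj')]
    rw [show φ i / φ j = φ i / φ j' * (φ j / φ j')⁻¹ by field_simp]
    exact Cong.mul (h i) (Cong.inv (h j) hj'v)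
  · intro h
    refine ⟨j, hj, hmax, fun i => ?_, h⟩
    have := (h i).le_one
    rwa [map_div₀, div_le_one₀ (zero_lt_iff.2 (v_ne_zero Q hj))] at this

section InLoc

variable {A : Subalgebra k K} {P : Place k K}

lemma InLoc.of_mem {a : K} (ha : a ∈ A) : InLoc A P a :=
  ⟨a, ha, 1, A.one_mem, map_one _, mul_one a⟩

lemma InLoc.add {a b : K} (ha : InLoc A P a) (hb : InLoc A P b) : InLoc A P (a + b) := by
  obtain ⟨u, hu, w, hw, hw1, h⟩ := ha
  obtain ⟨u', hu', w', hw', hw1', h'⟩ := hb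
  refine ⟨u * w' + u' * w, Subalgebra.add_mem _ (Subalgebra.mul_mem _ hu hw')
    (Subalgebra.mul_mem _ hu' hw), w * w', Subalgebra.mul_mem _ hw hw', by rw [map_mul, hw1, hw1', mul_one], ?_⟩
  rw [← h, ← h']; ring

lemma InLoc.mul {a b : K} (ha : InLoc A P a) (hb : InLoc A P b) : InLoc A P (a * b) := by
  obtain ⟨u, hu, w, hw, hw1, h⟩ := ha
  obtain ⟨u', hu', w', hw', hw1', h'⟩ := hb
  exact ⟨u * u', Subalgebra.mul_mem _ hu hu', w * w', Subalgebra.mul_mem _ hw hw',
    by rw [map_mul, hw1, hw1', mul_one], by rw [← h, ← h']; ring⟩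

lemma InLoc.const (c : k) : InLoc A P (algebraMap k K c) := InLoc.of_mem (A.algebraMap_mem c)

lemma InLoc.pow {a : K} (ha : InLoc A P a) (n : ℕ) : InLoc A P (a ^ n) := by
  induction n with
  | zero => rw [pow_zero]; exact InLoc.of_mem A.one_mem
  | succ n ih => rw [pow_succ]; exact ih.mul ha

lemma InLoc.inv {a : K} (ha : InLoc A P a) (h1 : P.1 a = 1) : InLoc A P a⁻¹ := by
  obtain ⟨u, hu, w, hw, hw1, h⟩ := ha
  have ha0 : a ≠ 0 := fun e => by simp [e] at h1
  refine ⟨w, hw, u, hu, by rw [← h, map_mul, h1, hw1, mul_one], ?_⟩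
  rw [← h]; field_simp

lemma InLoc.cong {Q : Place k K} (hA : ∀ a ∈ A, Cong P Q a) {z : K} (h : InLoc A P z) : Cong P Q z := by
  obtain ⟨u, hu, w, hw, hw1, h⟩ := h
  have hw0 : w ≠ 0 := fun e => by simp [e] at hw1
  rw [show z = u * w⁻¹ by rw [← h]; field_simp]
  exact (hA u hu).mul ((hA w hw).inv hw1)

lemma InLoc.le_one (hA : ∀ a ∈ A, P.1 a ≤ 1) {z : K} (h : InLoc A P z) : P.1 z ≤ 1 := by
  obtain ⟨u, hu, w, -, hw1, h⟩ := h
  have := congrArg P.1 h
  rw [map_mul, hw1, mul_one] at this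
  rw [this]; exact hA u hu

end InLoc

/-- The ratios to any coordinate generate the field. -/
lemma adjoin_ratio_top {φ : ι → K} {j₀ j : ι} (h0 : φ j₀ ≠ 0) (hj : φ j ≠ 0)
    (hbir : IntermediateField.adjoin k (Set.range fun i => φ i / φ j₀) = ⊤) :
    IntermediateField.adjoin k (Set.range fun i => φ i / φ j) = ⊤ := by
  rw [eq_top_iff, ← hbir, IntermediateField.adjoin_le_iff]
  rintro _ ⟨i, rfl⟩
  show φ i / φ j₀ ∈ _
  rw [show φ i / φ j₀ = φ i / φ j / (φ j₀ / φ j) by field_simp]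
  exact div_mem (IntermediateField.subset_adjoin k _ ⟨i, rfl⟩)
    (IntermediateField.subset_adjoin k _ ⟨j₀, rfl⟩)

/-- The chart ring has the whole field as its fraction field. -/
lemma exists_frac_chart {φ : ι → K} {c : K}
    (hgen : IntermediateField.adjoin k (Set.range fun i => φ i / c) = ⊤) (z : K) :
    ∃ a ∈ chart k φ c, ∃ b ∈ chart k φ c, b ≠ 0 ∧ z * b = a := by
  have hz : z ∈ IntermediateField.adjoin k (Set.range fun i => φ i / c) := hgen ▸ IntermediateField.mem_top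
  induction hz using IntermediateField.adjoin_induction with
  | mem w hw => exact ⟨w, Algebra.subset_adjoin hw, 1, Subalgebra.one_mem _, one_ne_zero, mul_one w⟩
  | algebraMap r => exact ⟨_, Subalgebra.algebraMap_mem _ r, 1, Subalgebra.one_mem _, one_ne_zero, mul_one _⟩
  | add x y _ _ hx hy =>
    obtain ⟨a, ha, b, hb, hb0, h⟩ := hx
    obtain ⟨a', ha', b', hb', hb0', h'⟩ := hy
    refine ⟨a * b' + a' * b, Subalgebra.add_mem _ (Subalgebra.mul_mem _ ha hb') (Subalgebra.mul_mem _ ha' hb),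
      b * b', Subalgebra.mul_mem _ hb hb', mul_ne_zero hb0 hb0', ?_⟩
    rw [← h, ← h']; ring
  | inv x _ hx =>
    obtain ⟨a, ha, b, hb, hb0, h⟩ := hx
    rcases eq_or_ne x 0 with rfl | hx0
    · exact ⟨0, Subalgebra.zero_mem _, b, hb, hb0, by simp⟩
    · exact ⟨b, hb, a, ha, h ▸ mul_ne_zero hx0 hb0, by rw [← h]; field_simp⟩
  | mul x y _ _ hx hy =>
    obtain ⟨a, ha, b, hb, hb0, h⟩ := hx
    obtain ⟨a', ha', b', hb', hb0', h'⟩ := hy
    exact ⟨a * a', Subalgebra.mul_mem _ ha ha', b * b', Subalgebra.mul_mem _ hb hb', mul_ne_zero hb0 hb0',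
      by rw [← h, ← h']; ring⟩

variable [IsAlgClosed k] (hK : IsFunctionField k K) [Fintype ι] {φ : ι → K} {c : K}
  (hgen : IntermediateField.adjoin k (Set.range fun i => φ i / c) = ⊤)
include hK hgen

/-- A coordinate whose finite places are exactly those of the chart. -/
lemma exists_chart_coord : ∃ x ∈ chart k φ c, Transcendental k x ∧
    ∀ Q : Place k K, 0 ≤ Q.ord x ↔ ∀ i, Q.1 (φ i / c) ≤ 1 := by
  classical
  set ψ : ι → K := fun i => φ i / c
  set T := (Set.finite_iUnion fun i => finite_support_ord hK.1 (ψ i)).toFinset.filter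
    fun Q => ∃ i, ¬ Q.1 (ψ i) ≤ 1 with hT
  have hTmem : ∀ Q : Place k K, (∃ i, ¬ Q.1 (ψ i) ≤ 1) → Q ∈ T := fun Q h => by
    obtain ⟨i, hi⟩ := h
    refine Finset.mem_filter.2 ⟨(Set.Finite.mem_toFinset _).2 (Set.mem_iUnion.2 ⟨i, ?_⟩), i, hi⟩
    intro e
    exact hi ((v_le_one_iff Q _).2 e.ge)
  let p : T → Submodule k (ι → k) := fun Q => (intSub (Q : Place k K)).comap (Fintype.linearCombination k ψ)
  obtain ⟨l, hl⟩ := Submodule.exists_forall_notMem_of_forall_ne_top p fun Q htop => by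
    obtain ⟨i, hi⟩ := (Finset.mem_filter.1 Q.2).2
    have h1 : Pi.single i (1 : k) ∈ p Q := htop ▸ Submodule.mem_top
    simp only [p, Submodule.mem_comap, Fintype.linearCombination_apply_single, one_smul] at h1
    exact hi h1
  set x := Fintype.linearCombination k ψ l with hx
  have hxA : x ∈ chart k φ c := by
    rw [hx, Fintype.linearCombination_apply]
    exact Subalgebra.sum_mem _ fun i _ => Subalgebra.smul_mem _ (div_mem_chart c i) _
  have hiff : ∀ Q : Place k K, 0 ≤ Q.ord x ↔ ∀ i, Q.1 (ψ i) ≤ 1 := fun Q => by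
    refine ⟨fun h => ?_, fun h => (v_le_one_iff Q x).1 (chart_le_one h hxA)⟩
    by_contra hne
    push Not at hne
    obtain ⟨i, hi⟩ := hne
    exact hl ⟨Q, hTmem Q ⟨i, not_le.2 hi⟩⟩ ((v_le_one_iff Q x).2 h)
  refine ⟨x, hxA, transcendental_of_notMem hK fun ⟨r, hr⟩ => ?_, hiff⟩
  obtain ⟨t, ht⟩ := exists_transcendental hK
  have hconst : ∀ i, ψ i ∈ (⊥ : IntermediateField k K) := fun i => by
    have : ψ i ∈ L (0 : Divisor k K) := fun Q => by
      rw [Finsupp.zero_apply, exp_zero]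
      exact (hiff Q).1 (by rw [← hr, ord_const]) i
    rw [L_zero hK, Submodule.mem_one] at this
    exact IntermediateField.mem_bot.2 this
  have hle : IntermediateField.adjoin k (Set.range ψ) ≤ ⊥ :=
    IntermediateField.adjoin_le_iff.2 (by rintro _ ⟨i, rfl⟩; exact hconst i)
  rw [hgen] at hle
  obtain ⟨r', hr'⟩ := IntermediateField.mem_bot.1 (hle (IntermediateField.mem_top (x := t)))
  exact ht (hr' ▸ isAlgebraic_algebraMap r')

/-- A conductor of the chart ring. -/
lemma exists_conductor : ∃ w ∈ chart k φ c, w ≠ 0 ∧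
    ∀ z : K, (∀ Q : Place k K, (∀ i, Q.1 (φ i / c) ≤ 1) → Q.1 z ≤ 1) → z * w ∈ chart k φ c := by
  classical
  obtain ⟨x, hxA, hx, hU⟩ := exists_chart_coord hK hgen
  obtain ⟨G, -, hG⟩ := exists_finite_span_regular hK hx (chart k φ c) hxA
  choose a ha b hb hb0 hab using fun g => exists_frac_chart hgen g
  refine ⟨∏ g ∈ G, b g, Subalgebra.prod_mem _ fun g _ => hb g, Finset.prod_ne_zero_iff.2 fun g _ => hb0 g,
    fun z hz => ?_⟩
  have hspan := hG z fun Q hQ => hz Q ((hU Q).1 hQ)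
  clear hz
  induction hspan using Submodule.span_induction with
  | mem g hg =>
    rw [← Finset.mul_prod_erase _ _ hg, ← mul_assoc, hab]
    exact Subalgebra.mul_mem _ (ha g) (Subalgebra.prod_mem _ fun g _ => hb g)
  | zero => rw [zero_mul]; exact Subalgebra.zero_mem _
  | add u v _ _ hu hv => rw [add_mul]; exact Subalgebra.add_mem _ hu hv
  | smul r u _ hu =>
    show (r : K) * u * _ ∈ _
    rw [mul_assoc]; exact Subalgebra.mul_mem _ r.2 hu

/-- A function regular on the chart, a unit at a given place and small on a finite set. -/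
lemma exists_regular_sep {Q : Place k K} (hQ : ∀ i, Q.1 (φ i / c) ≤ 1) (s : Finset (Place k K))
    (hs : Q ∉ s) (hsU : ∀ R ∈ s, ∀ i, R.1 (φ i / c) ≤ 1) (N : ℕ) : ∃ y : K, Q.1 y = 1 ∧ (∀ R ∈ s, R.1 y ≤ exp (-(N : ℤ))) ∧
      ∀ R : Place k K, (∀ i, R.1 (φ i / c) ≤ 1) → R.1 y ≤ 1 := by
  classical
  obtain ⟨x, -, hx, hU⟩ := exists_chart_coord hK hgen
  obtain ⟨R₀, hR₀⟩ := exists_pole hK (x := x) fun ⟨r, hr⟩ => hx (hr ▸ isAlgebraic_algebraMap r)
  have hQR : Q ≠ R₀ := fun e => by have := (hU Q).2 hQ; rw [e] at this; omega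
  have hs' : R₀ ∉ s := fun h => by have := (hU R₀).2 (hsU R₀ h); omega
  set Z : Divisor k K := ∑ R ∈ s, Finsupp.single R (N : ℤ) with hZ
  have hZapp : ∀ R, Z R = if R ∈ s then (N : ℤ) else 0 := fun R => by
    rw [hZ, Finsupp.finsetSum_apply]
    simp only [Finsupp.single_apply]
    rw [Finset.sum_ite_eq']
  have hdZ : Z.deg = s.card * N := by
    rw [hZ]
    rw [show Divisor.deg (∑ R ∈ s, Finsupp.single R (N : ℤ)) =
      ∑ R ∈ s, Divisor.deg (Finsupp.single R (N : ℤ)) from map_sum degHom _ _]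
    simp [deg_single, deg_eq_one hK]
  set m : ℕ := s.card * N + 2 * genus k K + 1
  set D : Divisor k K := Finsupp.single R₀ (m : ℤ) - Z with hD
  have hdD : D.deg = 2 * genus k K + 1 := by
    rw [hD, deg_sub, deg_single, deg_eq_one hK, hdZ]; simp [m]; ring
  have hnle : ¬ L D ≤ L (D - Finsupp.single Q 1) := fun h => by
    have := finiteDimensional_L hK (D - Finsupp.single Q 1)
    have h1 : ell D ≤ ell (D - Finsupp.single Q 1) := Submodule.finrank_mono h
    have h2 := ell_eq_of_deg_ge hK (D := D) (by omega)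
    have h3 := ell_eq_of_deg_ge hK (D := D - Finsupp.single Q 1)
      (by rw [deg_sub, deg_single, deg_eq_one hK]; omega)
    rw [deg_sub, deg_single, deg_eq_one hK] at h3
    omega
  obtain ⟨y, hy, hyn⟩ := SetLike.not_le_iff_exists.1 hnle
  have hDQ : D Q = 0 := by
    rw [hD, Finsupp.sub_apply, Finsupp.single_eq_of_ne hQR, hZapp, if_neg hs, sub_zero]
  refine ⟨y, ?_, fun R hR => ?_, fun R hR => ?_⟩
  · refine le_antisymm ?_ ?_
    · have := hy Q; rwa [hDQ, exp_zero] at this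
    · by_contra hlt
      refine hyn fun R => ?_
      rw [Finsupp.sub_apply]
      rcases eq_or_ne R Q with e | hne
      · rw [e, Finsupp.single_eq_same, hDQ, zero_sub]
        exact le_exp_neg_one_of_lt_one (not_le.1 hlt)
      · rw [Finsupp.single_eq_of_ne hne, sub_zero]; exact hy R
  · refine (hy R).trans ?_
    rw [hD, Finsupp.sub_apply, hZapp, if_pos hR, exp_le_exp]
    rcases eq_or_ne R R₀ with e | hne
    · exfalso; exact hs' (e ▸ hR)
    · rw [Finsupp.single_eq_of_ne hne]; omega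
  · have hne : R ≠ R₀ := fun e => by have := (hU R).2 hR; rw [e] at this; omega
    refine (hy R).trans ?_
    rw [hD, Finsupp.sub_apply, Finsupp.single_eq_of_ne hne, hZapp, ← exp_zero, exp_le_exp]
    split_ifs <;> omega

/-- Away from the zeros of the conductor the chart ring is the valuation ring. -/
lemma inLoc_of_conductor_unit {w : K} (hwA : w ∈ chart k φ c)
    (hw : ∀ z : K, (∀ Q : Place k K, (∀ i, Q.1 (φ i / c) ≤ 1) → Q.1 z ≤ 1) → z * w ∈ chart k φ c)
    {Q : Place k K} (hQ : ∀ i, Q.1 (φ i / c) ≤ 1) (hw1 : Q.1 w = 1) {z : K} (hz : Q.1 z ≤ 1) :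
    InLoc (chart k φ c) Q z := by
  classical
  set s := (finite_support_ord hK.1 z).toFinset.filter fun R =>
    (∀ i, R.1 (φ i / c) ≤ 1) ∧ ¬ R.1 z ≤ 1 with hs
  have hQs : Q ∉ s := fun h => (Finset.mem_filter.1 h).2.2 hz
  set N := ∑ R ∈ s, (-R.ord z).toNat with hN
  obtain ⟨y, hy1, hys, hyU⟩ := exists_regular_sep hK hgen hQ s hQs (fun R h => (Finset.mem_filter.1 h).2.1) N
  refine ⟨z * y * w, hw _ fun R hR => ?_, y * w, hw y hyU, by rw [map_mul, hy1, hw1, mul_one],
    (mul_assoc z y w).symm⟩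
  rw [map_mul]
  by_cases hR1 : R.1 z ≤ 1
  · exact mul_le_one' hR1 (hyU R hR)
  · have hz0 : z ≠ 0 := fun e => hR1 (by simp [e])
    have hmem : R ∈ s := Finset.mem_filter.2 ⟨(Set.Finite.mem_toFinset _).2 fun e =>
      hR1 ((v_le_one_iff R z).2 e.ge), hR, hR1⟩
    have h1 := Finset.single_le_sum (f := fun R : Place k K => (-R.ord z).toNat) (fun _ _ => Nat.zero_le _) hmem
    refine (mul_le_mul' (v_eq R hz0).le (hys R hmem)).trans ?_
    rw [← exp_add, ← exp_zero, exp_le_exp]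
    omega

/-- Functions small enough on the fibre lie in the local ring. -/
theorem exists_fibre_bound {P : Place k K} (hP : ∀ i, P.1 (φ i / c) ≤ 1) :
    ∃ N : ℕ, ∀ z : K, (∀ Q : Place k K, (∀ i, Cong P Q (φ i / c)) → Q.1 z ≤ exp (-(N : ℤ))) →
      InLoc (chart k φ c) P z := by
  classical
  obtain ⟨w, hwA, hw0, hw⟩ := exists_conductor hK hgen
  set S := (finite_support_ord hK.1 w).toFinset
  refine ⟨∑ Q ∈ S, (Q.ord w).toNat, fun z hz => ?_⟩
  set N := ∑ Q ∈ S, (Q.ord w).toNat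
  set T := (S ∪ (finite_support_ord hK z).toFinset).filter
    fun Q => (∀ i, Q.1 (φ i / c) ≤ 1) ∧ ∃ i, ¬ Cong P Q (φ i / c) with hT
  have hsep : ∀ Q ∈ T, ∃ e ∈ chart k φ c, P.1 (e - 1) < 1 ∧ Q.1 e < 1 := by
    intro Q hQ
    obtain ⟨hQU, i, hi⟩ := (Finset.mem_filter.1 hQ).2
    obtain ⟨a, ha⟩ := exists_const_sub_lt (deg_eq_one hK P) (hP i)
    obtain ⟨b, hb⟩ := exists_const_sub_lt (deg_eq_one hK Q) (hQU i)
    have hab : a - b ≠ 0 := fun e => hi ⟨a, ha, (sub_eq_zero.1 e).symm ▸ hb⟩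
    refine ⟨algebraMap k K (a - b)⁻¹ * (φ i / c - algebraMap k K b), Subalgebra.mul_mem _
      (Subalgebra.algebraMap_mem _ _) (Subalgebra.sub_mem _ (div_mem_chart c i) (Subalgebra.algebraMap_mem _ b)),
      ?_, ?_⟩
    · have h1 : algebraMap k K (a - b)⁻¹ * (φ i / c - algebraMap k K b) - 1 =
          algebraMap k K (a - b)⁻¹ * (φ i / c - algebraMap k K a) := by
        have h2 : algebraMap k K (a - b) ≠ 0 := (map_ne_zero _).2 hab
        rw [map_inv₀]; field_simp
        rw [map_sub]; ring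
      rw [h1, map_mul]
      exact (mul_le_of_le_one_left' (P.2.1 _)).trans_lt ha
    · rw [map_mul]
      exact (mul_le_of_le_one_left' (Q.2.1 _)).trans_lt hb
  choose! e heA heP heQ using hsep
  set M := N + ∑ Q ∈ T, (-Q.ord z).toNat
  set b := ∏ Q ∈ T, e Q ^ M with hb
  have heP1 : ∀ Q ∈ T, P.1 (e Q) = 1 := fun Q hQ =>
    v_eq_of_const one_ne_zero (by rw [map_one]; exact heP Q hQ)
  have hbA : b ∈ chart k φ c := Subalgebra.prod_mem _ fun Q hQ => Subalgebra.pow_mem _ (heA Q hQ) _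
  refine ⟨z * b, ?_, b, hbA, ?_, rfl⟩
  swap
  · rw [hb, map_prod]
    exact Finset.prod_eq_one fun Q hQ => by rw [map_pow, heP1 Q hQ, one_pow]
  have hmain : z * b / w * w ∈ chart k φ c := hw _ fun Q hQ => ?_
  · rwa [div_mul_cancel₀ _ hw0] at hmain
  have hbQ : Q.1 b ≤ 1 := chart_le_one hQ hbA
  have hwN : exp (-(N : ℤ)) ≤ Q.1 w := by
    rw [v_eq Q hw0, exp_le_exp]
    by_cases hQS : Q ∈ S
    · have := Finset.single_le_sum (f := fun Q : Place k K => (Q.ord w).toNat) (fun _ _ => Nat.zero_le _) hQS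
      omega
    · have : Q.ord w = 0 := by simpa [S] using hQS
      omega
  rw [map_div₀, div_le_one₀ (zero_lt_iff.2 (v_ne_zero Q hw0)), map_mul]
  by_cases hfib : ∀ i, Cong P Q (φ i / c)
  · exact ((mul_le_of_le_one_right' hbQ).trans (hz Q hfib)).trans hwN
  push Not at hfib
  rcases eq_or_ne z 0 with rfl | hz0
  · simp
  by_cases hQT : Q ∈ T
  · have h1 : Q.1 b ≤ exp (-(M : ℤ)) := by
      rw [hb, map_prod, ← Finset.mul_prod_erase _ _ hQT]
      refine (mul_le_of_le_one_right' (Finset.prod_le_one' fun R hR => ?_)).trans ?_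
      · exact chart_le_one hQ (Subalgebra.pow_mem _ (heA R (Finset.mem_of_mem_erase hR)) M)
      · rw [map_pow]
        refine (pow_le_pow_left' (le_exp_neg_one_of_lt_one (heQ Q hQT)) M).trans_eq ?_
        rw [← exp_nsmul, nsmul_eq_mul]; congr 1; ring
    refine le_trans ?_ hwN
    refine (mul_le_mul' (v_eq Q hz0).le h1).trans ?_
    rw [← exp_add, exp_le_exp]
    have := Finset.single_le_sum (f := fun Q : Place k K => (-Q.ord z).toNat) (fun _ _ => Nat.zero_le _) hQT
    simp only [M]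
    omega
  · have h0 : Q.ord w = 0 ∧ Q.ord z = 0 := by
      by_contra h
      refine hQT (Finset.mem_filter.2 ⟨?_, hQ, hfib⟩)
      simp only [S, Finset.mem_union, Set.Finite.mem_toFinset, Function.mem_support]
      tauto
    rw [(v_eq_one_iff Q hw0).2 h0.1, (v_eq_one_iff Q hz0).2 h0.2, one_mul]
    exact hbQ

end Groth.Agent.FFLib
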