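import Groth.Agent.FFLib.Deriv
import Mathlib.RingTheory.Trace.Basic

/-!
# The trace dual of the semilocal ring over a rational place of `k(u)`
-/

open WithZero Module Polynomial

namespace Groth.Agent.FFLib

open FunFld

variable {k K : Type*} [Field k] [Field K] [Algebra k K]

/-- Functions integral at every zero of `u`. -/
def fibInt (k : Type*) {K : Type*} [Field k] [Field K] [Algebra k K] (u : K) : Subalgebra k K where
  carrier := {f | ∀ Q : Place k K, Q.1 u < 1 → Q.1 f ≤ 1}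
  mul_mem' ha hb Q hQ := by rw [map_mul]; exact mul_le_one' (ha Q hQ) (hb Q hQ)
  add_mem' {a b} ha hb Q hQ := (Q.1.map_add a b).trans (max_le (ha Q hQ) (hb Q hQ))
  algebraMap_mem' c Q _ := Q.2.1 c

lemma mem_fibInt {u f : K} : f ∈ fibInt k u ↔ ∀ Q : Place k K, Q.1 u < 1 → Q.1 f ≤ 1 := Iff.rfl

variable (hK : IsFunctionField k K) [IsAlgClosed k]

omit [IsAlgClosed k] in
lemma ord_neg' (Q : Place k K) (x : K) : Q.ord (-x) = Q.ord x := by simp [Place.ord]

/-- A chosen uniformizer's derivative order: the order of the differential `dx` at `Q`. -/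
noncomputable def dOrd (hK : IsFunctionField k K) (x : K) (Q : Place k K) : ℤ :=
  Q.ord (LocRes.hasseD (Classical.choose (Classical.choose_spec (exists_param hK Q))) 1 x)

include hK

lemma dOrd_spec (Q : Place k K) :
    ∃ (t : K) (H : K →ₐ[k] PowerSeries K), Q.1 t = exp (-1 : ℤ) ∧ LocRes.IsHasseFamily t H ∧
      ∀ x, dOrd hK x Q = Q.ord (LocRes.hasseD H 1 x) :=
  ⟨_, _, (Classical.choose_spec (Classical.choose_spec (exists_param hK Q))).2.2.1,
    (Classical.choose_spec (Classical.choose_spec (exists_param hK Q))).2.2.2.2.2, fun _ => rfl⟩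

lemma ordDiff_eq_dOrd {Q : Place k K} {Φ : K →ₐ[k] LaurentSeries k}
    (hΦ : LocRes.IsExpansionAt Q.1 Φ) (x : K) : LocRes.ordDiff Φ 1 x = dOrd hK x Q := by
  obtain ⟨t, H, ht, hH, h⟩ := dOrd_spec hK Q
  rw [h, ordDiff_eq hK hΦ ht hH, one_mul]

lemma hasseD_ne_zero_of_sep {x : K} (hx : Transcendental k x)
    (hsep : Algebra.IsSeparable (IntermediateField.adjoin k ({x} : Set K)) K) {t : K}
    {H : K →ₐ[k] PowerSeries K} (hH : LocRes.IsHasseFamily t H) : LocRes.hasseD H 1 x ≠ 0 := by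
  obtain ⟨Hx, hHx⟩ := exists_hasse hK hx hsep
  exact right_ne_zero_of_mul_eq_one (hasseD_one_mul hK hHx hH)

lemma dOrd_sub_const (x : K) (c : k) (Q : Place k K) :
    dOrd hK (x - algebraMap k K c) Q = dOrd hK x Q := by
  obtain ⟨t, H, ht, hH, h⟩ := dOrd_spec hK Q
  rw [h, h]
  congr 1
  simp [PowerSeries.algebraMap_apply]

lemma dOrd_inv {x : K} (hx : Transcendental k x)
    (hsep : Algebra.IsSeparable (IntermediateField.adjoin k ({x} : Set K)) K) (Q : Place k K) :
    dOrd hK x⁻¹ Q = dOrd hK x Q - 2 * Q.ord x := by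
  obtain ⟨t, H, ht, hH, h⟩ := dOrd_spec hK Q
  have hx0 : x ≠ 0 := fun e => hx (e ▸ isAlgebraic_zero)
  rw [h, h]
  have := (hasseDer H hH).leibniz_inv x
  simp only [hasseDer_apply, smul_eq_mul] at this
  rw [this, neg_mul, ord_neg', ord_mul Q (pow_ne_zero _ (inv_ne_zero hx0))
    (hasseD_ne_zero_of_sep hK hx hsep hH), ord_pow, ord_inv]
  ring

/-- The derivative at `Q` of any element of order one there is a unit. -/
lemma v_hasseD_of_uniformizer {Q : Place k K} {t y : K} (ht : Q.1 t = exp (-1 : ℤ))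
    (hy : Q.1 y = exp (-1 : ℤ)) {H : K →ₐ[k] PowerSeries K} (hH : LocRes.IsHasseFamily t H) :
    Q.1 (LocRes.hasseD H 1 y) = 1 := by
  obtain ⟨Φ, hΦ, -⟩ := exists_expansion (deg_eq_one hK Q) ht
  have h := vDiff_eq hK hΦ ht hH 1 y
  rw [one_mul, LocRes.vDiff, map_one, one_mul, v_deriv_uniformizer hΦ hy] at h
  exact h.symm

variable {u : K} (hu : Transcendental k u)
include hu

lemma exists_fibre : ∃ Z : Finset (Place k K), (∀ Q, Q ∈ Z ↔ Q.1 u < 1) ∧ Z.Nonempty ∧
    ∑ Q ∈ Z, (Q.ord u).toNat = finrank (IntermediateField.adjoin k ({u} : Set K)) K := by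
  classical
  have hu0 : u ≠ 0 := fun e => hu (e ▸ isAlgebraic_zero)
  have hu' : Transcendental k u⁻¹ := fun h => hu (inv_inv u ▸ h.inv)
  set Z := (pole (k := k) u⁻¹).support with hZ
  have hmem : ∀ Q, Q ∈ Z ↔ Q.1 u < 1 := fun Q => by
    rw [hZ, Finsupp.mem_support_iff, pole_apply hK, ord_inv, v_lt_one_iff Q hu0]
    omega
  obtain ⟨Q₀, hQ₀⟩ := exists_zero hK (x := u) fun ⟨a, ha⟩ => hu (ha ▸ isAlgebraic_algebraMap a)
  refine ⟨Z, hmem, ⟨Q₀, (hmem Q₀).2 ((v_lt_one_iff Q₀ hu0).2 hQ₀)⟩, ?_⟩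
  have h := deg_pole hK hu'
  rw [show finrank (IntermediateField.adjoin k ({u⁻¹} : Set K)) K =
      finrank (IntermediateField.adjoin k ({u} : Set K)) K from
    congrArg (fun E : IntermediateField k K => finrank E K) (adjoin_inv u)] at h
  have h2 : (pole (k := k) u⁻¹).deg = ∑ Q ∈ Z, ((Q.ord u).toNat : ℤ) := by
    refine Finset.sum_congr rfl fun Q hQ => ?_
    have := (v_lt_one_iff Q hu0).1 ((hmem Q).1 hQ)
    simp only [pole_apply hK.1, ord_inv, deg_eq_one hK Q]
    omega
  rw [h2] at h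
  exact_mod_cast h

omit hK [IsAlgClosed k] hu in
lemma v_aeval_unit {Q : Place k K} (hQ : Q.1 u < 1) {q : k[X]} (hq : q.coeff 0 ≠ 0) :
    Q.1 (aeval u q) = 1 := by
  have h := (v_aeval_sub_C Q.1 Q.2.1 hQ.le q).trans_lt hQ
  rw [show aeval u q = algebraMap k K (q.coeff 0) + (aeval u q - algebraMap k K (q.coeff 0)) by ring,
    Q.1.map_add_eq_of_lt_left (by rwa [v_const Q hq]), v_const Q hq]

variable {E : IntermediateField k K} (hE : IntermediateField.adjoin k ({u} : Set K) = E)
include hE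

lemma exists_frac {r : K} (hr : r ∈ E) (hrS : r ∈ fibInt k u) :
    ∃ p q : k[X], q.coeff 0 ≠ 0 ∧ r * aeval u q = aeval u p := by
  classical
  have hu0 : u ≠ 0 := fun e => hu (e ▸ isAlgebraic_zero)
  have hex : ∃ q : k[X], q ≠ 0 ∧ ∃ p : k[X], r * aeval u q = aeval u p := by
    rw [← hE, IntermediateField.mem_adjoin_simple_iff] at hr
    obtain ⟨p, q, rfl⟩ := hr
    rcases eq_or_ne (aeval u q) 0 with h0 | h0
    · exact ⟨1, one_ne_zero, 0, by simp [h0]⟩
    · exact ⟨q, fun e => h0 (by rw [e, map_zero]), p, div_mul_cancel₀ _ h0⟩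
  obtain ⟨q, hq⟩ := hex
  induction hd : q.natDegree using Nat.strong_induction_on generalizing q with | _ d ih => ?_
  obtain ⟨hq0, p, hp⟩ := hq
  by_cases hc : q.coeff 0 = 0
  swap
  · exact ⟨p, q, hc, hp⟩
  obtain ⟨Z, hZ, ⟨Q, hQ⟩, -⟩ := exists_fibre hK hu
  have hQ' := (hZ Q).1 hQ
  have hqd : q = X * q.divX := by
    conv_lhs => rw [← X_mul_divX_add q, hc, map_zero, add_zero]
  have hpc : p.coeff 0 = 0 := by
    by_contra hpc
    have h1 := v_aeval_unit hQ' hpc
    rw [← hp, map_mul, hqd, map_mul, aeval_X, map_mul] at h1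
    refine ((mul_le_of_le_one_left' (hrS Q hQ')).trans_lt (mul_lt_one_of_lt_of_le hQ'
      (v_aeval_le Q.1 Q.2.1 hQ'.le _))).ne h1
  have hdx : q.divX ≠ 0 := fun e => hq0 (by rw [hqd, e, mul_zero])
  refine ih q.divX.natDegree ?_ q.divX ⟨hdx, p.divX, ?_⟩ rfl
  · rw [← hd]
    conv_rhs => rw [hqd, natDegree_mul X_ne_zero hdx, natDegree_X]
    omega
  · refine mul_left_cancel₀ hu0 ?_
    conv_rhs => rw [show u * aeval u p.divX = aeval u p by
      conv_rhs => rw [← X_mul_divX_add p, hpc, map_zero, add_zero, map_mul, aeval_X]]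
    rw [← hp]
    conv_rhs => rw [hqd, map_mul, aeval_X]
    ring

omit hK [IsAlgClosed k] hu in
lemma aeval_mem_E (p : k[X]) : aeval u p ∈ E :=
  hE ▸ IntermediateField.algebra_adjoin_le_adjoin k {u}
    (Algebra.adjoin_singleton_eq_range_aeval k u ▸ ⟨p, rfl⟩)

omit hK [IsAlgClosed k] hu hE in
lemma aeval_mem_fibInt (p : k[X]) : aeval u p ∈ fibInt k u := fun Q hQ =>
  v_aeval_le Q.1 Q.2.1 hQ.le p

omit hK [IsAlgClosed k] hu hE in
lemma mul_inv_mem_fibInt {a : K} (ha : a ∈ fibInt k u) {q : k[X]} (hq : q.coeff 0 ≠ 0) :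
    a * (aeval u q)⁻¹ ∈ fibInt k u := fun Q hQ => by
  rw [map_mul, map_inv₀, v_aeval_unit hQ hq, inv_one, mul_one]
  exact ha Q hQ

omit hK [IsAlgClosed k] hE in
lemma aeval_ne_zero {q : k[X]} (hq : q.coeff 0 ≠ 0) : aeval u q ≠ 0 := fun e => by
  have := transcendental_iff.1 hu q e
  simp [this] at hq

lemma exists_res {r : K} (hr : r ∈ E) (hrS : r ∈ fibInt k u) :
    ∃ (γ : k) (g : K), g ∈ E ∧ g ∈ fibInt k u ∧ r = algebraMap k K γ + u * g := by
  obtain ⟨p, q, hq, hp⟩ := exists_frac hK hu hE hr hrS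
  have hq' := aeval_ne_zero hu hq
  set γ := p.coeff 0 / q.coeff 0
  refine ⟨γ, aeval u (p - C γ * q).divX * (aeval u q)⁻¹,
    mul_mem (aeval_mem_E hE _) (inv_mem (aeval_mem_E hE _)),
    mul_inv_mem_fibInt (aeval_mem_fibInt _) hq, ?_⟩
  have h0 : (p - C γ * q).coeff 0 = 0 := by simp [γ, div_mul_cancel₀ _ hq]
  have h1 : u * aeval u (p - C γ * q).divX = aeval u p - algebraMap k K γ * aeval u q := by
    have := congrArg (aeval u) (X_mul_divX_add (p - C γ * q))
    simp only [h0, map_zero, add_zero, map_mul, aeval_X] at this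
    rw [this]; simp
  rw [← mul_assoc, h1, ← hp]
  field_simp
  ring

lemma exists_deriv {r : K} (hr : r ∈ E) (hrS : r ∈ fibInt k u) :
    ∃ r' : K, r' ∈ E ∧ r' ∈ fibInt k u ∧ ∀ (s : K) (H : K →ₐ[k] PowerSeries K),
      LocRes.IsHasseFamily s H → LocRes.hasseD H 1 r = r' * LocRes.hasseD H 1 u := by
  obtain ⟨p, q, hq, hp⟩ := exists_frac hK hu hE hr hrS
  have hq' := aeval_ne_zero hu hq
  refine ⟨(aeval u (derivative p) - r * aeval u (derivative q)) * (aeval u q)⁻¹,
    mul_mem (sub_mem (aeval_mem_E hE _) (mul_mem hr (aeval_mem_E hE _)))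
      (inv_mem (aeval_mem_E hE _)),
    mul_inv_mem_fibInt (Subalgebra.sub_mem _ (aeval_mem_fibInt _)
      (Subalgebra.mul_mem _ hrS (aeval_mem_fibInt _))) hq, fun s H hH => ?_⟩
  have h := congrArg (hasseDer H hH) hp
  rw [Derivation.leibniz, Derivation.map_aeval, Derivation.map_aeval] at h
  simp only [hasseDer_apply, smul_eq_mul] at h
  field_simp
  linear_combination h

/-- A family of `n = [K : k(u)]` fibrewise integral functions, independent modulo `u`, is a basis
of `K/k(u)` in which fibrewise integral functions have fibrewise integral coefficients. -/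
lemma coeff_mem_fibInt {ι : Type*} [Fintype ι] (b : ι → K) (hb : ∀ i, b i ∈ fibInt k u)
    (hind : ∀ a : ι → k, (∀ Q : Place k K, Q.1 u < 1 → Q.1 (∑ i, a i • b i) ≤ Q.1 u) → a = 0)
    (r : ι → K) (hr : ∀ i, r i ∈ E) (hz : ∑ i, r i * b i ∈ fibInt k u) (i : ι) :
    r i ∈ fibInt k u := by
  classical
  have hu0 : u ≠ 0 := fun e => hu (e ▸ isAlgebraic_zero)
  have huS : u ∈ fibInt k u := fun Q hQ => hQ.le
  have huE : u ∈ E := hE ▸ IntermediateField.mem_adjoin_simple_self k u
  obtain ⟨Z, hZ, -, -⟩ := exists_fibre hK hu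
  obtain ⟨m, hm⟩ : ∃ m : ℕ, ∀ i, u ^ m * r i ∈ fibInt k u := by
    refine ⟨∑ i, ∑ Q ∈ Z, (-Q.ord (r i)).toNat, fun i Q hQ => ?_⟩
    rcases eq_or_ne (r i) 0 with h0 | h0
    · simp [h0]
    rw [v_le_one_iff, ord_mul Q (pow_ne_zero _ hu0) h0, ord_pow]
    have h1 := (v_lt_one_iff Q hu0).1 hQ
    have h2 : (-Q.ord (r i)).toNat ≤ ∑ Q ∈ Z, (-Q.ord (r i)).toNat :=
      Finset.single_le_sum (f := fun Q : Place k K => (-Q.ord (r i)).toNat) (fun _ _ => Nat.zero_le _)
        ((hZ Q).2 hQ)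
    have h3 := Finset.single_le_sum (f := fun i => ∑ Q ∈ Z, (-Q.ord (r i)).toNat)
      (fun _ _ => Nat.zero_le _) (Finset.mem_univ i)
    have h4 : ((∑ i, ∑ Q ∈ Z, (-Q.ord (r i)).toNat : ℕ) : ℤ) ≤
        ((∑ i, ∑ Q ∈ Z, (-Q.ord (r i)).toNat : ℕ) : ℤ) * Q.ord u :=
      le_mul_of_one_le_right (Int.natCast_nonneg _) h1
    omega
  induction m with
  | zero => simpa using hm i
  | succ m ih =>
    refine ih fun j => ?_
    choose γ g hgE hgS hg using fun j => exists_res hK hu hE (mul_mem (pow_mem huE (m + 1)) (hr j)) (hm j)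
    have hγ : γ = 0 := hind γ fun Q hQ => by
      have e : ∑ j, γ j • b j = u * (u ^ m * ∑ j, r j * b j - ∑ j, g j * b j) := by
        rw [mul_sub, ← mul_assoc, ← pow_succ', Finset.mul_sum, Finset.mul_sum, ← Finset.sum_sub_distrib]
        refine Finset.sum_congr rfl fun j _ => ?_
        rw [Algebra.smul_def, ← mul_assoc (u ^ (m + 1)), hg]
        ring
      rw [e, map_mul]
      exact mul_le_of_le_one_right' (Subalgebra.sub_mem _ (Subalgebra.mul_mem _ (pow_mem huS m) hz)
        (Subalgebra.sum_mem _ fun j _ => Subalgebra.mul_mem _ (hgS j) (hb j)) Q hQ)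
    have h1 := hg j
    rw [hγ, Pi.zero_apply, map_zero, zero_add, pow_succ', mul_assoc] at h1
    rw [mul_left_cancel₀ hu0 h1]
    exact hgS j

lemma linearIndependent_of_mod {ι : Type*} [Fintype ι] (b : ι → K) (hb : ∀ i, b i ∈ fibInt k u)
    (hind : ∀ a : ι → k, (∀ Q : Place k K, Q.1 u < 1 → Q.1 (∑ i, a i • b i) ≤ Q.1 u) → a = 0) :
    LinearIndependent E b := by
  classical
  have hu0 : u ≠ 0 := fun e => hu (e ▸ isAlgebraic_zero)
  have huE : u ∈ E := hE ▸ IntermediateField.mem_adjoin_simple_self k u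
  rw [Fintype.linearIndependent_iff]
  intro g hg i
  by_contra h0
  have h0' : ((g i : E) : K) ≠ 0 := fun e => h0 (Subtype.ext e)
  obtain ⟨Z, hZ, ⟨Q, hQ⟩, -⟩ := exists_fibre hK hu
  have hQ' := (hZ Q).1 hQ
  have h1 := (v_lt_one_iff Q hu0).1 hQ'
  set j := (Q.ord (g i : K)).toNat + 1
  have h2 := coeff_mem_fibInt hK hu hE b hb hind (fun l => (g l : K) / u ^ j)
    (fun l => div_mem (g l).2 (pow_mem huE j)) (by
      rw [show ∑ l, (g l : K) / u ^ j * b l = (∑ l, g l • b l) / u ^ j by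
        rw [Finset.sum_div]
        exact Finset.sum_congr rfl fun l _ => div_mul_eq_mul_div _ _ _, hg, zero_div]
      exact Subalgebra.zero_mem _) i Q hQ'
  rw [v_le_one_iff, div_eq_mul_inv, ord_mul Q h0' (inv_ne_zero (pow_ne_zero _ hu0)), ord_inv,
    ord_pow] at h2
  have h3 : (j : ℤ) ≤ j * Q.ord u := le_mul_of_one_le_right (Int.natCast_nonneg _) h1
  omega

omit hK [IsAlgClosed k] hu hE in
/-- Order of a polynomial in `y` at a place where `y - c` is a uniformizer. -/
lemma ord_aeval_root {Q : Place k K} {y : K} {c : k} (hy : Q.1 (y - algebraMap k K c) = exp (-1 : ℤ))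
    {p : k[X]} (hp : p ≠ 0) :
    aeval y p ≠ 0 ∧ Q.ord (aeval y p) = p.rootMultiplicity c := by
  obtain ⟨w, hw, hwc⟩ := exists_eq_pow_rootMultiplicity_mul_and_not_dvd p hp c
  set z := y - algebraMap k K c with hz
  have hz0 : z ≠ 0 := fun e => exp_ne_zero (hy.symm.trans (by rw [e, map_zero]))
  have hz1 : Q.1 z < 1 := by rw [hy, ← exp_zero, exp_lt_exp]; norm_num
  have hw1 : Q.1 (aeval y w) = 1 := by
    have hc0 : (w.comp (X + C c)).coeff 0 ≠ 0 := by
      rw [coeff_zero_eq_eval_zero, eval_comp, eval_add, eval_X, eval_C, zero_add]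
      exact fun h => hwc (dvd_iff_isRoot.2 h)
    have := v_aeval_unit hz1 hc0
    rwa [aeval_comp, map_add, aeval_X, aeval_C, hz, sub_add_cancel] at this
  have hw0 : aeval y w ≠ 0 := fun e => by simp [e] at hw1
  have he : aeval y p = z ^ p.rootMultiplicity c * aeval y w := by
    conv_lhs => rw [hw]
    rw [map_mul, map_pow, map_sub, aeval_X, aeval_C]
  refine ⟨by rw [he]; exact mul_ne_zero (pow_ne_zero _ hz0) hw0, ?_⟩
  rw [he, ord_mul Q (pow_ne_zero _ hz0) hw0, ord_pow, (v_eq_exp_iff Q hz0 _).1 hy,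
    (v_eq_one_iff Q hw0).1 hw1]
  ring

/-- The dual, under the trace, of the functions integral over a rational place of `k(u)`. -/
theorem local_dual [Algebra.IsSeparable E K] (z : K) :
    (∀ Q : Place k K, Q.1 u < 1 → Q.1 z ≤ exp (dOrd hK u Q)) ↔
      ∀ w ∈ fibInt k u, ((Algebra.trace E K (z * w) : E) : K) ∈ fibInt k u := by
  classical
  have hu0 : u ≠ 0 := fun e => hu (e ▸ isAlgebraic_zero)
  have : FiniteDimensional E K := by rw [← hE]; exact finite_adjoin hK hu
  obtain ⟨Z, hZ, hZne, hsum⟩ := exists_fibre hK hu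
  set n := finrank E K with hn
  have hsum' : ∑ Q ∈ Z, (Q.ord u).toNat = n := by
    rw [hsum]; exact congrArg (fun E : IntermediateField k K => finrank E K) hE
  let cc : Place k K → k := fun Q =>
    if h : Q ∈ Z then Infinite.natEmbedding k (Fintype.equivFin Z ⟨Q, h⟩) else 0
  have hcc : Set.InjOn cc Z := by
    intro a ha b hb hab
    simp only [cc, dif_pos (Finset.mem_coe.1 ha), dif_pos (Finset.mem_coe.1 hb)] at hab
    simpa [Fin.val_inj] using hab
  obtain ⟨y, hy⟩ := weak_approx_eq Z (fun Q => algebraMap k K (cc Q)) (fun _ => 1)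
  have hyc : ∀ Q ∈ Z, Q.1 (y - algebraMap k K (cc Q)) = exp (-1 : ℤ) := hy
  have hyS : y ∈ fibInt k u := fun Q hQ => by
    rw [show y = (y - algebraMap k K (cc Q)) + algebraMap k K (cc Q) by ring]
    refine (Q.1.map_add _ _).trans (max_le ?_ (Q.2.1 _))
    rw [hyc Q ((hZ Q).2 hQ), ← exp_zero, exp_le_exp]; norm_num
  have hmult : ∀ p : k[X], p ≠ 0 → ∑ Q ∈ Z, p.rootMultiplicity (cc Q) ≤ p.natDegree := fun p hp => by
    rw [← Finset.sum_image hcc (f := fun c => p.rootMultiplicity c)]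
    simp only [← count_roots]
    refine le_trans ?_ (card_roots' p)
    rw [← Multiset.sum_count_eq_card (s := Z.image cc ∪ p.roots.toFinset)
      (m := p.roots) fun a ha => Finset.mem_union_right _ (Multiset.mem_toFinset.2 ha)]
    exact Finset.sum_le_sum_of_subset Finset.subset_union_left
  have hind : ∀ a : Fin n → k,
      (∀ Q : Place k K, Q.1 u < 1 → Q.1 (∑ i, a i • y ^ (i : ℕ)) ≤ Q.1 u) → a = 0 := fun a ha => by
    by_contra hne
    obtain ⟨i₀, hi₀⟩ := Function.ne_iff.1 hne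
    set p : k[X] := ∑ i : Fin n, C (a i) * X ^ (i : ℕ) with hp
    have hp0 : p ≠ 0 := fun e => hi₀ (by
      have := congrArg (fun q : k[X] => q.coeff i₀) e
      simpa [hp, finsetSum_coeff, coeff_C_mul_X_pow, Fin.val_inj] using this)
    have hpd : p.natDegree < n := by
      rw [natDegree_lt_iff_degree_lt hp0]
      exact degree_sum_fin_lt a
    have hpy : aeval y p = ∑ i, a i • y ^ (i : ℕ) := by simp [hp, Algebra.smul_def]
    have h1 : ∀ Q ∈ Z, (Q.ord u).toNat ≤ p.rootMultiplicity (cc Q) := fun Q hQ => by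
      obtain ⟨h0, ho⟩ := ord_aeval_root (hyc Q hQ) hp0
      have h2 := ha Q ((hZ Q).1 hQ)
      rw [← hpy, v_eq Q h0, v_eq Q hu0, exp_le_exp] at h2
      omega
    have := (Finset.sum_le_sum h1).trans (hmult p hp0)
    omega
  have hli := linearIndependent_of_mod hK hu hE (fun i : Fin n => y ^ (i : ℕ)) (fun i => pow_mem hyS _) hind
  have hn0 : 0 < n := finrank_pos
  have hint : IsIntegral E y := Algebra.IsIntegral.isIntegral y
  have hdeg : (minpoly E y).natDegree = n := by
    refine le_antisymm (minpoly.natDegree_le y) ?_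
    by_contra hlt
    push Not at hlt
    have h0 : ∑ i : Fin n, (minpoly E y).coeff i • y ^ (i : ℕ) = 0 := by
      rw [Fin.sum_univ_eq_sum_range (fun i => (minpoly E y).coeff i • y ^ i),
        ← aeval_eq_sum_range' hlt, minpoly.aeval]
    have h1 := Fintype.linearIndependent_iff.1 hli _ h0 ⟨_, hlt⟩
    simp [(minpoly.monic hint).coeff_natDegree] at h1
  set F := minpoly E y with hF
  set B := basisOfLinearIndependentOfCardEqFinrank' _ hli (Fintype.card_fin n) with hB
  have hBy : ∀ i, B i = y ^ (i : ℕ) := fun i => by simp [hB]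
  have hrepr : ∀ w : K, ∑ i, ((B.repr w i : E) : K) * y ^ (i : ℕ) = w := fun w => by
    conv_rhs => rw [← B.sum_repr w]
    exact Finset.sum_congr rfl fun i _ => by rw [hBy]; rfl
  have hcoef : ∀ w ∈ fibInt k u, ∀ i, ((B.repr w i : E) : K) ∈ fibInt k u := fun w hw i =>
    coeff_mem_fibInt hK hu hE (fun i : Fin n => y ^ (i : ℕ)) (fun i => pow_mem hyS _) hind
      (fun i => ((B.repr w i : E) : K)) (fun i => (B.repr w i).2) (by rwa [hrepr]) i
  -- the minimal polynomial
  set r : Fin n → K := fun i => ((B.repr (y ^ n) i : E) : K)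
  have hrS : ∀ i, r i ∈ fibInt k u := hcoef _ (pow_mem hyS n)
  have hFy : ∀ i : Fin n, ((F.coeff i : E) : K) = -r i := fun i => by
    have h0 : ∑ i : Fin n, (F.coeff i + B.repr (y ^ n) i) • y ^ (i : ℕ) = 0 := by
      have h := minpoly.aeval E y
      rw [aeval_eq_sum_range' (n := n + 1) (by rw [hdeg]; omega), Finset.sum_range_succ,
        ← hdeg, (minpoly.monic hint).coeff_natDegree, one_smul, hdeg,
        ← Fin.sum_univ_eq_sum_range (fun i => F.coeff i • y ^ i)] at h
      simp only [add_smul, Finset.sum_add_distrib]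
      refine Eq.trans ?_ h
      congr 1
      exact hrepr (y ^ n)
    have := congrArg Subtype.val (eq_neg_of_add_eq_zero_left (Fintype.linearIndependent_iff.1 hli _ h0 i))
    simpa [r] using this
  choose γ g hgE hgS hg using fun i => exists_res hK hu hE (r := r i) (B.repr (y ^ n) i).2 (hrS i)
  set P₀ : k[X] := X ^ n - ∑ i : Fin n, C (γ i) * X ^ (i : ℕ) with hP₀
  have hP₀m : P₀.Monic := monic_X_pow_sub (degree_sum_fin_lt γ)
  have hP₀d : P₀.natDegree = n := by
    refine natDegree_eq_of_degree_eq_some ?_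
    rw [hP₀, degree_sub_eq_left_of_degree_lt (by rw [degree_X_pow]; exact degree_sum_fin_lt γ),
      degree_X_pow]
  set G := ∑ i : Fin n, g i * y ^ (i : ℕ)
  have hPy : aeval y P₀ = u * G := by
    have h1 : (y ^ n : K) = ∑ i, r i * y ^ (i : ℕ) := (hrepr _).symm
    simp only [hP₀, map_sub, map_pow, aeval_X, map_sum, map_mul, aeval_C]
    rw [h1, ← Finset.sum_sub_distrib, Finset.mul_sum]
    exact Finset.sum_congr rfl fun i _ => by rw [hg i]; ring
  have hGS : G ∈ fibInt k u :=
    Subalgebra.sum_mem _ fun i _ => Subalgebra.mul_mem _ (hgS i) (pow_mem hyS _)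
  have hGord : ∀ Q ∈ Z, Q.1 G = 1 := by
    have hG0 : G ≠ 0 := by
      obtain ⟨Q, hQ⟩ := hZne
      intro e
      exact (ord_aeval_root (hyc Q hQ) hP₀m.ne_zero).1 (by rw [hPy, e, mul_zero])
    have h1 : ∀ Q ∈ Z, (P₀.rootMultiplicity (cc Q) : ℤ) = Q.ord u + Q.ord G := fun Q hQ => by
      rw [← (ord_aeval_root (hyc Q hQ) hP₀m.ne_zero).2, hPy, ord_mul Q hu0 hG0]
    have h2 : ∀ Q ∈ Z, 0 ≤ Q.ord G := fun Q hQ => (v_le_one_iff Q G).1 (hGS Q ((hZ Q).1 hQ))
    have h3 : ∀ Q ∈ Z, 0 < Q.ord u := fun Q hQ => (v_lt_one_iff Q hu0).1 ((hZ Q).1 hQ)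
    intro Q hQ
    rw [v_eq_one_iff Q hG0]
    have h4 : ∑ Q ∈ Z, (P₀.rootMultiplicity (cc Q) : ℤ) ≤ n := by
      rw [← hP₀d]; exact_mod_cast hmult P₀ hP₀m.ne_zero
    rw [Finset.sum_congr rfl h1, Finset.sum_add_distrib] at h4
    have h5 : ∑ Q ∈ Z, Q.ord u = n := by
      rw [← hsum']; push_cast
      exact Finset.sum_congr rfl fun Q hQ => by have := h3 Q hQ; omega
    have h6 := Finset.single_le_sum (f := fun Q : Place k K => Q.ord G) h2 hQ
    have := h2 Q hQ
    omega
  set F' := aeval y (derivative F) with hF'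
  have hF'0 : F' ≠ 0 := (Algebra.IsSeparable.isSeparable E y).aeval_derivative_ne_zero (minpoly.aeval E y)
  have hF'ord : ∀ Q ∈ Z, Q.ord F' = dOrd hK u Q := by
    intro Q hQ
    obtain ⟨t, H, ht, hH, hd⟩ := dOrd_spec hK Q
    rw [hd]
    set D := hasseDer H hH
    choose g' hg'E hg'S hg' using fun i => exists_deriv hK hu hE (hgE i) (hgS i)
    set G' := ∑ i : Fin n, g' i * y ^ (i : ℕ)
    have hDy : Q.1 (D y) = 1 := by
      have := v_hasseD_of_uniformizer hK ht (hyc Q hQ) hH
      rw [← hasseDer_apply H hH, map_sub, Derivation.map_algebraMap, sub_zero] at this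
      exact this
    have hder : F' * D y = LocRes.hasseD H 1 u * (G + u * G') := by
      have h1 : ∀ i : Fin n, D (r i) = LocRes.hasseD H 1 u * (g i + u * g' i) := fun i => by
        rw [hg i, map_add, Derivation.map_algebraMap, zero_add, Derivation.leibniz, smul_eq_mul,
          smul_eq_mul]
        show u * LocRes.hasseD H 1 (g i) + g i * LocRes.hasseD H 1 u = _
        rw [hg' i t H hH]
        ring
      have hF'e : F' = (n : K) * y ^ (n - 1) - ∑ i : Fin n, r i * ((i : ℕ) * y ^ ((i : ℕ) - 1)) := by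
        have e : F = X ^ n + ∑ i : Fin n, C (F.coeff i) * X ^ (i : ℕ) := by
          conv_lhs => rw [F.as_sum_range_C_mul_X_pow, hdeg, Finset.sum_range_succ, add_comm,
            ← hdeg, (minpoly.monic hint).coeff_natDegree, map_one, one_mul, hdeg,
            ← Fin.sum_univ_eq_sum_range (fun i => C (F.coeff i) * X ^ i)]
        rw [hF', e]
        simp only [derivative_X_pow, derivative_C_mul, map_add,
          map_sum, map_mul, map_natCast, map_pow, aeval_X, aeval_C]
        rw [sub_eq_add_neg, ← Finset.sum_neg_distrib]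
        congr 1
        exact Finset.sum_congr rfl fun i _ => by
          rw [← neg_mul, ← hFy i]; rfl
      have h2 : D (y ^ n) = D (∑ i, r i * y ^ (i : ℕ)) := by rw [hrepr]
      simp only [Derivation.leibniz_pow, map_sum, Derivation.leibniz, smul_eq_mul, nsmul_eq_mul] at h2
      rw [hF'e]
      simp only [h1] at h2
      simp only [G, G', sub_mul, Finset.mul_sum, Finset.sum_mul, ← Finset.sum_add_distrib]
      rw [show (n : K) * y ^ (n - 1) * D y = (n : K) * (y ^ (n - 1) * D y) by ring, h2,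
        ← Finset.sum_sub_distrib]
      exact Finset.sum_congr rfl fun i _ => by ring
    have hDy0 : D y ≠ 0 := fun e => by simp [e] at hDy
    have hGG : Q.1 (G + u * G') = 1 := by
      rw [Q.1.map_add_eq_of_lt_left, hGord Q hQ]
      rw [hGord Q hQ, map_mul]
      exact mul_lt_one_of_lt_of_le ((hZ Q).1 hQ) (Subalgebra.sum_mem (fibInt k u)
        (fun i _ => Subalgebra.mul_mem _ (hg'S i) (pow_mem hyS _)) Q ((hZ Q).1 hQ))
    have hdu : LocRes.hasseD H 1 u ≠ 0 := hasseD_ne_zero_of_sep hK hu (by rw [hE]; infer_instance) hH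
    have h3 := congrArg Q.ord hder
    rwa [ord_mul Q hF'0 hDy0, (v_eq_one_iff Q hDy0).1 hDy, add_zero, ord_mul Q hdu (fun e => by simp [e] at hGG),
      (v_eq_one_iff Q (fun e => by simp [e] at hGG)).1 hGG, add_zero] at h3
  -- the Euler identity
  set last : Fin n := ⟨n - 1, by omega⟩
  let pb : PowerBasis E K := ⟨y, n, B, hBy⟩
  have heuler : ∀ i : Fin n, Algebra.trace E K (y ^ (i : ℕ) / F') = if i = last then 1 else 0 := by
    intro i
    have h1 := pb.basis.trace_mul_traceDual i last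
    rw [Basis.traceDual_powerBasis_eq pb last] at h1
    have hc : (minpolyDiv E y).coeff (n - 1) = 1 := by
      have := (minpolyDiv_monic hint).coeff_natDegree
      rwa [natDegree_minpolyDiv, hdeg] at this
    rw [show pb.basis i = y ^ (i : ℕ) from hBy i, show (minpolyDiv E pb.gen).coeff ((last : Fin n) : ℕ) = 1 from hc,
      mul_div_assoc', mul_one] at h1
    exact h1
  have htr : ∀ w : K, Algebra.trace E K (w / F') = B.repr w last := fun w => by
    conv_lhs => rw [← B.sum_repr w, Finset.sum_div]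
    simp only [hBy, smul_div_assoc, map_sum, map_smul, heuler, smul_eq_mul, mul_ite, mul_one, mul_zero]
    rw [Finset.sum_ite_eq' Finset.univ last, if_pos (Finset.mem_univ _)]
  have htrS : ∀ w ∈ fibInt k u, ((Algebra.trace E K (w / F') : E) : K) ∈ fibInt k u := fun w hw => by
    rw [htr]; exact hcoef w hw last
  have hiff : (∀ Q : Place k K, Q.1 u < 1 → Q.1 z ≤ exp (dOrd hK u Q)) ↔ z * F' ∈ fibInt k u := by
    rw [mem_fibInt]
    refine forall₂_congr fun Q hQ => ?_
    rcases eq_or_ne z 0 with rfl | hz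
    · simp
    rw [v_le_exp_iff Q hz, v_le_one_iff, ord_mul Q hz hF'0, hF'ord Q ((hZ Q).2 hQ)]
    omega
  rw [hiff]
  refine ⟨fun hz w hw => ?_, fun h => ?_⟩
  · rw [show z * w = z * F' * w / F' by field_simp]
    exact htrS _ (Subalgebra.mul_mem _ hz hw)
  · set a : Fin n → K := fun i => ((B.repr (z * F') i : E) : K)
    suffices ha : ∀ m : ℕ, ∀ i : Fin n, n - 1 - m = i → a i ∈ fibInt k u by
      rw [← hrepr (z * F')]
      exact Subalgebra.sum_mem _ fun i _ =>
        Subalgebra.mul_mem _ (ha (n - 1 - i) i (by omega)) (pow_mem hyS _)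
    intro m
    induction m using Nat.strong_induction_on with | _ m ih => ?_
    intro i hi
    rcases lt_or_ge m n with hm | hm
    swap
    · exact ih (n - 1) (by omega) i (by omega)
    have h1 := h (y ^ m) (pow_mem hyS m)
    have hterm : ∀ j : Fin n, j ≠ i → ((Algebra.trace E K (B.repr (z * F') j • (y ^ ((j : ℕ) + m) / F')) : E) : K) ∈ fibInt k u := by
      intro j hj
      rw [map_smul]
      rcases lt_or_ge ((j : ℕ) + m) n with hjm | hjm
      · have hne : (⟨(j : ℕ) + m, hjm⟩ : Fin n) ≠ last := fun e => hj (Fin.ext (by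
          have := congrArg Fin.val e; simp [last] at this; omega))
        have := heuler ⟨(j : ℕ) + m, hjm⟩
        rw [if_neg hne] at this
        rw [this, smul_zero]
        exact Subalgebra.zero_mem _
      · refine Subalgebra.mul_mem _ ?_ (htrS _ (pow_mem hyS _))
        exact ih (n - 1 - j) (by omega) j (by omega)
    have h2 : z * y ^ m = ∑ j, B.repr (z * F') j • (y ^ ((j : ℕ) + m) / F') := by
      rw [show z * y ^ m = z * F' * y ^ m / F' by field_simp]
      conv_lhs => rw [← hrepr (z * F'), Finset.sum_mul, Finset.sum_div]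
      exact Finset.sum_congr rfl fun j _ => by
        rw [pow_add, IntermediateField.smul_def, smul_eq_mul]; ring
    rw [h2, map_sum, ← Finset.add_sum_erase _ _ (Finset.mem_univ i), IntermediateField.coe_add,
      map_smul] at h1
    have h3 : Algebra.trace E K (y ^ ((i : ℕ) + m) / F') = 1 := by
      have he : (i : ℕ) + m = n - 1 := by omega
      have := heuler last
      rw [if_pos rfl] at this
      rw [he]; exact this
    rw [h3, smul_eq_mul, mul_one, AddSubmonoidClass.coe_finsetSum] at h1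
    have h4 : ∑ j ∈ Finset.univ.erase i, ((Algebra.trace E K (B.repr (z * F') j • (y ^ ((j : ℕ) + m) / F')) : E) : K) ∈ fibInt k u :=
      Subalgebra.sum_mem _ fun j hj => hterm j (Finset.ne_of_mem_erase hj)
    have h5 := Subalgebra.sub_mem _ h1 h4
    simpa [a] using h5

end Groth.Agent.FFLib
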