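import Groth.Agent.FFLib.DiffDiv
import Groth.Agent.FFLib.Embedding
import Mathlib.FieldTheory.Minpoly.MinpolyDiv
import Mathlib.RingTheory.Trace.Basic
import Mathlib.RingTheory.Adjoin.PowerBasis

/-!
# The conductor of a monic plane equation
-/

open WithZero Module Polynomial

namespace Groth.Agent.FFLib

open FunFld

variable {k K : Type*} [Field k] [Field K] [Algebra k K]

/-- Evaluation of a polynomial in `k[u][z]`. -/
noncomputable def ev2 (u z : K) : k[X][X] →+* K :=
  Polynomial.eval₂RingHom (aeval u : k[X] →ₐ[k] K).toRingHom z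

lemma ev2_C (u z : K) (p : k[X]) : ev2 u z (C p) = aeval u p := Polynomial.eval₂_C _ _

lemma ev2_X (u z : K) : ev2 (k := k) u z X = z := Polynomial.eval₂_X _ _

lemma aeval_mem_adjoin (u z : K) (p : k[X]) : aeval u p ∈ Algebra.adjoin k ({u, z} : Set K) := by
  have h : aeval u p ∈ Algebra.adjoin k ({u} : Set K) := by
    rw [Algebra.adjoin_singleton_eq_range_aeval]; exact ⟨p, rfl⟩
  exact Algebra.adjoin_mono (Set.singleton_subset_iff.2 (Set.mem_insert _ _)) h

lemma ev2_mem (u z : K) (p : k[X][X]) : ev2 u z p ∈ Algebra.adjoin k ({u, z} : Set K) := by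
  induction p using Polynomial.induction_on' with
  | add p q hp hq => rw [map_add]; exact add_mem hp hq
  | monomial i a =>
    rw [← C_mul_X_pow_eq_monomial, map_mul, map_pow, ev2_C, ev2_X]
    refine Subalgebra.mul_mem _ ?_ (pow_mem (Algebra.subset_adjoin (by simp)) i)
    exact aeval_mem_adjoin u z a

lemma exists_ev2 (u z : K) {a : K} (ha : a ∈ Algebra.adjoin k ({u, z} : Set K)) :
    ∃ p : k[X][X], ev2 u z p = a := by
  induction ha using Algebra.adjoin_induction with
  | mem y hy =>
    rcases hy with rfl | rfl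
    · exact ⟨C X, by rw [ev2_C, aeval_X]⟩
    · exact ⟨X, ev2_X _ _⟩
  | algebraMap c => exact ⟨C (C c), by rw [ev2_C, aeval_C]⟩
  | add a b _ _ ha hb =>
    obtain ⟨p, rfl⟩ := ha
    obtain ⟨q, rfl⟩ := hb
    exact ⟨p + q, map_add _ _ _⟩
  | mul a b _ _ ha hb =>
    obtain ⟨p, rfl⟩ := ha
    obtain ⟨q, rfl⟩ := hb
    exact ⟨p * q, map_mul _ _ _⟩

variable {u z : K} {n : ℕ} {P : k[X][X]}
  (hn : finrank (IntermediateField.adjoin k ({u} : Set K)) K = n)
  (hP : P.Monic) (hPd : P.natDegree = n) (hrel : ev2 u z P = 0)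

/-- A function is integral wherever its monic equation has integral coefficients. -/
lemma v_le_one_of_monic (hP : P.Monic) (hrel : ev2 u z P = 0) (Q : Place k K) (hu : Q.1 u ≤ 1) :
    Q.1 z ≤ 1 := by
  by_contra hlt
  push Not at hlt
  have h1 : ev2 u z P = z ^ P.natDegree + ∑ i ∈ Finset.range P.natDegree, aeval u (P.coeff i) * z ^ i := by
    show Polynomial.eval₂ _ z P = _
    rw [Polynomial.eval₂_eq_sum_range, Finset.sum_range_succ, hP.coeff_natDegree, map_one, one_mul, add_comm]
    rfl
  rcases Nat.eq_zero_or_pos P.natDegree with h0 | hpos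
  · rw [hrel, h0] at h1
    simp at h1
  have hz0 : z ≠ 0 := fun e => by rw [e, map_zero] at hlt; exact not_lt.2 zero_le_one hlt
  have h2 : Q.1 (∑ i ∈ Finset.range P.natDegree, aeval u (P.coeff i) * z ^ i) < Q.1 (z ^ P.natDegree) := by
    refine Q.1.map_sum_lt ((Valuation.ne_zero_iff _).2 (pow_ne_zero _ hz0)) fun i hi => ?_
    rw [map_mul, map_pow, map_pow]
    exact (mul_le_of_le_one_left' (v_aeval_le Q.1 Q.2.1 hu _)).trans_lt
      (pow_lt_pow_right₀ hlt (Finset.mem_range.1 hi))
  rw [hrel] at h1
  have h3 := Q.1.map_add_eq_of_lt_left h2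
  rw [← h1, map_zero] at h3
  rw [← h3] at h2
  exact not_lt.2 zero_le h2

variable [IsAlgClosed k] (hK : IsFunctionField k K) (hu : Transcendental k u)
  (htop : IntermediateField.adjoin (IntermediateField.adjoin k ({u} : Set K)) ({z} : Set K) = ⊤)
  [Algebra.IsSeparable (IntermediateField.adjoin k ({u} : Set K)) K]
include hn hP hPd hrel hK hu htop

/-- The main computation: the different exponent bounds the derivative of the equation, with
equality exactly at nonsingular places. -/
theorem conductor_core (Q : Place k K) (hQ : Q.1 u ≤ 1) :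
    dOrd hK u Q ≤ Q.ord (ev2 u z (derivative P)) ∧
    (Q.ord (ev2 u z (derivative P)) = dOrd hK u Q ↔
      ∀ y : K, Q.1 y ≤ 1 → ∃ a ∈ Algebra.adjoin k ({u, z} : Set K),
        ∃ b ∈ Algebra.adjoin k ({u, z} : Set K), Q.1 b = 1 ∧ y * b = a) := by
  classical
  obtain ⟨E, hE⟩ : ∃ E : IntermediateField k K, IntermediateField.adjoin k ({u} : Set K) = E := ⟨_, rfl⟩
  subst hE
  set E := IntermediateField.adjoin k ({u} : Set K) with hE
  have hfd : FiniteDimensional E K := finite_adjoin hK hu
  set A := Algebra.adjoin k ({u, z} : Set K) with hA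
  have hint : IsIntegral E z := Algebra.IsIntegral.isIntegral z
  have hn0 : 0 < n := hn ▸ finrank_pos
  -- the minimal polynomial
  let ι : k[X] →+* E := (aeval (⟨u, IntermediateField.mem_adjoin_simple_self k u⟩ : E) : k[X] →ₐ[k] E).toRingHom
  have hι : ∀ p : k[X], ((ι p : E) : K) = aeval u p := fun p =>
    (Polynomial.aeval_algHom_apply E.val _ p).symm
  have hev : ∀ p : k[X][X], aeval z (p.map ι) = ev2 u z p := fun p => by
    rw [aeval_def, eval₂_map]
    show eval₂ _ z p = eval₂ _ z p
    congr 1
    exact RingHom.ext hι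
  have hmdeg : (minpoly E z).natDegree = n := by
    have h1 := IntermediateField.adjoin.finrank hint
    rw [htop, IntermediateField.finrank_top'] at h1
    rw [← h1]; exact hn
  have hmin : minpoly E z = P.map ι := by
    refine (eq_of_monic_of_dvd_of_natDegree_le (minpoly.monic hint) (hP.map _)
      (minpoly.dvd E z (by rw [hev, hrel])) ?_).symm
    rw [natDegree_map_eq_of_injective ?_ , hPd, hmdeg]
    intro a b hab
    have := congrArg (fun e : E => (e : K)) hab
    simp only [hι] at this
    by_contra hne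
    exact hu ⟨a - b, sub_ne_zero.2 hne, by rw [map_sub, this, sub_self]⟩
  set D := ev2 u z (derivative P) with hD
  have hDmin : aeval z (derivative (minpoly E z)) = D := by
    rw [hmin, derivative_map, hev]
  have hD0 : D ≠ 0 := by
    rw [← hDmin]
    exact (Algebra.IsSeparable.isSeparable E z).aeval_derivative_ne_zero (minpoly.aeval E z)
  -- the power basis
  have htopA : Algebra.adjoin E ({z} : Set K) = ⊤ := by
    rw [← IntermediateField.adjoin_simple_toSubalgebra_of_isAlgebraic hint.isAlgebraic, htop]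
    rfl
  set pb := (Algebra.adjoin.powerBasis' hint).map
    ((Subalgebra.equivOfEq _ _ htopA).trans (Subalgebra.topEquiv)) with hpb
  have hgen : pb.gen = z := by simp [hpb]
  have hdim : pb.dim = n := by rw [← pb.natDegree_minpoly, hgen, hmdeg]
  have hc : ∀ i, (minpolyDiv E z).coeff i ∈ A := by
    have key : ∀ j i, (minpolyDiv E z).natDegree < i + j → (minpolyDiv E z).coeff i ∈ A := by
      intro j
      induction j with
      | zero => exact fun i hi => by rw [coeff_eq_zero_of_natDegree_lt (by omega)]; exact Subalgebra.zero_mem _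
      | succ j ih =>
        intro i hi
        rw [coeff_minpolyDiv, hmin, coeff_map]
        refine Subalgebra.add_mem _ ?_ (Subalgebra.mul_mem _ (ih (i + 1) (by omega))
          (Algebra.subset_adjoin (by simp)))
        show ((ι _ : E) : K) ∈ A
        rw [hι]
        exact aeval_mem_adjoin u z _
    exact fun i => key ((minpolyDiv E z).natDegree + 1) i (by omega)
  -- the trace of `a / D`
  have htr : ∀ a ∈ A, ∃ p : k[X], ((Algebra.trace E K (a / D) : E) : K) = aeval u p := by
    intro a ha
    obtain ⟨p, rfl⟩ := exists_ev2 u z ha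
    have hred : ev2 u z p = ev2 u z (p %ₘ P) := by
      conv_lhs => rw [← modByMonic_add_div p P, map_add, map_mul, hrel, zero_mul, add_zero]
    refine ⟨(p %ₘ P).coeff (n - 1), ?_⟩
    rw [hred]
    set r := p %ₘ P
    have hrd : r.natDegree < n := by
      rw [← hPd]
      exact natDegree_modByMonic_lt p hP fun e => by rw [e, natDegree_one] at hPd; omega
    have hlast : ∀ j : ℕ, j < n → Algebra.trace E K (z ^ j / D) = if j = n - 1 then 1 else 0 := by
      intro j hj
      have h1 := pb.basis.trace_traceDual_mul ⟨n - 1, by rw [hdim]; omega⟩ ⟨j, by rw [hdim]; omega⟩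
      rw [Basis.traceDual_powerBasis_eq, pb.basis_eq_pow, hgen] at h1
      simp only [hDmin] at h1
      have h2 : (minpolyDiv E z).coeff (n - 1) = 1 := by
        have h3 := natDegree_minpolyDiv_succ (R := E) hint
        rw [hmdeg] at h3
        rw [show n - 1 = (minpolyDiv E z).natDegree by omega]
        exact minpolyDiv_monic hint
      rw [h2, div_mul_eq_mul_div, one_mul] at h1
      rw [h1]
      simp [Fin.ext_iff]
    have hsum : ev2 u z r / D = ∑ j ∈ Finset.range n, (ι (r.coeff j)) • (z ^ j / D) := by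
      show Polynomial.eval₂ _ z r / D = _
      rw [Polynomial.eval₂_eq_sum_range' _ hrd, Finset.sum_div]
      refine Finset.sum_congr rfl fun j _ => ?_
      rw [IntermediateField.smul_def, smul_eq_mul, hι, mul_div_assoc]
      rfl
    rw [hsum, map_sum]
    simp only [map_smul]
    rw [Finset.sum_eq_single (n - 1) (fun j hj hne => by
      rw [hlast j (Finset.mem_range.1 hj), if_neg hne, smul_zero]) (fun h => absurd (Finset.mem_range.2 (by omega)) h),
      hlast _ (by omega), if_pos rfl, smul_eq_mul, mul_one, hι]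
  -- shift
  obtain ⟨c, hcQ⟩ := exists_const_sub_lt (deg_eq_one hK Q) hQ
  set u' := u - algebraMap k K c with hu'
  have hu't : Transcendental k u' := transcendental_sub hu c
  have hE' : IntermediateField.adjoin k ({u'} : Set K) = E := adjoin_sub c
  have hfibu : ∀ R : Place k K, R.1 u' < 1 → R.1 u ≤ 1 := fun R hR =>
    (finite_iff_exists hK).2 ⟨c, hR⟩
  have hunit : ∀ (R : Place k K), R.1 u' < 1 → ∀ q : k[X], q.eval c ≠ 0 → R.1 (aeval u q) = 1 := by
    intro R hR q hq
    have h := v_aeval_unit (u := u') hR (q := q.comp (X + C c))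
      (by rwa [coeff_zero_eq_eval_zero, eval_comp, eval_add, eval_X, eval_C, zero_add])
    rwa [aeval_comp, map_add, aeval_X, aeval_C, hu', sub_add_cancel] at h
  have hQ' : Q.1 u' < 1 := hcQ
  have hzfib : z ∈ fibInt k u' := fun R hR => v_le_one_of_monic hP hrel R (hfibu R hR)
  -- (b): duality gives membership in the localised ring
  have hback : ∀ t : K, (∀ R : Place k K, R.1 u' < 1 → R.1 (t / D) ≤ exp (dOrd hK u R)) →
      ∃ q : k[X], q.eval c ≠ 0 ∧ t * aeval u q ∈ A := by
    intro t ht
    have hdual := (local_dual hK hu't hE' (t / D)).1 fun R hR => by rw [dOrd_sub_const hK]; exact ht R hR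
    have hexp := pb.basis.traceDual.sum_repr (t / D)
    have hfrac : ∀ i : Fin pb.dim, ∃ q : k[X], q.eval c ≠ 0 ∧
        ((pb.basis.traceDual.repr (t / D) i : E) : K) * aeval u q ∈ A := by
      intro i
      have hr : ((pb.basis.traceDual.repr (t / D) i : E) : K) ∈ fibInt k u' := by
        rw [Basis.traceDual_repr_apply, Algebra.traceForm_apply, pb.basis_eq_pow, hgen]
        exact hdual (z ^ (i : ℕ)) (pow_mem hzfib _)
      obtain ⟨p, q, hq, hpq⟩ := exists_frac hK hu't hE' (pb.basis.traceDual.repr (t / D) i).2 hr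
      refine ⟨q.comp (X - C c), by
        rwa [eval_comp, eval_sub, eval_X, eval_C, sub_self, ← coeff_zero_eq_eval_zero], ?_⟩
      rw [aeval_comp, map_sub, aeval_X, aeval_C, ← hu', hpq]
      refine Algebra.adjoin_le ?_ ((Algebra.adjoin_singleton_eq_range_aeval k u').symm ▸ ⟨p, rfl⟩ :
        aeval u' p ∈ Algebra.adjoin k ({u'} : Set K))
      rw [Set.singleton_subset_iff]
      exact Subalgebra.sub_mem _ (Algebra.subset_adjoin (by simp)) (Subalgebra.algebraMap_mem _ c)
    choose q hq hqm using hfrac
    refine ⟨∏ i, q i, by rw [eval_prod]; exact Finset.prod_ne_zero_iff.2 fun i _ => hq i, ?_⟩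
    have he : t = ∑ i, ((pb.basis.traceDual.repr (t / D) i : E) : K) * (minpolyDiv E z).coeff (i : ℕ) := by
      conv_lhs => rw [← div_mul_cancel₀ t hD0, ← hexp, Finset.sum_mul]
      refine Finset.sum_congr rfl fun i _ => ?_
      rw [IntermediateField.smul_def, smul_eq_mul, Basis.traceDual_powerBasis_eq, hgen, hDmin, mul_assoc,
        div_mul_cancel₀ _ hD0]
    rw [he, Finset.sum_mul]
    refine Subalgebra.sum_mem _ fun i _ => ?_
    rw [map_prod, ← Finset.mul_prod_erase _ _ (Finset.mem_univ i), mul_right_comm, ← mul_assoc]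
    exact Subalgebra.mul_mem _ (Subalgebra.mul_mem _ (hqm i)
      (Subalgebra.prod_mem _ fun j _ => aeval_mem_adjoin u z (q j))) (hc _)
  -- the inequality
  have hge : ∀ R : Place k K, R.1 u' < 1 → dOrd hK u R ≤ R.ord D := by
    intro R hR
    obtain ⟨Z, hZ, -, -⟩ := exists_fibre hK hu't
    obtain ⟨y, hy⟩ := weak_approx_eq Z (fun _ => 0) (fun S => -dOrd hK u S)
    simp only [sub_zero, neg_neg] at hy
    obtain ⟨q, hq, hmem⟩ := hback (y * D) fun S hS => by
      rw [mul_div_assoc, div_self hD0, mul_one]; exact (hy S ((hZ S).2 hS)).le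
    have hint' : ∀ a ∈ A, R.1 a ≤ 1 := fun a ha => by
      induction ha using Algebra.adjoin_induction with
      | mem w hw =>
        rcases hw with rfl | rfl
        · exact hfibu R hR
        · exact hzfib R hR
      | algebraMap e => exact R.2.1 e
      | add a b _ _ ha hb => exact R.1.map_add_le ha hb
      | mul a b _ _ ha hb => rw [map_mul]; exact mul_le_one' ha hb
    have h1 := hint' _ hmem
    rw [map_mul, hunit R hR q hq, mul_one, map_mul, hy R ((hZ R).2 hR), v_eq R hD0, ← exp_add,
      ← exp_zero, exp_le_exp] at h1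
    omega
  refine ⟨hge Q hQ', ?_, ?_⟩
  · -- equality gives nonsingularity
    intro heq y hy
    obtain ⟨Z, hZ, -, -⟩ := exists_fibre hK hu't
    let M : Place k K → ℤ := fun R =>
      if R = Q then 0 else max (R.ord D - dOrd hK u R) 0 + max (-R.ord y) 0
    obtain ⟨w, hw⟩ := weak_approx_eq Z (fun _ => 0) M
    simp only [sub_zero] at hw
    have hbd : ∀ t : K, (t = w ∨ t = y * w) → ∀ R : Place k K, R.1 u' < 1 →
        R.1 (t / D) ≤ exp (dOrd hK u R) := by
      intro t ht R hR
      have hwR := hw R ((hZ R).2 hR)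
      have hyR : R.1 y ≤ exp (max (-R.ord y) 0) := by
        rcases eq_or_ne y 0 with h0 | h0
        · simp [h0]
        · rw [v_eq R h0, exp_le_exp]; omega
      have htR : R.1 t ≤ exp (dOrd hK u R - R.ord D) := by
        rcases eq_or_ne R Q with e | hne
        · have hM : M R = 0 := if_pos e
          rw [hM, neg_zero, exp_zero] at hwR
          rw [e] at hwR ⊢
          rw [heq, sub_self, exp_zero]
          rcases ht with rfl | rfl
          · exact hwR.le
          · rw [map_mul, hwR, mul_one]; exact hy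
        · have hM : M R = max (R.ord D - dOrd hK u R) 0 + max (-R.ord y) 0 := if_neg hne
          rw [hM] at hwR
          rcases ht with rfl | rfl
          · rw [hwR, exp_le_exp]; omega
          · rw [map_mul, hwR]
            refine (mul_le_mul' hyR le_rfl).trans ?_
            rw [← exp_add, exp_le_exp]
            omega
      rw [map_div₀, v_eq R hD0, div_le_iff₀ exp_pos, ← exp_add]
      exact htR.trans_eq (by congr 1)
    obtain ⟨q₁, hq₁, hm₁⟩ := hback w (hbd w (.inl rfl))
    obtain ⟨q₂, hq₂, hm₂⟩ := hback (y * w) (hbd _ (.inr rfl))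
    have hAq : ∀ q : k[X], aeval u q ∈ A := aeval_mem_adjoin u z
    refine ⟨y * w * aeval u q₂ * aeval u q₁, Subalgebra.mul_mem _ hm₂ (hAq q₁),
      w * aeval u q₁ * aeval u q₂, Subalgebra.mul_mem _ hm₁ (hAq q₂), ?_, by ring⟩
    have hwQ := hw Q ((hZ Q).2 hQ')
    rw [show M Q = 0 from if_pos rfl, neg_zero, exp_zero] at hwQ
    rw [map_mul, map_mul, hwQ, hunit Q hQ' q₁ hq₁, hunit Q hQ' q₂ hq₂, one_mul, one_mul]
  · -- nonsingularity gives equality
    intro hns
    have huA : u ∈ A := Algebra.subset_adjoin (by simp)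
    obtain ⟨G, hG1, hG2⟩ := exists_finite_span_regular hK hu A huA
    have hG : ∀ g ∈ G, ∃ b ∈ A, Q.1 b = 1 ∧ g * b ∈ A := fun g hg => by
      obtain ⟨a, ha, b, hb, hb1, hab⟩ := hns g (hG1 g hg Q ((v_le_one_iff Q u).1 hQ))
      exact ⟨b, hb, hb1, hab ▸ ha⟩
    choose! b hbA hb1 hbm using hG
    set w := ∏ g ∈ G, b g with hw
    have hwA : w ∈ A := Subalgebra.prod_mem _ fun g hg => hbA g hg
    have hw1 : Q.1 w = 1 := by rw [hw, map_prod]; exact Finset.prod_eq_one fun g hg => hb1 g hg
    have hspan : ∀ y ∈ Submodule.span A (G : Set K), y * w ∈ A := fun y hy => by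
      induction hy using Submodule.span_induction with
      | mem g hg =>
        rw [hw, ← Finset.mul_prod_erase _ _ hg, ← mul_assoc]
        exact Subalgebra.mul_mem _ (hbm g hg)
          (Subalgebra.prod_mem _ fun g' hg' => hbA g' (Finset.mem_of_mem_erase hg'))
      | zero => rw [zero_mul]; exact Subalgebra.zero_mem _
      | add a b _ _ ha hb => rw [add_mul]; exact Subalgebra.add_mem _ ha hb
      | smul a b _ hb =>
        show (a : K) * b * w ∈ A
        rw [mul_assoc]; exact Subalgebra.mul_mem _ a.2 hb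
    have hdual : ∀ s ∈ fibInt k u', ((Algebra.trace E K (w / D * s) : E) : K) ∈ fibInt k u' := by
      intro s hs
      obtain ⟨q, -, hqs, hqc⟩ := exists_clear (x := u) hK s
      have hq := hqc c hs
      have hsA : aeval u q * s * w ∈ A :=
        hspan _ (hG2 _ fun R hR => hqs R ((v_le_one_iff R u).2 hR))
      obtain ⟨p, hp⟩ := htr _ hsA
      intro R hR
      have heq2 : Algebra.trace E K (aeval u q * s * w / D) = ι q * Algebra.trace E K (w / D * s) := by
        rw [show aeval u q * s * w / D = ι q • (w / D * s) by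
          rw [IntermediateField.smul_def, smul_eq_mul, hι]; ring, map_smul, smul_eq_mul]
      rw [heq2, MulMemClass.coe_mul, hι] at hp
      have h := congrArg R.1 hp
      rw [map_mul, hunit R hR q hq, one_mul] at h
      rw [h]
      exact v_aeval_le R.1 R.2.1 (hfibu R hR) p
    have h := (local_dual hK hu't hE' (w / D)).2 hdual Q hQ'
    rw [dOrd_sub_const hK, map_div₀, hw1, one_div, v_eq Q hD0, ← exp_neg, neg_neg, exp_le_exp] at h
    exact le_antisymm h (hge Q hQ')

end Groth.Agent.FFLib
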