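import Groth.Agent.FFLib.WrFixed
import Groth.Prelude.Def_W4bk4goldsch45

/-!
# The first order at a nonsingular place
-/

open WithZero Module

namespace Groth.Agent.FFLib

open FunFld

variable {k K : Type*} [Field k] [IsAlgClosed k] [Field K] [Algebra k K]

/-- The functions congruent to a constant to second order. -/
def secondOrderConst (P : Place k K) : Subalgebra k K where
  carrier := {f | P.1 f ≤ 1 ∧ ∃ c : k, P.1 (f - algebraMap k K c) ≤ exp (-2 : ℤ)}
  mul_mem' {a b} := by
    rintro ⟨ha, c, hc⟩ ⟨hb, d, hd⟩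
    refine ⟨by rw [map_mul]; exact mul_le_one' ha hb, c * d, ?_⟩
    rw [map_mul, show a * b - algebraMap k K c * algebraMap k K d =
      (a - algebraMap k K c) * b + algebraMap k K c * (b - algebraMap k K d) by ring]
    refine P.1.map_add_le ?_ ?_
    · rw [map_mul]; exact (mul_le_mul' hc hb).trans_eq (mul_one _)
    · rw [map_mul]; exact (mul_le_mul' (P.2.1 c) hd).trans_eq (one_mul _)
  add_mem' {a b} := by
    rintro ⟨ha, c, hc⟩ ⟨hb, d, hd⟩
    refine ⟨P.1.map_add_le ha hb, c + d, ?_⟩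
    rw [map_add, show a + b - (algebraMap k K c + algebraMap k K d) =
      (a - algebraMap k K c) + (b - algebraMap k K d) by ring]
    exact P.1.map_add_le hc hd
  algebraMap_mem' c := ⟨P.2.1 c, c, by simp⟩

/-- At a nonsingular place the first order is `1`. -/
theorem first_order_eq_one (hK : IsFunctionField k K) (P : Place k K) {n : ℕ} (hn : 0 < n)
    {φ : Fin (n + 1) → K} (heff : (1 : K) ∈ Submodule.span k (Set.range φ))
    (hint : ∀ i, P.1 (φ i) ≤ 1) (hns : IsNonsingularAt φ P) {t : K} (ht : P.1 t = exp (-1 : ℤ))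
    {Ht : K →ₐ[k] PowerSeries K} (hHt : LocRes.IsHasseFamily t Ht) {J : Fin n → ℕ}
    (hJ : IsOrders (IsLocalRing.ResidueField P.O) (hcolAt P Ht φ) J) : J ⟨0, hn⟩ = 1 := by
  classical
  have hdeg := deg_eq_one hK P
  have hsep := (hasse_separating hK hHt).2
  obtain ⟨Φ, hΦ, hΦt⟩ := exists_expansion hdeg ht
  have hpos : 0 < J ⟨0, hn⟩ :=
    ((isJump_hcolAt_iff hsep hΦ hΦt hHt hint hdeg _).1 ((hJ.2 _).1 ⟨_, rfl⟩)).1
  by_contra hne
  -- every entry is constant to second order
  have hS : ∀ i, φ i ∈ secondOrderConst P := by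
    intro i
    obtain ⟨c, hc⟩ := exists_const_sub_lt hdeg (hint i)
    refine ⟨hint i, c, ?_⟩
    by_contra hlt
    have h1 : P.1 (φ i - algebraMap k K c) = exp (-((1 : ℕ) : ℤ)) := by
      refine le_antisymm (le_exp_neg_one_of_lt_one hc) ?_
      by_contra hlt'
      push Not at hlt'
      refine hlt ?_
      rcases eq_or_ne (φ i - algebraMap k K c) 0 with h0 | h0
      · simp [h0]
      · rw [v_le_exp_iff P h0]
        have := (v_lt_exp_iff P h0 _).1 hlt'
        omega
    obtain ⟨l, hl⟩ := (hJ.2 1).2 ((isJump_hcolAt_iff hsep hΦ hΦt hHt hint hdeg 1).2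
      ⟨Nat.one_pos, _, Submodule.sub_mem _ (Submodule.subset_span ⟨i, rfl⟩)
        (by rw [Algebra.algebraMap_eq_smul_one]; exact Submodule.smul_mem _ _ heff), h1⟩)
    have := hJ.1.monotone (show (⟨0, hn⟩ : Fin n) ≤ l from Fin.mk_le_of_le_val (Nat.zero_le _))
    omega
  have ht1 : P.1 t ≤ 1 := by rw [ht, ← exp_zero, exp_le_exp]; norm_num
  obtain ⟨j, hj0, hmax, u, hu, w, hw, hw1, hzw⟩ := hns t ht1
  have hj1 : P.1 (φ j) = 1 := by
    refine le_antisymm (hint j) ?_
    obtain ⟨μ, hμ⟩ := (Submodule.mem_span_range_iff_exists_fun k).1 heff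
    have := P.1.map_sum_le (f := fun i => μ i • φ i) (s := Finset.univ)
      fun i _ => (v_smul_le P _ _).trans (hmax i)
    rwa [hμ, map_one] at this
  obtain ⟨-, c, hc⟩ := hS j
  have hc0 : c ≠ 0 := by
    rintro rfl
    rw [map_zero, sub_zero, hj1, ← exp_zero, exp_le_exp] at hc
    norm_num at hc
  have hinv : (φ j)⁻¹ ∈ secondOrderConst P := by
    refine ⟨by rw [map_inv₀, hj1, inv_one], c⁻¹, ?_⟩
    have hc' : algebraMap k K c ≠ 0 := (map_ne_zero _).2 hc0
    rw [map_inv₀, inv_sub_inv hj0 hc', map_div₀, map_mul, hj1, v_const P hc0, one_mul, div_one,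
      Valuation.map_sub_swap]
    exact hc
  have hle : Algebra.adjoin k (Set.range fun i => φ i / φ j) ≤ secondOrderConst P :=
    Algebra.adjoin_le (by
      rintro _ ⟨i, rfl⟩
      show φ i / φ j ∈ secondOrderConst P
      rw [div_eq_mul_inv]
      exact Subalgebra.mul_mem _ (hS i) hinv)
  obtain ⟨-, d, hd⟩ := hle hu
  have hu1 : P.1 u = exp (-1 : ℤ) := by rw [← hzw, map_mul, ht, hw1, mul_one]
  have hd0 : d = 0 := by
    by_contra h
    have h1 : P.1 (u - algebraMap k K d) = 1 := by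
      rw [Valuation.map_sub_swap, Valuation.map_sub_eq_of_lt_left _ (by
        rw [v_const P h, hu1, ← exp_zero, exp_lt_exp]; norm_num)]
      exact v_const P h
    rw [h1, ← exp_zero, exp_le_exp] at hd
    norm_num at hd
  rw [hd0, map_zero, sub_zero, hu1, exp_le_exp] at hd
  norm_num at hd

end Groth.Agent.FFLib
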