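import Groth.Agent.FFLib.Basic

/-!
# Existence of places and weak approximation
-/

open Polynomial WithZero

namespace Groth.Agent.FFLib

open FunFld

variable {k K : Type*} [Field k] [Field K] [Algebra k K]

section ofUniformizer

variable {Γ : Type*} [LinearOrderedCommGroupWithZero Γ]

lemma zpow_inj_of_lt_one {γ : Γ} (h0 : γ ≠ 0) (h1 : γ < 1) {a b : ℤ} (h : γ ^ a = γ ^ b) :
    a = b :=
  (zpow_right_strictAnti₀ (zero_lt_iff.2 h0) h1).injective h

/-- A valuation whose values are all powers of one value `γ < 1`, as a `ℤᵐ⁰`-valuation. -/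
lemma exists_valuation_of_powers (v : Valuation K Γ) {π : K} (h0 : π ≠ 0) (h1 : v π < 1)
    (h : ∀ y : K, y ≠ 0 → ∃ e : ℤ, v y = v π ^ e) :
    ∃ w : Valuation K (WithZero (Multiplicative ℤ)),
      Function.Surjective w ∧ w.IsEquiv v := by
  classical
  have hg : v π ≠ 0 := v.ne_zero_iff.2 h0
  choose e he using h
  let f : K → WithZero (Multiplicative ℤ) := fun y => if hy : y = 0 then 0 else exp (-e y hy)
  have hanti := zpow_right_strictAnti₀ (zero_lt_iff.2 hg) h1
  have hf0 : f 0 = 0 := by simp [f]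
  have hle : ∀ y z, f y ≤ f z ↔ v y ≤ v z := by
    intro y z
    by_cases hy : y = 0
    · simp [f, hy]
    by_cases hz : z = 0
    · simp [f, hy, hz]
    simp only [f, hy, hz, dif_neg, not_false_eq_true, exp_le_exp, he y hy, he z hz,
      hanti.le_iff_ge]
    omega
  have hmul : ∀ y z, f (y * z) = f y * f z := by
    intro y z
    by_cases hy : y = 0
    · simp [f, hy]
    by_cases hz : z = 0
    · simp [f, hz]
    have : e (y * z) (mul_ne_zero hy hz) = e y hy + e z hz :=
      zpow_inj_of_lt_one hg h1 (by rw [zpow_add₀ hg, ← he, ← he, ← he, map_mul])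
    simp only [f, hy, hz, mul_ne_zero hy hz, dif_neg, not_false_eq_true, this, ← exp_add]
    congr 1
    ring
  have hone : f 1 = 1 := by
    have : e 1 one_ne_zero = 0 := zpow_inj_of_lt_one hg h1 (by rw [← he, map_one, zpow_zero])
    simp [f, this]
  let w : Valuation K (WithZero (Multiplicative ℤ)) :=
    { toFun := f
      map_zero' := hf0
      map_one' := hone
      map_mul' := hmul
      map_add_le_max' := fun y z => by
        rcases le_max_iff.1 (v.map_add y z) with h' | h'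
        · exact le_max_iff.2 (.inl ((hle _ _).2 h'))
        · exact le_max_iff.2 (.inr ((hle _ _).2 h')) }
  refine ⟨w, fun z => ?_, fun y z => hle y z⟩
  rcases eq_or_ne z 0 with rfl | hz
  · exact ⟨0, hf0⟩
  refine ⟨π ^ (-log z), ?_⟩
  have hp : π ^ (-log z) ≠ 0 := zpow_ne_zero _ h0
  have : e (π ^ (-log z)) hp = -log z :=
    zpow_inj_of_lt_one hg h1 (by rw [← he, map_zpow₀])
  show f _ = z
  simp only [f, hp, dif_neg, not_false_eq_true, this, neg_neg, exp_log hz]

end ofUniformizer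

variable (hK : FG1 k K)
include hK

/-- A valuation of `K`, trivial on `k` and not on `K`, has all values powers of a single one. -/
lemma exists_powers {Γ : Type*} [LinearOrderedCommGroupWithZero Γ] (v : Valuation K Γ)
    (hk : ∀ c : k, c ≠ 0 → v (algebraMap k K c) = 1) {x : K} (hx0 : x ≠ 0) (hx : v x < 1) :
    ∃ π : K, π ≠ 0 ∧ v π < 1 ∧ ∀ y : K, y ≠ 0 → ∃ e : ℤ, v y = v π ^ e := by
  classical
  have hfin : ∀ y : K, y ≠ 0 → v y < 1 → (v '' {z | v y ≤ v z ∧ v z < 1}).Finite := by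
    intro y hy0 hy
    by_contra hinf
    obtain ⟨t, ht, htc⟩ := (Set.not_finite.1 hinf).exists_subset_card_eq
      (Module.finrank (IntermediateField.adjoin k ({y} : Set K)) K + 1)
    choose! f hf hfv using fun γ (hγ : γ ∈ t) => ht hγ
    have hinj : Set.InjOn f t := fun a ha b hb e => by rw [← hfv a ha, ← hfv b hb, e]
    have := card_le_of_values hK v hk hy0 hy (t.image f)
      (fun z hz => by
        obtain ⟨γ, hγ, rfl⟩ := Finset.mem_image.1 hz
        exact hf γ hγ)
      (by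
        intro a ha b hb e
        obtain ⟨γ, hγ, rfl⟩ := Finset.mem_image.1 ha
        obtain ⟨δ, hδ, rfl⟩ := Finset.mem_image.1 hb
        rw [hfv γ hγ, hfv δ hδ] at e
        rw [e])
    rw [Finset.card_image_of_injOn hinj, htc] at this
    omega
  obtain ⟨_, ⟨π, ⟨hπ, hπ1⟩, rfl⟩, hmax⟩ :=
    (hfin x hx0 hx).exists_maximal ⟨v x, x, ⟨le_rfl, hx⟩, rfl⟩
  have hπ0 : π ≠ 0 := by
    rintro rfl
    rw [map_zero, le_zero_iff, v.zero_iff] at hπ
    exact hx0 hπ
  have hmax' : ∀ y, v y < 1 → v y ≤ v π := fun y hy => by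
    by_contra hlt
    rw [not_le] at hlt
    exact absurd (hmax ⟨y, ⟨hπ.trans hlt.le, hy⟩, rfl⟩ hlt.le) (not_le.2 hlt)
  refine ⟨π, hπ0, hπ1, ?_⟩
  have hg : v π ≠ 0 := v.ne_zero_iff.2 hπ0
  -- elements of value `< 1`
  have key : ∀ (n : ℕ) (y : K) (hy0 : y ≠ 0) (hy : v y < 1),
      (hfin y hy0 hy).toFinset.card ≤ n → ∃ e : ℤ, v y = v π ^ e := by
    intro n
    induction n with
    | zero =>
      intro y hy0 hy hc
      rw [Nat.le_zero, Finset.card_eq_zero, Set.Finite.toFinset_eq_empty] at hc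
      exact absurd hc (Set.nonempty_iff_ne_empty.1 ⟨v y, y, ⟨le_rfl, hy⟩, rfl⟩)
    | succ n ih =>
      intro y hy0 hy hc
      have hz0 : y / π ≠ 0 := div_ne_zero hy0 hπ0
      have hzle : v (y / π) ≤ 1 := by
        rw [map_div₀, div_le_one₀ (zero_lt_iff.2 hg)]; exact hmax' y hy
      rcases hzle.lt_or_eq with hz | hz
      · obtain ⟨e, he⟩ := ih (y / π) hz0 hz (by
          have hlt : v y < v (y / π) := by
            rw [map_div₀, lt_div_iff₀ (zero_lt_iff.2 hg)]
            exact mul_lt_of_lt_one_right (zero_lt_iff.2 (v.ne_zero_iff.2 hy0)) hπ1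
          have hsub : (hfin (y / π) hz0 hz).toFinset ⊂ (hfin y hy0 hy).toFinset := by
            rw [Finset.ssubset_iff_of_subset]
            · refine ⟨v y, by simpa using ⟨y, ⟨le_rfl, hy⟩, rfl⟩, ?_⟩
              simp only [Set.Finite.mem_toFinset, Set.mem_image, Set.mem_setOf_eq]
              rintro ⟨z, ⟨h1, -⟩, h3⟩
              exact absurd (h3 ▸ h1) (not_le.2 hlt)
            · intro γ
              simp only [Set.Finite.mem_toFinset, Set.mem_image, Set.mem_setOf_eq]
              rintro ⟨z, ⟨h1, h2⟩, rfl⟩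
              exact ⟨z, ⟨hlt.le.trans h1, h2⟩, rfl⟩
          have := Finset.card_lt_card hsub
          omega)
        refine ⟨e + 1, ?_⟩
        rw [zpow_add₀ hg, zpow_one, ← he, map_div₀, div_mul_cancel₀ _ hg]
      · refine ⟨1, ?_⟩
        rw [map_div₀, div_eq_one_iff_eq hg] at hz
        rw [hz, zpow_one]
  intro y hy
  rcases lt_trichotomy (v y) 1 with h | h | h
  · exact key _ y hy h le_rfl
  · exact ⟨0, by rw [h, zpow_zero]⟩
  · obtain ⟨e, he⟩ := key _ y⁻¹ (inv_ne_zero hy) (by rw [map_inv₀]; exact inv_lt_one_of_one_lt₀ h) le_rfl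
    exact ⟨-e, by rw [zpow_neg, ← he, map_inv₀, inv_inv]⟩

/-- Every valuation subring of `K`, other than `K`, containing `k`, is the ring of a place. -/
lemma exists_place_of_valuationSubring (V : ValuationSubring K)
    (hk : ∀ c : k, algebraMap k K c ∈ V) (hV : V ≠ ⊤) : ∃ P : Place k K, P.O = V := by
  have hk1 : ∀ c : k, c ≠ 0 → V.valuation (algebraMap k K c) = 1 := by
    intro c hc
    have h1 := (V.valuation_le_one_iff _).2 (hk c)
    have h2 := (V.valuation_le_one_iff _).2 (hk c⁻¹)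
    rw [map_inv₀, map_inv₀,
      inv_le_one₀ (zero_lt_iff.2 (V.valuation.ne_zero_iff.2 (by simpa using hc)))] at h2
    exact le_antisymm h1 h2
  obtain ⟨z, hz⟩ : ∃ z, z ∉ V := by
    by_contra h
    push Not at h
    exact hV (eq_top_iff.2 fun z _ => h z)
  have hz0 : z ≠ 0 := fun e => hz (e ▸ zero_mem V)
  have hx : V.valuation z⁻¹ < 1 := by
    rw [map_inv₀]
    exact inv_lt_one_of_one_lt₀ (not_le.1 fun h => hz ((V.valuation_le_one_iff z).1 h))
  obtain ⟨π, hπ0, hπ1, hp⟩ := exists_powers hK V.valuation hk1 (inv_ne_zero hz0) hx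
  obtain ⟨w, hw, hwe⟩ := exists_valuation_of_powers V.valuation hπ0 hπ1 hp
  refine ⟨⟨w, fun c => ?_, hw⟩, ?_⟩
  · exact (Valuation.isEquiv_iff_val_le_one.1 hwe).2 ((V.valuation_le_one_iff _).2 (hk c))
  · show w.valuationSubring = V
    rw [(Valuation.isEquiv_iff_valuationSubring _ _).1 hwe, ValuationSubring.valuationSubring_valuation]

/-- A proper ideal of a subring containing `k` has a zero place, provided it is non-zero. -/
lemma exists_place_of_ideal (A : Subring K) (hk : ∀ c : k, algebraMap k K c ∈ A) (I : Ideal A)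
    (hI : I ≠ ⊤) (hI0 : I ≠ ⊥) :
    ∃ P : Place k K, (∀ a ∈ A, P.1 a ≤ 1) ∧ ∀ a : A, a ∈ I → P.1 (a : K) < 1 := by
  obtain ⟨V, hAV, hIV⟩ := Ideal.image_subset_nonunits_valuationSubring I hI
  obtain ⟨a, haI, ha0⟩ := Submodule.exists_mem_ne_zero_of_ne_bot hI0
  have hV : V ≠ ⊤ := by
    intro e
    rcases (ValuationSubring.mem_nonunits_iff_or V).1 (hIV ⟨a, haI, rfl⟩) with h | h
    · exact ha0 (Subtype.ext h)
    · exact h (e ▸ trivial)
  obtain ⟨P, hP⟩ := exists_place_of_valuationSubring hK V (fun c => hAV (hk c)) hV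
  refine ⟨P, fun a ha => ?_, fun a ha => ?_⟩
  · have : a ∈ P.O := by rw [hP]; exact hAV ha
    exact this
  · rcases eq_or_ne (a : K) 0 with h0 | h0
    · simp [h0]
    · rcases (ValuationSubring.mem_nonunits_iff_or V).1 (hIV ⟨a, ha, rfl⟩) with h | h
      · exact absurd h h0
      · have : (a : K)⁻¹ ∉ P.O := by rw [hP]; exact h
        have h2 : ¬ P.1 (a : K)⁻¹ ≤ 1 := this
        rw [map_inv₀, inv_le_one₀ (zero_lt_iff.2 (v_ne_zero P h0)), not_le] at h2
        exact h2

/-- A transcendental element has a zero. -/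
lemma exists_zero_of_tr {x : K} (htr : Transcendental k x) : ∃ P : Place k K, 0 < P.ord x := by
  have hx : x ∉ Set.range (algebraMap k K) := fun ⟨c, hc⟩ => htr (hc ▸ isAlgebraic_algebraMap c)
  let A : Subring K := (Algebra.adjoin k ({x} : Set K)).toSubring
  let xA : A := ⟨x, Algebra.subset_adjoin rfl⟩
  have hne : Ideal.span {xA} ≠ ⊤ := by
    rw [Ne, Ideal.span_singleton_eq_top]
    intro hu
    obtain ⟨⟨y, hy⟩, hxy⟩ := hu.exists_right_inv
    obtain ⟨p, rfl⟩ : ∃ p : k[X], aeval x p = y := by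
      rw [← AlgHom.mem_range, ← Algebra.adjoin_singleton_eq_range_aeval]; exact hy
    have h1 : aeval x (X * p - 1) = 0 := by
      simpa [sub_eq_zero, xA] using congrArg Subtype.val hxy
    have h2 : (X * p - 1 : k[X]) = 0 := by
      by_contra h
      exact htr ⟨_, h, h1⟩
    simpa using congrArg (Polynomial.coeff · 0) h2
  have hne0 : Ideal.span {xA} ≠ ⊥ := by
    rw [Ne, Ideal.span_singleton_eq_bot]
    intro e
    exact hx ⟨0, by rw [map_zero]; exact (congrArg Subtype.val e).symm⟩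
  obtain ⟨P, -, hP⟩ := exists_place_of_ideal hK A (fun c => Subalgebra.algebraMap_mem _ c) _ hne hne0
  refine ⟨P, ?_⟩
  have hx0 : x ≠ 0 := fun e => hx ⟨0, by simp [e]⟩
  exact (v_lt_one_iff P hx0).1 (hP xA (Ideal.mem_span_singleton_self xA))

/-- A transcendental element has a pole. -/
lemma exists_pole_of_tr {x : K} (htr : Transcendental k x) : ∃ P : Place k K, P.ord x < 0 := by
  obtain ⟨P, hP⟩ := exists_zero_of_tr hK (x := x⁻¹) fun h => htr (inv_inv x ▸ h.inv)
  exact ⟨P, by simpa using hP⟩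

omit hK in
/-- A nonconstant element has a zero. -/
lemma exists_zero (hK : IsFunctionField k K) {x : K} (hx : x ∉ Set.range (algebraMap k K)) :
    ∃ P : Place k K, 0 < P.ord x :=
  exists_zero_of_tr hK (transcendental_of_notMem hK hx)

omit hK in
/-- A nonconstant element has a pole. -/
lemma exists_pole (hK : IsFunctionField k K) {x : K} (hx : x ∉ Set.range (algebraMap k K)) :
    ∃ P : Place k K, P.ord x < 0 :=
  exists_pole_of_tr hK (transcendental_of_notMem hK hx)

omit hK

/-! ## Weak approximation -/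

lemma exists_sep_pair (P Q : Place k K) (h : P ≠ Q) : ∃ z, 1 < P.1 z ∧ Q.1 z < 1 := by
  obtain ⟨y, hy, hy'⟩ := exists_v_le_one_lt Q P h.symm
  obtain ⟨u, hu, hu'⟩ := exists_v_le_one_lt P Q h
  have hu0 : u ≠ 0 := by rintro rfl; simp at hu'
  refine ⟨y / u, ?_, ?_⟩
  · rw [map_div₀, one_lt_div₀ (zero_lt_iff.2 (v_ne_zero P hu0))]
    exact hu.trans_lt hy'
  · rw [map_div₀, div_lt_one₀ (zero_lt_iff.2 (v_ne_zero Q hu0))]
    exact hy.trans_lt hu'

lemma exists_pow_gt {a : WithZero (Multiplicative ℤ)} (ha : 1 < a) (n : ℤ) :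
    ∃ r : ℕ, ∀ s ≥ r, exp n < a ^ s := by
  have ha0 : a ≠ 0 := by rintro rfl; simp at ha
  obtain ⟨e, rfl⟩ : ∃ e, a = exp e := ⟨_, (exp_log ha0).symm⟩
  have he : 0 < e := by rwa [← exp_zero, exp_lt_exp] at ha
  refine ⟨n.toNat + 1, fun s hs => ?_⟩
  rw [← exp_nsmul, exp_lt_exp, nsmul_eq_mul]
  nlinarith [Int.self_le_toNat n]

lemma v_one_add_of_lt {P : Place k K} {y : K} (h : P.1 y < 1) : P.1 (1 + y) = 1 := by
  have := P.1.map_add_eq_of_lt_left (x := 1) (y := y) (by rwa [map_one])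
  rwa [map_one] at this

lemma v_one_add_of_gt {P : Place k K} {y : K} (h : 1 < P.1 y) : P.1 (1 + y) = P.1 y :=
  P.1.map_add_eq_of_lt_right (x := 1) (y := y) (by rwa [map_one])

/-- An element large at `P` and small at the other places of a finite set. -/
lemma exists_sep (P : Place k K) (s : Finset (Place k K)) :
    ∃ z, 1 < P.1 z ∧ ∀ Q ∈ s, Q ≠ P → Q.1 z < 1 := by
  classical
  induction s using Finset.induction_on with
  | empty =>
    obtain ⟨t, ht0, -, htv⟩ := exists_uniformizer P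
    exact ⟨t⁻¹, by simp [htv, ← exp_zero], by simp⟩
  | @insert R s hR ih =>
    obtain ⟨z, hz, hzs⟩ := ih
    rcases eq_or_ne R P with rfl | hne
    · exact ⟨z, hz, fun Q hQ hQP => hzs Q ((Finset.mem_insert.1 hQ).resolve_left hQP) hQP⟩
    obtain ⟨u, hu, hu'⟩ := exists_sep_pair P R hne.symm
    rcases lt_trichotomy (R.1 z) 1 with h | h | h
    · exact ⟨z, hz, fun Q hQ hQP => by
        rcases Finset.mem_insert.1 hQ with rfl | hQ
        exacts [h, hzs Q hQ hQP]⟩
    · -- `R.1 z = 1`: use `z ^ r * u`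
      have key : ∀ Q ∈ s, Q ≠ P → ∃ r : ℕ, ∀ m ≥ r, Q.1 (z ^ m * u) < 1 := by
        intro Q hQ hQP
        rcases eq_or_ne z 0 with rfl | hz0
        · simp at hz
        have hu0 : u ≠ 0 := by rintro rfl; simp at hu
        obtain ⟨r, hr⟩ := exists_pow_gt (a := Q.1 z⁻¹)
          (by rw [map_inv₀, one_lt_inv₀ (zero_lt_iff.2 (v_ne_zero Q hz0))]; exact hzs Q hQ hQP)
          (-Q.ord u)
        refine ⟨r, fun m hm => ?_⟩
        have := hr m hm
        rw [← v_eq Q hu0, map_inv₀, inv_pow] at this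
        rw [map_mul, map_pow, mul_comm]
        exact (lt_div_iff₀ (pow_pos (zero_lt_iff.2 (v_ne_zero Q hz0)) m)).1
          (this.trans_eq (one_div _).symm)
      choose! r hr using key
      refine ⟨z ^ s.sup r * u, ?_, fun Q hQ hQP => ?_⟩
      · rw [map_mul, map_pow]
        exact one_lt_mul_of_le_of_lt (one_le_pow_of_one_le' hz.le _) hu
      · rcases Finset.mem_insert.1 hQ with rfl | hQ
        · rw [map_mul, map_pow, h, one_pow, one_mul]; exact hu'
        · exact hr Q hQ hQP _ (Finset.le_sup hQ)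
    · -- `1 < R.1 z`: use `u * z ^ r / (1 + z ^ r)`
      have key : ∀ Q ∈ s, Q ≠ P → ∃ r : ℕ, ∀ m ≥ r, Q.1 (u * (z ^ m / (1 + z ^ m))) < 1 := by
        intro Q hQ hQP
        rcases eq_or_ne z 0 with rfl | hz0
        · simp at hz
        have hu0 : u ≠ 0 := by rintro rfl; simp at hu
        obtain ⟨r, hr⟩ := exists_pow_gt (a := Q.1 z⁻¹)
          (by rw [map_inv₀, one_lt_inv₀ (zero_lt_iff.2 (v_ne_zero Q hz0))]; exact hzs Q hQ hQP)
          (-Q.ord u)
        refine ⟨r + 1, fun m hm => ?_⟩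
        have hlt : Q.1 (z ^ m) < 1 := by
          rw [map_pow]; exact pow_lt_one' (hzs Q hQ hQP) (by omega)
        have := hr m (by omega)
        rw [← v_eq Q hu0, map_inv₀, inv_pow] at this
        rw [map_mul, map_div₀, v_one_add_of_lt hlt, div_one, map_pow]
        exact (lt_div_iff₀ (pow_pos (zero_lt_iff.2 (v_ne_zero Q hz0)) m)).1
          (this.trans_eq (one_div _).symm)
      choose! r hr using key
      refine ⟨u * (z ^ (s.sup r + 1) / (1 + z ^ (s.sup r + 1))), ?_, fun Q hQ hQP => ?_⟩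
      · have h1 : 1 < P.1 (z ^ (s.sup r + 1)) := by
          rw [map_pow]; exact one_lt_pow₀ hz (by omega)
        rw [map_mul, map_div₀, v_one_add_of_gt h1, div_self (zero_lt_iff.1 (zero_lt_one.trans h1)),
          mul_one]
        exact hu
      · rcases Finset.mem_insert.1 hQ with rfl | hQ
        · have h1 : 1 < Q.1 (z ^ (s.sup r + 1)) := by
            rw [map_pow]; exact one_lt_pow₀ h (by omega)
          rw [map_mul, map_div₀, v_one_add_of_gt h1,
            div_self (zero_lt_iff.1 (zero_lt_one.trans h1)), mul_one]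
          exact hu'
        · exact hr Q hQ hQP _ ((Finset.le_sup hQ).trans (Nat.le_succ _))

/-- An element near `1` at `P` and near `0` at the other places of a finite set. -/
lemma exists_near_one (P : Place k K) (s : Finset (Place k K)) (N : ℤ) :
    ∃ e, P.1 (e - 1) ≤ exp (-N) ∧ ∀ Q ∈ s, Q ≠ P → Q.1 e ≤ exp (-N) := by
  classical
  obtain ⟨z, hz, hzs⟩ := exists_sep P s
  obtain ⟨r, hr⟩ := exists_pow_gt hz N
  have key : ∀ Q ∈ s, Q ≠ P → ∃ r : ℕ, ∀ m ≥ r, (Q.1 z) ^ m ≤ exp (-N) := by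
    intro Q hQ hQP
    rcases eq_or_ne (Q.1 z) 0 with h | h
    · exact ⟨1, fun m hm => by rw [h, zero_pow (by omega)]; exact zero_le⟩
    obtain ⟨r, hr⟩ := exists_pow_gt ((one_lt_inv₀ (zero_lt_iff.2 h)).2 (hzs Q hQ hQP)) N
    refine ⟨r, fun m hm => ?_⟩
    have := (hr m hm).le
    rwa [inv_pow, le_inv_comm₀ exp_pos (pow_pos (zero_lt_iff.2 h) _), ← exp_neg] at this
  choose! q hq using key
  set m := r + s.sup q + 1 with hm
  have h1 : 1 < P.1 (z ^ m) := by rw [map_pow]; exact one_lt_pow₀ hz (by omega)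
  have hne : 1 + z ^ m ≠ 0 := fun e => by
    have := v_one_add_of_gt h1; rw [e, map_zero] at this; rw [← this] at h1; simp at h1
  refine ⟨z ^ m / (1 + z ^ m), ?_, fun Q hQ hQP => ?_⟩
  · rw [show z ^ m / (1 + z ^ m) - 1 = -(1 + z ^ m)⁻¹ by field_simp; ring, Valuation.map_neg,
      map_inv₀, v_one_add_of_gt h1, exp_neg, inv_le_inv₀ (zero_lt_one.trans h1) exp_pos, map_pow]
    exact (hr m (by omega)).le
  · have hlt : Q.1 (z ^ m) < 1 := by rw [map_pow]; exact pow_lt_one' (hzs Q hQ hQP) (by omega)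
    rw [map_div₀, v_one_add_of_lt hlt, div_one, map_pow]
    exact hq Q hQ hQP m (by have := Finset.le_sup (f := q) hQ; omega)

/-- Weak approximation. -/
lemma weak_approx (s : Finset (Place k K)) (a : Place k K → K) (n : Place k K → ℤ) :
    ∃ y, ∀ P ∈ s, P.1 (y - a P) ≤ exp (-(n P)) := by
  classical
  obtain ⟨M, hM⟩ : ∃ M : ℤ, ∀ P ∈ s, ∀ Q ∈ s, P.1 (a Q) ≤ exp M := by
    refine ⟨((s ×ˢ s).sup fun p => (log (p.1.1 (a p.2))).toNat : ℕ), fun P hP Q hQ => ?_⟩
    rcases eq_or_ne (P.1 (a Q)) 0 with h | h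
    · simp [h]
    refine le_exp_of_log_le ?_
    have := Finset.le_sup (f := fun p : Place k K × Place k K => (log (p.1.1 (a p.2))).toNat)
      (Finset.mem_product.2 (⟨hP, hQ⟩ : (P, Q).1 ∈ s ∧ (P, Q).2 ∈ s))
    simp only at this
    omega
  obtain ⟨N, hN⟩ : ∃ N : ℤ, ∀ P ∈ s, n P + M ≤ N :=
    ⟨((s.sup fun P => (n P + M).toNat : ℕ) : ℤ), fun P hP => by
      have := Finset.le_sup (f := fun P => (n P + M).toNat) hP
      try simp only at this
      omega⟩
  choose e he1 he2 using fun P : Place k K => exists_near_one P s N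
  refine ⟨∑ Q ∈ s, e Q * a Q, fun P hP => ?_⟩
  have hsplit : (∑ Q ∈ s, e Q * a Q) - a P = (e P - 1) * a P + ∑ Q ∈ s.erase P, e Q * a Q := by
    rw [← Finset.add_sum_erase _ _ hP]; ring
  have hbound : exp (-N) * exp M ≤ exp (-(n P)) := by
    rw [← exp_add, exp_le_exp]; have := hN P hP; omega
  rw [hsplit]
  refine (P.1.map_add _ _).trans (max_le ?_ (P.1.map_sum_le fun Q hQ => ?_))
  · rw [map_mul]; exact (mul_le_mul' (he1 P) (hM P hP P hP)).trans hbound
  · rw [map_mul]
    exact (mul_le_mul' (he2 Q P hP (Finset.ne_of_mem_erase hQ).symm)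
      (hM P hP Q (Finset.mem_of_mem_erase hQ))).trans hbound

/-- Weak approximation with exact orders. -/
lemma weak_approx_eq (s : Finset (Place k K)) (a : Place k K → K) (n : Place k K → ℤ) :
    ∃ y, ∀ P ∈ s, P.1 (y - a P) = exp (-(n P)) := by
  choose t ht using fun P : Place k K => P.2.2 (exp (-(n P)))
  obtain ⟨y, hy⟩ := weak_approx s (fun P => a P + t P) (fun P => n P + 1)
  refine ⟨y, fun P hP => ?_⟩
  rw [show y - a P = t P + (y - (a P + t P)) by ring, P.1.map_add_eq_of_lt_left, ht]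
  rw [ht]
  exact (hy P hP).trans_lt (exp_lt_exp.2 (by omega))

end Groth.Agent.FFLib
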