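import Groth.Agent.FFLib.PlaneHom

/-!
# The Jacobian criterion for plane curves
-/

open WithZero Module MvPolynomial

namespace Groth.Agent.FFLib

open FunFld

variable {k K : Type*} [Field k] [Field K] [Algebra k K]

lemma fin3_two : ∀ j : Fin 3, ∃ i m : Fin 3, i ≠ j ∧ m ≠ j ∧ i ≠ m := by decide

lemma fin3_third : ∀ j l : Fin 3, l ≠ j → ∃ m, m ≠ j ∧ m ≠ l := by decide

lemma fin3_cases : ∀ j l m : Fin 3, l ≠ j → m ≠ j → m ≠ l → ∀ i, i = j ∨ i = l ∨ i = m := by decide

lemma near_mul {P : Place k K} {a b : K} {r s : k} (ha : P.1 (a - algebraMap k K r) < 1)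
    (hb : P.1 (b - algebraMap k K s) < 1) : P.1 (a * b - algebraMap k K (r * s)) < 1 := by
  rw [map_mul, show a * b - algebraMap k K r * algebraMap k K s =
    a * (b - algebraMap k K s) + (a - algebraMap k K r) * algebraMap k K s by ring]
  refine (P.1.map_add _ _).trans_lt (max_lt ?_ ?_)
  · rw [map_mul]; exact (mul_le_of_le_one_left' (v_le_one_of_lt ha)).trans_lt hb
  · rw [map_mul]; exact (mul_le_of_le_one_right' (P.2.1 s)).trans_lt ha

/-- First-order expansion of a polynomial at the image of a place. -/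
lemma exists_split {σ : Type*} [Fintype σ] [DecidableEq σ] {A : Subalgebra k K} {ψ : σ → K}
    (hψ : ∀ i, ψ i ∈ A) {P : Place k K} {c : σ → k} (hc : ∀ i, P.1 (ψ i - algebraMap k K (c i)) < 1)
    (p : MvPolynomial σ k) : ∃ g : σ → K, (∀ i, g i ∈ A) ∧
      (∀ i, P.1 (g i - algebraMap k K (aeval c (pderiv i p))) < 1) ∧
      aeval ψ p = algebraMap k K (aeval c p) + ∑ i, g i * (ψ i - algebraMap k K (c i)) := by
  induction p using MvPolynomial.induction_on with
  | C r => exact ⟨fun _ => 0, fun _ => A.zero_mem, fun i => by simp, by simp⟩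
  | add p q hp hq =>
    obtain ⟨g, hgA, hgn, hge⟩ := hp
    obtain ⟨g', hgA', hgn', hge'⟩ := hq
    refine ⟨g + g', fun i => Subalgebra.add_mem _ (hgA i) (hgA' i), fun i => ?_, ?_⟩
    · rw [map_add, map_add, map_add, Pi.add_apply, add_sub_add_comm]
      exact (P.1.map_add _ _).trans_lt (max_lt (hgn i) (hgn' i))
    · simp only [map_add, hge, hge', Pi.add_apply, add_mul, Finset.sum_add_distrib]
      ring
  | mul_X p l hp =>
    obtain ⟨g, hgA, hgn, hge⟩ := hp
    refine ⟨fun i => g i * ψ l + algebraMap k K (if i = l then aeval c p else 0),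
      fun i => Subalgebra.add_mem _ (Subalgebra.mul_mem _ (hgA i) (hψ l)) (A.algebraMap_mem _),
      fun i => ?_, ?_⟩
    · have hder : aeval c (pderiv i (p * X l)) =
          aeval c (pderiv i p) * c l + if i = l then aeval c p else 0 := by
        rw [pderiv_mul, map_add, map_mul, map_mul, aeval_X]
        congr 1
        split_ifs with h
        · rw [h, pderiv_X_self, map_one, mul_one]
        · rw [pderiv_X_of_ne (Ne.symm h), map_zero, mul_zero]
      rw [hder, map_add, add_sub_add_comm, sub_self, add_zero]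
      exact near_mul (hgn i) (hc l)
    · simp only [add_mul, Finset.sum_add_distrib, apply_ite (algebraMap k K), map_zero, ite_mul, zero_mul,
        Finset.sum_ite_eq', Finset.mem_univ, if_true]
      rw [map_mul, aeval_X, hge, map_mul, aeval_X, map_mul, add_mul, Finset.sum_mul]
      have : ∑ i, g i * ψ l * (ψ i - algebraMap k K (c i)) =
          ∑ i, g i * (ψ i - algebraMap k K (c i)) * ψ l := Finset.sum_congr rfl fun i _ => by ring
      rw [this]
      ring

/-- If the centre of a place is cut out by one element of the local ring, it is the valuation ring. -/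
theorem inLoc_of_principal {ι : Type*} {φ : ι → K} {d : K}
    (hgen : IntermediateField.adjoin k (Set.range fun i => φ i / d) = ⊤)
    {P : Place k K} (hP : ∀ i, P.1 (φ i / d) ≤ 1) {t : K} (ht : InLoc (chart k φ d) P t) (ht0 : t ≠ 0)
    (ht1 : P.1 t < 1)
    (hprin : ∀ a ∈ chart k φ d, P.1 a < 1 → ∃ r, InLoc (chart k φ d) P r ∧ a = t * r)
    {z : K} (hz : P.1 z ≤ 1) : InLoc (chart k φ d) P z := by
  have hto : 0 < P.ord t := (v_lt_one_iff P ht0).1 ht1
  have hint : ∀ a, InLoc (chart k φ d) P a → P.1 a ≤ 1 := fun a ha =>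
    ha.le_one fun b hb => chart_le_one hP hb
  have hpow : ∀ N : ℕ, ∀ a, InLoc (chart k φ d) P a → a ≠ 0 → P.ord a ≤ N →
      ∃ (n : ℕ) (u : K), InLoc (chart k φ d) P u ∧ P.1 u = 1 ∧ a = t ^ n * u := by
    intro N
    induction N with
    | zero =>
      intro a ha ha0 hN
      have := (v_le_one_iff P a).1 (hint a ha)
      exact ⟨0, a, ha, (v_eq_one_iff P ha0).2 (by omega), by rw [pow_zero, one_mul]⟩
    | succ N ih =>
      intro a ha ha0 hN
      rcases (hint a ha).lt_or_eq with hlt | heq
      swap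
      · exact ⟨0, a, ha, heq, by rw [pow_zero, one_mul]⟩
      obtain ⟨u, hu, w, hw, hw1, haw⟩ := ha
      have hu1 : P.1 u < 1 := by rw [← haw, map_mul, hw1, mul_one]; exact hlt
      obtain ⟨r, hr, hur⟩ := hprin u hu hu1
      have hw0 : w ≠ 0 := fun e => by simp [e] at hw1
      have hwl : InLoc (chart k φ d) P w⁻¹ := (InLoc.of_mem hw).inv hw1
      have ha' : a = t * (r * w⁻¹) := by
        rw [← mul_assoc, ← hur, ← haw, mul_assoc, mul_inv_cancel₀ hw0, mul_one]
      have hb0 : r * w⁻¹ ≠ 0 := fun e => ha0 (by rw [ha', e, mul_zero])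
      obtain ⟨n, v, hv, hv1, hbv⟩ := ih _ (hr.mul hwl) hb0 (by
        rw [ha', ord_mul P ht0 hb0] at hN; omega)
      exact ⟨n + 1, v, hv, hv1, by rw [ha', hbv, pow_succ']; ring⟩
  rcases eq_or_ne z 0 with rfl | hz0
  · simpa using InLoc.const (A := chart k φ d) (P := P) (0 : k)
  obtain ⟨a, ha, b, hb, hb0, hab⟩ := exists_frac_chart hgen z
  have ha0 : a ≠ 0 := hab ▸ mul_ne_zero hz0 hb0
  obtain ⟨n, u, hu, hu1, rfl⟩ := hpow (P.ord a).toNat a (InLoc.of_mem ha) ha0 (Int.self_le_toNat _)
  obtain ⟨m, v, hv, hv1, rfl⟩ := hpow (P.ord b).toNat b (InLoc.of_mem hb) hb0 (Int.self_le_toNat _)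
  have hu0 : u ≠ 0 := fun e => by simp [e] at hu1
  have hv0 : v ≠ 0 := fun e => by simp [e] at hv1
  have hmn : m ≤ n := by
    have h := congrArg P.ord hab
    rw [ord_mul P hz0 hb0, ord_mul P (pow_ne_zero _ ht0) hv0, ord_mul P (pow_ne_zero _ ht0) hu0,
      ord_pow, ord_pow, (v_eq_one_iff P hu0).1 hu1, (v_eq_one_iff P hv0).1 hv1] at h
    have := (v_le_one_iff P z).1 hz
    by_contra hlt
    have : (n : ℤ) + 1 ≤ m := by omega
    nlinarith
  have hze : z = t ^ (n - m) * (u * v⁻¹) := by
    refine mul_right_cancel₀ hb0 ?_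
    rw [hab, show t ^ (n - m) * (u * v⁻¹) * (t ^ m * v) = t ^ (n - m) * t ^ m * u * (v⁻¹ * v) by ring,
      inv_mul_cancel₀ hv0, mul_one, ← pow_add, Nat.sub_add_cancel hmn]
  rw [hze]
  exact (ht.pow _).mul (hu.mul (hv.inv hv1))

/-- Reading constants in the residue field. -/
lemma aeval_residue {σ : Type*} {P : Place k K} (a : σ → P.O) {c : σ → k}
    (hc : ∀ i, P.1 ((a i : K) - algebraMap k K (c i)) < 1) (p : MvPolynomial σ k) :
    MvPolynomial.aeval (fun i => IsLocalRing.residue P.O (a i)) p =
      algebraMap k (IsLocalRing.ResidueField P.O) (MvPolynomial.aeval c p) := by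
  have h : ∀ i, IsLocalRing.residue P.O (a i) = algebraMap k (IsLocalRing.ResidueField P.O) (c i) := fun i => by
    have h1 : IsLocalRing.residue P.O (a i - algebraMap k P.O (c i)) = 0 := by
      rw [residue_eq_zero_iff_lt]
      show P.1 ((a i : K) - ((algebraMap k P.O (c i) : P.O) : K)) < 1
      rw [coe_algebraMap_O]; exact hc i
    rw [map_sub, sub_eq_zero] at h1
    rw [h1]; rfl
  rw [funext h]
  induction p using MvPolynomial.induction_on with
  | C r => rw [aeval_C, aeval_C]; rfl
  | add p q hp hq => rw [map_add, map_add, map_add, hp, hq]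
  | mul_X p i hp => rw [map_mul, map_mul, map_mul, hp, aeval_X, aeval_X]

variable [IsAlgClosed k] (hK : IsFunctionField k K) {φ : Fin 3 → K} {j : Fin 3} (hj : φ j ≠ 0)
  (hgen : IntermediateField.adjoin k (Set.range fun i => φ i / φ j) = ⊤)
  {f : MvPolynomial (Fin 3) k} (hf : Irreducible f) {d : ℕ} (hd : f.IsHomogeneous d)
  (hfφ : MvPolynomial.aeval φ f = 0) {P : Place k K} (hmax : ∀ i, P.1 (φ i) ≤ P.1 (φ j))
  {c : Fin 3 → k} (hc : ∀ i, P.1 (φ i / φ j - algebraMap k K (c i)) < 1)
include hK hj hgen hf hd hfφ hmax hc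

omit hK hgen hf hd hfφ hmax in
lemma coord_eq_one : c j = 1 := by
  by_contra hne
  have h := hc j
  rw [div_self hj, show (1 : K) - algebraMap k K (c j) = algebraMap k K (1 - c j) by simp] at h
  exact h.ne (v_const P (sub_ne_zero.2 (Ne.symm hne)))

omit hK hgen hf hmax in
lemma chart_relations : MvPolynomial.aeval (fun i => φ i / φ j) f = 0 ∧ MvPolynomial.aeval c f = 0 ∧
    ∑ i, c i * MvPolynomial.aeval c (pderiv i f) = 0 := by
  have h0 : MvPolynomial.aeval (fun i => φ i / φ j) f = 0 := by
    have h := aeval_scale hd (φ j) (fun i => φ i / φ j)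
    simp only [mul_div_cancel₀ _ hj] at h
    rw [hfφ] at h
    exact (mul_eq_zero.1 h.symm).resolve_left (pow_ne_zero _ hj)
  obtain ⟨g, hgA, -, hge⟩ := exists_split (A := chart k φ (φ j)) (fun i => div_mem_chart _ i) hc f
  rw [h0] at hge
  have hfc : MvPolynomial.aeval c f = 0 := by
    by_contra hne
    have hlt : P.1 (algebraMap k K (MvPolynomial.aeval c f)) < 1 := by
      rw [eq_neg_of_add_eq_zero_left hge.symm, Valuation.map_neg]
      refine P.1.map_sum_lt one_ne_zero fun i _ => ?_
      rw [map_mul]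
      exact (mul_le_of_le_one_left' (chart_le_one (fun l => v_le_one_of_lt (hc l)) (hgA i))).trans_lt (hc i)
    exact hlt.ne (v_const P hne)
  refine ⟨h0, hfc, ?_⟩
  have h := congrArg (MvPolynomial.aeval c) hd.sum_X_mul_pderiv
  simp only [map_sum, map_mul, aeval_X, map_nsmul, hfc, nsmul_zero] at h
  exact h

omit hK hgen hf in
/-- The tangent form vanishes to order two. -/
theorem v_tangent_le : P.1 (∑ i, algebraMap k K (MvPolynomial.aeval c (pderiv i f)) * (φ i / φ j)) ≤
    exp (-2 : ℤ) := by
  obtain ⟨h0, hfc, heul⟩ := chart_relations hj hd hfφ hc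
  obtain ⟨g, -, hgn, hge⟩ := exists_split (A := chart k φ (φ j)) (fun i => div_mem_chart _ i) hc f
  rw [h0, hfc, map_zero, zero_add] at hge
  have heul' : ∑ i, algebraMap k K (MvPolynomial.aeval c (pderiv i f)) * algebraMap k K (c i) = 0 := by
    simp_rw [← map_mul, ← map_sum, mul_comm _ (c _)]
    rw [heul, map_zero]
  have he : ∑ i, algebraMap k K (MvPolynomial.aeval c (pderiv i f)) * (φ i / φ j) =
      ∑ i, (algebraMap k K (MvPolynomial.aeval c (pderiv i f)) - g i) * (φ i / φ j - algebraMap k K (c i)) := by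
    simp only [sub_mul, Finset.sum_sub_distrib, ← hge, sub_zero]
    simp only [mul_sub, Finset.sum_sub_distrib, heul', sub_zero]
  rw [he]
  refine P.1.map_sum_le fun i _ => ?_
  rw [map_mul]
  refine (mul_le_mul' (le_exp_neg_one_of_lt_one ?_) (le_exp_neg_one_of_lt_one (hc i))).trans ?_
  · rw [Valuation.map_sub_swap]; exact hgn i
  · rw [← exp_add, exp_le_exp]; omega

/-- The Jacobian criterion. -/
theorem nonsingular_iff_pderiv :
    IsNonsingularAt φ P ↔ ∃ i, MvPolynomial.aeval c (pderiv i f) ≠ 0 := by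
  classical
  obtain ⟨h0, hfc, heul⟩ := chart_relations hj hd hfφ hc
  have hcj := coord_eq_one hj hc
  have hP := div_le_one_of_max hj hmax
  rw [isNonsingularAt_iff hj (Submodule.subset_span ⟨j, rfl⟩) hmax]
  set ψ := fun i => φ i / φ j with hψ
  set A := chart k φ (φ j) with hA
  have hψA : ∀ i, ψ i ∈ A := fun i => div_mem_chart _ i
  have hAeq : ∀ a ∈ A, ∃ p, MvPolynomial.aeval ψ p = a := fun a ha => by
    rw [hA, chart, Algebra.adjoin_range_eq_range_aeval] at ha
    exact ha
  constructor
  · intro hns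
    by_contra hD
    push Not at hD
    obtain ⟨t, -, -, ht⟩ := exists_uniformizer P
    obtain ⟨s, hs, hst⟩ := (exists_uniformizer_inLoc_iff hK
      (Submodule.subset_span ⟨j, rfl⟩ : φ j ∈ Submodule.span k (Set.range φ)) hP hj).1
      ⟨t, hns t (by rw [ht, ← exp_zero, exp_le_exp]; omega), ht⟩
    obtain ⟨σ, rfl⟩ := (Submodule.mem_span_range_iff_exists_fun k).1 hs
    set S : MvPolynomial (Fin 3) k := ∑ l, MvPolynomial.C (σ l) * X l
    set τ := (∑ l, σ l • φ l) / φ j
    have hSψ : MvPolynomial.aeval ψ S = τ := by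
      simp only [S, τ, map_sum, map_mul, aeval_C, aeval_X, Finset.sum_div, Algebra.smul_def,
        mul_div_assoc]
      rfl
    have hτ0 : τ ≠ 0 := fun e => by rw [e, map_zero] at hst; exact exp_ne_zero hst.symm
    have hτlt : P.1 τ < 1 := by rw [hst, ← exp_zero, exp_lt_exp]; omega
    have hSc : MvPolynomial.aeval c S = 0 := by
      obtain ⟨g, hgA, -, hge⟩ := exists_split hψA hc S
      rw [hSψ] at hge
      by_contra hne
      have hlt : P.1 (algebraMap k K (MvPolynomial.aeval c S)) < 1 := by
        rw [eq_sub_of_add_eq hge.symm]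
        refine (P.1.map_sub _ _).trans_lt (max_lt hτlt (P.1.map_sum_lt one_ne_zero fun i _ => ?_))
        rw [map_mul]
        exact (mul_le_of_le_one_left' (chart_le_one hP (hgA i))).trans_lt (hc i)
      exact hlt.ne (v_const P hne)
    have key : ∀ i ≠ j, ∃ W U : k, W ≠ 0 ∧ ∀ l ≠ j, (if l = i then W else 0) = σ l * U := by
      intro i hi
      obtain ⟨u, hu, w, hw, hw1, huw⟩ := hns ((ψ i - algebraMap k K (c i)) / τ) (by
        rw [map_div₀, hst, div_le_one₀ exp_pos]
        exact le_exp_neg_one_of_lt_one (hc i))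
      obtain ⟨U, rfl⟩ := hAeq u hu
      obtain ⟨W, rfl⟩ := hAeq w hw
      refine ⟨MvPolynomial.aeval c W, MvPolynomial.aeval c U, fun hW => ?_, fun l hl => ?_⟩
      · obtain ⟨g, hgA, -, hge⟩ := exists_split hψA hc W
        have hlt : P.1 (MvPolynomial.aeval ψ W) < 1 := by
          rw [hge, hW, map_zero, zero_add]
          refine P.1.map_sum_lt one_ne_zero fun l _ => ?_
          rw [map_mul]
          exact (mul_le_of_le_one_left' (chart_le_one hP (hgA l))).trans_lt (hc l)
        exact hlt.ne hw1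
      · set q := (X i - MvPolynomial.C (c i)) * W - S * U with hq
        have hqψ : MvPolynomial.aeval ψ q = 0 := by
          rw [hq, map_sub, map_mul, map_mul, map_sub, aeval_X, aeval_C, hSψ, ← huw]
          field_simp
          ring
        have h1 := aeval_pderiv_of_relation hK hj hgen hf hd hfφ hqψ hcj hfc hl (hD l)
        have h2 : MvPolynomial.aeval c (pderiv l S) = σ l := by
          simp only [S, map_sum, pderiv_mul, pderiv_C, zero_mul, zero_add, map_mul, aeval_C,
            Algebra.algebraMap_self, RingHom.id_apply]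
          rw [Finset.sum_eq_single l (fun b _ hb => by rw [pderiv_X_of_ne hb, map_zero, mul_zero]) (by simp),
            pderiv_X_self, map_one, mul_one]
        have h3 : MvPolynomial.aeval c (pderiv l (X i - MvPolynomial.C (c i))) = if l = i then 1 else 0 := by
          rw [map_sub, pderiv_C, sub_zero]
          split_ifs with h
          · rw [h, pderiv_X_self, map_one]
          · rw [pderiv_X_of_ne (Ne.symm h), map_zero]
        rw [hq, map_sub, map_sub, pderiv_mul, pderiv_mul, map_add, map_add, map_mul, map_mul, map_mul,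
          map_mul, h3, h2, hSc, map_sub, aeval_X, aeval_C, Algebra.algebraMap_self, RingHom.id_apply,
          sub_self, zero_mul, zero_mul, add_zero, add_zero, sub_eq_zero, ite_mul, one_mul, zero_mul] at h1
        exact h1
    obtain ⟨i, m, hi, hm, him⟩ := fin3_two j
    obtain ⟨Wi, Ui, hWi, hi'⟩ := key i hi
    obtain ⟨Wm, Um, hWm, hm'⟩ := key m hm
    have e1 := hi' i hi
    have e2 := hi' m hm
    have e3 := hm' m hm
    rw [if_pos rfl] at e1 e3
    rw [if_neg him.symm] at e2
    rcases mul_eq_zero.1 e2.symm with h | h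
    · rw [h, zero_mul] at e3; exact hWm e3
    · rw [h, mul_zero] at e1; exact hWi e1
  · rintro ⟨i₀, hi₀⟩ z hz
    obtain ⟨l, hlj, hl⟩ : ∃ l, l ≠ j ∧ MvPolynomial.aeval c (pderiv l f) ≠ 0 := by
      by_contra h
      push Not at h
      have hj0 : MvPolynomial.aeval c (pderiv j f) = 0 := by
        rw [Finset.sum_eq_single j (fun b _ hb => by rw [h b hb, mul_zero]) (by simp), hcj, one_mul] at heul
        exact heul
      rcases eq_or_ne i₀ j with rfl | hne
      · exact hi₀ hj0
      · exact hi₀ (h i₀ hne)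
    obtain ⟨m, hmj, hml⟩ := fin3_third j l hlj
    set e := fun i => ψ i - algebraMap k K (c i) with he
    have hej : e j = 0 := by simp [he, hψ, div_self hj, hcj]
    have huniv : ∀ F : Fin 3 → K, F j = 0 → ∑ i, F i = F l + F m := by
      intro F hFj
      have : (Finset.univ : Finset (Fin 3)) = {j, l, m} := by
        ext i; simpa using fin3_cases j l m hlj hmj hml i
      rw [this, Finset.sum_insert (by simp [hlj.symm, hmj.symm]),
        Finset.sum_pair hml.symm, hFj, zero_add]
    have hInA : ∀ i, e i ∈ A := fun i => Subalgebra.sub_mem _ (hψA i) (A.algebraMap_mem _)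
    obtain ⟨g, hgA, hgn, hge⟩ := exists_split hψA hc f
    rw [h0, hfc, map_zero, zero_add, huniv _ (by rw [show ψ j - algebraMap k K (c j) = e j from rfl, hej, mul_zero])] at hge
    have hgl : P.1 (g l) = 1 := v_eq_of_const hl (hgn l)
    have hgl0 : g l ≠ 0 := fun e => by simp [e] at hgl
    set r₀ := -(g m * (g l)⁻¹)
    have hr₀ : InLoc A P r₀ := by
      rw [show r₀ = algebraMap k K (-1) * (g m * (g l)⁻¹) by simp [r₀]]
      exact (InLoc.const _).mul ((InLoc.of_mem (hgA m)).mul ((InLoc.of_mem (hgA l)).inv hgl))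
    have hel : e l = r₀ * e m := by
      refine mul_left_cancel₀ hgl0 ?_
      rw [show g l * (r₀ * e m) = -(g m * e m) * (g l * (g l)⁻¹) by simp only [r₀]; ring,
        mul_inv_cancel₀ hgl0, mul_one]
      exact eq_neg_of_add_eq_zero_left hge.symm
    have hprin : ∀ a ∈ A, P.1 a < 1 → ∃ r, InLoc A P r ∧ a = e m * r := by
      intro a ha halt
      obtain ⟨p, rfl⟩ := hAeq a ha
      obtain ⟨q, hqA, -, hqe⟩ := exists_split hψA hc p
      have hpc : MvPolynomial.aeval c p = 0 := by
        by_contra hne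
        have hlt : P.1 (algebraMap k K (MvPolynomial.aeval c p)) < 1 := by
          rw [eq_sub_of_add_eq hqe.symm]
          refine (P.1.map_sub _ _).trans_lt (max_lt halt (P.1.map_sum_lt one_ne_zero fun i _ => ?_))
          rw [map_mul]
          exact (mul_le_of_le_one_left' (chart_le_one hP (hqA i))).trans_lt (hc i)
        exact hlt.ne (v_const P hne)
      rw [hpc, map_zero, zero_add, huniv _ (by rw [show ψ j - algebraMap k K (c j) = e j from rfl, hej, mul_zero])] at hqe
      refine ⟨q l * r₀ + q m, ((InLoc.of_mem (hqA l)).mul hr₀).add (InLoc.of_mem (hqA m)), ?_⟩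
      rw [hqe, show ψ l - algebraMap k K (c l) = e l from rfl, hel]
      simp only [he]; ring
    have hem : e m ≠ 0 := by
      intro h
      obtain ⟨t, ht⟩ := exists_transcendental hK
      have hconst : ∀ i, ψ i = algebraMap k K (c i) := fun i => by
        have : e i = 0 := by
          rcases fin3_cases j l m hlj hmj hml i with rfl | rfl | rfl
          · exact hej
          · rw [hel, h, mul_zero]
          · exact h
        exact sub_eq_zero.1 this
      have hle : IntermediateField.adjoin k (Set.range ψ) ≤ ⊥ := IntermediateField.adjoin_le_iff.2 (by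
        rintro _ ⟨i, rfl⟩; rw [hconst i]; exact IntermediateField.algebraMap_mem _ _)
      rw [hgen] at hle
      obtain ⟨r', hr'⟩ := IntermediateField.mem_bot.1 (hle (IntermediateField.mem_top (x := t)))
      exact ht (hr' ▸ isAlgebraic_algebraMap r')
    exact inLoc_of_principal hgen hP (InLoc.of_mem (hInA m)) hem (hc m) hprin hz

end Groth.Agent.FFLib
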