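import Groth.Agent.FFLib.FrobCount
import Mathlib.FieldTheory.Normal.Closure
import Mathlib.FieldTheory.SeparablyGenerated

/-!
# Point counts along the constant extensions
-/

set_option linter.unusedSectionVars false

open WithZero Module

namespace Groth.Agent.FFLib

open FunFld

lemma finrank_square {F A B D : Type*} [Field F] [Field A] [Field B] [Field D] [Algebra F A] [Algebra F B]
    [Algebra F D] [Algebra A D] [Algebra B D] [IsScalarTower F A D] [IsScalarTower F B D] {j : ℕ} (hj : 0 < j)
    (hA : finrank F A = j) (hB : finrank B D = j) : finrank A D = finrank F B := by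
  have h1 := Module.finrank_mul_finrank F B D
  have h2 := Module.finrank_mul_finrank F A D
  rw [hA] at h2
  rw [hB, ← h2, mul_comm (finrank F B)] at h1
  exact (Nat.eq_of_mul_eq_mul_left hj h1).symm

set_option maxHeartbeats 1600000 in
set_option synthInstance.maxHeartbeats 200000 in
/-- The bound in a Galois configuration. -/
theorem exists_bound_of_galois {k F K K' : Type*} [Field k] [Finite k] [Field F] [Field K] [Field K']
    [Algebra k F] [Algebra k K] [Algebra k K'] [Algebra F K] [Algebra F K'] [Algebra K K']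
    [IsScalarTower k F K] [IsScalarTower k F K'] [IsScalarTower k K K'] [IsScalarTower F K K']
    [FiniteDimensional F K'] [IsGalois F K']
    (hF : IsFunctionField k F) (hK : IsFunctionField k K) (hK' : IsFunctionField k K')
    (hFN : ∀ m, 0 < m → pointCount hF m = (Nat.card k : ℤ) ^ m + 1) :
    ∃ (C : ℤ) (d J : ℕ), 0 < d ∧ ∀ t, J ≤ t →
      |pointCount hK (2 * d * t) - (Nat.card k : ℤ) ^ (2 * d * t)| ≤ C * (Nat.card k : ℤ) ^ (d * t) := by
  classical
  have : FiniteDimensional K K' := Module.Finite.of_restrictScalars_finite F K K'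
  obtain ⟨P₀⟩ := exists_place hK'
  obtain ⟨p, hp⟩ := CharP.exists k
  have : Fact p.Prime := ⟨CharP.char_is_prime k p⟩
  have := Fintype.ofFinite k
  obtain ⟨r, -, hr⟩ := FiniteField.card k p
  set g := genus k K' with hg
  refine ⟨(finrank F K' : ℤ) * (2 * g + 2), P₀.deg, (g + 1) ^ 2, deg_pos hK'.1 P₀, fun t ht => ?_⟩
  set d := P₀.deg
  set j := 2 * d * t with hj
  have hd : 0 < d := deg_pos hK'.1 P₀
  have ht0 : 0 < t := lt_of_lt_of_le (pow_pos (Nat.succ_pos g) 2) ht
  have hj0 : 0 < j := Nat.mul_pos (Nat.mul_pos two_pos hd) ht0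
  have : NeZero j := ⟨hj0.ne'⟩
  set E := FiniteField.Extension k p j
  set Ω := AlgebraicClosure K'
  let φ : E →ₐ[k] Ω := IsAlgClosed.lift
  have hrF := finrank_constSub (K := F) φ hF.2
  have hgF := constSub_gen (K := F) φ
  have hrK := finrank_constSub (K := K) φ hK.2
  have hgK := constSub_gen (K := K) φ
  have hrL := finrank_constSub (K := K') φ hK'.2
  have hgL := constSub_gen (K := K') φ
  set Fj := constSub F φ
  set Kj := constSub K φ
  set Lj := constSub K' φ
  have hFj := ConstExt.isFunctionField hF hgF hrF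
  have hKj := ConstExt.isFunctionField hK hgK hrK
  have hLj := ConstExt.isFunctionField hK' hgL hrL
  have hNF := ConstExt.pointCount_eq hF hgF hrF hFj one_pos
  have hNK := ConstExt.pointCount_eq hK hgK hrK hKj one_pos
  have hNL : ∀ m, 0 < m → pointCount hLj m = pointCount hK' (j * m) := fun m hm => by
    rw [ConstExt.pointCount_eq hK' hgL hrL hLj hm, FiniteField.finrank_extension]
  rw [FiniteField.finrank_extension, mul_one] at hNF hNK
  have hQcard : Nat.card E = Nat.card k ^ j := FiniteField.natCard_extension k p j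
  have hgenus : genus E Lj = g := genus_eq_of_pointCount hK' hLj hj0 hQcard hNL
  -- inclusions
  have hFK : Fj ≤ Kj.restrictScalars F := IntermediateField.adjoin_le_iff.2
    (fun z hz => IntermediateField.subset_adjoin K _ hz)
  have hKL : Kj ≤ Lj.restrictScalars K := IntermediateField.adjoin_le_iff.2
    (fun z hz => IntermediateField.subset_adjoin K' _ hz)
  have hFL : Fj ≤ Lj.restrictScalars F := fun z hz => hKL (hFK hz)
  letI algFK : Algebra Fj Kj := (IntermediateField.inclusion hFK).toRingHom.toAlgebra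
  letI algKL : Algebra Kj Lj := (IntermediateField.inclusion hKL).toRingHom.toAlgebra
  letI algFL : Algebra Fj Lj := (IntermediateField.inclusion hFL).toRingHom.toAlgebra
  haveI t1 : IsScalarTower F Fj Lj := IsScalarTower.of_algebraMap_eq fun x => Subtype.ext (by
    show algebraMap K' Ω (algebraMap F K' x) = algebraMap F Ω x
    rw [← IsScalarTower.algebraMap_apply])
  haveI t2 : IsScalarTower Fj Kj Lj := IsScalarTower.of_algebraMap_eq fun _ => rfl
  haveI t3 : IsScalarTower E Fj Lj := IsScalarTower.of_algebraMap_eq fun _ => rfl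
  haveI t4 : IsScalarTower E Kj Lj := IsScalarTower.of_algebraMap_eq fun _ => rfl
  haveI t5 : IsScalarTower E Fj Kj := IsScalarTower.of_algebraMap_eq fun _ => rfl
  have hfinF : FiniteDimensional F Fj := ConstExt.finite (k' := E) hrF
  have hfinL : FiniteDimensional K' Lj := ConstExt.finite (k' := E) hrL
  have hfinFL : FiniteDimensional F Lj := Module.Finite.trans K' Lj
  have hfinFjLj : FiniteDimensional Fj Lj := Module.Finite.of_restrictScalars_finite F Fj Lj
  have hfinKjLj : FiniteDimensional Kj Lj := Module.Finite.of_restrictScalars_finite Fj Kj Lj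
  have hrank : finrank Fj Lj = finrank F K' :=
    finrank_square (j := j) hj0 (hrF.trans (FiniteField.finrank_extension k p j))
      (hrL.trans (FiniteField.finrank_extension k p j))
  have hgalF : IsGalois F Fj := ConstExt.isGalois (k' := E) hgF hrF
  set R := (IsScalarTower.toAlgHom F K' Ω).fieldRange with hR
  have hgalR : IsGalois F R := IsGalois.of_algEquiv (AlgEquiv.ofInjectiveField (IsScalarTower.toAlgHom F K' Ω))
  have hsup : R ⊔ Fj = Lj.restrictScalars F := by
    refine le_antisymm (sup_le ?_ hFL) ?_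
    · rintro _ ⟨y, rfl⟩
      exact Lj.algebraMap_mem y
    · intro z hz
      have hle : Lj ≤ IntermediateField.adjoin K' ((R ⊔ Fj : IntermediateField F Ω) : Set Ω) :=
        IntermediateField.adjoin.mono K' _ _ fun w hw =>
          (le_sup_right : Fj ≤ R ⊔ Fj) (IntermediateField.subset_adjoin F _ hw)
      have hz' := hle hz
      refine Subfield.closure_le.2 ?_ hz'
      rintro w (⟨y, rfl⟩ | hw)
      · exact (le_sup_left : R ≤ R ⊔ Fj) ⟨y, rfl⟩
      · exact hw
  have hgalL : IsGalois F Lj := by
    have h : IsGalois F (R ⊔ Fj : IntermediateField F Ω) := ⟨⟩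
    exact IsGalois.of_algEquiv (IntermediateField.equivOfEq hsup)
  have hgal : IsGalois Fj Lj := IsGalois.tower_top_of_isGalois F Fj Lj
  -- a rational place upstairs
  obtain ⟨Q₀, hQ₀⟩ : ∃ Q₀ : Place E Lj, Q₀.deg = 1 := by
    have hmem : P₀ ∈ placesDvd hK' (j * 1) := by
      rw [mem_placesDvd hK' (Nat.mul_pos hj0 one_pos), hj, mul_one, mul_comm 2 d, mul_assoc]
      exact dvd_mul_right d _
    have hpos : 0 < pointCount hLj 1 := by
      rw [hNL 1 one_pos]
      exact lt_of_lt_of_le (by exact_mod_cast hd : (0 : ℤ) < P₀.deg)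
        (Finset.single_le_sum (f := fun P : Place k K' => (P.deg : ℤ)) (fun _ _ => Int.natCast_nonneg _) hmem)
    rw [pointCount_one] at hpos
    obtain ⟨⟨Q, hQ⟩⟩ := (Nat.card_pos_iff.1 (by exact_mod_cast hpos : 0 < Nat.card {P : Place E Lj // P.deg = 1})).1
    exact ⟨Q, hQ⟩
  have : CharP E p := charP_of_injective_algebraMap (algebraMap k E).injective p
  have hq₀ : p ^ ((r : ℕ) * (d * t)) = Nat.card k ^ (d * t) := by
    rw [pow_mul, ← hr, Nat.card_eq_fintype_card]
  have hE : Nat.card E = (p ^ ((r : ℕ) * (d * t))) ^ 2 := by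
    rw [hQcard, hq₀, ← pow_mul, hj]; congr 1; ring
  have hbig : (genus E Lj + 1) ^ 2 < p ^ ((r : ℕ) * (d * t)) := by
    rw [hgenus, hq₀]
    calc (g + 1) ^ 2 ≤ d * t := ht.trans (Nat.le_mul_of_pos_left t hd)
      _ < Nat.card k ^ (d * t) := Nat.lt_pow_self one_lt_card
  have hmain := abs_pointCount_sub_le (K := Kj) hFj hKj hLj hE hbig Q₀ hQ₀ (by
    rw [hNF, hFN j hj0, hQcard]; push_cast; rfl)
  rw [hNK, hQcard, hgenus, hrank, hq₀] at hmain
  push_cast at hmain
  exact hmain

end Groth.Agent.FFLib
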