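import Groth.Agent.FFLib.DiffExp3

/-!
# Sums over the ramification filtration
-/

open WithZero Module

namespace Groth.Agent.FFLib.DiffExp

open FunFld LocRes

universe u

variable {k : Type u} {K K' : Type*} [Field k] [Field K] [Field K'] [Algebra k K] [Algebra K K'] [Algebra k K']
  [IsScalarTower k K K'] [FiniteDimensional K K'] [IsGalois K K']
  (hK : IsFunctionField k K) (hg : IsGeometric k K)
  {F F' : Type*} [Field F] [Algebra k F] [Field F'] [Algebra k F']
  {P : Place k K} {Q : Place k K'} {e : ℕ} (he : IsOverWith Q P e)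
  {φ : K →ₐ[k] LaurentSeries F} (hφ : IsExpansionAt P.1 φ)
  {ψ : K' →ₐ[k] LaurentSeries F'} (hψ : IsExpansionAt Q.1 ψ)

include hK hg he hφ hψ in
/-- Hilbert's formula for the different exponent. -/
theorem diffExp_eq_sum_ramGroup {x : K} (hx : vDiff φ 1 x ≠ 0) (hx' : vDiff ψ 1 (algebraMap K K' x) ≠ 0) :
    (Function.support fun i : ℕ => (Nat.card {σ : K' ≃ₐ[K] K' // InG Q i σ} : ℤ) - 1).Finite ∧
    diffExp φ ψ e x = ∑ᶠ i : ℕ, if 1 ≤ i then (Nat.card {σ : K' ≃ₐ[K] K' // InG Q i σ} : ℤ) - 1 else 0 := by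
  classical
  have hsep := (isSeparable_residue_ext hK hg hψ).1
  haveI := Fintype.ofFinite (ramGroup (K := K) Q 1)
  obtain ⟨s, -, -, hs⟩ := exists_uniformizer Q
  set S := (Finset.univ : Finset (ramGroup (K := K) Q 1)).erase 1 with hSdef
  set ι : ramGroup (K := K) Q 1 → ℤ := fun σ => Q.ord ((σ : K' ≃ₐ[K] K') s - s) with hι
  have hne : ∀ σ ∈ S, (σ : K' ≃ₐ[K] K') s - s ≠ 0 := by
    intro σ hσ h0
    -- an element of inertia fixing a uniformizer lies in every ramification group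
    have hall : ∀ j : ℕ, 1 ≤ j → InG Q j (σ : K' ≃ₐ[K] K') := fun j hj =>
      (inG_iff Q σ.2 hs hj).2 (by rw [h0, map_zero]; exact zero_le)
    refine Finset.ne_of_mem_erase hσ (Subtype.ext (AlgEquiv.ext fun z => ?_))
    rw [OneMemClass.coe_one, AlgEquiv.one_apply]
    obtain ⟨c, hc0, hc⟩ : ∃ c : K', c ≠ 0 ∧ Q.1 (c * z) ≤ 1 ∧ (σ : K' ≃ₐ[K] K') c = c := by
      rcases le_or_gt (Q.1 z) 1 with hz | hz
      · exact ⟨1, one_ne_zero, by rwa [one_mul], map_one _⟩
      · have hz0 : z ≠ 0 := fun h => by rw [h, map_zero] at hz; exact not_lt.2 zero_le hz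
        have hs0 : s ≠ 0 := fun h => by rw [h, map_zero] at hs; exact exp_ne_zero hs.symm
        refine ⟨s ^ (Q.ord z).natAbs, pow_ne_zero _ hs0, ?_, by rw [map_pow, sub_eq_zero.1 h0]⟩
        rw [map_mul, map_pow, hs, v_eq Q hz0, ← exp_nsmul, ← exp_add, ← exp_zero, exp_le_exp, nsmul_eq_mul]
        have : -Q.ord z ≤ |Q.ord z| := neg_le_abs _
        push_cast
        linarith
    have hv0 : Q.1 ((σ : K' ≃ₐ[K] K') (c * z) - c * z) = 0 := by
      by_contra hv
      have h1 := hall ((log (Q.1 ((σ : K' ≃ₐ[K] K') (c * z) - c * z))).natAbs + 1) (by omega) _ hc.1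
      rw [← exp_log hv, exp_le_exp] at h1
      have := neg_abs_le (log (Q.1 ((σ : K' ≃ₐ[K] K') (c * z) - c * z)))
      push_cast at h1
      rw [log_exp] at h1
      linarith
    rw [Valuation.zero_iff, map_mul, hc.2, ← mul_sub, mul_eq_zero, sub_eq_zero] at hv0
    exact hv0.resolve_left hc0
  have hι1 : ∀ σ ∈ S, 1 ≤ ι σ := fun σ hσ => by
    have h := σ.2 s (by rw [hs, ← exp_zero, exp_le_exp]; norm_num)
    rw [v_le_exp_iff Q (hne σ hσ)] at h
    simpa using h
  have hcard : ∀ i : ℕ, 1 ≤ i →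
      (Nat.card {σ : K' ≃ₐ[K] K' // InG Q i σ} : ℤ) - 1 = ((S.filter fun σ => (i : ℤ) ≤ ι σ).card : ℤ) := by
    intro i hi
    have e1 : {σ : K' ≃ₐ[K] K' // InG Q i σ} ≃ {σ : ramGroup (K := K) Q 1 // σ ∈ insert 1 (S.filter fun σ => (i : ℤ) ≤ ι σ)} :=
      { toFun := fun σ => ⟨⟨σ.1, σ.2.mono hi⟩, by
          by_cases h1 : (⟨σ.1, σ.2.mono hi⟩ : ramGroup (K := K) Q 1) = 1
          · rw [h1]; exact Finset.mem_insert_self _ _
          refine Finset.mem_insert_of_mem (Finset.mem_filter.2 ?_)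
          have hm : (⟨σ.1, σ.2.mono hi⟩ : ramGroup (K := K) Q 1) ∈ S := Finset.mem_erase.2 ⟨h1, Finset.mem_univ _⟩
          refine ⟨hm, ?_⟩
          have h := (inG_iff Q (σ.2.mono hi) hs hi).1 σ.2
          rw [v_le_exp_iff Q (hne _ hm), neg_neg] at h
          exact h⟩
        invFun := fun σ => ⟨σ.1.1, by
          rcases Finset.mem_insert.1 σ.2 with h | h
          · rw [h]; exact inG_one Q i
          · obtain ⟨hm, hle⟩ := Finset.mem_filter.1 h
            refine (inG_iff Q σ.1.2 hs hi).2 ?_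
            rw [v_le_exp_iff Q (hne _ hm), neg_neg]
            exact hle⟩
        left_inv := fun σ => rfl
        right_inv := fun σ => rfl }
    rw [Nat.card_congr e1, Nat.card_eq_fintype_card, Fintype.card_coe,
      Finset.card_insert_of_notMem (fun h => Finset.notMem_erase 1 _ (Finset.mem_filter.1 h).1)]
    push_cast
    ring
  set N := ∑ σ ∈ S, (ι σ).toNat with hN
  have hbig : ∀ i : ℕ, N < i → (Nat.card {σ : K' ≃ₐ[K] K' // InG Q i σ} : ℤ) - 1 = 0 := fun i hi => by
    rw [hcard i (by omega), Finset.filter_false_of_mem, Finset.card_empty, Nat.cast_zero]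
    intro σ hσ hle
    have := Finset.single_le_sum (f := fun τ => (ι τ).toNat) (fun _ _ => Nat.zero_le _) hσ
    rw [← hN] at this
    have := hι1 σ hσ
    omega
  refine ⟨(Set.finite_Iic N).subset fun i hi => not_lt.1 fun h => hi (hbig i h), ?_⟩
  rw [finsum_eq_sum_of_support_subset _ (s := Finset.Icc 1 N) fun i hi => by
    rw [Function.mem_support] at hi
    rw [Finset.coe_Icc, Set.mem_Icc]
    split_ifs at hi with h1
    · exact ⟨h1, not_lt.1 fun h => hi (hbig i h)⟩
    · exact absurd rfl hi]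
  rw [Finset.sum_congr rfl fun i hi => by rw [if_pos (Finset.mem_Icc.1 hi).1, hcard i (Finset.mem_Icc.1 hi).1],
    diffExp_galois hK hg he hφ hψ hx hx' hs, ← Nat.cast_sum]
  simp only [Finset.card_filter]
  rw [Finset.sum_comm, Nat.cast_sum]
  refine Finset.sum_congr rfl fun σ hσ => ?_
  have h1 := hι1 σ hσ
  have hle := Finset.single_le_sum (f := fun τ => (ι τ).toNat) (fun _ _ => Nat.zero_le _) hσ
  rw [← hN] at hle
  rw [← Finset.card_filter, show (Finset.Icc 1 N).filter (fun i : ℕ => (i : ℤ) ≤ ι σ) = Finset.Icc 1 (ι σ).toNat by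
    ext i; simp only [Finset.mem_filter, Finset.mem_Icc]; omega, Nat.card_Icc]
  show ι σ = _
  omega

end Groth.Agent.FFLib.DiffExp
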