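import Groth.Agent.FFLib.Spaces

/-!
# Riemann's theorem and the adele quotient
-/

open WithZero Module

namespace Groth.Agent.FFLib

open FunFld

variable {k K : Type*} [Field k] [Field K] [Algebra k K]

/-- `deg D + 1 - ℓ(D)`, the genus minus the index of speciality. -/
noncomputable def delta (D : Divisor k K) : ℤ := D.deg + 1 - ell D

variable (hK : IsFunctionField k K)
include hK

lemma delta_mono {D E : Divisor k K} (h : D ≤ E) : delta D ≤ delta E := by
  have := ell_sub_le hK D E h
  unfold delta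
  omega

lemma delta_zero : delta (0 : Divisor k K) = 0 := by
  simp [delta, ell_zero hK]

lemma delta_add_div (D : Divisor k K) {x : K} (hx : x ≠ 0) :
    delta (D + FunFld.div k x) = delta D := by
  rw [delta, delta, deg_add, deg_div hK, ell_add_div hK D hx, add_zero]

lemma exists_transcendental : ∃ x : K, Transcendental k x :=
  ⟨_, hK.1.choose_spec.1⟩

lemma exists_place : Nonempty (Place k K) := by
  obtain ⟨x, hx⟩ := exists_transcendental hK
  obtain ⟨P, -⟩ := exists_zero hK (x := x) fun ⟨c, hc⟩ => hx (hc ▸ isAlgebraic_algebraMap c)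
  exact ⟨P⟩

lemma delta_bddAbove : ∃ γ : ℤ, ∀ D : Divisor k K, delta D ≤ γ := by
  obtain ⟨x, hx⟩ := exists_transcendental hK
  have := finite_adjoin hK hx
  obtain ⟨C, hC, hCl⟩ := finrank_le_deg_pole_aux hK hx
  set B : Divisor k K := pole x
  set n := finrank (IntermediateField.adjoin k ({x} : Set K)) K with hn
  have hB : B.deg = n := deg_pole hK hx
  have hn0 : 0 < n := finrank_pos
  refine ⟨C.deg + 1 - n, fun D => ?_⟩
  have hl : ∀ l : ℕ, delta (l • B) ≤ C.deg + 1 - n := by
    intro l
    refine (delta_mono hK (le_add_of_nonneg_right hC)).trans ?_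
    have h1 : ((l : ℤ) + 1) * n ≤ ell (l • B + C) := by exact_mod_cast hCl l
    rw [delta, deg_add, deg_nsmul, hB]
    linarith
  obtain ⟨l, hl'⟩ : ∃ l : ℕ, C.deg + 1 - n + (D ⊔ 0).deg < l + 1 :=
    ⟨(C.deg + 1 - n + (D ⊔ 0).deg).toNat, by omega⟩
  have hpos : 0 < ell (l • B - (D ⊔ 0)) := by
    have h1 := ell_sub_le hK (l • B - (D ⊔ 0)) (l • B) (sub_le_self _ le_sup_right)
    have h2 := hl l
    rw [delta, deg_nsmul, hB] at h2
    rw [deg_sub] at h1
    have h3 : (l : ℤ) ≤ l * n := le_mul_of_one_le_right (Int.natCast_nonneg _) (by omega)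
    omega
  obtain ⟨z, hz, hzD⟩ := exists_effective_of_ell_pos hK hpos
  calc delta D ≤ delta (D ⊔ 0) := delta_mono hK le_sup_left
    _ = delta ((D ⊔ 0) + FunFld.div k z⁻¹) := (delta_add_div hK _ (inv_ne_zero hz)).symm
    _ ≤ delta (l • B) := delta_mono hK (by
        rw [div_inv hK, ← sub_eq_add_neg, sub_le_iff_le_add, ← sub_nonneg]
        rwa [show l • B + FunFld.div k z - (D ⊔ 0) = l • B - (D ⊔ 0) + FunFld.div k z by abel])
    _ ≤ _ := hl l

lemma genus_aux : (∀ D : Divisor k K, delta D ≤ genus k K) ∧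
    ∃ D : Divisor k K, delta D = genus k K := by
  obtain ⟨γ, hγ⟩ := delta_bddAbove hK
  have hb : BddAbove (Set.range fun D : Divisor k K => (delta D).toNat) :=
    ⟨γ.toNat, by rintro _ ⟨D, rfl⟩; exact Int.toNat_le_toNat (hγ D)⟩
  have hg : genus k K = sSup (Set.range fun D : Divisor k K => (delta D).toNat) := rfl
  have hmax : ∀ D : Divisor k K, (delta D).toNat ≤ genus k K := fun D => hg ▸ le_csSup hb ⟨D, rfl⟩
  obtain ⟨D₀, hD₀⟩ : genus k K ∈ Set.range fun D : Divisor k K => (delta D).toNat :=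
    hg ▸ Nat.sSup_mem (Set.range_nonempty _) hb
  refine ⟨fun D => by have := hmax D; omega, ?_⟩
  simp only at hD₀
  by_cases h : 0 ≤ delta D₀
  · exact ⟨D₀, by omega⟩
  · exact ⟨0, by rw [delta_zero hK]; omega⟩

lemma delta_le_genus (D : Divisor k K) : delta D ≤ genus k K := (genus_aux hK).1 D

lemma riemann_ge (D : Divisor k K) : D.deg + 1 - genus k K ≤ ell D := by
  have := delta_le_genus hK D
  unfold delta at this
  omega

lemma exists_delta_eq_genus :
    ∃ N : ℤ, ∀ D : Divisor k K, N ≤ D.deg → delta D = genus k K := by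
  obtain ⟨D₀, hD₀⟩ := (genus_aux hK).2
  refine ⟨D₀.deg + genus k K, fun D hD => le_antisymm (delta_le_genus hK D) ?_⟩
  have h1 := riemann_ge hK (D - D₀)
  rw [deg_sub] at h1
  obtain ⟨z, hz, hzD⟩ := exists_effective_of_ell_pos hK (D := D - D₀) (by omega)
  rw [← hD₀, ← delta_add_div hK D hz]
  exact delta_mono hK (by rwa [sub_add_eq_add_sub, sub_nonneg] at hzD)

omit hK in
lemma range_diag_mem {a : Place k K → K} (ha : a ∈ LinearMap.range (diag k K)) :
    ∃ y : K, a = fun _ => y := by
  obtain ⟨y, rfl⟩ := ha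
  exact ⟨y, rfl⟩

lemma range_diag_le_adele : LinearMap.range (diag k K) ≤ adele k K := by
  rintro _ ⟨y, rfl⟩
  rw [mem_adele, Filter.eventually_cofinite]
  refine (finite_support_ord hK y).subset fun P (hP : ¬ P.1 y ≤ 1) => ?_
  rw [v_le_one_iff, not_le] at hP
  exact hP.ne

lemma sup_le_adele (D : Divisor k K) : AD D ⊔ LinearMap.range (diag k K) ≤ adele k K :=
  sup_le (AD_le_adele D) (range_diag_le_adele hK)

lemma finite_quo_sup (D E : Divisor k K) (h : D ≤ E) :
    FiniteDimensional k
        (quo (AD D ⊔ LinearMap.range (diag k K)) (AD E ⊔ LinearMap.range (diag k K))) ∧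
      (finrank k (quo (AD D ⊔ LinearMap.range (diag k K)) (AD E ⊔ LinearMap.range (diag k K))) : ℤ)
        = delta E - delta D := by
  obtain ⟨h1, h2⟩ := finite_quo_AD hK D E h
  obtain ⟨h3, h4⟩ := finite_quo_sup_range (diag k K) (AD D) (AD E) (AD_mono h)
  refine ⟨h3, ?_⟩
  have h5 : (finrank k (quo ((AD D).comap (diag k K)) ((AD E).comap (diag k K))) : ℤ) =
      ell E - ell D := finrank_quo_L hK D E h
  have h6 : (finrank k (quo (AD D) (AD E)) : ℤ) =
      finrank k (quo (AD D ⊔ LinearMap.range (diag k K)) (AD E ⊔ LinearMap.range (diag k K))) +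
        finrank k (quo ((AD D).comap (diag k K)) ((AD E).comap (diag k K))) := by exact_mod_cast h4
  rw [h2, h5] at h6
  unfold delta
  linarith

omit hK in
lemma exists_AD_of_adele {a : Place k K → K} (ha : a ∈ adele k K) (D : Divisor k K) :
    ∃ E, D ≤ E ∧ a ∈ AD E := by
  classical
  rw [mem_adele, Filter.eventually_cofinite] at ha
  let F : Divisor k K := ∑ P ∈ ha.toFinset, Finsupp.single P (max 0 (log (P.1 (a P))))
  refine ⟨D ⊔ F, le_sup_left, fun P => ?_⟩
  by_cases h : P.1 (a P) ≤ 1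
  · refine h.trans ?_
    rw [← exp_zero, exp_le_exp, Finsupp.sup_apply]
    refine le_trans ?_ (le_max_right _ _)
    rw [Finsupp.finsetSum_apply]
    exact Finset.sum_nonneg fun Q _ => by
      rcases eq_or_ne P Q with rfl | hPQ
      · simp
      · simp [Finsupp.single_eq_of_ne hPQ]
  · refine le_exp_of_log_le ?_
    rw [Finsupp.sup_apply]
    refine le_trans ?_ (le_max_right _ _)
    rw [Finsupp.finsetSum_apply, Finset.sum_eq_single P
      (fun Q _ hQ => Finsupp.single_eq_of_ne hQ.symm) (fun hn => absurd (ha.mem_toFinset.2 h) hn),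
      Finsupp.single_eq_same]
    exact le_max_right _ _

/-- Beyond Riemann's bound, `A(D) + K` is everything. -/
lemma adele_eq (D : Divisor k K) (h : delta D = genus k K) :
    AD D ⊔ LinearMap.range (diag k K) = adele k K := by
  refine le_antisymm (sup_le_adele hK D) fun a ha => ?_
  obtain ⟨E, hE, haE⟩ := exists_AD_of_adele ha D
  obtain ⟨h1, h2⟩ := finite_quo_sup hK D E hE
  have h3 : finrank k (quo (AD D ⊔ LinearMap.range (diag k K))
      (AD E ⊔ LinearMap.range (diag k K))) = 0 := by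
    have := delta_le_genus hK E
    omega
  have h4 : Submodule.Quotient.mk (p := (AD D ⊔ LinearMap.range (diag k K)).comap
      (AD E ⊔ LinearMap.range (diag k K)).subtype) ⟨a, Submodule.mem_sup_left haE⟩ = 0 :=
    (Module.finrank_zero_iff.1 h3).elim _ _
  rwa [Submodule.Quotient.mk_eq_zero] at h4

lemma exists_ge_delta_eq (D : Divisor k K) : ∃ E, D ≤ E ∧ delta E = genus k K := by
  obtain ⟨N, hN⟩ := exists_delta_eq_genus hK
  obtain ⟨P⟩ := exists_place hK
  refine ⟨D + Finsupp.single P ((N - D.deg).toNat : ℤ), le_add_of_nonneg_right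
    (Finsupp.single_nonneg.2 (Int.natCast_nonneg _)), hN _ ?_⟩
  rw [deg_add, deg_single]
  have hd := deg_pos hK P
  have : ((N - D.deg).toNat : ℤ) ≤ (N - D.deg).toNat * P.deg :=
    le_mul_of_one_le_right (Int.natCast_nonneg _) (by omega)
  omega

lemma finite_adele_quotient (D : Divisor k K) :
    FiniteDimensional k (↥(adele k K) ⧸ ADK D) ∧
      (finrank k (↥(adele k K) ⧸ ADK D) : ℤ) = genus k K - delta D := by
  obtain ⟨E, hE, hEg⟩ := exists_ge_delta_eq hK D
  have h := finite_quo_sup hK D E hE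
  rw [adele_eq hK E hEg, hEg] at h
  exact h

end Groth.Agent.FFLib
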