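import Groth.Agent.FFLib.SectRing

/-!
# `R_P / (T) ≅ k[H]` and the embedding dimension of the section ring of a point
-/

open WithZero Module Polynomial

namespace Groth.Agent.FFLib

open FunFld W4c6gradedringsgw

universe u

variable {k : Type u} {K : Type u} [Field k] [Field K] [Algebra k K] [IsAlgClosed k]
variable (hK : IsFunctionField k K) (P : Place k K)

/-- The section ring of a point. -/
noncomputable abbrev SR (P : Place k K) : Subalgebra k K[X] := sectRing (Finsupp.single P 1 : Divisor k K)

/-- The element `T`. -/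
noncomputable def sectT : ↥(SR P) :=
  ⟨monomial 1 1, monomial_mem (by
    intro Q
    rw [map_one, ← exp_zero, exp_le_exp]
    rcases eq_or_ne Q P with rfl | h
    · simp
    · simp [Finsupp.single_eq_of_ne h])⟩

include hK

lemma L_pred_zero_eq_bot : L (Finsupp.single P (((0 : ℕ) : ℤ) - 1) : Divisor k K) = ⊥ := by
  have hP := deg_eq_one hK P
  refine L_eq_bot_of_deg_neg hK ?_
  rw [deg_single, hP]
  norm_num

lemma ker_lead (Φ : ↥(SR P) →ₐ[k] k[X])
    (hΦ : ∀ (p : ↥(SR P)) (n : ℕ), (Φ p).coeff n = 0 ↔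
      (p : K[X]).coeff n ∈ L (Finsupp.single P ((n : ℤ) - 1) : Divisor k K)) :
    RingHom.ker Φ = Ideal.span {sectT P} := by
  refine le_antisymm (fun p hp => ?_) ?_
  · rw [RingHom.mem_ker] at hp
    have h : ∀ n : ℕ, (p : K[X]).coeff n ∈ L (Finsupp.single P ((n : ℤ) - 1) : Divisor k K) := fun n =>
      (hΦ p n).1 (by rw [hp, coeff_zero])
    have h0 : (p : K[X]).coeff 0 = 0 := by
      have := h 0
      rwa [L_pred_zero_eq_bot hK, Submodule.mem_bot] at this
    have hq : (p : K[X]).divX ∈ sectRing (Finsupp.single P 1 : Divisor k K) := fun n => by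
      rw [coeff_divX, Finsupp.smul_single, smul_eq_mul, mul_one]
      have := h (n + 1)
      rwa [Nat.cast_add, Nat.cast_one, add_sub_cancel_right] at this
    refine Ideal.mem_span_singleton'.2 ⟨⟨_, hq⟩, Subtype.ext ?_⟩
    show (p : K[X]).divX * monomial 1 (1 : K) = p
    conv_rhs => rw [← divX_mul_X_add (p : K[X]), h0, map_zero, add_zero]
    rw [monomial_one_one_eq_X]
  · rw [Ideal.span_le, Set.singleton_subset_iff, SetLike.mem_coe, RingHom.mem_ker]
    ext n
    rw [coeff_zero, hΦ]
    show (monomial 1 (1 : K)).coeff n ∈ _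
    rw [coeff_monomial]
    split_ifs with h
    · subst h
      intro Q
      simp
    · exact Submodule.zero_mem _

omit [IsAlgClosed k] hK in
lemma lead_coeff_ne_zero_iff (Φ : ↥(SR P) →ₐ[k] k[X])
    (hΦ : ∀ (p : ↥(SR P)) (n : ℕ), (Φ p).coeff n = 0 ↔
      (p : K[X]).coeff n ∈ L (Finsupp.single P ((n : ℤ) - 1) : Divisor k K)) (n : ℕ) :
    n ∈ poleSubmonoid P ↔ ∃ p, (Φ p).coeff n ≠ 0 := by
  constructor
  · rintro ⟨f, hf, hf0, hfo⟩
    refine ⟨⟨monomial n f, monomial_mem hf⟩, fun h => ?_⟩
    rw [hΦ] at h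
    change (monomial n f).coeff n ∈ _ at h
    rw [coeff_monomial, if_pos rfl, mem_L_iff hf0] at h
    have := h P
    rw [Finsupp.single_eq_same] at this
    omega
  · rintro ⟨p, hp⟩
    rw [Ne, hΦ] at hp
    obtain ⟨h0, ho⟩ := ord_eq_of_mem_notMem (coeff_mem_L p n) hp
    exact ⟨_, coeff_mem_L p n, h0, ho⟩

omit [IsAlgClosed k] hK in
/-- Normalized monomial lifts. -/
lemma exists_lift (Φ : ↥(SR P) →ₐ[k] k[X])
    (hΦ : ∀ (p : ↥(SR P)) (n : ℕ), (Φ p).coeff n = 0 ↔
      (p : K[X]).coeff n ∈ L (Finsupp.single P ((n : ℤ) - 1) : Divisor k K)) {n : ℕ}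
    (hn : n ∈ poleSubmonoid P) :
    ∃ p : ↥(SR P), (∀ m, m ≠ n → (p : K[X]).coeff m = 0) ∧ Φ p = monomial n 1 := by
  obtain ⟨f, hf, hf0, hfo⟩ := hn
  set p : ↥(SR P) := ⟨monomial n f, monomial_mem hf⟩ with hp
  have hoff : ∀ m, m ≠ n → (Φ p).coeff m = 0 := fun m hm => by
    rw [hΦ]
    show (monomial n f).coeff m ∈ _
    rw [coeff_monomial, if_neg (Ne.symm hm)]
    exact Submodule.zero_mem _
  have hne : (Φ p).coeff n ≠ 0 := fun h => by
    rw [hΦ] at h
    change (monomial n f).coeff n ∈ _ at h
    rw [coeff_monomial, if_pos rfl, mem_L_iff hf0] at h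
    have := h P
    rw [Finsupp.single_eq_same] at this
    omega
  refine ⟨((Φ p).coeff n)⁻¹ • p, fun m hm => ?_, ?_⟩
  · show (((Φ p).coeff n)⁻¹ • monomial n f).coeff m = 0
    rw [coeff_smul, coeff_monomial, if_neg (Ne.symm hm), smul_zero]
  · ext m
    rw [map_smul, coeff_smul, coeff_monomial, smul_eq_mul]
    split_ifs with h
    · subst h; exact inv_mul_cancel₀ hne
    · rw [hoff m (Ne.symm h), mul_zero]

theorem prime_and_quotient (hg : 1 ≤ genus k K) (t : ↥(SR P)) (a : K) (ha : a ≠ 0)
    (ht : (t : K[X]) = C a * X) :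
    Prime t ∧ Nonempty ((↥(SR P) ⧸ Ideal.span {t}) ≃ₐ[k]
      AddMonoidAlgebra k ↥(AddSubmonoid.closure (poleOrders P))) := by
  classical
  have hP := deg_eq_one hK P
  obtain ⟨Φ, hΦ⟩ := exists_lead hK P
  -- `a` is a constant
  obtain ⟨c, hc⟩ : ∃ c : k, algebraMap k K c = a := by
    have h1 := coeff_mem_L t 1
    rw [ht, coeff_C_mul, coeff_X_one, mul_one, Nat.cast_one] at h1
    have h2 : L (Finsupp.single P 1 : Divisor k K) = L 0 := by
      have := finiteDimensional_L hK (Finsupp.single P 1 : Divisor k K)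
      refine (Submodule.eq_of_le_of_finrank_le
        (L_mono (Finsupp.single_nonneg.2 zero_le_one)) ?_).symm
      show ell (Finsupp.single P 1 : Divisor k K) ≤ ell (0 : Divisor k K)
      rw [ell_single_one hK hg hP, ell_zero hK]
    rw [h2, L_zero hK, Submodule.mem_one] at h1
    exact h1
  have hc0 : c ≠ 0 := fun e => ha (by rw [← hc, e, map_zero])
  have hts : t = algebraMap k ↥(SR P) c * sectT P := by
    refine Subtype.ext ?_
    show (t : K[X]) = algebraMap k K[X] c * monomial 1 (1 : K)
    rw [ht, monomial_one_one_eq_X, Polynomial.algebraMap_apply, hc]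
  have hspan : Ideal.span {t} = RingHom.ker Φ := by
    rw [ker_lead hK P Φ hΦ, hts, mul_comm,
      Ideal.span_singleton_mul_right_unit ((isUnit_iff_ne_zero.2 hc0).map (algebraMap k ↥(SR P)))]
  have ht0 : t ≠ 0 := fun e => by
    have := congrArg (fun p : ↥(SR P) => (p : K[X]).coeff 1) e
    simp [ht, ha] at this
  refine ⟨(Ideal.span_singleton_prime ht0).1 (hspan ▸ RingHom.ker_isPrime _), ?_⟩
  rw [closure_poleOrders hK P]
  let ψ : AddMonoidAlgebra k (poleSubmonoid P) →ₐ[k] k[X] :=
    AddMonoidAlgebra.lift k k[X] (poleSubmonoid P)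
      { toFun := fun h => X ^ ((Multiplicative.toAdd h : poleSubmonoid P) : ℕ)
        map_one' := by simp
        map_mul' := fun a b => by simp [pow_add] }
  have hψ : ∀ (h : poleSubmonoid P) (r : k), ψ (AddMonoidAlgebra.single h r) = monomial (h : ℕ) r := by
    intro h r
    rw [AddMonoidAlgebra.lift_single, ← C_mul_X_pow_eq_monomial, smul_eq_C_mul]
    rfl
  have hψc : ∀ (x : AddMonoidAlgebra k (poleSubmonoid P)) (h : poleSubmonoid P),
      (ψ x).coeff (h : ℕ) = x.coeff h := by
    intro x h
    induction x using AddMonoidAlgebra.induction_linear with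
    | zero => simp
    | add x y hx hy => rw [map_add, Polynomial.coeff_add, hx, hy]; rfl
    | single a r =>
      rw [hψ, coeff_monomial, AddMonoidAlgebra.coeff_single, Finsupp.single_apply]
      exact if_congr Subtype.coe_injective.eq_iff rfl rfl
  have hψinj : Function.Injective ψ := fun x y e => AddMonoidAlgebra.coeff_injective <| Finsupp.ext fun h => by
    rw [← hψc, ← hψc, e]
  have hrange : Φ.range = ψ.range := by
    refine le_antisymm ?_ ?_
    · rintro _ ⟨p, rfl⟩
      rw [as_sum_support (Φ.toRingHom p : k[X])]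
      refine Subalgebra.sum_mem _ fun n hn => ?_
      have hn' : n ∈ poleSubmonoid P :=
        (lead_coeff_ne_zero_iff P Φ hΦ n).2 ⟨p, Polynomial.mem_support_iff.1 hn⟩
      exact ⟨AddMonoidAlgebra.single ⟨n, hn'⟩ _, hψ _ _⟩
    · rintro _ ⟨x, rfl⟩
      induction x using AddMonoidAlgebra.induction_linear with
      | zero => exact ⟨0, by simp⟩
      | add x y hx hy =>
        show ψ (x + y) ∈ Φ.range
        rw [map_add]
        exact add_mem hx hy
      | single h r =>
        obtain ⟨p, -, hp⟩ := exists_lift P Φ hΦ h.2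
        refine ⟨r • p, ?_⟩
        show Φ (r • p) = ψ _
        rw [map_smul, hp, hψ, smul_monomial, smul_eq_mul, mul_one]
  exact ⟨((Ideal.quotientEquivAlgOfEq k hspan).trans
    (Ideal.quotientKerEquivRange Φ)).trans ((Subalgebra.equivOfEq _ _ hrange).trans
      (AlgEquiv.ofInjective ψ hψinj).symm)⟩

theorem spanFinrank_irrelevant (hg : 1 ≤ genus k K) :
    (RingHom.ker (constantCoeff.comp (sectRing (Finsupp.single P 1 : Divisor k K)).val.toRingHom)).spanFinrank
      = Set.ncard (minGens (poleOrders P)) + 1 := by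
  classical
  have hP := deg_eq_one hK P
  obtain ⟨Φ, hΦ⟩ := exists_lead hK P
  obtain ⟨σ, hσ⟩ := exists_residue_algHom hK P
  set m : Ideal ↥(SR P) := RingHom.ker (constantCoeff.comp (sectRing (Finsupp.single P 1 : Divisor k K)).val.toRingHom)
  have hmem : ∀ p : ↥(SR P), p ∈ m ↔ (p : K[X]).coeff 0 = 0 := fun p => by
    simp only [m, RingHom.mem_ker, RingHom.comp_apply]
    exact Iff.rfl
  have hm0 : ∀ p : ↥(SR P), p ∈ m ↔ (Φ p).coeff 0 = 0 := fun p => by
    rw [hmem, hΦ, L_pred_zero_eq_bot hK, Submodule.mem_bot]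
  have hgen : ∀ h : poleSubmonoid P, ∃ p : ↥(SR P), (∀ n, n ≠ (h : ℕ) → (p : K[X]).coeff n = 0) ∧
      Φ p = monomial (h : ℕ) 1 := fun h => exists_lift P Φ hΦ h.2
  choose G hG0 hG using hgen
  have hH : poleOrders P = (poleSubmonoid P : Set ℕ) := poleOrders_eq hK P
  have hM : minGens (poleOrders P) ⊆ (poleSubmonoid P : Set ℕ) := fun h hh => hH ▸ hh.1
  obtain ⟨Gs, hGs⟩ : ∃ Gs : Finset ℕ, (Gs : Set ℕ) = minGens (poleOrders P) :=
    ⟨(minGens_finite hK P).toFinset, Set.Finite.coe_toFinset _⟩
  have hGsH : ∀ h ∈ Gs, h ∈ poleSubmonoid P := fun h hh => hM (hGs ▸ hh)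
  have hmin : ∀ h, h ∈ Gs ↔ h ∈ poleSubmonoid P ∧ h ≠ 0 ∧
      ∀ a ∈ poleSubmonoid P, ∀ b ∈ poleSubmonoid P, a ≠ 0 → b ≠ 0 → a + b ≠ h := fun h => by
    rw [← Finset.mem_coe, hGs, hH]; rfl
  set S : Set ↥(SR P) := insert (sectT P) ((fun h : Gs => G ⟨h, hGsH h h.2⟩) '' Set.univ) with hS
  have hSm : S ⊆ m := by
    rintro p (rfl | ⟨h, -, rfl⟩)
    · rw [SetLike.mem_coe, hmem]
      show (monomial 1 (1 : K)).coeff 0 = 0
      simp [coeff_monomial]
    · rw [SetLike.mem_coe, hm0, hG, coeff_monomial, if_neg ((hmin h).1 h.2).2.1]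
  have hT : sectT P ∈ Ideal.span S := Ideal.subset_span (Set.mem_insert _ _)
  have hker : RingHom.ker Φ ≤ Ideal.span S := by
    rw [ker_lead hK P Φ hΦ, Ideal.span_le, Set.singleton_subset_iff]
    exact hT
  have hGm : ∀ n (hn : n ∈ poleSubmonoid P), n ≠ 0 → G ⟨n, hn⟩ ∈ Ideal.span S := by
    intro n
    induction n using Nat.strong_induction_on with | _ n ih => ?_
    intro hn hn0
    by_cases hg' : n ∈ Gs
    · exact Ideal.subset_span (Set.mem_insert_of_mem _ ⟨⟨n, hg'⟩, trivial, rfl⟩)
    rw [hmin] at hg'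
    push Not at hg'
    obtain ⟨a, ha, b, hb, ha0, hb0, rfl⟩ := hg' hn hn0
    have h1 : G ⟨a + b, hn⟩ - G ⟨a, ha⟩ * G ⟨b, hb⟩ ∈ Ideal.span S := hker (by
      rw [RingHom.mem_ker, map_sub, map_mul, hG, hG, hG, monomial_mul_monomial, mul_one, sub_self])
    have h2 := Ideal.mul_mem_right (G ⟨b, hb⟩) _ (ih a (by omega) ha ha0)
    simpa using add_mem h1 h2
  have hspan : Ideal.span S = m := by
    refine le_antisymm (Ideal.span_le.2 hSm) fun p hp => ?_
    have hsupp : ∀ n ∈ (Φ p).support, n ∈ poleSubmonoid P ∧ n ≠ 0 := fun n hn =>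
      ⟨(lead_coeff_ne_zero_iff P Φ hΦ n).2 ⟨p, Polynomial.mem_support_iff.1 hn⟩, fun e => by
        rw [Polynomial.mem_support_iff, e] at hn
        exact hn ((hm0 p).1 hp)⟩
    let q : ↥(SR P) := ∑ n ∈ (Φ p).support.attach, (Φ p).coeff n • G ⟨n, (hsupp n n.2).1⟩
    have hq : q ∈ Ideal.span S := Ideal.sum_mem _ fun n _ => by
      rw [Algebra.smul_def]
      exact Ideal.mul_mem_left _ _ (hGm n _ (hsupp n n.2).2)
    have hΦq : Φ q = Φ p := by
      simp only [q, map_sum, map_smul, hG, smul_monomial, smul_eq_mul, mul_one]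
      rw [Finset.sum_attach (Φ p).support fun n => monomial n ((Φ p).coeff n)]
      exact (as_sum_support (Φ p)).symm
    have := add_mem (hker (show p - q ∈ RingHom.ker Φ by rw [RingHom.mem_ker, map_sub, hΦq, sub_self])) hq
    rwa [sub_add_cancel] at this
  rw [← hGs, Set.ncard_coe_finset]
  refine le_antisymm ?_ ?_
  · rw [← hspan]
    have hfin : S.Finite := (Set.finite_univ.image _).insert _
    refine (Submodule.spanFinrank_span_le_ncard_of_finite hfin).trans ?_
    refine (Set.ncard_insert_le _ _).trans (Nat.add_le_add_right ?_ 1)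
    refine (Set.ncard_image_le Set.finite_univ).trans ?_
    rw [Set.ncard_univ, Nat.card_eq_fintype_card, Fintype.card_coe]
  · have hfg : m.FG := by
      rw [← hspan]
      exact Submodule.fg_span ((Set.finite_univ.image _).insert _)
    obtain ⟨s, hs, hsm⟩ := Submodule.FG.exists_span_set_encard_eq_spanFinrank hfg
    have hsfin : s.Finite := Set.finite_of_encard_eq_coe hs
    -- the degree-one coefficient as a constant
    have hL1 : ∀ p : ↥(SR P), P.1 ((p : K[X]).coeff 1) ≤ 1 := fun p => by
      have h1 := coeff_mem_L p 1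
      rw [Nat.cast_one] at h1
      have h2 : L (Finsupp.single P 1 : Divisor k K) ≤ L 0 := by
        have := finiteDimensional_L hK (Finsupp.single P 1 : Divisor k K)
        refine (Submodule.eq_of_le_of_finrank_le
          (L_mono (Finsupp.single_nonneg.2 zero_le_one)) ?_).symm.le
        show ell (Finsupp.single P 1 : Divisor k K) ≤ ell (0 : Divisor k K)
        rw [ell_single_one hK hg hP, ell_zero hK]
      simpa using h2 h1 P
    let one' : ↥(SR P) →ₗ[k] P.O :=
      { toFun := fun p => ⟨(p : K[X]).coeff 1, hL1 p⟩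
        map_add' := fun p q => Subtype.ext (coeff_add (p : K[X]) q 1)
        map_smul' := fun c p => Subtype.ext (by
          rw [RingHom.id_apply, coe_smul_O]
          exact coeff_smul c (p : K[X]) 1) }
    let lam : ↥(SR P) →ₗ[k] (Option Gs → k) := LinearMap.pi fun o => o.elim (σ.toLinearMap.comp one')
      (fun h => (lcoeff k (h : ℕ)).comp Φ.toLinearMap)
    have hlin : ∀ (r x : ↥(SR P)), x ∈ m → lam (r * x) = (Φ r).coeff 0 • lam x := by
      intro r x hx
      funext o
      cases o with
      | none =>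
        show σ (one' (r * x)) = (Φ r).coeff 0 • σ (one' x)
        obtain ⟨c, hc⟩ : ∃ c : k, algebraMap k K c = (r : K[X]).coeff 0 := by
          have h1 := coeff_mem_L r 0
          rwa [Nat.cast_zero, Finsupp.single_zero, L_zero hK, Submodule.mem_one] at h1
        have hrc : (Φ r).coeff 0 = c := by
          have h1 : r - algebraMap k ↥(SR P) c ∈ m := by
            rw [hmem]
            show ((r : K[X]) - algebraMap k K[X] c).coeff 0 = 0
            rw [coeff_sub, Polynomial.algebraMap_apply, coeff_C, if_pos rfl, hc, sub_self]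
          rw [hm0, map_sub, AlgHom.commutes, coeff_sub, Polynomial.algebraMap_apply, coeff_C,
            if_pos rfl, sub_eq_zero] at h1
          simpa using h1
        rw [hrc, ← map_smul σ]
        refine congrArg σ (Subtype.ext ?_)
        rw [coe_smul_O]
        show ((r : K[X]) * (x : K[X])).coeff 1 = c • (x : K[X]).coeff 1
        rw [coeff_mul, Finset.Nat.antidiagonal_succ, Finset.sum_cons]
        simp [(hmem x).1 hx, Algebra.smul_def, hc]
      | some h =>
        show (Φ (r * x)).coeff (h : ℕ) = (Φ r).coeff 0 • (Φ x).coeff (h : ℕ)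
        rw [map_mul, coeff_mul, Finset.sum_eq_single ((0, (h : ℕ)) : ℕ × ℕ)]
        · rfl
        · rintro ⟨a, b⟩ hab hne
          rw [Finset.HasAntidiagonal.mem_antidiagonal] at hab
          simp only at hab ⊢
          by_contra hne0
          obtain ⟨hA, hB⟩ := mul_ne_zero_iff.1 hne0
          have hb0 : b ≠ 0 := fun e => hB (e ▸ (hm0 x).1 hx)
          have ha0 : a ≠ 0 := fun e => hne (by subst e; simp only [zero_add] at hab; rw [hab])
          exact ((hmin h).1 h.2).2.2 a ((lead_coeff_ne_zero_iff P Φ hΦ a).2 ⟨r, hA⟩) b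
            ((lead_coeff_ne_zero_iff P Φ hΦ b).2 ⟨x, hB⟩) ha0 hb0 hab
        · intro hn
          exact absurd (Finset.HasAntidiagonal.mem_antidiagonal.2 (zero_add _)) hn
    have hsub : s ⊆ m := fun x hx => hsm ▸ Submodule.subset_span hx
    have himg : ∀ x ∈ m, lam x ∈ Submodule.span k (lam '' s) := by
      intro x hx
      rw [← hsm] at hx
      obtain ⟨c, hcs, rfl⟩ := (Submodule.mem_span_set (R := ↥(SR P))).1 hx
      rw [Finsupp.sum, map_sum]
      refine Submodule.sum_mem _ fun y hy => ?_
      rw [smul_eq_mul, hlin _ _ (hsub (hcs hy))]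
      exact Submodule.smul_mem _ _ (Submodule.subset_span ⟨y, hcs hy, rfl⟩)
    have htop : Submodule.span k (lam '' s) = ⊤ := by
      rw [eq_top_iff, ← (Pi.basisFun k (Option Gs)).span_eq, Submodule.span_le]
      rintro _ ⟨o, rfl⟩
      rw [SetLike.mem_coe, Pi.basisFun_apply]
      have hTΦ : Φ (sectT P) = 0 := by
        rw [← RingHom.mem_ker, ker_lead hK P Φ hΦ]
        exact Ideal.mem_span_singleton_self _
      have hgm : ∀ h : Gs, G ⟨h, hGsH h h.2⟩ ∈ m := fun h => hSm (Set.mem_insert_of_mem _ ⟨h, trivial, rfl⟩)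
      cases o with
      | none =>
        have : lam (sectT P) = Pi.single none 1 := by
          funext o
          cases o with
          | none =>
            rw [Pi.single_eq_same]
            show σ (one' (sectT P)) = 1
            rw [← map_one σ]
            refine congrArg σ (Subtype.ext ?_)
            show (monomial 1 (1 : K)).coeff 1 = 1
            rw [coeff_monomial, if_pos rfl]
          | some h =>
            rw [Pi.single_eq_of_ne (by simp)]
            show (Φ (sectT P)).coeff (h : ℕ) = 0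
            rw [hTΦ, coeff_zero]
        rw [← this]
        exact himg _ (hSm (Set.mem_insert _ _))
      | some h₀ =>
        have : lam (G ⟨h₀, hGsH h₀ h₀.2⟩) -
            σ (one' (G ⟨h₀, hGsH h₀ h₀.2⟩)) • Pi.single none 1 = Pi.single (some h₀) 1 := by
          funext o
          cases o with
          | none =>
            rw [Pi.sub_apply, Pi.smul_apply, Pi.single_eq_same, Pi.single_eq_of_ne (by simp),
              smul_eq_mul, mul_one]
            exact sub_self _
          | some h =>
            rw [Pi.sub_apply, Pi.smul_apply, Pi.single_eq_of_ne (by simp : some h ≠ none),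
              smul_zero, sub_zero]
            show (Φ (G ⟨h₀, hGsH h₀ h₀.2⟩)).coeff (h : ℕ) = _
            rw [hG, coeff_monomial]
            rcases eq_or_ne h h₀ with rfl | hne
            · rw [if_pos rfl, Pi.single_eq_same]
            · rw [if_neg (fun e => hne (Subtype.ext e.symm)),
                Pi.single_eq_of_ne (fun e => hne (Option.some_inj.1 e))]
        rw [← this]
        refine Submodule.sub_mem _ (himg _ (hgm h₀)) (Submodule.smul_mem _ _ ?_)
        have h1 : lam (sectT P) = Pi.single none 1 := by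
          funext o
          cases o with
          | none =>
            rw [Pi.single_eq_same]
            show σ (one' (sectT P)) = 1
            rw [← map_one σ]
            refine congrArg σ (Subtype.ext ?_)
            show (monomial 1 (1 : K)).coeff 1 = 1
            rw [coeff_monomial, if_pos rfl]
          | some h =>
            rw [Pi.single_eq_of_ne (by simp)]
            show (Φ (sectT P)).coeff (h : ℕ) = 0
            rw [hTΦ, coeff_zero]
        rw [← h1]
        exact himg _ (hSm (Set.mem_insert _ _))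
    have h1 := (hsfin.image lam).toFinset
    have h2 : finrank k (Option Gs → k) ≤ (hsfin.image lam).toFinset.card := by
      rw [← finrank_top k (Option Gs → k), ← htop]
      have := finrank_span_finset_le_card (R := k) (hsfin.image lam).toFinset
      rwa [Set.Finite.coe_toFinset] at this
    rw [Module.finrank_pi, Fintype.card_option, Fintype.card_coe] at h2
    refine h2.trans ?_
    rw [← Set.ncard_eq_toFinset_card _ (hsfin.image lam)]
    refine (Set.ncard_image_le hsfin).trans (le_of_eq ?_)
    rw [Set.ncard_def, hs]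
    rfl

end Groth.Agent.FFLib
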