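import Groth.Agent.FFLib.Gaps
import Groth.Prelude.Def_W4c6gradedringsgwSect

/-!
# The section ring of a point and the semigroup algebra of its Weierstrass semigroup
-/

open WithZero Module Polynomial

namespace Groth.Agent.FFLib

open FunFld W4c6gradedringsgw

variable {k K : Type*} [Field k] [Field K] [Algebra k K]

lemma coeff_mem_L {P : Place k K} (p : sectRing (Finsupp.single P 1 : Divisor k K)) (n : ℕ) :
    (p : K[X]).coeff n ∈ L (Finsupp.single P (n : ℤ) : Divisor k K) := by
  have h := p.2 n
  rwa [Finsupp.smul_single, smul_eq_mul, mul_one] at h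

lemma monomial_mem {P : Place k K} {n : ℕ} {f : K}
    (hf : f ∈ L (Finsupp.single P (n : ℤ) : Divisor k K)) :
    monomial n f ∈ sectRing (Finsupp.single P 1 : Divisor k K) := by
  intro m
  rw [coeff_monomial]
  split_ifs with h
  · subst h
    rwa [Finsupp.smul_single, smul_eq_mul, mul_one]
  · exact Submodule.zero_mem _

/-- The residue map to the constant field, at a place of degree one over an algebraically closed
field. -/
lemma exists_residue_algHom [IsAlgClosed k] (hK : IsFunctionField k K) (P : Place k K) :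
    ∃ σ : P.O →ₐ[k] k, ∀ y : P.O, σ y = 0 ↔ P.1 (y : K) < 1 := by
  have hP := deg_eq_one hK P
  have hbij : Function.Bijective (algebraMap k (IsLocalRing.ResidueField P.O)) := by
    refine ⟨(algebraMap k _).injective, fun w => ?_⟩
    obtain ⟨c, hc⟩ := (finrank_eq_one_iff_of_nonzero' (1 : IsLocalRing.ResidueField P.O) one_ne_zero).1
      (show finrank k (IsLocalRing.ResidueField P.O) = 1 from hP) w
    exact ⟨c, by rw [← hc]; exact ((Algebra.smul_def c (1 : IsLocalRing.ResidueField P.O)).trans (mul_one _)).symm⟩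
  let e : k ≃ₐ[k] IsLocalRing.ResidueField P.O :=
    AlgEquiv.ofBijective (Algebra.ofId k (IsLocalRing.ResidueField P.O)) hbij
  let res : P.O →ₐ[k] IsLocalRing.ResidueField P.O :=
    { IsLocalRing.residue P.O with commutes' := fun c => rfl }
  refine ⟨e.symm.toAlgHom.comp res, fun y => ?_⟩
  rw [AlgHom.comp_apply]
  show e.symm (IsLocalRing.residue P.O y) = 0 ↔ _
  rw [map_eq_zero_iff e.symm e.symm.injective, residue_eq_zero_iff_lt]

/-- A semigroup view of the pole orders. -/
def poleSubmonoid (P : Place k K) : AddSubmonoid ℕ where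
  carrier := {n | ∃ f ∈ L (Finsupp.single P (n : ℤ) : Divisor k K), f ≠ 0 ∧ P.ord f = -(n : ℤ)}
  zero_mem' := ⟨1, fun Q => by simp, one_ne_zero, by simp⟩
  add_mem' := by
    rintro a b ⟨f, hf, hf0, hfo⟩ ⟨g, hg, hg0, hgo⟩
    refine ⟨f * g, ?_, mul_ne_zero hf0 hg0, by rw [ord_mul P hf0 hg0, hfo, hgo]; push_cast; ring⟩
    have h := W4c6gradedringsgw.mul_mem_L hf hg
    rwa [← Finsupp.single_add, ← Nat.cast_add] at h

variable [IsAlgClosed k] (hK : IsFunctionField k K)
include hK

lemma poleOrders_eq (P : Place k K) : poleOrders P = (poleSubmonoid P : Set ℕ) := by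
  ext n
  have hP := deg_eq_one hK P
  simp only [poleOrders, Set.mem_setOf_eq, Finsupp.smul_single, smul_eq_mul, mul_one]
  show _ ↔ ∃ f ∈ L (Finsupp.single P (n : ℤ) : Divisor k K), f ≠ 0 ∧ P.ord f = -(n : ℤ)
  rcases Nat.eq_zero_or_pos n with rfl | hn
  · refine ⟨fun _ => (poleSubmonoid P).zero_mem, fun _ => ?_⟩
    rw [Nat.cast_zero, Finsupp.single_zero, ell_zero hK, ell_eq_zero_of_deg_neg hK]
    rw [deg_single, hP]; norm_num
  · have hle := single_le_single P (show (n : ℤ) - 1 ≤ n by omega)
    have h1 := ell_mono hK hle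
    have h2 := ell_sub_le hK _ _ hle
    rw [deg_single, deg_single, hP] at h2
    have := finiteDimensional_L hK (Finsupp.single P (n : ℤ) : Divisor k K)
    have hgap : IsGap P n ↔ ell (Finsupp.single P (n : ℤ) : Divisor k K) ≤
        ell (Finsupp.single P ((n : ℤ) - 1) : Divisor k K) := by
      constructor
      · intro h; show finrank k _ ≤ finrank k _; rw [h]
      · intro h
        exact (Submodule.eq_of_le_of_finrank_le (L_mono hle) h).symm
    rw [isGap_iff] at hgap
    push_cast at h2
    constructor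
    · intro h
      by_contra hn'
      have := hgap.1 hn'
      omega
    · intro h
      have : ¬ ell (Finsupp.single P (n : ℤ) : Divisor k K) ≤
          ell (Finsupp.single P ((n : ℤ) - 1) : Divisor k K) := fun h' => hgap.2 h' h
      omega

lemma closure_poleOrders (P : Place k K) :
    AddSubmonoid.closure (poleOrders P) = poleSubmonoid P := by
  rw [poleOrders_eq hK, AddSubmonoid.closure_eq]

lemma mem_poleSubmonoid_of_le (P : Place k K) {n : ℕ} (h : 2 * genus k K + 1 ≤ n) :
    n ∈ poleSubmonoid P := by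
  show n ∈ (poleSubmonoid P : Set ℕ)
  rw [← poleOrders_eq hK]
  have hP := deg_eq_one hK P
  simp only [poleOrders, Set.mem_setOf_eq, Finsupp.smul_single, smul_eq_mul, mul_one]
  have h1 := ell_eq_of_deg_ge hK (D := (Finsupp.single P (n : ℤ) : Divisor k K))
    (by rw [deg_single, hP]; push_cast; omega)
  have h2 := ell_eq_of_deg_ge hK (D := (Finsupp.single P ((n : ℤ) - 1) : Divisor k K))
    (by rw [deg_single, hP]; push_cast; omega)
  rw [deg_single, hP] at h1 h2
  push_cast at h1 h2
  omega

lemma minGens_finite (P : Place k K) : (minGens (poleOrders P)).Finite := by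
  rw [poleOrders_eq hK]
  refine (Set.finite_le_nat (4 * genus k K + 2)).subset fun h hh => ?_
  by_contra hlt
  simp only [Set.mem_setOf_eq, not_le] at hlt
  obtain ⟨-, -, hmin⟩ := hh
  exact hmin (2 * genus k K + 1) (mem_poleSubmonoid_of_le hK P le_rfl) (h - (2 * genus k K + 1))
    (mem_poleSubmonoid_of_le hK P (by omega)) (by omega) (by omega) (by omega)

/-- The leading-term map from the section ring to `k[X]`. -/
lemma exists_lead (P : Place k K) :
    ∃ Φ : sectRing (Finsupp.single P 1 : Divisor k K) →ₐ[k] k[X],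
      ∀ p n, (Φ p).coeff n = 0 ↔
        (p : K[X]).coeff n ∈ L (Finsupp.single P ((n : ℤ) - 1) : Divisor k K) := by
  obtain ⟨σ, hσ⟩ := exists_residue_algHom hK P
  obtain ⟨t, ht0, -, htv⟩ := exists_uniformizer P
  let u : P.O := ⟨t, show P.1 t ≤ 1 by rw [htv, ← exp_zero, exp_le_exp]; norm_num⟩
  have hmem : ∀ (n : ℕ) (f : K), f ∈ L (Finsupp.single P (n : ℤ) : Divisor k K) → t ^ n * f ∈ P.O := by
    intro n f hf
    show P.1 _ ≤ 1
    rw [map_mul, map_pow, htv, ← exp_nsmul]
    have := hf P
    rw [Finsupp.single_eq_same] at this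
    calc exp (n • (-1 : ℤ)) * P.1 f ≤ exp (n • (-1 : ℤ)) * exp (n : ℤ) := mul_le_mul' le_rfl this
      _ = 1 := by rw [← exp_add]; simp
  -- the map to `P.O[X]`
  let g : sectRing (Finsupp.single P 1 : Divisor k K) →ₐ[k] K[X] :=
    ((aeval (C t * X : K[X])).restrictScalars k).comp (sectRing (Finsupp.single P 1 : Divisor k K)).val
  have hg : ∀ p n, (g p).coeff n = t ^ n * (p : K[X]).coeff n := by
    intro p n
    show ((aeval (C t * X : K[X])) (p : K[X])).coeff n = _
    have : aeval (C t * X : K[X]) (p : K[X]) = (p : K[X]).comp (C t * X) := rfl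
    rw [this, comp_C_mul_X_coeff, mul_comm]
  have hgO : ∀ p n, (g p).coeff n ∈ P.O := fun p n => by rw [hg]; exact hmem n _ (coeff_mem_L p n)
  have hsurj : ∀ p, ∃! q : P.O[X], q.map (algebraMap P.O K) = g p := by
    intro p
    obtain ⟨q, hq⟩ := (mem_lifts (f := algebraMap P.O K) (g p)).1 ((lifts_iff_coeff_lifts (f := algebraMap P.O K) _).2 fun n => ⟨(⟨_, hgO p n⟩ : P.O), rfl⟩)
    exact ⟨q, hq, fun q' hq' => map_injective _ (FaithfulSMul.algebraMap_injective _ _) (hq'.trans hq.symm)⟩
  choose q hq hquniq' using hsurj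
  have hq : ∀ p, (q p).map (algebraMap P.O K) = g p := hq
  have hquniq : ∀ p (y : P.O[X]), y.map (algebraMap P.O K) = g p → y = q p := hquniq'
  let Q : sectRing (Finsupp.single P 1 : Divisor k K) →ₐ[k] P.O[X] :=
    { toFun := q
      map_one' := (hquniq 1 1 (by rw [Polynomial.map_one, map_one])).symm
      map_mul' := fun a b => (hquniq (a * b) _ (by rw [Polynomial.map_mul, hq, hq, map_mul])).symm
      map_zero' := (hquniq 0 0 (by rw [Polynomial.map_zero, map_zero])).symm
      map_add' := fun a b => (hquniq (a + b) _ (by rw [Polynomial.map_add, hq, hq, map_add])).symm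
      commutes' := fun c => (hquniq (algebraMap k _ c) _ (by
        rw [Polynomial.algebraMap_apply, Polynomial.map_C, AlgHom.commutes, Polynomial.algebraMap_apply]
        rfl)).symm }
  refine ⟨(Polynomial.mapAlgHom σ).comp Q, fun p n => ?_⟩
  · have e : ((Q p).coeff n : K) = t ^ n * (p : K[X]).coeff n := by
      rw [← hg, ← hq p, coeff_map]; rfl
    show ((Q p).map (σ : P.O →+* k)).coeff n = 0 ↔ _
    rw [coeff_map]
    show σ ((Q p).coeff n) = 0 ↔ _
    rw [hσ, e, map_mul, map_pow, htv, ← exp_nsmul]
    set f := (p : K[X]).coeff n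
    rcases eq_or_ne f 0 with hf | hf
    · rw [hf]; simp
    rw [v_eq P hf, ← exp_add, ← exp_zero, exp_lt_exp]
    constructor
    · intro h
      rw [mem_L_iff hf]
      intro R
      have := (mem_L_iff hf).1 (coeff_mem_L p n) R
      rcases eq_or_ne R P with rfl | hR
      · rw [Finsupp.single_eq_same]; simp at h ⊢; omega
      · rw [Finsupp.single_eq_of_ne hR] at this ⊢; exact this
    · intro h
      have := (mem_L_iff hf).1 h P
      rw [Finsupp.single_eq_same] at this
      simp; omega

end Groth.Agent.FFLib
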