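import Groth.Agent.FFLib.Riemann
import Mathlib.FieldTheory.PurelyInseparable.Basic
import Mathlib.FieldTheory.Perfect
import Mathlib.RingTheory.PowerSeries.Inverse

/-!
# Separating variables over a perfect constant field; uniqueness of lifts to power series
-/

open Module Polynomial

namespace Groth.Agent.FFLib

open FunFld

variable {k K : Type*} [Field k] [Field K] [Algebra k K]

lemma expChar_down {R S : Type*} [Field R] [Field S] (f : R →+* S) (p : ℕ) [hp : ExpChar S p] :
    ExpChar R p := by
  obtain ⟨q, hq⟩ := ExpChar.exists R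
  have := expChar_of_injective_ringHom f.injective q
  rwa [ExpChar.eq hp this]

/-- The image of an iterate of Frobenius, as an intermediate field (`k` perfect). -/
noncomputable def powField (k K : Type*) [Field k] [Field K] [Algebra k K] [PerfectField k]
    (p : ℕ) [ExpChar K p] (m : ℕ) : IntermediateField k K :=
  (iterateFrobenius K p m).fieldRange.toIntermediateField fun c => by
    have : ExpChar k p := expChar_down (algebraMap k K) p
    have : PerfectRing k p := PerfectField.toPerfectRing p
    obtain ⟨d, rfl⟩ := (bijective_iterateFrobenius k p (n := m)).2 c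
    exact ⟨algebraMap k K d, by simp [iterateFrobenius_def]⟩

lemma mem_powField [PerfectField k] (p : ℕ) [ExpChar K p] (m : ℕ) {y : K} :
    y ∈ powField k K p m ↔ ∃ z : K, z ^ p ^ m = y :=
  Iff.rfl

variable (hK : IsFunctionField k K)
include hK

lemma finrank_adjoin_pow {x : K} (hx : Transcendental k x) {n : ℕ} (hn : 0 < n) :
    finrank (IntermediateField.adjoin k ({x ^ n} : Set K)) K =
      n * finrank (IntermediateField.adjoin k ({x} : Set K)) K := by
  have h1 : pole (k := k) (x ^ n) = n • pole (k := k) x := Finsupp.ext fun P => by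
    rw [Finsupp.smul_apply, pole_apply hK, pole_apply hK, ord_pow, nsmul_eq_mul, ← mul_neg,
      mul_max_of_nonneg _ _ (Int.natCast_nonneg n), mul_zero]
  have h2 := deg_pole hK (hx.pow hn)
  rw [h1, deg_nsmul, deg_pole hK hx] at h2
  exact_mod_cast h2.symm

lemma powField_degree [PerfectField k] (p : ℕ) [ExpChar K p] (m : ℕ) :
    finrank (powField k K p m) K = p ^ m ∧ FiniteDimensional (powField k K p m) K := by
  classical
  obtain ⟨x, hx⟩ := exists_transcendental hK
  have : ExpChar k p := expChar_down (algebraMap k K) p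
  have : PerfectRing k p := PerfectField.toPerfectRing p
  set A := IntermediateField.adjoin k ({x} : Set K) with hA
  set B := IntermediateField.adjoin k ({x ^ p ^ m} : Set K) with hB
  set M := powField k K p m with hM
  set F := iterateFrobenius K p m
  have hp : 0 < p ^ m := pow_pos (expChar_pos K p) m
  have := finite_adjoin hK hx
  have : FiniteDimensional B K := finite_adjoin hK (hx.pow hp)
  have hBM : B ≤ M := IntermediateField.adjoin_le_iff.2 (Set.singleton_subset_iff.2 ⟨x, rfl⟩)
  have hAB : ∀ a, a ∈ A ↔ F a ∈ B := by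
    have h1 : ∀ a ∈ A, F a ∈ B := fun a ha => by
      induction ha using IntermediateField.adjoin_induction with
      | mem a ha =>
        rw [Set.mem_singleton_iff.1 ha]
        exact IntermediateField.mem_adjoin_simple_self k _
      | algebraMap c =>
        rw [show F (algebraMap k K c) = algebraMap k K (c ^ p ^ m) by simp [F, iterateFrobenius_def]]
        exact B.algebraMap_mem _
      | add a b _ _ h h' => rw [map_add]; exact add_mem h h'
      | inv a _ h => rw [map_inv₀]; exact inv_mem h
      | mul a b _ _ h h' => rw [map_mul]; exact mul_mem h h'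
    refine fun a => ⟨h1 a, fun ha => ?_⟩
    have h2 : ∀ b ∈ B, ∃ a ∈ A, F a = b := fun b hb => by
      induction hb using IntermediateField.adjoin_induction with
      | mem b hb => exact ⟨x, IntermediateField.mem_adjoin_simple_self k x, (Set.mem_singleton_iff.1 hb).symm⟩
      | algebraMap c =>
        obtain ⟨d, hd⟩ := (bijective_iterateFrobenius k p (n := m)).2 c
        exact ⟨algebraMap k K d, A.algebraMap_mem d, by rw [← hd]; simp [F, iterateFrobenius_def]⟩
      | add b b' _ _ h h' =>
        obtain ⟨a, ha, rfl⟩ := h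
        obtain ⟨a', ha', rfl⟩ := h'
        exact ⟨a + a', add_mem ha ha', map_add _ _ _⟩
      | inv b _ h =>
        obtain ⟨a, ha, rfl⟩ := h
        exact ⟨a⁻¹, inv_mem ha, map_inv₀ _ _⟩
      | mul b b' _ _ h h' =>
        obtain ⟨a, ha, rfl⟩ := h
        obtain ⟨a', ha', rfl⟩ := h'
        exact ⟨a * a', mul_mem ha ha', map_mul _ _ _⟩
    obtain ⟨a', ha', he⟩ := h2 _ ha
    rwa [F.injective he] at ha'
  have hcomap : finrank A K = finrank B (IntermediateField.extendScalars hBM) := by
    refine Algebra.finrank_eq_of_equiv_equiv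
      (RingEquiv.ofBijective
        ((F.comp A.val.toRingHom).codRestrict B fun a => (hAB _).1 a.2) ⟨?_, ?_⟩)
      (RingEquiv.ofBijective (F.codRestrict (IntermediateField.extendScalars hBM) fun a => ⟨a, rfl⟩) ⟨?_, ?_⟩) ?_
    · exact fun a b h => Subtype.ext (F.injective (congrArg Subtype.val h))
    · intro b
      obtain ⟨a, ha⟩ := hBM b.2
      exact ⟨⟨a, (hAB a).2 (ha ▸ b.2)⟩, Subtype.ext ha⟩
    · exact fun a b h => F.injective (congrArg Subtype.val h)
    · rintro ⟨b, a, ha⟩
      exact ⟨a, Subtype.ext ha⟩
    · exact RingHom.ext fun a => Subtype.ext rfl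
  have hfin : FiniteDimensional (IntermediateField.extendScalars hBM) K :=
    IntermediateField.finiteDimensional_right _
  refine ⟨?_, hfin⟩
  have h3 := finrank_mul_finrank B (IntermediateField.extendScalars hBM) K
  rw [finrank_adjoin_pow hK hx hp, ← hcomap, mul_comm (p ^ m)] at h3
  exact Nat.eq_of_mul_eq_mul_left finrank_pos h3

/-- Over a perfect field, an element that is not a `p`-th power is a separating variable. -/
lemma isSeparable_adjoin [PerfectField k] (p : ℕ) [ExpChar K p] {x : K} (hx : Transcendental k x)
    (hxp : p = 1 ∨ ∀ y : K, y ^ p ≠ x) :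
    Algebra.IsSeparable (IntermediateField.adjoin k ({x} : Set K)) K := by
  set E := IntermediateField.adjoin k ({x} : Set K) with hE
  have := finite_adjoin hK hx
  have : ExpChar E p := expChar_down (algebraMap E K) p
  set S := separableClosure E K with hS
  have : ExpChar S p := expChar_down (algebraMap S K) p
  obtain ⟨e, he⟩ := IsPurelyInseparable.finrank_eq_pow S K p
  suffices h1 : finrank S K = 1 by
    rw [← separableClosure.eq_top_iff]
    exact IntermediateField.eq_of_le_of_finrank_le' le_top (by rw [IntermediateField.finrank_top, ← hS, h1])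
  rcases hxp with hp1 | hxp
  · rw [he, hp1, one_pow]
  rcases Nat.eq_zero_or_pos e with rfl | he0
  · rw [he, pow_zero]
  exfalso
  rcases ‹ExpChar K p› with _ | hp
  · exact hxp x (pow_one x)
  have hpow : ∀ z : K, z ^ p ^ e ∈ S := fun z => by
    obtain ⟨j, c, hj⟩ := IsPurelyInseparable.minpoly_eq_X_pow_sub_C S p z
    have h1 := minpoly.natDegree_le (A := S) z
    rw [hj, Polynomial.natDegree_X_pow_sub_C, he] at h1
    have h2 : z ^ p ^ j = (c : K) := by
      have := minpoly.aeval S z
      rw [hj, map_sub, map_pow, Polynomial.aeval_X, Polynomial.aeval_C, sub_eq_zero] at this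
      exact this
    have hje : j ≤ e := (Nat.pow_le_pow_iff_right hp.one_lt).1 h1
    rw [← Nat.add_sub_cancel' hje, pow_add, pow_mul, h2]
    exact pow_mem c.2 _
  have hle : powField k K p e ≤ S.restrictScalars k := fun y hy => by
    obtain ⟨z, rfl⟩ := (mem_powField p e).1 hy
    exact hpow z
  obtain ⟨h3, hfin⟩ := powField_degree hK p e
  have h4 : powField k K p e = S.restrictScalars k :=
    IntermediateField.eq_of_le_of_finrank_eq' hle (h3.trans he.symm)
  have hxS : x ∈ powField k K p e :=
    h4 ▸ (S.algebraMap_mem (⟨x, IntermediateField.mem_adjoin_simple_self k x⟩ : E))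
  obtain ⟨z, hz⟩ := (mem_powField p e).1 hxS
  refine hxp (z ^ p ^ (e - 1)) ?_
  rw [← pow_mul, ← pow_succ, Nat.sub_add_cancel he0]
  exact hz

/-- A uniformizer at a place is a separating variable. -/
lemma isSeparable_adjoin_uniformizer [PerfectField k] {P : Place k K} {t : K} (ht : P.ord t = 1) :
    Algebra.IsSeparable (IntermediateField.adjoin k ({t} : Set K)) K := by
  obtain ⟨p, hp⟩ := ExpChar.exists K
  refine isSeparable_adjoin hK p (transcendental_of_ord hK P (by omega)) ?_
  rcases ‹ExpChar K p› with _ | hp
  · exact .inl rfl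
  refine .inr fun y hy => ?_
  rw [← hy, ord_pow] at ht
  have h2 := Int.eq_one_or_neg_one_of_mul_eq_one ht
  have := hp.two_le
  omega

omit hK

/-- Two lifts to power series agreeing on a subfield over which `K` is separable are equal. -/
lemma powerSeries_hom_ext {A : Type*} [Field A] [Algebra k A] (F : IntermediateField k K)
    [Algebra.IsSeparable F K] (g₁ g₂ : K →ₐ[k] PowerSeries A)
    (h0 : ∀ y, PowerSeries.constantCoeff (g₁ y) = PowerSeries.constantCoeff (g₂ y))
    (hF : ∀ c ∈ F, g₁ c = g₂ c) : g₁ = g₂ := by
  refine AlgHom.ext fun y => ?_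
  set f := minpoly F y
  set q : (PowerSeries A)[X] := f.map (g₁.toRingHom.comp F.val.toRingHom) with hq
  have hval : ∀ g : K →ₐ[k] PowerSeries A, (∀ c ∈ F, g₁ c = g c) → q.eval (g y) = 0 := fun g hg => by
    have e : g₁.toRingHom.comp F.val.toRingHom = g.toRingHom.comp (algebraMap F K) :=
      RingHom.ext fun c => hg c c.2
    rw [hq, e, Polynomial.eval_map]
    have h1 := Polynomial.hom_eval₂ f (algebraMap F K) g.toRingHom y
    rw [← Polynomial.aeval_def, minpoly.aeval] at h1
    exact h1.symm.trans (map_zero _)
  have h1 := hval g₁ fun _ _ => rfl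
  have h2 := hval g₂ hF
  obtain ⟨z, hz⟩ := Polynomial.binomExpansion q (g₁ y) (g₂ y - g₁ y)
  rw [add_sub_cancel, h1, h2, zero_add, sq, ← mul_assoc, ← add_mul] at hz
  rcases mul_eq_zero.1 hz.symm with h3 | h3
  · exfalso
    have h4 := congrArg PowerSeries.constantCoeff h3
    rw [map_add, map_mul, map_sub, ← h0 y, sub_self, mul_zero, add_zero, map_zero, hq,
      Polynomial.derivative_map, Polynomial.eval_map] at h4
    have h5 := Polynomial.hom_eval₂ f.derivative (algebraMap F K) g₁.toRingHom y
    rw [← Polynomial.aeval_def] at h5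
    change PowerSeries.constantCoeff (f.derivative.eval₂ (g₁.toRingHom.comp (algebraMap F K)) (g₁ y)) = 0 at h4
    replace h4 := (congrArg PowerSeries.constantCoeff h5).trans h4
    exact (Algebra.IsSeparable.isSeparable F y).aeval_derivative_ne_zero (minpoly.aeval F y)
      ((PowerSeries.constantCoeff.comp g₁.toRingHom).injective (h4.trans (map_zero _).symm))
  · exact (sub_eq_zero.1 h3).symm

/-- Algebra homomorphisms into a domain agreeing at `x` agree on `k(x)`. -/
lemma eq_on_adjoin {B : Type*} [CommRing B] [IsDomain B] [Algebra k B] (g₁ g₂ : K →ₐ[k] B) {x : K}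
    (hx : g₁ x = g₂ x) : ∀ c ∈ IntermediateField.adjoin k ({x} : Set K), g₁ c = g₂ c := fun c hc => by
  induction hc using IntermediateField.adjoin_induction with
  | mem a ha => rw [Set.mem_singleton_iff.1 ha, hx]
  | algebraMap r => rw [AlgHom.commutes, AlgHom.commutes]
  | add a b _ _ h h' => rw [map_add, map_add, h, h']
  | inv a _ h =>
    rcases eq_or_ne a 0 with rfl | ha
    · simp
    · refine mul_left_cancel₀ ((map_ne_zero g₁.toRingHom).2 ha) ?_
      show g₁ a * g₁ a⁻¹ = g₁ a * g₂ a⁻¹
      rw [← map_mul, h, ← map_mul, mul_inv_cancel₀ ha, map_one, map_one]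
  | mul a b _ _ h h' => rw [map_mul, map_mul, h, h']

/-- Lifts to power series are determined by their value at a separating variable. -/
lemma powerSeries_hom_ext_gen {A : Type*} [Field A] [Algebra k A] {x : K}
    (hsep : Algebra.IsSeparable (IntermediateField.adjoin k ({x} : Set K)) K)
    (g₁ g₂ : K →ₐ[k] PowerSeries A)
    (h0 : ∀ y, PowerSeries.constantCoeff (g₁ y) = PowerSeries.constantCoeff (g₂ y))
    (hx : g₁ x = g₂ x) : g₁ = g₂ :=
  powerSeries_hom_ext (IntermediateField.adjoin k ({x} : Set K)) g₁ g₂ h0 (eq_on_adjoin g₁ g₂ hx)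

end Groth.Agent.FFLib
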