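import Groth.Agent.FFLib.WrFixed
import Groth.Agent.FFLib.BinomIdx
import Groth.Agent.FFLib.DiffDiv
import Groth.Agent.FFLib.Conorm

/-!
# The Weierstrass divisor
-/

open WithZero Module Submodule Matrix

namespace Groth.Agent.FFLib

open FunFld

variable {k K : Type*} [Field k] [IsAlgClosed k] [Field K] [Algebra k K] {n : ℕ}
variable (hK : IsFunctionField k K)
include hK

/-- The divisor of `ds`. -/
lemma divDiff_one {Φ : Place k K → (K →ₐ[k] LaurentSeries k)}
    (hΦ : ∀ P : Place k K, LocRes.IsExpansionAt P.1 (Φ P)) {s : K} {H : K →ₐ[k] PowerSeries K}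
    (hH : LocRes.IsHasseFamily s H) :
    (∀ P, divDiff Φ 1 s P = dOrd hK s P) ∧ (divDiff Φ 1 s).deg = 2 * (genus k K : ℤ) - 2 := by
  obtain ⟨htr, hsep⟩ := hasse_separating hK hH
  obtain ⟨C, hC, hcan⟩ := exists_canonical_dOrd hK htr hsep
  have hfun : (fun P : Place k K => LocRes.ordDiff (Φ P) 1 s) = ⇑C :=
    funext fun P => by rw [hC, ordDiff_eq_dOrd hK (hΦ P)]
  have heq : divDiff Φ 1 s = C := by
    rw [divDiff, dif_pos (by rw [hfun]; exact C.finite_support)]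
    exact Finsupp.ext fun P => by rw [Finsupp.ofSupportFinite_coe]; exact congrFun hfun P
  rw [heq]
  exact ⟨hC, (canonical_ell_deg hK hcan).2⟩

lemma dOrd_param {P : Place k K} {t : K} (ht : P.1 t = exp (-1 : ℤ)) : dOrd hK t P = 0 := by
  obtain ⟨u, H, hu, hH, h⟩ := dOrd_spec hK P
  rw [h]
  have h1 := v_hasseD_of_uniformizer hK hu ht hH
  have h0 : LocRes.hasseD H 1 t ≠ 0 := fun e => zero_ne_one (α := WithZero (Multiplicative ℤ))
    (by rw [← h1, e, map_zero])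
  exact (v_eq_one_iff P h0).1 h1

lemma dOrd_change {s t : K} {Hs Ht : K →ₐ[k] PowerSeries K} (hs : LocRes.IsHasseFamily s Hs)
    (ht : LocRes.IsHasseFamily t Ht) (P : Place k K) :
    dOrd hK s P = P.ord (LocRes.hasseD Ht 1 s) + dOrd hK t P := by
  obtain ⟨u, H, hu, hH, h⟩ := dOrd_spec hK P
  obtain ⟨htr, hsep⟩ := hasse_separating hK ht
  have hne : LocRes.hasseD Ht 1 s ≠ 0 := right_ne_zero_of_mul_eq_one (hasseD_one_mul hK hs ht)
  have hne' : LocRes.hasseD H 1 t ≠ 0 := hasseD_ne_zero_of_sep hK htr hsep hH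
  rw [h, h, ← ord_mul P hne hne']
  congr 1
  have := hasseD_change hsep ht hH s 1
  simp [Finset.sum_range_succ, hH.2, PowerSeries.coeff_C, PowerSeries.coeff_one] at this
  exact this

variable {Φ : Place k K → (K →ₐ[k] LaurentSeries k)}
  (hΦ : ∀ P : Place k K, LocRes.IsExpansionAt P.1 (Φ P)) (τ : K →ₐ[k] K)
include hΦ

lemma wDiv_apply {s : K} {H : K →ₐ[k] PowerSeries K} (hH : LocRes.IsHasseFamily s H)
    (φ : Fin (n + 1) → K) (J : Fin n → ℕ) (P : Place k K) :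
    wDiv τ H Φ s φ J P = P.ord (wrMat τ H φ J).det + mapDiv k (τ ∘ φ) P + n * mapDiv k φ P +
      (∑ l, (J l : ℤ)) * dOrd hK s P := by
  rw [wDiv, Finsupp.add_apply, Finsupp.add_apply, Finsupp.add_apply, div_apply hK,
    Finsupp.smul_apply, Finsupp.smul_apply, (divDiff_one hK hΦ hH).1, smul_eq_mul, smul_eq_mul]

lemma wDiv_change {s t : K} {Hs Ht : K →ₐ[k] PowerSeries K} (hs : LocRes.IsHasseFamily s Hs)
    (ht : LocRes.IsHasseFamily t Ht) {φ : Fin (n + 1) → K} (hφ : LinearIndependent k φ)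
    {J : Fin n → ℕ} (hJ : IsOrders K (hcol τ Hs φ) J) :
    wDiv τ Ht Φ t φ J = wDiv τ Hs Φ s φ J := by
  refine Finsupp.ext fun P => ?_
  rw [wDiv_apply hK hΦ τ ht, wDiv_apply hK hΦ τ hs, (orders_change τ hK hs ht φ).2 J hJ,
    ord_mul P (pow_ne_zero _ (right_ne_zero_of_mul_eq_one (hasseD_one_mul hK hs ht)))
      (det_wrMat_ne_zero τ hK hφ hs hJ), ord_pow, dOrd_change hK hs ht P]
  push_cast
  ring

lemma wDiv_linear {s : K} {H : K →ₐ[k] PowerSeries K} (hH : LocRes.IsHasseFamily s H)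
    {φ φ' : Fin (n + 1) → K} (hφ : LinearIndependent k φ) (hφ' : LinearIndependent k φ')
    (A : Matrix (Fin (n + 1)) (Fin (n + 1)) k) (hA : A.det ≠ 0) (hA' : ∀ i, φ' i = ∑ j, A i j • φ j)
    {J : Fin n → ℕ} (hJ : IsOrders K (hcol τ H φ) J) :
    wDiv τ H Φ s φ' J = wDiv τ H Φ s φ J := by
  have hne : ∀ (ψ : Fin (n + 1) → K) (_ : LinearIndependent k ψ) i, (τ ∘ ψ) i ≠ 0 := fun ψ hψ i =>
    (map_ne_zero τ.toRingHom).2 (hψ.ne_zero i)
  have hspan : span k (Set.range φ') = span k (Set.range φ) := by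
    have := FiniteDimensional.span_of_finite k (Set.finite_range φ)
    refine Submodule.eq_of_le_of_finrank_eq (Submodule.span_le.2 ?_) ?_
    · rintro _ ⟨i, rfl⟩
      rw [hA']
      exact sum_mem fun j _ => smul_mem _ _ (subset_span ⟨j, rfl⟩)
    · rw [finrank_span_eq_card hφ', finrank_span_eq_card hφ]
  have h1 := mapDiv_eq_of_span hK hφ'.ne_zero hφ.ne_zero hspan
  have h2 : mapDiv k (τ ∘ φ') = mapDiv k (τ ∘ φ) := mapDiv_eq_of_span hK (hne _ hφ') (hne _ hφ) (by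
    rw [Set.range_comp, Set.range_comp, show (τ : K → K) = τ.toLinearMap from rfl, ← Submodule.map_span,
      ← Submodule.map_span, hspan])
  refine Finsupp.ext fun P => ?_
  rw [wDiv_apply hK hΦ τ hH, wDiv_apply hK hΦ τ hH, h1, h2, (orders_linear τ H A hA φ φ' hA').2 J,
    ord_mul P ((map_ne_zero _).2 hA) (det_wrMat_ne_zero τ hK hφ hH hJ), ord_const, zero_add]

lemma wDiv_smul {s : K} {H : K →ₐ[k] PowerSeries K} (hH : LocRes.IsHasseFamily s H)
    {φ : Fin (n + 1) → K} (hφ : LinearIndependent k φ) {y : K} (hy : y ≠ 0)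
    {J : Fin n → ℕ} (hJ : IsOrders K (hcol τ H φ) J) :
    wDiv τ H Φ s (y • φ) J = wDiv τ H Φ s φ J := by
  refine Finsupp.ext fun P => ?_
  have hτy : τ y ≠ 0 := (map_ne_zero τ.toRingHom).2 hy
  have h1 : τ ∘ (y • φ) = τ y • (τ ∘ φ) := funext fun i => by simp
  rw [wDiv_apply hK hΦ τ hH, wDiv_apply hK hΦ τ hH, h1,
    mapDiv_smul_apply hK (φ := τ ∘ φ) (fun i => (map_ne_zero τ.toRingHom).2 (hφ.ne_zero i)) hτy,
    mapDiv_smul_apply hK hφ.ne_zero hy, (orders_smul τ hH hy φ).2 J hJ,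
    ord_mul P (mul_ne_zero hτy (pow_ne_zero _ hy)) (det_wrMat_ne_zero τ hK hφ hH hJ),
    ord_mul P hτy (pow_ne_zero _ hy), ord_pow]
  ring

omit hΦ

/-- A tuple normalised at `P` in the class of `φ`, with a local parameter. -/
lemma exists_normalized {φ : Fin (n + 1) → K} (hφ : LinearIndependent k φ) (P : Place k K) :
    ∃ y : K, y ≠ 0 ∧ LinearIndependent k (y • φ) ∧ (1 : K) ∈ span k (Set.range (y • φ)) ∧
      ∀ i, P.1 ((y • φ) i) ≤ 1 := by
  obtain ⟨i₀, hi₀⟩ := exists_ord_eq_neg_mapDiv hK φ P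
  have hy : (φ i₀)⁻¹ ≠ 0 := inv_ne_zero (hφ.ne_zero i₀)
  refine ⟨(φ i₀)⁻¹, hy, ?_, subset_span ⟨i₀, inv_mul_cancel₀ (hφ.ne_zero i₀)⟩, fun i => ?_⟩
  · exact hφ.map' (LinearMap.mulLeft k (φ i₀)⁻¹)
      (LinearMap.ker_eq_bot.2 (mul_right_injective₀ hy))
  · rw [Pi.smul_apply, smul_eq_mul, v_le_one_iff, ord_mul P hy (hφ.ne_zero i), ord_inv, hi₀]
    have := neg_mapDiv_le_ord hK φ P i
    omega

/-- The orders of an effective normalised tuple at a place exist. -/
lemma exists_orders_at {P : Place k K} {φ : Fin (n + 1) → K} (hφ : LinearIndependent k φ)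
    (heff : (1 : K) ∈ span k (Set.range φ)) (hint : ∀ i, P.1 (φ i) ≤ 1) {t : K}
    (ht : P.1 t = exp (-1 : ℤ)) {Ht : K →ₐ[k] PowerSeries K} (hHt : LocRes.IsHasseFamily t Ht) :
    ∃ J' : Fin n → ℕ, IsOrders (IsLocalRing.ResidueField P.O) (hcolAt P Ht φ) J' := by
  classical
  have hsep := (hasse_separating hK hHt).2
  obtain ⟨Ψ, hΨ, hΨt⟩ := exists_expansion (deg_eq_one hK P) ht
  set c := hcolAt P Ht φ
  have hc0 : ∀ i, c 0 i = algebraMap k _ ((Ψ (φ i)).coeff ((0 : ℕ) : ℤ)) := fun i =>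
    evalP_eq_coeff hΨ (hint i)
  have hc : ∀ j i, c (j + 1) i = algebraMap k _ ((Ψ (φ i)).coeff (j : ℤ)) := fun j i =>
    evalP_hasseD hsep hΨ hΨt hHt (hint i) j
  have h0 : c 0 ≠ 0 := by
    intro h
    obtain ⟨μ, hμ⟩ := (mem_span_range_iff_exists_fun k).1 heff
    have hz : ∀ i, (Ψ (φ i)).coeff ((0 : ℕ) : ℤ) = 0 := fun i =>
      (map_eq_zero (algebraMap k (IsLocalRing.ResidueField P.O))).1 ((hc0 i).symm.trans (congrFun h i))
    have := congrArg (fun f => (Ψ f).coeff (0 : ℤ)) hμ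
    simp only [map_sum, map_one, HahnSeries.coeff_sum, Algebra.smul_def, map_mul, AlgHom.commutes,
      LocRes.algebraMap_eq_C, HahnSeries.C_mul_eq_smul, HahnSeries.coeff_smul, smul_eq_mul,
      HahnSeries.coeff_one, if_pos] at this
    simp only [show ∀ i, (Ψ (φ i)).coeff (0 : ℤ) = 0 from hz, mul_zero, Finset.sum_const_zero] at this
    exact zero_ne_one this
  have hspan : span (IsLocalRing.ResidueField P.O) (Set.range c) = ⊤ := by
    by_contra hne
    obtain ⟨g, hg0, hg⟩ := Submodule.exists_le_ker_of_lt_top _ (lt_top_iff_ne_top.2 hne)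
    have hgv : ∀ v : Fin (n + 1) → IsLocalRing.ResidueField P.O, g v = ∑ i, g (Pi.single i 1) * v i := fun v => by
      conv_lhs => rw [← Finset.univ_sum_single v]
      rw [map_sum]
      refine Finset.sum_congr rfl fun i _ => ?_
      rw [show Pi.single i (v i) = v i • (Pi.single i 1 : Fin (n + 1) → IsLocalRing.ResidueField P.O) by
        rw [← Pi.single_smul', smul_eq_mul, mul_one], map_smul, smul_eq_mul, mul_comm]
    choose a ha using fun i => (residue_bijective P (deg_eq_one hK P)).2 (g (Pi.single i 1))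
    have hz := coeff_independent hsep hΨ hΨt hHt hφ hint (a := a) fun j => by
      apply (algebraMap k (IsLocalRing.ResidueField P.O)).injective
      have h := LinearMap.mem_ker.1 (hg (subset_span ⟨j + 1, rfl⟩))
      rw [hgv] at h
      simp only [hc, ← ha] at h
      rw [map_sum, map_zero]
      simpa only [map_mul] using h
    refine hg0 (LinearMap.ext fun v => ?_)
    rw [hgv]
    simp [← ha, hz]
  obtain ⟨J', hJ', -⟩ := exists_isOrders (c := c) h0 hspan
  exact ⟨J', hJ'⟩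

include hΦ

/-- For an effective normalised tuple the coefficient is the order of the Wronskian plus the
divisor of `τ ∘ φ`. -/
lemma wDiv_apply_normalized {P : Place k K} {t : K} (ht : P.1 t = exp (-1 : ℤ))
    {Ht : K →ₐ[k] PowerSeries K} (hHt : LocRes.IsHasseFamily t Ht)
    {φ : Fin (n + 1) → K} (hφ : LinearIndependent k φ) (heff : (1 : K) ∈ span k (Set.range φ))
    (hint : ∀ i, P.1 (φ i) ≤ 1) (J : Fin n → ℕ) :
    wDiv τ Ht Φ t φ J P = P.ord (wrMat τ Ht φ J).det + mapDiv k (τ ∘ φ) P := by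
  rw [wDiv_apply hK hΦ τ hHt, dOrd_param hK ht, mapDiv_eq_zero_of_normalized hK heff hφ.ne_zero hint]
  ring

/-- The Weierstrass divisor is effective. -/
theorem wDiv_nonneg {s : K} {H : K →ₐ[k] PowerSeries K} (hH : LocRes.IsHasseFamily s H)
    {φ : Fin (n + 1) → K} (hφ : LinearIndependent k φ) {J : Fin n → ℕ}
    (hJ : IsOrders K (hcol τ H φ) J) : 0 ≤ wDiv τ H Φ s φ J := by
  intro P
  obtain ⟨y, hy, hψ, heff, hint⟩ := exists_normalized hK hφ P
  obtain ⟨t, Ht, -, -, ht, -, hsep, hHt⟩ := exists_param hK P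
  have hJψ : IsOrders K (hcol τ H (y • φ)) J := ((orders_smul τ hH hy φ).1 J).2 hJ
  have hJt : IsOrders K (hcol τ Ht (y • φ)) J := ((orders_change τ hK hH hHt (y • φ)).1 J).2 hJψ
  rw [← wDiv_smul hK hΦ τ hH hφ hy hJ, ← wDiv_change hK hΦ τ hH hHt hψ hJψ,
    wDiv_apply_normalized hK hΦ τ ht hHt hψ heff hint, Finsupp.zero_apply]
  obtain ⟨Ψ, hΨ, hΨt⟩ := exists_expansion (deg_eq_one hK P) ht
  have hd := det_wrMat_ne_zero τ hK hψ hHt hJt
  have hle : P.1 (wrMat τ Ht (y • φ) J).det ≤ exp (mapDiv k (τ ∘ (y • φ)) P) := by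
    rw [Matrix.det_succ_column_zero]
    refine P.1.map_sum_le fun i _ => ?_
    rw [map_mul, map_mul, map_pow, Valuation.map_neg, map_one, one_pow, one_mul]
    refine (mul_le_mul' (v_le_exp_mapDiv hK (τ ∘ (y • φ)) P i) ?_).trans_eq (mul_one _)
    rw [Matrix.det_apply]
    refine P.1.map_sum_le fun σ _ => ?_
    rw [Units.smul_def, zsmul_eq_mul, map_mul, map_prod]
    refine mul_le_one' (by rcases Int.units_eq_one_or (Equiv.Perm.sign σ) with h | h <;> simp [h]) ?_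
    refine Finset.prod_le_one' fun j _ => ?_
    simp only [Matrix.submatrix_apply, wrMat, Matrix.of_apply, Fin.cases_succ]
    exact v_hasseD_le_one hsep hΨ hΨt hHt (hint _) _
  rw [v_le_exp_iff P hd] at hle
  omega

/-- The degree of the Weierstrass divisor. -/
theorem deg_wDiv {s : K} {H : K →ₐ[k] PowerSeries K} (hH : LocRes.IsHasseFamily s H)
    (φ : Fin (n + 1) → K) (J : Fin n → ℕ) :
    (wDiv τ H Φ s φ J).deg = ((finrank τ.fieldRange K : ℤ) + n) * (mapDiv k φ).deg +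
      (2 * (genus k K : ℤ) - 2) * ∑ l, (J l : ℤ) := by
  have hz : ∀ (c : ℤ) (D : Divisor k K), (c • D).deg = c * D.deg := fun c D => by
    show degHom (c • D) = _
    rw [map_zsmul, smul_eq_mul]; rfl
  rw [wDiv, deg_add, deg_add, deg_add, deg_div hK, hz, hz, deg_mapDiv_comp hK,
    (divDiff_one hK hΦ hH).2]
  ring

/-- At a fixed point, for an effective normalised tuple. -/
theorem wDiv_fixed {P : Place k K} (hP : IsFixedPt τ P) {t : K} (ht : P.1 t = exp (-1 : ℤ))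
    {Ht : K →ₐ[k] PowerSeries K} (hHt : LocRes.IsHasseFamily t Ht)
    {φ : Fin (n + 1) → K} (hφ : LinearIndependent k φ) (heff : (1 : K) ∈ span k (Set.range φ))
    (hint : ∀ i, P.1 (φ i) ≤ 1) {J : Fin n → ℕ} (hJ : IsOrders K (hcol τ Ht φ) J) {J' : Fin n → ℕ}
    (hJ' : IsOrders (IsLocalRing.ResidueField P.O) (hcolAt P Ht φ) J') :
    wDiv τ Ht Φ t φ J P = P.ord (wrMat τ Ht φ J).det ∧
    (∑ l, ((J' l : ℤ) - J l)) ≤ wDiv τ Ht Φ t φ J P ∧
    (((∀ l, 0 < J l) ∨ IsStrongFixedPt τ P) →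
      (wDiv τ Ht Φ t φ J P = ∑ l, ((J' l : ℤ) - J l) ↔ (binomMat k J' J).det ≠ 0)) := by
  have heffτ : (1 : K) ∈ span k (Set.range (τ ∘ φ)) := by
    rw [Set.range_comp, show (τ : K → K) = τ.toLinearMap from rfl, ← Submodule.map_span]
    exact ⟨1, heff, map_one τ⟩
  have h0 : mapDiv k (τ ∘ φ) P = 0 := mapDiv_eq_zero_of_normalized hK heffτ
    (fun i => (map_ne_zero τ.toRingHom).2 (hφ.ne_zero i))
    fun i => v_map_le_one_of_fixed (deg_eq_one hK P) hP (hint i)
  have hd := det_wrMat_ne_zero τ hK hφ hHt hJ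
  have he : wDiv τ Ht Φ t φ J P = P.ord (wrMat τ Ht φ J).det := by
    rw [wDiv_apply_normalized hK hΦ τ ht hHt hφ heff hint, h0, add_zero]
  obtain ⟨h1, h2⟩ := v_det_wrMat_fixed hK hP hφ heff hint ht hHt hJ' J
  rw [v_le_exp_iff P hd] at h1
  refine ⟨he, by rw [he]; omega, fun hc => ?_⟩
  rw [← h2 hc, v_eq_exp_iff P hd, neg_neg, he]

omit hΦ in
/-- The orders of `φ` with respect to `τ` are bounded by those at a fixed point. -/
theorem orders_le_at_fixed {P : Place k K} (hP : IsFixedPt τ P) {t : K} (ht : P.1 t = exp (-1 : ℤ))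
    {Ht : K →ₐ[k] PowerSeries K} (hHt : LocRes.IsHasseFamily t Ht)
    {φ : Fin (n + 1) → K} (hφ : LinearIndependent k φ) (heff : (1 : K) ∈ span k (Set.range φ))
    (hint : ∀ i, P.1 (φ i) ≤ 1) {J : Fin n → ℕ} (hJ : IsOrders K (hcol τ Ht φ) J) {J' : Fin n → ℕ}
    (hJ' : IsOrders (IsLocalRing.ResidueField P.O) (hcolAt P Ht φ) J') :
    (∀ l, 0 < J' l) ∧ (binomMat k J' J').det = 1 ∧ ∀ l, J l ≤ J' l := by
  classical
  have hsep := (hasse_separating hK hHt).2
  obtain ⟨Ψ, hΨ, hΨt⟩ := exists_expansion (deg_eq_one hK P) ht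
  have hpos : ∀ l, 0 < J' l := fun l =>
    ((isJump_hcolAt_iff hsep hΨ hΨt hHt hint (deg_eq_one hK P) (J' l)).1 ((hJ'.2 _).1 ⟨l, rfl⟩)).1
  have hb : (binomMat k J' J').det = 1 := by
    rw [Matrix.det_of_isLowerTriangular]
    · simp [binomMat]
    · intro r s hrs
      simp [binomMat, Nat.choose_eq_zero_of_lt (hJ'.1 (show r < s from hrs))]
  refine ⟨hpos, hb, isOrders_le (hcol_zero_ne τ Ht hφ) hJ hJ'.1 ?_⟩
  have hv := ((v_det_wrMat_fixed hK hP hφ heff hint ht hHt hJ' J').2 (.inl hpos)).2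
    (by rw [hb]; exact one_ne_zero)
  have h0 : (wrMat τ Ht φ J').det ≠ 0 := fun e => exp_ne_zero (hv.symm.trans (by rw [e, map_zero]))
  rwa [wrMat_eq_colMat, det_colMat_ne_zero_iff] at h0

omit hΦ in
/-- At a strong fixed point the shifted orders at the point bound the `τ`-orders. -/
theorem orders_add_le_strong {P : Place k K} (hP : IsStrongFixedPt τ P) (hn : 0 < n) {t : K}
    (ht : P.1 t = exp (-1 : ℤ))
    {Ht : K →ₐ[k] PowerSeries K} (hHt : LocRes.IsHasseFamily t Ht)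
    {φ : Fin (n + 1) → K} (hφ : LinearIndependent k φ) (heff : (1 : K) ∈ span k (Set.range φ))
    (hint : ∀ i, P.1 (φ i) ≤ 1) {J : Fin n → ℕ} (hJ : IsOrders K (hcol τ Ht φ) J) {J' : Fin n → ℕ}
    (hJ' : IsOrders (IsLocalRing.ResidueField P.O) (hcolAt P Ht φ) J') :
    ∀ l, J l + J' ⟨0, hn⟩ ≤ J' l := by
  obtain ⟨I, hI, hdet, hle⟩ := exists_binom_index k hn J' hJ'.1
  have hfix : IsFixedPt τ P := fun z hz =>
    (hP z hz).trans_lt (by rw [← exp_zero, exp_lt_exp]; norm_num)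
  have hv := ((v_det_wrMat_fixed hK hfix hφ heff hint ht hHt hJ' I).2 (.inr hP)).2 hdet
  have h0 : (wrMat τ Ht φ I).det ≠ 0 := fun e => exp_ne_zero (hv.symm.trans (by rw [e, map_zero]))
  rw [wrMat_eq_colMat, det_colMat_ne_zero_iff] at h0
  intro l
  have := isOrders_le (hcol_zero_ne τ Ht hφ) hJ hI h0 l
  have := hle l
  omega

omit hΦ in
/-- The number of strong fixed points. -/
theorem strongFixed_card_le {φ : Fin (n + 1) → K} (hφ : LinearIndependent k φ) (hn : 0 < n) {s : K}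
    {H : K →ₐ[k] PowerSeries K} (hH : LocRes.IsHasseFamily s H) {J : Fin n → ℕ}
    (hJ : IsOrders K (hcol τ H φ) J) :
    {P : Place k K | IsStrongFixedPt τ P}.Finite ∧
    (n : ℤ) * (Set.ncard {P : Place k K | IsStrongFixedPt τ P} : ℤ) ≤
      ((n : ℤ) + finrank τ.fieldRange K) * (mapDiv k φ).deg +
        (2 * (genus k K : ℤ) - 2) * ∑ l, (J l : ℤ) := by
  classical
  choose t ht using fun P : Place k K => exists_uniformizer P
  choose Ψ hΨ hΨt using fun P : Place k K => exists_expansion (deg_eq_one hK P) (ht P).2.2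
  set W := wDiv τ H Ψ s φ J with hW
  have hge : ∀ P, IsStrongFixedPt τ P → (n : ℤ) ≤ W P := by
    intro P hP
    obtain ⟨y, hy, hψ, heff, hint⟩ := exists_normalized hK hφ P
    obtain ⟨t', Ht, -, -, ht', -, -, hHt⟩ := exists_param hK P
    have hJψ : IsOrders K (hcol τ H (y • φ)) J := ((orders_smul τ hH hy φ).1 J).2 hJ
    have hJt : IsOrders K (hcol τ Ht (y • φ)) J := ((orders_change τ hK hH hHt (y • φ)).1 J).2 hJψ
    obtain ⟨J', hJ'⟩ := exists_orders_at hK hψ heff hint ht' hHt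
    have hfix : IsFixedPt τ P := fun z hz =>
      (hP z hz).trans_lt (by rw [← exp_zero, exp_lt_exp]; norm_num)
    have h1 := orders_add_le_strong hK τ hP hn ht' hHt hψ heff hint hJt hJ'
    have h2 := (orders_le_at_fixed hK τ hfix ht' hHt hψ heff hint hJt hJ').1
    rw [hW, ← wDiv_smul hK hΨ τ hH hφ hy hJ, ← wDiv_change hK hΨ τ hH hHt hψ hJψ]
    refine le_trans ?_ (wDiv_fixed hK hΨ τ hfix ht' hHt hψ heff hint hJt hJ').2.1
    refine le_of_eq_of_le (show (n : ℤ) = ∑ _l : Fin n, (1 : ℤ) by simp) (Finset.sum_le_sum fun l _ => ?_)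
    have := h1 l
    have := h2 ⟨0, hn⟩
    omega
  have hnn := wDiv_nonneg hK hΨ τ hH hφ hJ
  have hsub : {P : Place k K | IsStrongFixedPt τ P} ⊆ ↑W.support := fun P hP => by
    have := hge P hP
    simp only [Finset.mem_coe, Finsupp.mem_support_iff]
    omega
  have hfin := W.support.finite_toSet.subset hsub
  refine ⟨hfin, ?_⟩
  rw [add_comm (n : ℤ), ← deg_wDiv hK hΨ τ hH φ J, ← hW, Set.ncard_eq_toFinset_card _ hfin]
  have hsub' : hfin.toFinset ⊆ W.support := fun P hP => hsub (hfin.mem_toFinset.1 hP)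
  calc (n : ℤ) * (hfin.toFinset.card : ℤ) = ∑ _P ∈ hfin.toFinset, (n : ℤ) := by
        rw [Finset.sum_const, nsmul_eq_mul, mul_comm]
    _ ≤ ∑ P ∈ hfin.toFinset, W P :=
        Finset.sum_le_sum fun P hP => hge P (hfin.mem_toFinset.1 hP)
    _ ≤ ∑ P ∈ W.support, W P := Finset.sum_le_sum_of_subset_of_nonneg hsub' fun P _ _ => hnn P
    _ = W.deg := Finset.sum_congr rfl fun P _ => by simp [deg_eq_one hK P]

end Groth.Agent.FFLib
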