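import Groth.Agent.FFLib.WrLocal
import Groth.Agent.FFLib.DegOne

/-!
# Wronskians at fixed points
-/

open WithZero Module LaurentSeries Matrix

namespace Groth.Agent.FFLib

open FunFld

variable {k K : Type*} [Field k] [Field K] [Algebra k K]

lemma v_map_le_one_of_fixed {τ : K →ₐ[k] K} {P : Place k K} (hdeg : P.deg = 1) (hP : IsFixedPt τ P)
    {u : K} (hu : P.1 u ≤ 1) : P.1 (τ u) ≤ 1 := by
  obtain ⟨c, hc⟩ := exists_const_sub_lt hdeg (y := u) hu
  have h1 := (hP _ hc).le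
  rw [map_sub, τ.commutes] at h1
  rw [show τ u = (τ u - algebraMap k K c) + algebraMap k K c by ring]
  exact P.1.map_add_le h1 (P.2.1 c)

lemma v_map_le_of_fixed {τ : K →ₐ[k] K} {P : Place k K} (hdeg : P.deg = 1) (hP : IsFixedPt τ P)
    {t : K} (ht : P.1 t = exp (-1 : ℤ)) {D : ℕ} (hD : P.1 (τ t) ≤ exp (-(D : ℤ))) {w : K} {j : ℕ}
    (hw : P.1 w ≤ exp (-(j : ℤ))) : P.1 (τ w) ≤ exp (-((D * j : ℕ) : ℤ)) := by
  have ht0 : t ≠ 0 := fun e => exp_ne_zero (ht.symm.trans (by rw [e, map_zero]))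
  have hu : P.1 (w / t ^ j) ≤ 1 := by
    rw [map_div₀, map_pow, ht, ← WithZero.exp_nsmul, nsmul_eq_mul, mul_neg, mul_one, div_le_one₀ (exp_pos)]
    exact hw
  rw [show w = t ^ j * (w / t ^ j) by field_simp, map_mul, map_pow, map_mul, map_pow]
  refine (mul_le_mul' (pow_le_pow_left' hD j) (v_map_le_one_of_fixed hdeg hP hu)).trans_eq ?_
  rw [mul_one, ← WithZero.exp_nsmul, nsmul_eq_mul]
  congr 1
  push_cast
  ring

variable {n : ℕ}

/-- The order of a Wronskian at a fixed point. -/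
theorem v_det_wrMat_fixed [IsAlgClosed k] (hK : IsFunctionField k K) {τ : K →ₐ[k] K} {P : Place k K}
    (hP : IsFixedPt τ P) {φ : Fin (n + 1) → K} (hφ : LinearIndependent k φ)
    (heff : (1 : K) ∈ Submodule.span k (Set.range φ)) (hint : ∀ i, P.1 (φ i) ≤ 1) {t : K}
    (ht : P.1 t = exp (-1 : ℤ)) {Ht : K →ₐ[k] PowerSeries K} (hHt : LocRes.IsHasseFamily t Ht)
    {J : Fin n → ℕ} (hJ : IsOrders (IsLocalRing.ResidueField P.O) (hcolAt P Ht φ) J) (I : Fin n → ℕ) :
    P.1 (wrMat τ Ht φ I).det ≤ exp (-(∑ l, ((J l : ℤ) - I l))) ∧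
    (((∀ l, 0 < I l) ∨ IsStrongFixedPt τ P) →
      (P.1 (wrMat τ Ht φ I).det = exp (-(∑ l, ((J l : ℤ) - I l))) ↔ (binomMat k J I).det ≠ 0)) := by
  classical
  have hdeg := deg_eq_one hK P
  have hsep := (hasse_separating hK hHt).2
  obtain ⟨Φ, hΦ, hΦt⟩ := exists_expansion hdeg ht
  obtain ⟨hJpos, φ', h0, hlead, -, -, A, hAdet, hA⟩ :=
    exists_adapted_tuple hsep hΦ hΦt hHt hint hdeg hφ heff hJ
  have hdetA : P.1 (algebraMap k K A.det) = 1 := v_const P hAdet
  have hv : P.1 (wrMat τ Ht φ I).det = P.1 (wrMat τ Ht φ' I).det := by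
    rw [(orders_linear τ Ht A hAdet φ φ' hA).2 I, map_mul, hdetA, one_mul]
  set M := (wrMat τ Ht φ' I).map Φ with hM
  set a : Fin (n + 1) → ℤ := Fin.cons 0 fun l => (J l : ℤ)
  set b : Fin (n + 1) → ℤ := Fin.cons 0 fun l => (I l : ℤ)
  have hsum : ∑ r, a r - ∑ s, b s = ∑ l, ((J l : ℤ) - I l) := by
    simp [a, b, Fin.sum_univ_succ, Finset.sum_sub_distrib]
  have hwv : ∀ l : Fin n, P.1 (φ' l.succ) ≤ exp (-(J l : ℤ)) := fun l =>
    (ord_le_iff_coeff hΦ _ _).2 (hlead l).1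
  have htt : P.1 (τ t) ≤ exp (-((1 : ℕ) : ℤ)) :=
    le_exp_neg_one_of_lt_one (hP t (by rw [ht, ← exp_zero, exp_lt_exp]; norm_num))
  have hτw : ∀ l : Fin n, P.1 (τ (φ' l.succ)) ≤ exp (-(J l : ℤ)) := fun l => by
    simpa using v_map_le_of_fixed hdeg hP ht htt (hwv l)
  have h0s : ∀ (j : ℕ) (m : ℤ), (Φ (LocRes.hasseD Ht j (1 : K))).coeff m =
      if j = 0 ∧ m = 0 then 1 else 0 := fun j m => by
    rw [LocRes.hasseD_apply, map_one, PowerSeries.coeff_one]
    rcases eq_or_ne j 0 with rfl | hj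
    · simp [HahnSeries.coeff_one]
    · simp [hj]
  have hentry : ∀ r s, ∀ m < a r - b s, (M r s).coeff m = 0 := by
    intro r s m hm
    refine Fin.cases (fun hm => ?_) (fun r hm => ?_) r hm <;> revert hm <;>
      refine Fin.cases ?_ (fun s => ?_) s <;> intro hm
    · simp [a, b] at hm
      simp [hM, wrMat, h0, HahnSeries.coeff_one, hm.ne]
    · simp only [a, b, Fin.cons_zero, Fin.cons_succ] at hm
      simp only [hM, wrMat, Matrix.map_apply, Matrix.of_apply, Fin.cases_succ, h0, h0s]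
      rw [if_neg]
      omega
    · simp only [a, b, Fin.cons_zero, Fin.cons_succ, sub_zero] at hm
      simpa [hM, wrMat] using (ord_le_iff_coeff hΦ _ _).1 (hτw r) m hm
    · simp only [a, b, Fin.cons_succ] at hm
      simp only [hM, wrMat, Matrix.map_apply, Matrix.of_apply, Fin.cases_succ,
        map_hasseD_eq hsep Φ hΦt hHt, LaurentSeries.hasseDeriv_coeff]
      rw [(hlead r).1 _ (by omega), smul_zero]
  obtain ⟨h1, h2⟩ := det_low_coeff M a b hentry
  have hdetM : Φ (wrMat τ Ht φ' I).det = M.det := RingHom.map_det Φ.toRingHom _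
  rw [hsum, ← hdetM] at h1 h2
  rw [hv]
  refine ⟨(ord_le_iff_coeff hΦ _ _).2 h1, fun hcase => ?_⟩
  rw [v_eq_exp_iff_coeff hΦ, h2, and_iff_right h1]
  set L : Matrix (Fin (n + 1)) (Fin (n + 1)) k := Matrix.of fun r s => (M r s).coeff (a r - b s) with hL
  have hsub : L.submatrix Fin.succ Fin.succ = binomMat k J I := by
    ext r s
    simp only [hL, Matrix.submatrix_apply, Matrix.of_apply, binomMat, a, b, Fin.cons_succ, hM, wrMat,
      Matrix.map_apply, Fin.cases_succ, map_hasseD_eq hsep Φ hΦt hHt, LaurentSeries.hasseDeriv_coeff]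
    rw [show (J r : ℤ) - I s + I s = (J r : ℤ) by ring, (hlead r).2, Ring.choose_natCast]
    simp
  have h00 : L 0 0 = 1 := by simp [hL, hM, wrMat, a, b, h0, HahnSeries.coeff_one]
  have hdet : L.det = (binomMat k J I).det := by
    rcases hcase with hI | hS
    · have hrow : ∀ s : Fin n, L 0 s.succ = 0 := fun s => by
        simp only [hL, hM, wrMat, Matrix.map_apply, Matrix.of_apply, Fin.cases_succ, h0, h0s]
        rw [if_neg]
        have := hI s
        omega
      rw [Matrix.det_succ_row_zero, Fin.sum_univ_succ, Finset.sum_eq_zero fun s _ => by rw [hrow]; simp]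
      simp [h00, hsub]
    · have htt2 : P.1 (τ t) ≤ exp (-((2 : ℕ) : ℤ)) := hS t (by rw [ht, ← exp_zero, exp_lt_exp]; norm_num)
      have hcol : ∀ r : Fin n, L r.succ 0 = 0 := fun r => by
        simp only [hL, hM, wrMat, Matrix.map_apply, Matrix.of_apply, a, b, Fin.cons_succ, Fin.cons_zero,
          Fin.cases_zero, sub_zero]
        have := v_map_le_of_fixed hdeg hP ht htt2 (hwv r)
        refine (ord_le_iff_coeff hΦ _ _).1 this _ ?_
        have := hJpos r
        omega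
      rw [Matrix.det_succ_column_zero, Fin.sum_univ_succ, Finset.sum_eq_zero fun s _ => by rw [hcol]; simp]
      simp [h00, hsub]
  rw [hdet]

end Groth.Agent.FFLib
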