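import Groth.Agent.FFLib.Deriv
import Mathlib.LinearAlgebra.Matrix.Determinant.Basic

/-!
# The Wronskian at a fixed place
-/

open WithZero Module LaurentSeries Matrix

namespace Groth.Agent.FFLib

open FunFld

section Series

variable {F : Type*} [Field F] {N : ℕ}

/-- The lowest possible coefficient of a determinant of Laurent series. -/
lemma det_low_coeff (M : Matrix (Fin N) (Fin N) (LaurentSeries F)) (a b : Fin N → ℤ)
    (h : ∀ r s, ∀ m < a r - b s, (M r s).coeff m = 0) :
    (∀ m < ∑ r, a r - ∑ s, b s, M.det.coeff m = 0) ∧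
      M.det.coeff (∑ r, a r - ∑ s, b s) =
        (Matrix.of fun r s => (M r s).coeff (a r - b s)).det := by
  set B : Matrix (Fin N) (Fin N) (PowerSeries F) :=
    Matrix.of fun r s => PowerSeries.mk fun i => (M r s).coeff (a r - b s + i) with hB
  have hM : ∀ r s, M r s = HahnSeries.single (a r - b s) 1 * (B r s : LaurentSeries F) := by
    intro r s
    ext m
    rw [HahnSeries.coeff_single_mul, one_mul]
    rcases lt_or_ge m (a r - b s) with hm | hm
    · rw [h r s m hm, PowerSeries.coeff_coe, if_pos (by omega)]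
    · obtain ⟨i, hi⟩ := Int.eq_ofNat_of_zero_le (sub_nonneg.2 hm)
      rw [hi, HahnSeries.ofPowerSeries_apply_coeff]
      simp only [hB, Matrix.of_apply, PowerSeries.coeff_mk]
      congr 1
      omega
  have hfac : M = Matrix.diagonal (fun r => HahnSeries.single (a r) (1 : F)) *
      B.map (HahnSeries.ofPowerSeries ℤ F) * Matrix.diagonal (fun s => HahnSeries.single (-b s) 1) := by
    ext r s
    rw [Matrix.mul_diagonal, Matrix.diagonal_mul, Matrix.map_apply, hM, mul_right_comm,
      HahnSeries.single_mul_single, mul_one, ← sub_eq_add_neg]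
  have hprod : ∀ (c : Fin N → ℤ) (t : Finset (Fin N)),
      ∏ r ∈ t, HahnSeries.single (c r) (1 : F) = HahnSeries.single (∑ r ∈ t, c r) 1 := by
    intro c t
    classical
    induction t using Finset.induction_on with
    | empty => simp
    | insert r t hr ih => rw [Finset.prod_insert hr, ih, HahnSeries.single_mul_single, mul_one,
        Finset.sum_insert hr]
  have hdet : M.det = HahnSeries.single (∑ r, a r - ∑ s, b s) 1 * (B.det : LaurentSeries F) := by
    rw [hfac, Matrix.det_mul, Matrix.det_mul, Matrix.det_diagonal, Matrix.det_diagonal, hprod, hprod,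
      mul_right_comm, HahnSeries.single_mul_single, mul_one, Finset.sum_neg_distrib, ← sub_eq_add_neg]
    congr 1
    exact (RingHom.map_det _ B).symm
  refine ⟨fun m hm => ?_, ?_⟩
  · rw [hdet, HahnSeries.coeff_single_mul, one_mul, PowerSeries.coeff_coe, if_pos (by omega)]
  · rw [hdet, HahnSeries.coeff_single_mul, one_mul, sub_self,
      show (0 : ℤ) = ((0 : ℕ) : ℤ) from rfl, HahnSeries.ofPowerSeries_apply_coeff,
      PowerSeries.coeff_zero_eq_constantCoeff, RingHom.map_det]
    congr 1
    ext r s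
    show PowerSeries.constantCoeff (B r s) = _
    rw [← PowerSeries.coeff_zero_eq_constantCoeff]
    simp [hB]

end Series

variable {k K : Type*} [Field k] [Field K] [Algebra k K]

lemma residue_bijective (P : Place k K) (hP : P.deg = 1) :
    Function.Bijective (algebraMap k (IsLocalRing.ResidueField P.O)) := by
  refine ⟨(algebraMap k _).injective, fun z => ?_⟩
  obtain ⟨⟨y, hy⟩, rfl⟩ := IsLocalRing.residue_surjective z
  obtain ⟨c, hc⟩ := exists_const_sub_lt hP (y := y) hy
  refine ⟨c, ?_⟩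
  show IsLocalRing.residue P.O (algebraMap k P.O c) = _
  rw [eq_comm, ← sub_eq_zero, ← map_sub, residue_eq_zero_iff_lt]
  exact hc

/-- Jumps only depend on the field up to isomorphism. -/
lemma isJump_map {R S : Type*} [Field R] [Field S] (σ : R →+* S) (hσ : Function.Surjective σ) {ι : Type*}
    (c : ℕ → ι → R) (j : ℕ) :
    IsJump S (fun l i => σ (c l i)) j ↔ IsJump R c j := by
  have : RingHomSurjective σ := ⟨hσ⟩
  let g : (ι → R) →ₛₗ[σ] (ι → S) :=
    { toFun := fun v i => σ (v i)
      map_add' := fun v w => funext fun i => map_add σ _ _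
      map_smul' := fun r v => funext fun i => map_mul σ _ _ }
  have hg : Function.Injective g := fun v w h => funext fun i => σ.injective (congrFun h i)
  rw [isJump_iff, isJump_iff, not_iff_not, pre, pre,
    show (fun l i => σ (c l i)) '' Set.Iio j = g '' (c '' Set.Iio j) by rw [Set.image_image]; rfl,
    ← Submodule.map_span]
  exact ⟨fun ⟨v, hv, he⟩ => hg he ▸ hv, fun h => ⟨_, h, rfl⟩⟩

variable {P : Place k K} {t : K} {Φ : K →ₐ[k] LaurentSeries k}
  (hsep : Algebra.IsSeparable (IntermediateField.adjoin k ({t} : Set K)) K)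
  (hΦ : LocRes.IsExpansionAt P.1 Φ) (hΦt : Φ t = HahnSeries.single 1 1)
  {Ht : K →ₐ[k] PowerSeries K} (hHt : LocRes.IsHasseFamily t Ht) {n : ℕ} {φ : Fin (n + 1) → K}
  (hint : ∀ i, P.1 (φ i) ≤ 1)

include hΦ in
lemma v_eq_exp_iff_coeff {f : K} (j : ℤ) :
    P.1 f = exp (-j) ↔ (∀ m < j, (Φ f).coeff m = 0) ∧ (Φ f).coeff j ≠ 0 := by
  rw [← ord_le_iff_coeff hΦ f j]
  constructor
  · intro h
    refine ⟨h.le, fun h0 => ?_⟩
    have := (ord_le_iff_coeff hΦ f (j + 1)).2 fun m hm => by
      rcases eq_or_lt_of_le (show m ≤ j by omega) with rfl | h'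
      · exact h0
      · exact (ord_le_iff_coeff hΦ f j).1 h.le m h'
    rw [h, exp_le_exp] at this
    omega
  · rintro ⟨h1, h2⟩
    rcases eq_or_ne f 0 with rfl | hf
    · simp at h2
    refine le_antisymm h1 ?_
    by_contra hlt
    push Not at hlt
    have : P.1 f ≤ exp (-(j + 1)) := by
      rw [v_le_exp_iff P hf]
      have := (v_lt_exp_iff P hf (-j)).1 hlt
      omega
    exact h2 ((ord_le_iff_coeff hΦ f (j + 1)).1 this j (by omega))

include hsep hΦ hΦt hHt hint

/-- An order `j ≥ 1` at `P` is the order of some function of the span. -/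
lemma isJump_hcolAt_iff (hP : P.deg = 1) (j : ℕ) :
    IsJump (IsLocalRing.ResidueField P.O) (hcolAt P Ht φ) (j + 1) ↔
      0 < j ∧ ∃ w ∈ Submodule.span k (Set.range φ), P.1 w = exp (-(j : ℤ)) := by
  classical
  set a : ℕ → Fin (n + 1) → k := fun l i => (Φ (φ i)).coeff ((l - 1 : ℕ) : ℤ)
  have hc : hcolAt P Ht φ = fun l i => algebraMap k _ (a l i) := by
    funext l i
    rcases l with _ | l
    · exact evalP_eq_coeff hΦ (hint i)
    · exact evalP_hasseD hsep hΦ hΦt hHt (hint i) l
  rw [hc, isJump_map _ (residue_bijective P hP).2, isJump_iff]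
  have hΦsum : ∀ (μ : Fin (n + 1) → k) (m : ℤ), (Φ (∑ i, μ i • φ i)).coeff m = ∑ i, μ i * (Φ (φ i)).coeff m := fun μ m => by
    rw [map_sum, HahnSeries.coeff_sum]
    exact Finset.sum_congr rfl fun i _ => by
      rw [Algebra.smul_def, map_mul, Φ.commutes, LocRes.algebraMap_eq_C, HahnSeries.C_mul_eq_smul,
        HahnSeries.coeff_smul, smul_eq_mul]
  constructor
  · intro hnot
    have hj : 0 < j := by
      by_contra h0
      obtain rfl : j = 0 := by omega
      exact hnot (mem_pre a (i := 0) Nat.zero_lt_one)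
    refine ⟨hj, ?_⟩
    obtain ⟨g, hg, hker⟩ := Submodule.exists_le_ker_of_notMem hnot
    set μ : Fin (n + 1) → k := fun i => g (Pi.single i 1)
    have hgv : ∀ v : Fin (n + 1) → k, g v = ∑ i, μ i * v i := fun v => by
      conv_lhs => rw [← Finset.univ_sum_single v]
      rw [map_sum]
      refine Finset.sum_congr rfl fun i _ => ?_
      rw [show Pi.single i (v i) = v i • (Pi.single i (1 : k) : Fin (n + 1) → k) by
        rw [← Pi.single_smul', smul_eq_mul, mul_one], map_smul, smul_eq_mul, mul_comm]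
    refine ⟨∑ i, μ i • φ i, Submodule.sum_mem _ fun i _ =>
      Submodule.smul_mem _ _ (Submodule.subset_span ⟨i, rfl⟩), (v_eq_exp_iff_coeff hΦ _).2 ⟨fun m hm => ?_, ?_⟩⟩
    · rcases lt_or_ge m 0 with hm0 | hm0
      · rw [hΦsum]
        exact Finset.sum_eq_zero fun i _ => by rw [coeff_eq_zero_of_integral hΦ (hint i) hm0, mul_zero]
      · obtain ⟨l, rfl⟩ := Int.eq_ofNat_of_zero_le hm0
        have : g (a (l + 1)) = 0 := hker (mem_pre a (by omega))
        rw [hgv] at this
        rw [hΦsum]
        exact this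
    · rw [hΦsum]
      intro h0
      exact hg (by rw [hgv]; exact h0)
  · rintro ⟨hj, w, hw, hwj⟩ hmem
    obtain ⟨μ, rfl⟩ := (Submodule.mem_span_range_iff_exists_fun k).1 hw
    obtain ⟨h1, h2⟩ := (v_eq_exp_iff_coeff hΦ _).1 hwj
    let g : (Fin (n + 1) → k) →ₗ[k] k := Fintype.linearCombination k μ
    have hg : ∀ v, g v = ∑ i, μ i * v i := fun v => by
      simp [g, Fintype.linearCombination_apply, mul_comm]
    have hle : pre k a (j + 1) ≤ LinearMap.ker g := by
      rw [pre, Submodule.span_le]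
      rintro _ ⟨l, hl, rfl⟩
      show g (a l) = 0
      rw [hg, ← hΦsum]
      exact h1 _ (by have : l < j + 1 := hl; omega)
    exact h2 (by rw [hΦsum]; exact (hg (a (j + 1))).symm.trans (hle hmem))

/-- A basis of the span adapted to the orders at `P`. -/
lemma exists_adapted_tuple (hP : P.deg = 1) (hφ : LinearIndependent k φ)
    (heff : (1 : K) ∈ Submodule.span k (Set.range φ)) {J : Fin n → ℕ}
    (hJ : IsOrders (IsLocalRing.ResidueField P.O) (hcolAt P Ht φ) J) :
    (∀ l, 0 < J l) ∧ ∃ φ' : Fin (n + 1) → K, φ' 0 = 1 ∧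
      (∀ l : Fin n, (∀ m < (J l : ℤ), (Φ (φ' l.succ)).coeff m = 0) ∧ (Φ (φ' l.succ)).coeff (J l) = 1) ∧
      Submodule.span k (Set.range φ') = Submodule.span k (Set.range φ) ∧
      LinearIndependent k φ' ∧
      ∃ A : Matrix (Fin (n + 1)) (Fin (n + 1)) k, A.det ≠ 0 ∧ ∀ i, φ' i = ∑ j, A i j • φ j := by
  classical
  have hjump := fun l => (isJump_hcolAt_iff hsep hΦ hΦt hHt hint hP (J l)).1 ((hJ.2 _).1 ⟨l, rfl⟩)
  refine ⟨fun l => (hjump l).1, ?_⟩
  choose w hw hwv using fun l => (hjump l).2
  have hwc : ∀ l, (Φ (w l)).coeff (J l) ≠ 0 := fun l => ((v_eq_exp_iff_coeff hΦ _).1 (hwv l)).2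
  set φ' : Fin (n + 1) → K := Fin.cons 1 fun l => ((Φ (w l)).coeff (J l))⁻¹ • w l with hφ'
  have hΦs : ∀ (c : k) (f : K) (m : ℤ), (Φ (c • f)).coeff m = c * (Φ f).coeff m := fun c f m => by
    rw [Algebra.smul_def, map_mul, Φ.commutes, LocRes.algebraMap_eq_C, HahnSeries.C_mul_eq_smul,
      HahnSeries.coeff_smul, smul_eq_mul]
  have hprop : ∀ l : Fin n, (∀ m < (J l : ℤ), (Φ (φ' l.succ)).coeff m = 0) ∧
      (Φ (φ' l.succ)).coeff (J l) = 1 := fun l => by
    refine ⟨fun m hm => ?_, ?_⟩
    · simp only [hφ', Fin.cons_succ, hΦs, ((v_eq_exp_iff_coeff hΦ _).1 (hwv l)).1 m hm, mul_zero]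
    · simp only [hφ', Fin.cons_succ, hΦs]
      exact inv_mul_cancel₀ (hwc l)
  have hord : ∀ i : Fin (n + 1), φ' i ≠ 0 ∧ P.ord (φ' i) = (Fin.cons 0 fun l => (J l : ℤ) : Fin (n + 1) → ℤ) i := by
    intro i
    refine Fin.cases ?_ (fun l => ?_) i
    · simp [hφ']
    · have h := (v_eq_exp_iff_coeff hΦ (f := φ' l.succ) (J l)).2 ⟨(hprop l).1, by rw [(hprop l).2]; exact one_ne_zero⟩
      have h0 : φ' l.succ ≠ 0 := fun e => exp_ne_zero (h.symm.trans (by rw [e, map_zero]))
      refine ⟨h0, ?_⟩
      rw [Fin.cons_succ]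
      have := (v_eq_exp_iff P h0 _).1 h
      omega
  have hinj : Function.Injective fun i => P.ord (φ' i) := by
    intro a b hab
    simp only [(hord _).2] at hab
    refine Fin.cases (fun hab => ?_) (fun l hab => ?_) a hab <;> revert hab <;>
      refine Fin.cases ?_ (fun m => ?_) b <;> intro hab
    · rfl
    · simp only [Fin.cons_zero, Fin.cons_succ] at hab
      have := (hjump m).1
      omega
    · simp only [Fin.cons_zero, Fin.cons_succ] at hab
      have := (hjump l).1
      omega
    · simp only [Fin.cons_succ, Nat.cast_inj] at hab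
      rw [hJ.1.injective hab]
  have hli : LinearIndependent k φ' := linearIndependent_of_ord P φ' (fun i => (hord i).1) hinj
  have hmem : ∀ i, φ' i ∈ Submodule.span k (Set.range φ) := fun i => by
    refine Fin.cases ?_ (fun l => ?_) i
    · simpa [hφ'] using heff
    · simp only [hφ', Fin.cons_succ]; exact Submodule.smul_mem _ _ (hw l)
  have hspan : Submodule.span k (Set.range φ') = Submodule.span k (Set.range φ) := by
    have := FiniteDimensional.span_of_finite k (Set.finite_range φ)
    refine Submodule.eq_of_le_of_finrank_eq (Submodule.span_le.2 (by rintro _ ⟨i, rfl⟩; exact hmem i)) ?_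
    rw [finrank_span_eq_card hli, finrank_span_eq_card hφ]
  refine ⟨φ', by simp [hφ'], hprop, hspan, hli, ?_⟩
  choose A hA using fun i => (Submodule.mem_span_range_iff_exists_fun k).1 (hmem i)
  refine ⟨Matrix.of A, fun hdet => ?_, fun i => (hA i).symm⟩
  obtain ⟨v, hv, hv0⟩ := Matrix.exists_vecMul_eq_zero_iff.2 hdet
  refine hv (funext fun i => Fintype.linearIndependent_iff.1 hli v ?_ i)
  simp only [← hA, Finset.smul_sum, smul_smul]
  rw [Finset.sum_comm]
  refine Finset.sum_eq_zero fun j _ => ?_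
  rw [← Finset.sum_smul, show ∑ i, v i * A i j = 0 from congrFun hv0 j, zero_smul]

end Groth.Agent.FFLib
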