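import Groth.Agent.FFLib.Hasse
import Groth.Agent.FFLib.Jumps

/-!
# Wronskian columns of projective maps
-/

open WithZero Module Submodule Finset

namespace Groth.Agent.FFLib

open FunFld

variable {k K : Type*} [Field k] [Field K] [Algebra k K]

/-- The variable of a total Hasse derivative is separating (`k` perfect). -/
lemma hasse_separating (hK : IsFunctionField k K) [PerfectField k] {s : K}
    {H : K →ₐ[k] PowerSeries K} (hH : LocRes.IsHasseFamily s H) :
    Transcendental k s ∧ Algebra.IsSeparable (IntermediateField.adjoin k ({s} : Set K)) K := by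
  have h1 : PowerSeries.coeff 1 (H s) = 1 := by rw [hH.1]; simp [PowerSeries.coeff_C]
  have htr : Transcendental k s := fun halg => by
    obtain ⟨c, rfl⟩ := hK.2 s halg
    rw [H.commutes, PowerSeries.algebraMap_apply, PowerSeries.coeff_C, if_neg one_ne_zero] at h1
    exact zero_ne_one h1
  refine ⟨htr, ?_⟩
  obtain ⟨p, hp⟩ := ExpChar.exists K
  refine isSeparable_adjoin hK p htr ?_
  rcases ‹ExpChar K p› with _ | hp
  · exact .inl rfl
  refine .inr fun y hy => ?_
  rw [← hy, map_pow, PowerSeries.coeff_one_pow, CharP.cast_eq_zero, zero_mul, zero_mul] at h1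
  exact zero_ne_one h1

variable {n : ℕ} (τ : K →ₐ[k] K)

lemma hcol_zero (H : K →ₐ[k] PowerSeries K) (φ : Fin n → K) (i : Fin n) :
    hcol τ H φ 0 i = τ (φ i) := rfl

lemma hcol_succ (H : K →ₐ[k] PowerSeries K) (φ : Fin n → K) (j : ℕ) (i : Fin n) :
    hcol τ H φ (j + 1) i = LocRes.hasseD H j (φ i) := rfl

lemma wrMat_eq_colMat (H : K →ₐ[k] PowerSeries K) (φ : Fin (n + 1) → K) (I : Fin n → ℕ) :
    wrMat τ H φ I = colMat (hcol τ H φ) I := by
  ext i c
  refine Fin.cases ?_ (fun l => ?_) c <;> simp [wrMat, colMat, cols, hcol]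

lemma hcol_zero_ne (H : K →ₐ[k] PowerSeries K) {φ : Fin (n + 1) → K} (hφ : LinearIndependent k φ) :
    hcol τ H φ 0 ≠ 0 := fun e => hφ.ne_zero 0 ((map_eq_zero τ.toRingHom).1 (congrFun e 0))

lemma coeff_self_pow {A : Type*} [CommRing A] {U : PowerSeries A}
    (hU : PowerSeries.constantCoeff U = 0) (j : ℕ) :
    PowerSeries.coeff j (U ^ j) = PowerSeries.coeff 1 U ^ j := by
  obtain ⟨V, rfl⟩ := PowerSeries.X_dvd_iff.2 hU
  rw [mul_pow, PowerSeries.coeff_X_pow_mul', if_pos le_rfl, Nat.sub_self,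
    PowerSeries.coeff_zero_eq_constantCoeff, map_pow,
    show PowerSeries.coeff 1 (PowerSeries.X * V) = PowerSeries.constantCoeff V by
      rw [← PowerSeries.coeff_zero_eq_constantCoeff]; exact PowerSeries.coeff_succ_X_mul 0 V]

/-- The leading coefficients of a change of variable. -/
noncomputable def uChange (d : K) : ℕ → K
  | 0 => 1
  | j + 1 => d ^ j

/-- Changing the variable is a triangular change of columns. -/
lemma hcol_change (hK : IsFunctionField k K) [PerfectField k] {s t : K}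
    {Hs Ht : K →ₐ[k] PowerSeries K} (hs : LocRes.IsHasseFamily s Hs) (ht : LocRes.IsHasseFamily t Ht)
    (φ : Fin n → K) (j : ℕ) :
    hcol τ Ht φ j - uChange (LocRes.hasseD Ht 1 s) j • hcol τ Hs φ j ∈ pre K (hcol τ Hs φ) j := by
  rcases j with _ | j
  · rw [show hcol τ Ht φ 0 - uChange (LocRes.hasseD Ht 1 s) 0 • hcol τ Hs φ 0 = 0 by
      funext i; simp [hcol_zero, uChange]]
    exact zero_mem _
  have hU : PowerSeries.constantCoeff (Ht s - PowerSeries.C s) = 0 := by
    rw [map_sub, ht.2, PowerSeries.constantCoeff_C, sub_self]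
  have hd : PowerSeries.coeff 1 (Ht s - PowerSeries.C s) = LocRes.hasseD Ht 1 s := by
    simp [PowerSeries.coeff_C]
  rw [show hcol τ Ht φ (j + 1) - uChange (LocRes.hasseD Ht 1 s) (j + 1) • hcol τ Hs φ (j + 1) =
      ∑ d ∈ Finset.range j,
        PowerSeries.coeff j ((Ht s - PowerSeries.C s) ^ d) • hcol τ Hs φ (d + 1) by
    funext i
    simp only [Pi.sub_apply, Pi.smul_apply, Finset.sum_apply, hcol_succ, smul_eq_mul, uChange]
    rw [hasseD_change (hasse_separating hK hs).2 hs ht, Finset.sum_range_succ, coeff_self_pow hU, hd,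
      mul_comm (LocRes.hasseD Ht 1 s ^ j), add_sub_cancel_right]
    exact Finset.sum_congr rfl fun d _ => mul_comm _ _]
  exact sum_mem fun d hd => smul_mem _ _ (mem_pre _ (by simpa using hd))

lemma hasseD_one_mul (hK : IsFunctionField k K) [PerfectField k] {s t : K}
    {Hs Ht : K →ₐ[k] PowerSeries K} (hs : LocRes.IsHasseFamily s Hs) (ht : LocRes.IsHasseFamily t Ht) :
    LocRes.hasseD Hs 1 t * LocRes.hasseD Ht 1 s = 1 := by
  have h := hasseD_change (hasse_separating hK hs).2 hs ht t 1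
  simp [Finset.sum_range_succ, ht.1, hs.1, PowerSeries.coeff_C, PowerSeries.coeff_one] at h
  simp [← h]

lemma uChange_ne_zero {d : K} (hd : d ≠ 0) : ∀ j, uChange d j ≠ 0
  | 0 => one_ne_zero
  | j + 1 => pow_ne_zero j hd

/-- The leading coefficients of multiplication by a function. -/
noncomputable def uSmul (y : K) : ℕ → K
  | 0 => τ y
  | _ + 1 => y

/-- Multiplying by a function is a triangular change of columns. -/
lemma hcol_smul {s : K} {H : K →ₐ[k] PowerSeries K} (hH : LocRes.IsHasseFamily s H) (y : K)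
    (φ : Fin n → K) (j : ℕ) :
    hcol τ H (y • φ) j - uSmul τ y j • hcol τ H φ j ∈ pre K (hcol τ H φ) j := by
  rcases j with _ | j
  · rw [show hcol τ H (y • φ) 0 - uSmul τ y 0 • hcol τ H φ 0 = 0 by
      funext i; simp [hcol_zero, uSmul]]
    exact zero_mem _
  rw [show hcol τ H (y • φ) (j + 1) - uSmul τ y (j + 1) • hcol τ H φ (j + 1) =
      ∑ d ∈ Finset.range j, LocRes.hasseD H (d + 1) y • hcol τ H φ (j - (d + 1) + 1) by
    funext i
    simp only [Pi.sub_apply, Pi.smul_apply, Finset.sum_apply, hcol_succ, smul_eq_mul, uSmul,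
      LocRes.hasseD_apply, map_mul]
    rw [PowerSeries.coeff_mul, Finset.Nat.sum_antidiagonal_eq_sum_range_succ_mk,
      Finset.sum_range_succ', PowerSeries.coeff_zero_eq_constantCoeff, hH.2, Nat.sub_zero,
      add_sub_cancel_right]]
  exact sum_mem fun d hd => smul_mem _ _ (mem_pre _ (by have := Finset.mem_range.1 hd; omega))

lemma uSmul_ne_zero {y : K} (hy : y ≠ 0) : ∀ j, uSmul τ y j ≠ 0
  | 0 => (map_ne_zero τ.toRingHom).2 hy
  | _ + 1 => hy

lemma span_range_congr {R M : Type*} [Field R] [AddCommGroup M] [Module R M] {c c' : ℕ → M}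
    (h : ∀ j, pre R c' j = pre R c j) : span R (Set.range c') = span R (Set.range c) := by
  have key : ∀ a b : ℕ → M, (∀ j, pre R a j = pre R b j) → span R (Set.range a) ≤ span R (Set.range b) := by
    intro a b hab
    rw [span_le]
    rintro _ ⟨i, rfl⟩
    exact span_mono (Set.image_subset_range _ _) (hab (i + 1) ▸ mem_pre a (Nat.lt_succ_self i))
  exact le_antisymm (key _ _ h) (key _ _ fun j => (h j).symm)

section Place

variable {P : Place k K} {t : K} {Φ : K →ₐ[k] LaurentSeries k}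

lemma ord_le_iff_coeff (hΦ : LocRes.IsExpansionAt P.1 Φ) (f : K) (D : ℤ) :
    P.1 f ≤ exp (-D) ↔ ∀ m < D, (Φ f).coeff m = 0 := by
  rw [← hΦ.1 f]
  exact LaurentSeries.valuation_le_iff_coeff_lt_eq_zero k

lemma coeff_eq_zero_of_integral (hΦ : LocRes.IsExpansionAt P.1 Φ) {f : K} (hf : P.1 f ≤ 1) {m : ℤ}
    (hm : m < 0) : (Φ f).coeff m = 0 :=
  (ord_le_iff_coeff hΦ f 0).1 (by simpa using hf) m hm

lemma evalP_eq_coeff (hΦ : LocRes.IsExpansionAt P.1 Φ) {f : K} (hf : P.1 f ≤ 1) :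
    evalP P f = algebraMap k (IsLocalRing.ResidueField P.O) ((Φ f).coeff 0) := by
  set c := (Φ f).coeff 0
  have h : P.1 (f - algebraMap k K c) < 1 := by
    refine lt_of_le_of_lt ((ord_le_iff_coeff hΦ _ 1).2 fun m hm => ?_)
      (by rw [← exp_zero, exp_lt_exp]; norm_num)
    rw [map_sub, Φ.commutes, LocRes.algebraMap_eq_C, HahnSeries.coeff_sub, HahnSeries.C_apply,
      HahnSeries.coeff_single]
    rcases eq_or_lt_of_le (show m ≤ 0 by omega) with rfl | hm0
    · simp [c]
    · rw [if_neg hm0.ne, sub_zero]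
      exact coeff_eq_zero_of_integral hΦ hf hm0
  rw [evalP, dif_pos hf]
  show IsLocalRing.residue P.O ⟨f, _⟩ = IsLocalRing.residue P.O (algebraMap k P.O c)
  rw [← sub_eq_zero, ← map_sub, residue_eq_zero_iff_lt]
  exact h

variable (hsep : Algebra.IsSeparable (IntermediateField.adjoin k ({t} : Set K)) K)
  (hΦ : LocRes.IsExpansionAt P.1 Φ) (ht : Φ t = HahnSeries.single 1 1)
  {Ht : K →ₐ[k] PowerSeries K} (hHt : LocRes.IsHasseFamily t Ht)

include hsep hΦ ht hHt

lemma v_hasseD_le {f : K} {D : ℤ} (hf : P.1 f ≤ exp (-D)) (j : ℕ) :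
    P.1 (LocRes.hasseD Ht j f) ≤ exp (-(D - j)) := by
  rw [ord_le_iff_coeff hΦ]
  intro m hm
  rw [map_hasseD_eq hsep Φ ht hHt, LaurentSeries.hasseDeriv_coeff,
    (ord_le_iff_coeff hΦ f D).1 hf _ (by omega), smul_zero]

lemma v_hasseD_le_one {f : K} (hf : P.1 f ≤ 1) (j : ℕ) : P.1 (LocRes.hasseD Ht j f) ≤ 1 := by
  refine (ord_le_iff_coeff hΦ _ 0).2 (fun m hm => ?_) |>.trans_eq (by simp)
  rw [map_hasseD_eq hsep Φ ht hHt, LaurentSeries.hasseDeriv_coeff]
  rcases lt_or_ge (m + j) 0 with h | h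
  · rw [coeff_eq_zero_of_integral hΦ hf h, smul_zero]
  · obtain ⟨a, ha⟩ := Int.eq_ofNat_of_zero_le h
    rw [ha, Ring.choose_natCast, Nat.choose_eq_zero_of_lt (by omega), Nat.cast_zero, zero_smul]

lemma coeff_hasseD (f : K) (j : ℕ) : (Φ (LocRes.hasseD Ht j f)).coeff 0 = (Φ f).coeff j := by
  rw [map_hasseD_eq hsep Φ ht hHt, LaurentSeries.hasseDeriv_coeff, zero_add, Ring.choose_natCast,
    Nat.choose_self, Nat.cast_one, one_smul]

lemma evalP_hasseD {f : K} (hf : P.1 f ≤ 1) (j : ℕ) :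
    evalP P (LocRes.hasseD Ht j f) = algebraMap k _ ((Φ f).coeff j) := by
  rw [evalP_eq_coeff hΦ (v_hasseD_le_one hsep hΦ ht hHt hf j), coeff_hasseD hsep hΦ ht hHt]

/-- Taylor coefficients of independent integral functions are independent. -/
lemma coeff_independent {φ : Fin n → K} (hφ : LinearIndependent k φ) (hint : ∀ i, P.1 (φ i) ≤ 1)
    {a : Fin n → k} (ha : ∀ j : ℕ, ∑ i, a i * (Φ (φ i)).coeff j = 0) : a = 0 := by
  funext i
  refine Fintype.linearIndependent_iff.1 hφ a ?_ i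
  refine Φ.toRingHom.injective ?_
  show Φ (∑ i, a i • φ i) = Φ 0
  rw [map_zero, map_sum]
  ext m
  rw [HahnSeries.coeff_sum]
  simp only [Algebra.smul_def, map_mul, AlgHom.commutes, LocRes.algebraMap_eq_C,
    HahnSeries.C_mul_eq_smul, HahnSeries.coeff_smul, smul_eq_mul, HahnSeries.coeff_zero]
  rcases lt_or_ge m 0 with h | h
  · exact Finset.sum_eq_zero fun i _ => by rw [coeff_eq_zero_of_integral hΦ (hint i) h, mul_zero]
  · obtain ⟨j, rfl⟩ := Int.eq_ofNat_of_zero_le h
    exact ha j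

/-- Derivative columns of independent integral functions span. -/
lemma span_hcol_of_integral {φ : Fin n → K} (hφ : LinearIndependent k φ)
    (hint : ∀ i, P.1 (φ i) ≤ 1) : span K (Set.range (hcol τ Ht φ)) = ⊤ := by
  classical
  by_contra hne
  obtain ⟨g, hg0, hg⟩ := Submodule.exists_le_ker_of_lt_top _ (lt_top_iff_ne_top.2 hne)
  set c : Fin n → K := fun i => g (Pi.single i 1)
  have hc : ∀ v : Fin n → K, g v = ∑ i, v i * c i := fun v => by
    conv_lhs => rw [← Finset.univ_sum_single v]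
    rw [map_sum]
    refine Finset.sum_congr rfl fun i _ => ?_
    rw [show Pi.single i (v i) = v i • (Pi.single i (1 : K) : Fin n → K) by
      rw [← Pi.single_smul', smul_eq_mul, mul_one], map_smul]
    rfl
  obtain ⟨i₀, hi₀⟩ : ∃ i, c i ≠ 0 := by
    by_contra h
    push Not at h
    exact hg0 (LinearMap.ext fun v => by simp [hc, h])
  obtain ⟨i₁, -, hi₁⟩ := Finset.univ.exists_max_image (fun i => P.1 (c i)) ⟨i₀, Finset.mem_univ _⟩
  have hc1 : c i₁ ≠ 0 := fun e => by
    have := hi₁ i₀ (Finset.mem_univ _)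
    rw [e, map_zero, le_zero_iff] at this
    exact v_ne_zero P hi₀ this
  have hb : ∀ i, P.1 (c i / c i₁) ≤ 1 := fun i => by
    rw [map_div₀, div_le_one₀ (zero_lt_iff.2 (v_ne_zero P hc1))]
    exact hi₁ i (Finset.mem_univ _)
  have ha := coeff_independent hsep hΦ ht hHt hφ hint (a := fun i => (Φ (c i / c i₁)).coeff 0) fun j => by
    have h1 : ∑ i, (c i / c i₁) * LocRes.hasseD Ht j (φ i) = 0 := by
      have h2 : g (hcol τ Ht φ (j + 1)) = 0 := hg (subset_span ⟨j + 1, rfl⟩)
      rw [hc] at h2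
      calc ∑ i, (c i / c i₁) * LocRes.hasseD Ht j (φ i)
          = (∑ i, hcol τ Ht φ (j + 1) i * c i) * (c i₁)⁻¹ := by
            rw [Finset.sum_mul]
            exact Finset.sum_congr rfl fun i _ => by rw [hcol_succ]; ring
        _ = 0 := by rw [h2, zero_mul]
    have key : ∀ a b : K, P.1 a ≤ 1 → P.1 b ≤ 1 →
        (Φ (a * b)).coeff 0 = (Φ a).coeff 0 * (Φ b).coeff 0 := fun a b hab hbb => by
      obtain ⟨A, hA⟩ := (LaurentSeries.val_le_one_iff_eq_coe k (Φ a)).1 (by rw [hΦ.1]; exact hab)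
      obtain ⟨B, hB⟩ := (LaurentSeries.val_le_one_iff_eq_coe k (Φ b)).1 (by rw [hΦ.1]; exact hbb)
      have h0 : ∀ C : PowerSeries k, (C : LaurentSeries k).coeff 0 = PowerSeries.constantCoeff C := fun C => by
        rw [show (0 : ℤ) = ((0 : ℕ) : ℤ) from rfl, HahnSeries.ofPowerSeries_apply_coeff,
          PowerSeries.coeff_zero_eq_constantCoeff]
      rw [map_mul, ← hA, ← hB, ← PowerSeries.coe_mul, h0, h0, h0, map_mul]
    have h3 := congrArg (fun z : K => (Φ z).coeff 0) h1
    simp only [map_sum, HahnSeries.coeff_sum, map_zero, HahnSeries.coeff_zero] at h3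
    refine Eq.trans (Finset.sum_congr rfl fun i _ => ?_) h3
    rw [key _ _ (hb i) (v_hasseD_le_one hsep hΦ ht hHt (hint i) j), coeff_hasseD hsep hΦ ht hHt]
  have h4 := congrFun ha i₁
  simp [div_self hc1] at h4

end Place

/-- The Wronskian columns of an independent tuple span. -/
theorem span_hcol [IsAlgClosed k] (hK : IsFunctionField k K) {φ : Fin (n + 1) → K}
    (hφ : LinearIndependent k φ) {s : K} {H : K →ₐ[k] PowerSeries K}
    (hH : LocRes.IsHasseFamily s H) : span K (Set.range (hcol τ H φ)) = ⊤ := by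
  obtain ⟨x, hx⟩ := exists_transcendental hK
  obtain ⟨P, -⟩ := exists_pole hK (x := x) fun ⟨a, ha⟩ => hx (ha ▸ isAlgebraic_algebraMap a)
  obtain ⟨t, ht0, hto, ht⟩ := exists_uniformizer P
  obtain ⟨Φ, hΦ, hΦt⟩ := exists_expansion (deg_eq_one hK P) ht
  have hsep := isSeparable_adjoin_uniformizer hK hto
  obtain ⟨Ht, hHt⟩ := exists_hasse hK (transcendental_of_ord hK P (by omega)) hsep
  obtain ⟨N, hN⟩ : ∃ N : ℕ, ∀ i, P.1 (t ^ N * φ i) ≤ 1 := by
    refine ⟨∑ i, (-P.ord (φ i)).toNat, fun i => ?_⟩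
    rw [v_le_one_iff, ord_mul P (pow_ne_zero _ ht0) (hφ.ne_zero i), ord_pow, hto, mul_one]
    have := Finset.single_le_sum (f := fun i => (-P.ord (φ i)).toNat) (fun j _ => Nat.zero_le _)
      (Finset.mem_univ i)
    omega
  have hφ' : LinearIndependent k (t ^ N • φ) :=
    hφ.map' (LinearMap.mulLeft k (t ^ N))
      (LinearMap.ker_eq_bot.2 fun a b h => mul_left_cancel₀ (pow_ne_zero N ht0) h)
  have h1 := span_hcol_of_integral τ hsep hΦ hΦt hHt hφ' (fun i => hN i)
  have hd : LocRes.hasseD Ht 1 s ≠ 0 := right_ne_zero_of_mul_eq_one (hasseD_one_mul hK hH hHt)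
  rwa [span_range_congr (pre_congr (uSmul_ne_zero τ (pow_ne_zero N ht0)) (hcol_smul τ hHt (t ^ N) φ)).1,
    span_range_congr (pre_congr (uChange_ne_zero hd) (hcol_change τ hK hH hHt φ)).1] at h1

/-- Existence of the order sequence of a tuple. -/
theorem exists_orders [IsAlgClosed k] (hK : IsFunctionField k K) {φ : Fin (n + 1) → K}
    (hφ : LinearIndependent k φ) {s : K} {H : K →ₐ[k] PowerSeries K}
    (hH : LocRes.IsHasseFamily s H) :
    ∃ J : Fin n → ℕ, IsOrders K (hcol τ H φ) J ∧ (wrMat τ H φ J).det ≠ 0 := by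
  obtain ⟨J, hJ, hd⟩ := exists_isOrders (hcol_zero_ne τ H hφ) (span_hcol τ hK hφ hH)
  exact ⟨J, hJ, by rwa [wrMat_eq_colMat]⟩

/-- The Wronskian at the order sequence is nonzero. -/
theorem det_wrMat_ne_zero [IsAlgClosed k] (hK : IsFunctionField k K) {φ : Fin (n + 1) → K}
    (hφ : LinearIndependent k φ) {s : K} {H : K →ₐ[k] PowerSeries K}
    (hH : LocRes.IsHasseFamily s H) {J : Fin n → ℕ} (hJ : IsOrders K (hcol τ H φ) J) :
    (wrMat τ H φ J).det ≠ 0 := by
  obtain ⟨J', hJ', hd⟩ := exists_orders τ hK hφ hH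
  rwa [isOrders_unique hJ hJ']

/-- Change of variable: orders and Wronskians. -/
theorem orders_change (hK : IsFunctionField k K) [PerfectField k] {s t : K}
    {Hs Ht : K →ₐ[k] PowerSeries K} (hs : LocRes.IsHasseFamily s Hs) (ht : LocRes.IsHasseFamily t Ht)
    (φ : Fin (n + 1) → K) :
    (∀ J : Fin n → ℕ, IsOrders K (hcol τ Ht φ) J ↔ IsOrders K (hcol τ Hs φ) J) ∧
      ∀ J : Fin n → ℕ, IsOrders K (hcol τ Hs φ) J →
        (wrMat τ Ht φ J).det = LocRes.hasseD Ht 1 s ^ (∑ l, J l) * (wrMat τ Hs φ J).det := by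
  have hd : LocRes.hasseD Ht 1 s ≠ 0 := right_ne_zero_of_mul_eq_one (hasseD_one_mul hK hs ht)
  have h := hcol_change τ hK hs ht φ
  refine ⟨fun J => isOrders_iff_jumps (fun j => (pre_congr (uChange_ne_zero hd) h).2 _) J,
    fun J hJ => ?_⟩
  rw [wrMat_eq_colMat, wrMat_eq_colMat, det_colMat_triangular h hJ]
  simp [uChange, Finset.prod_pow_eq_pow_sum]

/-- Multiplication by a function: orders and Wronskians. -/
theorem orders_smul {s : K} {H : K →ₐ[k] PowerSeries K} (hH : LocRes.IsHasseFamily s H) {y : K}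
    (hy : y ≠ 0) (φ : Fin (n + 1) → K) :
    (∀ J : Fin n → ℕ, IsOrders K (hcol τ H (y • φ)) J ↔ IsOrders K (hcol τ H φ) J) ∧
      ∀ J : Fin n → ℕ, IsOrders K (hcol τ H φ) J →
        (wrMat τ H (y • φ) J).det = τ y * y ^ n * (wrMat τ H φ J).det := by
  have h := hcol_smul τ hH y φ
  refine ⟨fun J => isOrders_iff_jumps (fun j => (pre_congr (uSmul_ne_zero τ hy) h).2 _) J,
    fun J hJ => ?_⟩
  rw [wrMat_eq_colMat, wrMat_eq_colMat, det_colMat_triangular h hJ]
  simp [uSmul]

/-- A linear change of entries: orders and Wronskians. -/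
theorem orders_linear (H : K →ₐ[k] PowerSeries K) (A : Matrix (Fin (n + 1)) (Fin (n + 1)) k)
    (hA : A.det ≠ 0) (φ φ' : Fin (n + 1) → K) (hφ' : ∀ i, φ' i = ∑ j, A i j • φ j) :
    (∀ J : Fin n → ℕ, IsOrders K (hcol τ H φ') J ↔ IsOrders K (hcol τ H φ) J) ∧
      ∀ I : Fin n → ℕ,
        (wrMat τ H φ' I).det = algebraMap k K A.det * (wrMat τ H φ I).det := by
  classical
  set B : Matrix (Fin (n + 1)) (Fin (n + 1)) K := A.map (algebraMap k K) with hB
  have hcol' : ∀ j, hcol τ H φ' j = B.mulVec (hcol τ H φ j) := fun j => by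
    funext i
    rcases j with _ | j
    · simp [hcol_zero, hφ', Matrix.mulVec, dotProduct, Algebra.smul_def, hB]
    · simp [hcol_succ, hφ', Matrix.mulVec, dotProduct, Algebra.smul_def, hB,
        PowerSeries.algebraMap_apply, PowerSeries.coeff_C_mul]
  have hBd : B.det = algebraMap k K A.det := ((algebraMap k K).map_det A).symm
  have hinj : Function.Injective B.mulVecLin :=
    Matrix.mulVec_injective_iff_isUnit.2 ((Matrix.isUnit_iff_isUnit_det B).2
      (by rw [hBd, isUnit_iff_ne_zero]; simpa using hA))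
  refine ⟨fun J => isOrders_iff_jumps (fun j => ?_) J, fun I => ?_⟩
  · rw [isJump_iff, isJump_iff, pre, pre, not_iff_not,
      show hcol τ H φ' = fun j => B.mulVecLin (hcol τ H φ j) from funext hcol']
    rw [← Set.image_image (g := B.mulVecLin), Submodule.span_image]
    exact ⟨fun ⟨v, hv, he⟩ => hinj he ▸ hv, fun h => ⟨_, h, rfl⟩⟩
  · have : wrMat τ H φ' I = B * wrMat τ H φ I := by
      rw [wrMat_eq_colMat, wrMat_eq_colMat]
      ext i c
      rw [Matrix.mul_apply]
      simp only [colMat, Matrix.of_apply]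
      refine Fin.cases ?_ (fun l => ?_) c <;>
        simp only [cols, Fin.cons_zero, Fin.cons_succ, hcol'] <;> rfl
    rw [this, Matrix.det_mul, hBd]

end Groth.Agent.FFLib
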